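import Mathlib.AlgebraicGeometry.Modules.Tilde
import Mathlib.CategoryTheory.Abelian.Exact
import Mathlib.Algebra.Category.ModuleCat.Sheaf.Abelian

/-!
# Exactness of `M ↦ M~` on an affine scheme

* `mono_tilde_map`: `tilde.map f` is a monomorphism when `f` is injective.
* `preservesFiniteColimits_tilde`, `preservesFiniteLimits_tilde`.
-/

set_option autoImplicit false
universe u
open CategoryTheory CategoryTheory.Limits AlgebraicGeometry TopologicalSpace Opposite

namespace Groth.Agent.Lib.Helper14

variable {R : CommRingCat.{u}}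

theorem tilde_map_app_injective {M N : ModuleCat.{u} R} (f : M ⟶ N)
    (hf : Function.Injective f.hom) (r : R) :
    Function.Injective ((modulesSpecToSheaf.map (tilde.map f)).1.app
      (op (PrimeSpectrum.basicOpen r))).hom := by
  apply IsLocalizedModule.injective_of_map_zero (Submonoid.powers r)
    (tilde.toOpen M (PrimeSpectrum.basicOpen r)).hom
  intro m hm
  have h1 : ((modulesSpecToSheaf.map (tilde.map f)).1.app (op (PrimeSpectrum.basicOpen r))).hom
      ((tilde.toOpen M (PrimeSpectrum.basicOpen r)).hom m) =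
      (tilde.toOpen N (PrimeSpectrum.basicOpen r)).hom (f.hom m) :=
    congr($(tilde.toOpen_map_app f (PrimeSpectrum.basicOpen r)).hom m)
  rw [h1, IsLocalizedModule.eq_zero_iff (Submonoid.powers r)] at hm
  obtain ⟨s, hs⟩ := hm
  rw [IsLocalizedModule.eq_zero_iff (Submonoid.powers r)]
  refine ⟨s, hf ?_⟩
  rw [map_zero, ← hs]
  exact map_smul f.hom (s : R) m

theorem mono_tilde_map {M N : ModuleCat.{u} R} (f : M ⟶ N) [Mono f] : Mono (tilde.map f) := by
  have hf : Function.Injective f.hom := (ModuleCat.mono_iff_injective f).mp inferInstance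
  apply (modulesSpecToSheaf (R := R)).mono_of_mono_map
  haveI : Mono (modulesSpecToSheaf.map (tilde.map f)).1 := by
    apply (config := { allowSynthFailures := true }) NatTrans.mono_of_mono_app
    intro U
    rw [ModuleCat.mono_iff_injective, injective_iff_map_eq_zero]
    intro s hs
    apply TopCat.Presheaf.IsSheaf.section_ext (modulesSpecToSheaf.obj (tilde M)).2
    intro x hxU
    obtain ⟨a, ⟨_, ⟨r, rfl⟩, rfl⟩, hxr, hrU : PrimeSpectrum.basicOpen _ ≤ _⟩ :=
      PrimeSpectrum.isBasis_basic_opens.exists_subset_of_mem_open hxU U.unop.2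
    refine ⟨_, hrU, hxr, ?_⟩
    apply tilde_map_app_injective f hf r
    have h2 := congr($((modulesSpecToSheaf.map (tilde.map f)).1.naturality (homOfLE hrU).op).hom s)
    simp only [ModuleCat.hom_comp, LinearMap.comp_apply] at h2
    rw [map_zero, map_zero]
    erw [h2, hs, map_zero]
    rfl
  exact Sheaf.Hom.mono_of_presheaf_mono _ _ _

theorem preservesFiniteColimits_tilde (R : CommRingCat.{u}) :
    PreservesFiniteColimits (tilde.functor R) := inferInstance

theorem preservesFiniteLimits_tilde (R : CommRingCat.{u}) :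
    PreservesFiniteLimits (tilde.functor R) := by
  rw [Functor.preservesFiniteLimits_iff_forall_exact_map_and_mono]
  intro S hS
  have h1 := ((Functor.preservesFiniteColimits_iff_forall_exact_map_and_epi
    (tilde.functor R)).mp (preservesFiniteColimits_tilde R) S hS).1
  haveI := hS.mono_f
  exact ⟨h1, mono_tilde_map S.f⟩

/-- On an affine scheme a diagram of quasi-coherent modules is (naturally isomorphic to) the
image under `~` of its diagram of global sections. -/
noncomputable def tildeΓIso {K : Type*} [Category K] (F : K ⥤ (Spec R).Modules)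
    (hF : ∀ k, (F.obj k).IsQuasicoherent) :
    (F ⋙ moduleSpecΓFunctor) ⋙ tilde.functor R ≅ F :=
  haveI : ∀ k, IsIso ((tilde.adjunction (R := R)).counit.app (F.obj k)) := fun k => by
    haveI := hF k
    exact (inferInstance : IsIso (F.obj k).fromTildeΓ)
  NatIso.ofComponents (fun k => asIso ((tilde.adjunction (R := R)).counit.app (F.obj k)))
    (fun f => (tilde.adjunction (R := R)).counit.naturality (F.map f))

theorem isQuasicoherent_limit {K : Type*} [Category K] (F : K ⥤ (Spec R).Modules) [HasLimit F]
    [HasLimit (F ⋙ moduleSpecΓFunctor)]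
    [PreservesLimit (F ⋙ moduleSpecΓFunctor) (tilde.functor R)]
    (hF : ∀ k, (F.obj k).IsQuasicoherent) : (limit F).IsQuasicoherent := by
  haveI : HasLimit ((F ⋙ moduleSpecΓFunctor) ⋙ tilde.functor R) :=
    hasLimit_of_iso (tildeΓIso F hF).symm
  let e : (tilde.functor R).obj (limit (F ⋙ moduleSpecΓFunctor)) ≅ limit F :=
    preservesLimitIso (tilde.functor R) (F ⋙ moduleSpecΓFunctor) ≪≫
      HasLimit.isoOfNatIso (tildeΓIso F hF)
  exact (SheafOfModules.isQuasicoherent (Spec R).ringCatSheaf).prop_of_iso e
    (inferInstanceAs ((tilde.functor R).obj _).IsQuasicoherent)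

theorem isQuasicoherent_colimit {K : Type*} [Category K] (F : K ⥤ (Spec R).Modules)
    [HasColimit F] [HasColimit (F ⋙ moduleSpecΓFunctor)]
    [PreservesColimit (F ⋙ moduleSpecΓFunctor) (tilde.functor R)]
    (hF : ∀ k, (F.obj k).IsQuasicoherent) : (colimit F).IsQuasicoherent := by
  haveI : HasColimit ((F ⋙ moduleSpecΓFunctor) ⋙ tilde.functor R) :=
    hasColimit_of_iso (tildeΓIso F hF)
  let e : (tilde.functor R).obj (colimit (F ⋙ moduleSpecΓFunctor)) ≅ colimit F :=
    preservesColimitIso (tilde.functor R) (F ⋙ moduleSpecΓFunctor) ≪≫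
      HasColimit.isoOfNatIso (tildeΓIso F hF)
  exact (SheafOfModules.isQuasicoherent (Spec R).ringCatSheaf).prop_of_iso e
    (inferInstanceAs ((tilde.functor R).obj _).IsQuasicoherent)

end Groth.Agent.Lib.Helper14
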