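import Groth.Prelude.Def_Found
import Mathlib.RingTheory.Spectrum.Prime.Topology
import Mathlib.RingTheory.Spectrum.Prime.RingHom
import Mathlib.RingTheory.Localization.AtPrime.Basic
import Mathlib.Order.Cover

set_option autoImplicit false
universe u

namespace Groth.Agent.Lib.Helper14

/-- Catenarity descends along an order embedding of prime spectra with order-connected range. -/
theorem isCatenary_of_orderEmbedding {A B : Type u} [CommRing A] [CommRing B]
    (e : PrimeSpectrum B ↪o PrimeSpectrum A) (he : (Set.range e).OrdConnected)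
    (hA : CAlg.IsCatenary A) : CAlg.IsCatenary B := by
  obtain ⟨h1, h2⟩ := hA
  refine ⟨?_, ?_⟩
  · intro p q hpq
    obtain ⟨n, hn⟩ := h1 (e p) (e q) (e.monotone hpq)
    refine ⟨n, fun s hs hl => ?_⟩
    have := hn (s.map e e.strictMono) (by rw [LTSeries.head_map, hs]) (by rw [LTSeries.last_map, hl])
    simpa using this
  · intro s t hh hl hs ht
    have := h2 (s.map e e.strictMono) (t.map e e.strictMono)
      (by rw [LTSeries.head_map, LTSeries.head_map, hh])
      (by rw [LTSeries.last_map, LTSeries.last_map, hl])
      (fun i => (he.apply_covBy_apply_iff e).mpr (hs i))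
      (fun i => (he.apply_covBy_apply_iff e).mpr (ht i))
    simpa using this

/-- The order embedding of prime spectra induced by a surjective ring homomorphism. -/
noncomputable def primeSpectrumEmbeddingOfSurjective {A B : Type u} [CommRing A] [CommRing B]
    (f : A →+* B) (hf : Function.Surjective f) : PrimeSpectrum B ↪o PrimeSpectrum A :=
  OrderEmbedding.ofMapLEIff (PrimeSpectrum.comap f) (by
    intro p q
    change Ideal.comap f p.asIdeal ≤ Ideal.comap f q.asIdeal ↔ p.asIdeal ≤ q.asIdeal
    exact Ideal.comap_le_comap_iff_of_surjective f hf _ _)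

theorem isCatenary_of_surjective {A B : Type u} [CommRing A] [CommRing B]
    (f : A →+* B) (hf : Function.Surjective f) (hA : CAlg.IsCatenary A) : CAlg.IsCatenary B := by
  refine isCatenary_of_orderEmbedding (primeSpectrumEmbeddingOfSurjective f hf) ?_ hA
  have : Set.range (primeSpectrumEmbeddingOfSurjective f hf) = PrimeSpectrum.zeroLocus (RingHom.ker f) :=
    range_comap_of_surjective _ f hf
  rw [this]
  apply IsUpperSet.ordConnected
  intro p q hpq hp
  rw [PrimeSpectrum.mem_zeroLocus] at hp ⊢
  exact le_trans hp hpq

/-- The order embedding of prime spectra induced by a localization. -/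
noncomputable def primeSpectrumEmbeddingOfIsLocalization {A : Type u} [CommRing A] (S : Submonoid A)
    (B : Type u) [CommRing B] [Algebra A B] [IsLocalization S B] : PrimeSpectrum B ↪o PrimeSpectrum A :=
  OrderEmbedding.ofMapLEIff (PrimeSpectrum.comap (algebraMap A B)) (by
    intro p q
    change Ideal.comap (algebraMap A B) p.asIdeal ≤ Ideal.comap (algebraMap A B) q.asIdeal ↔
      p.asIdeal ≤ q.asIdeal
    exact IsLocalization.under_le_under_iff S B)

theorem isCatenary_of_isLocalization {A : Type u} [CommRing A] (S : Submonoid A)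
    (B : Type u) [CommRing B] [Algebra A B] [IsLocalization S B] (hA : CAlg.IsCatenary A) :
    CAlg.IsCatenary B := by
  refine isCatenary_of_orderEmbedding (primeSpectrumEmbeddingOfIsLocalization S B) ?_ hA
  have : Set.range (primeSpectrumEmbeddingOfIsLocalization S B) =
      { p | Disjoint (S : Set A) p.asIdeal } := PrimeSpectrum.localization_comap_range B S
  rw [this]
  apply IsLowerSet.ordConnected
  intro p q hpq hp
  exact Set.disjoint_of_subset_right hpq hp

end Groth.Agent.Lib.Helper14

namespace Groth.Agent.Lib.Helper14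

/-- A strict series all of whose members lie in the range of an order embedding lifts. -/
theorem exists_ltSeries_map_eq {α β : Type*} [Preorder α] [Preorder β] (e : α ↪o β)
    (s : LTSeries β) (h : ∀ i, s i ∈ Set.range e) :
    ∃ s' : LTSeries α, s'.map e e.strictMono = s := by
  choose f hf using h
  refine ⟨LTSeries.mk s.length f ?_, ?_⟩
  · intro i j hij
    rw [← e.lt_iff_lt, hf, hf]
    exact s.strictMono hij
  · refine RelSeries.ext rfl ?_
    funext i
    simp only [LTSeries.map_toFun, LTSeries.mk_toFun, Function.comp_apply, hf]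
    rfl

/-- Catenarity can be tested on the quotients by the minimal primes. -/
theorem isCatenary_of_forall_minimalPrimes (R : Type u) [CommRing R]
    (h : ∀ p ∈ minimalPrimes R, CAlg.IsCatenary (R ⧸ p)) : CAlg.IsCatenary R := by
  have key : ∀ P : PrimeSpectrum R, ∃ p ∈ minimalPrimes R, p ≤ P.asIdeal := by
    intro P
    have : P.asIdeal.IsPrime := P.2
    obtain ⟨p, hp, hpP⟩ := Ideal.exists_minimalPrimes_le (I := (⊥ : Ideal R)) (J := P.asIdeal) bot_le
    exact ⟨p, hp, hpP⟩
  -- the embedding for a minimal prime
  have hrange : ∀ (p : Ideal R), Set.range (primeSpectrumEmbeddingOfSurjective (Ideal.Quotient.mk p)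
      Ideal.Quotient.mk_surjective) = PrimeSpectrum.zeroLocus (p : Set R) := by
    intro p
    have : Set.range (primeSpectrumEmbeddingOfSurjective (Ideal.Quotient.mk p)
        Ideal.Quotient.mk_surjective) = PrimeSpectrum.zeroLocus (RingHom.ker (Ideal.Quotient.mk p)) :=
      range_comap_of_surjective _ (Ideal.Quotient.mk p) Ideal.Quotient.mk_surjective
    rw [this, Ideal.mk_ker]
  have hconn : ∀ (p : Ideal R), (Set.range (primeSpectrumEmbeddingOfSurjective (Ideal.Quotient.mk p)
      Ideal.Quotient.mk_surjective)).OrdConnected := by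
    intro p
    rw [hrange]
    apply IsUpperSet.ordConnected
    intro a b hab ha
    rw [PrimeSpectrum.mem_zeroLocus] at ha ⊢
    exact le_trans ha hab
  have hmem : ∀ (p : Ideal R) (s : LTSeries (PrimeSpectrum R)), p ≤ s.head.asIdeal →
      ∀ i, s i ∈ Set.range (primeSpectrumEmbeddingOfSurjective (Ideal.Quotient.mk p)
        Ideal.Quotient.mk_surjective) := by
    intro p s hs i
    rw [hrange, PrimeSpectrum.mem_zeroLocus]
    exact le_trans hs (s.head_le i)
  refine ⟨?_, ?_⟩
  · intro P Q hPQ
    obtain ⟨p, hp, hpP⟩ := key P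
    set e := primeSpectrumEmbeddingOfSurjective (Ideal.Quotient.mk p) Ideal.Quotient.mk_surjective
    have hP : P ∈ Set.range e := by
      rw [hrange, PrimeSpectrum.mem_zeroLocus]; exact hpP
    have hQ : Q ∈ Set.range e := by
      rw [hrange, PrimeSpectrum.mem_zeroLocus]; exact le_trans hpP hPQ
    obtain ⟨P', rfl⟩ := hP
    obtain ⟨Q', rfl⟩ := hQ
    obtain ⟨n, hn⟩ := (h p hp).1 P' Q' (e.le_iff_le.mp hPQ)
    refine ⟨n, fun s hs hl => ?_⟩
    obtain ⟨s', rfl⟩ := exists_ltSeries_map_eq e s (hmem p s (by rw [hs]; exact hpP))
    have := hn s' (e.injective (by simpa using hs)) (e.injective (by simpa using hl))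
    simpa using this
  · intro s t hh hl hs ht
    obtain ⟨p, hp, hpP⟩ := key s.head
    set e := primeSpectrumEmbeddingOfSurjective (Ideal.Quotient.mk p) Ideal.Quotient.mk_surjective
    obtain ⟨s', rfl⟩ := exists_ltSeries_map_eq e s (hmem p s hpP)
    obtain ⟨t', rfl⟩ := exists_ltSeries_map_eq e t (hmem p t (by rw [← hh]; exact hpP))
    have := (h p hp).2 s' t' (e.injective (by simpa using hh)) (e.injective (by simpa using hl))
      (fun i => ((hconn p).apply_covBy_apply_iff e).mp (hs i))
      (fun i => ((hconn p).apply_covBy_apply_iff e).mp (ht i))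
    simpa using this

end Groth.Agent.Lib.Helper14
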