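import Groth.Agent.Lib.Helper14.Catenary
import Mathlib.Order.KrullDimension
import Mathlib.Order.OrderIsoNat
import Mathlib.RingTheory.Ideal.KrullsHeightTheorem

set_option autoImplicit false
universe u

namespace Groth.Agent.Lib.Helper14

open Order

section OrderPart

variable {P : Type*} [PartialOrder P]

/-- A series of covering relations as a strict series. -/
def covToLT (t : RelSeries {(a, b) : P × P | a ⋖ b}) : LTSeries P :=
  ⟨t.length, t.toFun, fun i => (t.step i).lt⟩

@[simp] theorem covToLT_length (t : RelSeries {(a, b) : P × P | a ⋖ b}) :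
    (covToLT t).length = t.length := rfl

@[simp] theorem covToLT_head (t : RelSeries {(a, b) : P × P | a ⋖ b}) :
    (covToLT t).head = t.head := rfl

@[simp] theorem covToLT_last (t : RelSeries {(a, b) : P × P | a ⋖ b}) :
    (covToLT t).last = t.last := rfl

theorem covToLT_covBy (t : RelSeries {(a, b) : P × P | a ⋖ b}) (i : Fin (covToLT t).length) :
    (covToLT t) (Fin.castSucc i) ⋖ (covToLT t) (Fin.succ i) := t.step i

/-- The two clauses of catenarity for a partial order. -/
def OrderCatenary (P : Type*) [PartialOrder P] : Prop :=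
  (∀ p q : P, p ≤ q → ∃ n : ℕ, ∀ s : LTSeries P, s.head = p → s.last = q → s.length ≤ n) ∧
  ∀ s t : LTSeries P, s.head = t.head → s.last = t.last →
    (∀ i : Fin s.length, s (Fin.castSucc i) ⋖ s (Fin.succ i)) →
    (∀ i : Fin t.length, t (Fin.castSucc i) ⋖ t (Fin.succ i)) →
    s.length = t.length

variable [FiniteDimensionalOrder P]

theorem wellFoundedLT_of_finiteDim : WellFoundedLT P :=
  ⟨SetRel.IsWellFounded.of_finiteDimensional {(a, b) : P × P | a < b}⟩

theorem wellFoundedGT_of_finiteDim : WellFoundedGT P :=
  ⟨SetRel.IsWellFounded.inv_of_finiteDimensional {(a, b) : P × P | a < b}⟩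

/-- Saturated chains between two comparable elements exist, as covering series. -/
theorem exists_cov_series {x y : P} (h : x ≤ y) :
    ∃ u : RelSeries {(a, b) : P × P | a ⋖ b}, u.head = x ∧ u.last = y := by
  have := wellFoundedLT_of_finiteDim (P := P)
  have := wellFoundedGT_of_finiteDim (P := P)
  obtain ⟨a, h0, n, hn, hcov⟩ := exists_covBy_seq_of_wellFoundedLT_wellFoundedGT_of_le h
  refine ⟨⟨n, fun i => a i, fun i => ?_⟩, h0, hn⟩
  exact hcov i i.2

theorem coheight_eq_add_one_of_covBy [OrderTop P] (hcat : OrderCatenary P) {p q : P} (hpq : p ⋖ q) :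
    coheight p = coheight q + 1 := by
  have := wellFoundedLT_of_finiteDim (P := P)
  have := wellFoundedGT_of_finiteDim (P := P)
  apply le_antisymm _ (coheight_add_one_le hpq.lt)
  rw [coheight_le_iff']
  intro s hs
  -- extend to the top
  obtain ⟨s', hs'len, hs'head, hs'last⟩ : ∃ s' : LTSeries P, s.length ≤ s'.length ∧ s'.head = p ∧
      s'.last = ⊤ := by
    by_cases htop : s.last = ⊤
    · exact ⟨s, le_rfl, hs, htop⟩
    · refine ⟨s.snoc ⊤ (lt_top_iff_ne_top.mpr htop), ?_, ?_, ?_⟩
      · simp
      · simp [hs]
      · simp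
  obtain ⟨t, i, hti, hi0, hil⟩ := s'.exists_relSeries_covBy
  have hlen : s'.length ≤ t.length := by
    have := Fintype.card_le_of_embedding i
    simpa using this
  have hthead : t.head = p := by
    have := congrFun hti 0
    simp only [Function.comp_apply, hi0] at this
    rw [← hs'head]; exact this
  have htlast : t.last = ⊤ := by
    have := congrFun hti (Fin.last _)
    simp only [Function.comp_apply, hil] at this
    rw [← hs'last]; exact this
  obtain ⟨u, huhead, hulast⟩ := exists_cov_series (le_top : q ≤ ⊤)
  let v := u.cons p (by rw [huhead]; exact hpq)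
  have hv : (covToLT t).length = (covToLT v).length :=
    hcat.2 (covToLT t) (covToLT v) (by simp [hthead, v]) (by simp [htlast, hulast, v])
      (covToLT_covBy t) (covToLT_covBy v)
  have hu : (u.length : ℕ∞) ≤ coheight q := by
    have := length_le_coheight_head (p := covToLT u)
    simpa [huhead] using this
  have h1 : s.length ≤ u.length + 1 := by
    have : (covToLT v).length = u.length + 1 := by simp [v]
    rw [this] at hv
    simp only [covToLT_length] at hv
    omega
  calc (s.length : ℕ∞) ≤ ((u.length + 1 : ℕ) : ℕ∞) := by exact_mod_cast h1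
    _ = (u.length : ℕ∞) + 1 := by push_cast; rfl
    _ ≤ coheight q + 1 := by gcongr

theorem orderCatenary_of_coheight
    (h : ∀ p q : P, p ⋖ q → coheight p = coheight q + 1) : OrderCatenary P := by
  refine ⟨?_, ?_⟩
  · intro p q _
    obtain ⟨n, hn⟩ := ENat.ne_top_iff_exists.mp (coheight_lt_top p).ne
    refine ⟨n, fun s hs _ => ?_⟩
    have := length_le_coheight_head (p := s)
    rw [hs, ← hn] at this
    exact_mod_cast this
  · have key : ∀ s : LTSeries P, (∀ i : Fin s.length, s (Fin.castSucc i) ⋖ s (Fin.succ i)) →
        ∀ i : ℕ, (hi : i ≤ s.length) → coheight s.head = coheight (s ⟨i, by omega⟩) + i := by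
      intro s hs i
      induction i with
      | zero => intro _; simp [RelSeries.head]
      | succ i ih =>
        intro hi
        have h1 := ih (by omega)
        have h2 := h _ _ (hs ⟨i, by omega⟩)
        simp only [Fin.castSucc_mk, Fin.succ_mk] at h2
        rw [h1, h2]
        push_cast
        rw [add_assoc, add_comm 1 (i : ℕ∞)]
    intro s t hh hl hs ht
    have e1 := key s hs s.length le_rfl
    have e2 := key t ht t.length le_rfl
    have l1 : s ⟨s.length, by omega⟩ = s.last := rfl
    have l2 : t ⟨t.length, by omega⟩ = t.last := rfl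
    rw [l1] at e1
    rw [l2, ← hh, ← hl, e1] at e2
    have hfin : coheight s.last ≠ ⊤ := (coheight_lt_top _).ne
    have := (ENat.add_right_injective_of_ne_top hfin) e2
    exact_mod_cast this

end OrderPart

end Groth.Agent.Lib.Helper14

namespace Groth.Agent.Lib.Helper14

open Order

theorem isCatenary_iff_orderCatenary (A : Type u) [CommRing A] :
    CAlg.IsCatenary A ↔ OrderCatenary (PrimeSpectrum A) := Iff.rfl

theorem ringKrullDim_quotient_eq_coheight {A : Type u} [CommRing A] (p : PrimeSpectrum A) :
    ringKrullDim (A ⧸ p.asIdeal) = (coheight p : WithBot ℕ∞) := by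
  rw [coheight_eq_krullDim_Ici, ringKrullDim,
    krullDim_eq_of_orderIso (Ideal.primeSpectrumQuotientOrderIsoZeroLocus p.asIdeal)]
  have : (PrimeSpectrum.zeroLocus (p.asIdeal : Set A)) = Set.Ici p := by
    ext q
    simp only [PrimeSpectrum.mem_zeroLocus, SetLike.coe_subset_coe, Set.mem_Ici]
    rfl
  rw [this]

end Groth.Agent.Lib.Helper14
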