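import Mathlib
import Groth.Prelude.Def_Algz
import Groth.Prelude.Def_Formal
import Groth.Prelude.Def_KLin

/-!
# Pro-isomorphic adic systems are isomorphic
-/

universe u

open CategoryTheory CategoryTheory.Limits AlgebraicGeometry Opposite

namespace Groth.Agent.Lib.Helper14.ProIsoAdic

variable {A : Type u} [CommRing A] {X : Scheme.{u}} [X.Over (Spec (CommRingCat.of A))]

/-- `φ` kills `J M`. -/
def Kills (J : Ideal A) {M T : X.Modules} (φ : M ⟶ T) : Prop :=
  ∀ a ∈ J, Formal.smulMod A M a ≫ φ = 0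

theorem smulMod_naturality {M N : X.Modules} (f : M ⟶ N) (a : A) :
    Formal.smulMod A M a ≫ f = f ≫ Formal.smulMod A N a :=
  (KLin.comp_smulModΓ f _).symm

theorem smulFamily_comp_eq_zero_iff (J : Ideal A) {M T : X.Modules} (φ : M ⟶ T) :
    Formal.smulFamily J M ≫ φ = 0 ↔ Kills J φ := by
  constructor
  · intro h a ha
    have := congrArg (fun g => Sigma.ι (fun _ : J => M) ⟨a, ha⟩ ≫ g) h
    simpa [Formal.smulFamily] using this
  · intro h
    apply Sigma.hom_ext
    intro a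
    simp only [Formal.smulFamily, colimit.ι_desc_assoc, comp_zero]
    exact h a a.2

theorem kills_of_killedBy {J : Ideal A} {M T : X.Modules} (hT : Formal.KilledBy J T)
    (φ : M ⟶ T) : Kills J φ := by
  intro a ha
  rw [smulMod_naturality, hT a ha, comp_zero]

theorem Kills.mono {J J' : Ideal A} (h : J' ≤ J) {M T : X.Modules} {φ : M ⟶ T}
    (hφ : Kills J φ) : Kills J' φ :=
  fun a ha => hφ a (h ha)

theorem Kills.of_epi_comp {J : Ideal A} {M N T : X.Modules} (e : M ⟶ N) [Epi e] {φ : N ⟶ T}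
    (h : Kills J (e ≫ φ)) : Kills J φ := by
  intro a ha
  rw [← cancel_epi e, comp_zero, ← Category.assoc, ← smulMod_naturality, Category.assoc]
  exact h a ha

/-- The transition map `F_k ⟶ F_n` is the quotient by `I^(n+1)`. -/
def QuotProp (I : Ideal A) (F : ℕᵒᵖ ⥤ X.Modules) (n k : ℕ) (h : n ≤ k) : Prop :=
  Epi (ARSys.tr F h) ∧ ∀ (T : X.Modules) (φ : F.obj (op k) ⟶ T), Kills (I ^ (n + 1)) φ →
    ∃ φ' : F.obj (op n) ⟶ T, ARSys.tr F h ≫ φ' = φ

theorem tr_comp (F : ℕᵒᵖ ⥤ X.Modules) {n k l : ℕ} (h1 : n ≤ k) (h2 : k ≤ l) :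
    ARSys.tr F h2 ≫ ARSys.tr F h1 = ARSys.tr F (h1.trans h2) := by
  change F.map _ ≫ F.map _ = F.map _
  rw [← F.map_comp]
  rfl

theorem quotProp (I : Ideal A) (F : ℕᵒᵖ ⥤ X.Modules) (hF : Formal.IsCohFormal I F)
    (n k : ℕ) (h : n ≤ k) : QuotProp I F n k h := by
  induction k, h using Nat.le_induction with
  | base =>
    have hid : ARSys.tr F (le_refl n) = 𝟙 _ := by
      change F.map _ = _
      rw [show (homOfLE (le_refl n)).op = 𝟙 (op n) from rfl, F.map_id]
    refine ⟨?_, fun T φ _ => ⟨φ, ?_⟩⟩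
    · rw [hid]; infer_instance
    · rw [hid, Category.id_comp]
  | succ k h ih =>
    obtain ⟨h0, hiso⟩ := hF.2.2 k
    obtain ⟨hepi, hfac⟩ := ih
    have hπ : cokernel.π _ ≫ cokernel.desc _ _ h0 = F.map (homOfLE (Nat.le_succ k)).op :=
      cokernel.π_desc _ _ _
    have hepi1 : Epi (F.map (homOfLE (Nat.le_succ k)).op) := by
      rw [← hπ]
      haveI : Epi (cokernel.desc _ _ h0) := IsIso.epi_of_iso _
      haveI : Epi (cokernel.π (Formal.smulFamily (I ^ (k + 1)) (F.obj (op (k + 1))))) :=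
        coequalizer.π_epi
      exact epi_comp _ _
    have htr : ARSys.tr F (h.trans (Nat.le_succ k)) =
        F.map (homOfLE (Nat.le_succ k)).op ≫ ARSys.tr F h :=
      (tr_comp F h (Nat.le_succ k)).symm
    refine ⟨by rw [htr]; exact epi_comp _ _, fun T φ hφ => ?_⟩
    have hφ1 : Formal.smulFamily (I ^ (k + 1)) (F.obj (op (k + 1))) ≫ φ = 0 :=
      (smulFamily_comp_eq_zero_iff _ _).mpr
        (hφ.mono (Ideal.pow_le_pow_right (by omega)))
    let φ1 : F.obj (op k) ⟶ T := inv (cokernel.desc _ _ h0) ≫ cokernel.desc _ φ hφ1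
    have hφ1' : F.map (homOfLE (Nat.le_succ k)).op ≫ φ1 = φ := by
      rw [← hπ, Category.assoc]
      simp [φ1]
    have hk : Kills (I ^ (n + 1)) φ1 :=
      Kills.of_epi_comp (F.map (homOfLE (Nat.le_succ k)).op) (by rw [hφ1']; exact hφ)
    obtain ⟨φ', hφ'⟩ := hfac T φ1 hk
    exact ⟨φ', by rw [htr, Category.assoc, hφ', hφ1']⟩

theorem nonempty_iso (I : Ideal A) (F G : ℕᵒᵖ ⥤ X.Modules)
    (hF : Formal.IsCohFormal I F) (hG : Formal.IsCohFormal I G)
    (h : Algz.IsProIsomorphic F G) : Nonempty (F ≅ G) := by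
  obtain ⟨m, hm, hle, a, ha⟩ := h
  have hKF := quotProp I F hF
  have hKG := quotProp I G hG
  obtain ⟨a', ha'nat, ha'⟩ : ∃ a' : ∀ n, F.obj (op (m n)) ⟶ G.obj (op n),
      (∀ n k (h : n ≤ k), ARSys.tr F (hm h) ≫ a' n = a' k ≫ ARSys.tr G h) ∧
      (∀ n, ∃ (k : ℕ) (hk : n ≤ k) (b : G.obj (op k) ⟶ F.obj (op (m n))),
        a' k ≫ b = ARSys.tr F (hm hk) ∧ b ≫ a' n = ARSys.tr G hk) :=
    ⟨fun n => a.app (op n), fun n k h => a.naturality (homOfLE h).op, ha⟩
  have hex : ∀ n, ∃ α : F.obj (op n) ⟶ G.obj (op n),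
      ARSys.tr F (hle n) ≫ α = a' n := fun n =>
    (hKF n (m n) (hle n)).2 _ (a' n) (kills_of_killedBy (hG.2.1 n) _)
  choose α hα using hex
  have hepiF : ∀ n k (h : n ≤ k), Epi (ARSys.tr F h) := fun n k h => (hKF n k h).1
  have hepiG : ∀ n k (h : n ≤ k), Epi (ARSys.tr G h) := fun n k h => (hKG n k h).1
  have hnat : ∀ n k (h : n ≤ k), ARSys.tr F h ≫ α n = α k ≫ ARSys.tr G h := by
    intro n k h
    haveI := hepiF k (m k) (hle k)
    rw [← cancel_epi (ARSys.tr F (hle k)), ← Category.assoc, tr_comp, ← Category.assoc, hα k,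
      ← ha'nat n k h, ← hα n, ← Category.assoc, tr_comp]
  let αT : F ⟶ G :=
    { app := fun n => α n.unop
      naturality := by
        intro n k f
        have hf : f = (homOfLE (leOfHom f.unop)).op := Subsingleton.elim _ _
        rw [hf]
        exact hnat k.unop n.unop (leOfHom f.unop) }
  have hiso : ∀ n : ℕᵒᵖ, IsIso (αT.app n) := by
    intro n
    obtain ⟨n⟩ := n
    change IsIso (α n)
    obtain ⟨k, hk, b, hb1, hb2⟩ := ha' n
    obtain ⟨β, hβ⟩ := (hKG n k hk).2 (F.obj (op n)) (b ≫ ARSys.tr F (hle n))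
      (kills_of_killedBy (hF.2.1 n) _)
    refine ⟨β, ?_, ?_⟩
    · haveI := hepiF n (m k) (hk.trans (hle k))
      rw [← cancel_epi (ARSys.tr F (hk.trans (hle k))), Category.comp_id]
      rw [← tr_comp F hk (hle k), Category.assoc, ← Category.assoc (ARSys.tr F hk),
        hnat n k hk, Category.assoc, hβ, ← Category.assoc, ← Category.assoc, hα k, hb1, tr_comp,
        tr_comp]
    · haveI := hepiG n k hk
      rw [← cancel_epi (ARSys.tr G hk), Category.comp_id, ← Category.assoc, hβ, Category.assoc,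
        hα n, hb2]
  haveI := NatIso.isIso_of_isIso_app αT
  exact ⟨asIso αT⟩

end Groth.Agent.Lib.Helper14.ProIsoAdic
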