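import Mathlib

/-!
# Base change of a cofiltered limit of schemes

Given a diagram `D : I ⥤ Scheme`, a limit cone `c`, an index `i` and `a : T ⟶ D.obj i`,
the base change `T ×_{D i} c.pt` is the limit of the diagram `j ↦ T ×_{D i} D j` over `Over i`.

Helper lemmas (helper14).
-/

set_option autoImplicit false
set_option backward.isDefEq.respectTransparency false

open CategoryTheory Limits AlgebraicGeometry

namespace Groth.Agent.Lib.Helper14

universe u

variable {I : Type u} [Category.{u} I] (D : I ⥤ Scheme.{u}) (i : I) {T : Scheme.{u}}
  (a : T ⟶ D.obj i)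

/-- The diagram `j ↦ T ×_{D i} D j` indexed by `Over i`. -/
noncomputable def pullbackDiagram : Over i ⥤ Scheme.{u} where
  obj j := pullback a (D.map j.hom)
  map {j k} f := pullback.map a (D.map j.hom) a (D.map k.hom) (𝟙 T) (D.map f.left) (𝟙 _)
    (by simp) (by rw [← D.map_comp, Over.w f]; simp)
  map_id j := by apply pullback.hom_ext <;> simp
  map_comp f g := by apply pullback.hom_ext <;> simp

@[simp]
lemma pullbackDiagram_obj (j : Over i) :
    (pullbackDiagram D i a).obj j = pullback a (D.map j.hom) := rfl

@[reassoc (attr := simp)]
lemma pullbackDiagram_map_fst {j k : Over i} (f : j ⟶ k) :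
    (pullbackDiagram D i a).map f ≫ pullback.fst a (D.map k.hom) =
      pullback.fst a (D.map j.hom) := by
  simp [pullbackDiagram]

@[reassoc (attr := simp)]
lemma pullbackDiagram_map_snd {j k : Over i} (f : j ⟶ k) :
    (pullbackDiagram D i a).map f ≫ pullback.snd a (D.map k.hom) =
      pullback.snd a (D.map j.hom) ≫ D.map f.left := by
  simp [pullbackDiagram]

/-- The second projections `T ×_{D i} D j ⟶ D j`. -/
noncomputable def pullbackDiagramSnd : pullbackDiagram D i a ⟶ Over.forget i ⋙ D where
  app j := pullback.snd a (D.map j.hom)
  naturality j k f := by simp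

/-- Each transition map of the pullback diagram is a base change of a transition map of `D`. -/
lemma isPullback_pullbackDiagram_map {j k : Over i} (f : j ⟶ k) :
    IsPullback (pullback.snd a (D.map j.hom)) ((pullbackDiagram D i a).map f) (D.map f.left)
      (pullback.snd a (D.map k.hom)) := by
  refine IsPullback.of_bot ?_ (by simp) (IsPullback.of_hasPullback a (D.map k.hom)).flip
  have h1 : (pullbackDiagram D i a).map f ≫ pullback.fst a (D.map k.hom) =
      pullback.fst a (D.map j.hom) := by simp
  have h2 : D.map f.left ≫ D.map k.hom = D.map j.hom := by rw [← D.map_comp, Over.w f]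
  rw [h1, h2]
  exact (IsPullback.of_hasPullback a (D.map j.hom)).flip

instance [∀ {i j} (f : i ⟶ j), IsAffineHom (D.map f)] {j k : Over i} (f : j ⟶ k) :
    IsAffineHom ((pullbackDiagram D i a).map f) :=
  MorphismProperty.of_isPullback (P := @IsAffineHom) (isPullback_pullbackDiagram_map D i a f)
    inferInstance

instance [∀ {i j} (f : i ⟶ j), IsAffineHom (D.map f)] [CompactSpace T] (j : Over i) :
    CompactSpace ((pullbackDiagram D i a).obj j) := by
  dsimp only [pullbackDiagram_obj]
  infer_instance

instance [∀ {i j} (f : i ⟶ j), IsAffineHom (D.map f)] [QuasiSeparatedSpace T] (j : Over i) :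
    QuasiSeparatedSpace ((pullbackDiagram D i a).obj j) := by
  dsimp only [pullbackDiagram_obj]
  exact quasiSeparatedSpace_of_quasiSeparated (pullback.fst a (D.map j.hom))

variable (c : Cone D) {X : Scheme.{u}} (qX : X ⟶ T) (pX : X ⟶ c.pt)
  (hX : IsPullback qX pX a (c.π.app i))

/-- The cone over the pullback diagram with vertex `X = T ×_{D i} c.pt`. -/
noncomputable def pullbackDiagramCone : Cone (pullbackDiagram D i a) where
  pt := X
  π :=
    { app := fun j => pullback.lift qX (pX ≫ c.π.app j.left)
        (by rw [Category.assoc, c.w, hX.w])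
      naturality := fun j k f => by
        apply pullback.hom_ext
        · simp
        · simp }

@[reassoc (attr := simp)]
lemma pullbackDiagramCone_π_fst (j : Over i) :
    (pullbackDiagramCone D i a c qX pX hX).π.app j ≫ pullback.fst a (D.map j.hom) = qX := by
  simp [pullbackDiagramCone]

@[reassoc (attr := simp)]
lemma pullbackDiagramCone_π_snd (j : Over i) :
    (pullbackDiagramCone D i a c qX pX hX).π.app j ≫ pullback.snd a (D.map j.hom) =
      pX ≫ c.π.app j.left := by
  simp [pullbackDiagramCone]

attribute [local instance] CategoryTheory.isConnected_of_hasTerminal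

/-- The base change of a limit cone is a limit cone of the base changed diagram. -/
noncomputable def isLimitPullbackDiagramCone [IsCofilteredOrEmpty I] (hc : IsLimit c) :
    IsLimit (pullbackDiagramCone D i a c qX pX hX) :=
  isLimitOfIsPullbackOfIsConnected (pullbackDiagramSnd D i a) _ (c.whisker (Over.forget i))
    { hom := pX
      w := fun j => by simp [pullbackDiagramSnd] }
    (fun j => by
      refine IsPullback.of_right ?_ (by simp [pullbackDiagramSnd])
        (IsPullback.of_hasPullback a (D.map j.hom))
      have h1 : (pullbackDiagramCone D i a c qX pX hX).π.app j ≫ pullback.fst a (D.map j.hom) =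
          qX := by simp
      have h2 : (c.whisker (Over.forget i)).π.app j ≫ D.map j.hom = c.π.app i := by
        simp
      rw [h1, h2]
      exact hX)
    ((Functor.Initial.isLimitWhiskerEquiv (Over.forget i) c).symm hc)

end Groth.Agent.Lib.Helper14
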