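import Mathlib.RingTheory.Smooth.IntegralClosure
import Mathlib.RingTheory.Algebraic.Basic
import Mathlib.RingTheory.Nilpotent.Lemmas
import Mathlib.RingTheory.Polynomial.Basic

/-!
# Reducedness ascends along smooth maps

* `coeff_eq_zero_of_isIntegral`: over a reduced ring `R`, a polynomial which is integral over `R` is
  constant.
* `isReduced_of_smooth`: a smooth algebra over a reduced ring is reduced (via the compatibility of
  integral closure with smooth base change, applied to `R ⊆ R[X]`).
-/

set_option autoImplicit false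

namespace Groth.Agent.Lib.Helper14

open TensorProduct

theorem coeff_eq_zero_of_isIntegral {R : Type*} [CommRing R] [IsReduced R] {f : Polynomial R}
    (hf : IsIntegral R f) {n : ℕ} (hn : n ≠ 0) : f.coeff n = 0 := by
  have hnil : f.coeff n ∈ nilradical R := by
    rw [nilradical_eq_sInf, Ideal.mem_sInf]
    intro p hp
    haveI : p.IsPrime := hp
    have hf' : IsIntegral (R ⧸ p) (f.map (Ideal.Quotient.mk p)) :=
      IsIntegral.map_of_comp_eq (Ideal.Quotient.mk p) (Polynomial.mapRingHom (Ideal.Quotient.mk p))
        (by ext; simp) hf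
    have hdeg : (f.map (Ideal.Quotient.mk p)).natDegree = 0 := by
      by_contra hd
      have h0 : f.map (Ideal.Quotient.mk p) ≠ 0 := by
        intro h0
        rw [h0] at hd
        simp at hd
      have htr := Polynomial.transcendental (f.map (Ideal.Quotient.mk p)) hd
        (mem_nonZeroDivisors_of_ne_zero (Polynomial.leadingCoeff_ne_zero.mpr h0))
      exact htr hf'.isAlgebraic
    have h1 : (f.map (Ideal.Quotient.mk p)).coeff n = 0 :=
      Polynomial.coeff_eq_zero_of_natDegree_lt (by omega)
    rw [Polynomial.coeff_map] at h1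
    exact Ideal.Quotient.eq_zero_iff_mem.mp h1
  exact IsReduced.eq_zero _ ((mem_nilradical).mp hnil)

theorem isReduced_of_smooth (R S : Type*) [CommRing R] [CommRing S] [Algebra R S]
    [Algebra.Smooth R S] [IsReduced R] : IsReduced S := by
  refine ⟨fun a ha => ?_⟩
  obtain ⟨n, hn⟩ := ha
  have hy : IsIntegral S (a ⊗ₜ[R] (Polynomial.X : Polynomial R)) := by
    have hyn : (a ⊗ₜ[R] (Polynomial.X : Polynomial R)) ^ n = 0 := by
      rw [Algebra.TensorProduct.tmul_pow, hn, TensorProduct.zero_tmul]
    exact ⟨Polynomial.X ^ n, Polynomial.monic_X_pow n, by simp [hyn]⟩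
  obtain ⟨t, ht⟩ := (TensorProduct.toIntegralClosure_bijective_of_smooth (R := R) (S := S)
    (B := Polynomial R)).2 ⟨_, hy⟩
  let ψ : S ⊗[R] Polynomial R →ₗ[R] S :=
    (TensorProduct.rid R S).toLinearMap ∘ₗ (LinearMap.lTensor S (Polynomial.lcoeff R 1))
  have h1 : ψ (a ⊗ₜ[R] (Polynomial.X : Polynomial R)) = a := by simp [ψ]
  have h2 : ∀ t, ψ ((TensorProduct.toIntegralClosure R S (Polynomial R) t).1) = 0 := by
    intro t
    induction t with
    | zero => simp
    | add x y hx hy => simp [map_add, hx, hy]
    | tmul s c =>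
      have hc : (c.1 : Polynomial R).coeff 1 = 0 := coeff_eq_zero_of_isIntegral c.2 one_ne_zero
      simp [TensorProduct.toIntegralClosure, ψ, hc]
  have h3 := h2 t
  rw [ht] at h3
  rw [← h1]
  exact h3

end Groth.Agent.Lib.Helper14
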