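import Mathlib

/-!
# Geometric reducedness: arbitrary field extensions, and reducedness along flat maps

* `exists_algHom_ker_eq`: weak Nullstellensatz in the form "maximal ideals are kernels of points".
* `isReduced_tensor_of_isAlgClosed_of_finiteType`, `isReduced_tensor_of_isAlgClosed`.
* `isReduced_tensor_of_isGeometricallyReduced`: `L ⊗[k] F` is reduced for *any* field extension
  `L/k` when `F` is geometrically reduced over `k`.
* `isReduced_of_flat_of_fibers`: flat over reduced Noetherian with reduced generic fibres is reduced.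
-/

set_option autoImplicit false
universe u

namespace Groth.Agent.Lib.Helper14.GeomReduced

open TensorProduct

/-- Over an algebraically closed field, every maximal ideal of a finite type algebra is the
kernel of an algebra homomorphism to the base field. -/
theorem exists_algHom_ker_eq (Ω D : Type*) [Field Ω] [IsAlgClosed Ω] [CommRing D] [Algebra Ω D]
    [Algebra.FiniteType Ω D] (m : Ideal D) [hm : m.IsMaximal] :
    ∃ ev : D →ₐ[Ω] Ω, RingHom.ker ev = m := by
  letI : Field (D ⧸ m) := Ideal.Quotient.field m
  haveI : Algebra.FiniteType Ω (D ⧸ m) :=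
    Algebra.FiniteType.of_surjective (Ideal.Quotient.mkₐ Ω m) Ideal.Quotient.mk_surjective
  haveI : Module.Finite Ω (D ⧸ m) := finite_of_finite_type_of_isJacobsonRing Ω (D ⧸ m)
  haveI : Algebra.IsIntegral Ω (D ⧸ m) := Algebra.IsIntegral.of_finite Ω (D ⧸ m)
  have hbij : Function.Bijective (algebraMap Ω (D ⧸ m)) :=
    IsAlgClosed.algebraMap_bijective_of_isIntegral
  let e : Ω ≃ₐ[Ω] (D ⧸ m) := AlgEquiv.ofBijective (Algebra.ofId Ω (D ⧸ m)) hbij
  refine ⟨(e.symm : (D ⧸ m) →ₐ[Ω] Ω).comp (Ideal.Quotient.mkₐ Ω m), ?_⟩
  ext x
  rw [RingHom.mem_ker, AlgHom.comp_apply, Ideal.Quotient.mkₐ_eq_mk]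
  change e.symm (Ideal.Quotient.mk m x) = 0 ↔ _
  rw [EmbeddingLike.map_eq_zero_iff, Ideal.Quotient.eq_zero_iff_mem]

/-- Over an algebraically closed field, a reduced algebra tensored with a finitely generated
domain is reduced. -/
theorem isReduced_tensor_of_isAlgClosed_of_finiteType (Ω F D : Type*) [Field Ω] [IsAlgClosed Ω]
    [CommRing F] [Algebra Ω F] [IsReduced F] [CommRing D] [IsDomain D] [Algebra Ω D]
    [Algebra.FiniteType Ω D] : IsReduced (F ⊗[Ω] D) := by
  classical
  constructor
  intro x hx
  let b := Module.Basis.ofVectorSpace Ω F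
  let e := TensorProduct.equivFinsuppOfBasisLeft (N := D) b
  suffices h : e x = 0 by simpa using h
  ext i
  rw [Finsupp.zero_apply]
  haveI : IsJacobsonRing D := isJacobsonRing_of_finiteType (A := Ω)
  have hjac : (⊥ : Ideal D).jacobson = ⊥ :=
    IsJacobsonRing.out inferInstance (Ideal.isRadical_bot (R := D))
  have hmem : (e x) i ∈ (⊥ : Ideal D).jacobson := by
    rw [Ideal.jacobson, Ideal.mem_sInf]
    rintro m ⟨-, hm⟩
    obtain ⟨ev, hev⟩ := exists_algHom_ker_eq Ω D m
    rw [← hev, RingHom.mem_ker]
    -- the key identity
    have key : ∀ y : F ⊗[Ω] D,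
        b.repr (Algebra.TensorProduct.rid Ω Ω F (Algebra.TensorProduct.map (AlgHom.id Ω F) ev y)) =
          Finsupp.mapRange.linearMap ev.toLinearMap (e y) := by
      intro y
      induction y using TensorProduct.induction_on with
      | zero => simp
      | add y z hy hz => simp only [map_add, hy, hz]
      | tmul f d =>
        ext j
        simp [e, TensorProduct.equivFinsuppOfBasisLeft_apply_tmul, mul_comm]
    have hnil : IsNilpotent (Algebra.TensorProduct.rid Ω Ω F
        (Algebra.TensorProduct.map (AlgHom.id Ω F) ev x)) := (hx.map _).map _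
    have h0 := key x
    rw [hnil.eq_zero, map_zero] at h0
    have := DFunLike.congr_fun h0 i
    simpa using this.symm
  rw [hjac] at hmem
  exact hmem

/-- Over an algebraically closed field, a reduced algebra stays reduced after any field
extension. -/
theorem isReduced_tensor_of_isAlgClosed (Ω' F Ω : Type*) [Field Ω'] [IsAlgClosed Ω']
    [CommRing F] [Algebra Ω' F] [IsReduced F] [Field Ω] [Algebra Ω' Ω] :
    IsReduced (F ⊗[Ω'] Ω) := by
  apply IsReduced.tensorProduct_of_flat_of_forall_fg
  intro D hD
  haveI : Algebra.FiniteType Ω' D := (Subalgebra.fg_iff_finiteType D).mp hD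
  exact isReduced_tensor_of_isAlgClosed_of_finiteType Ω' F D

theorem isReduced_tensor_aux (k kbar Ω F : Type*) [Field k] [Field kbar] [IsAlgClosed kbar]
    [Field Ω] [Algebra k kbar] [Algebra.IsAlgebraic k kbar] [Algebra kbar Ω] [Algebra k Ω]
    [IsScalarTower k kbar Ω] [CommRing F] [Algebra k F] [Algebra.IsGeometricallyReduced k F] :
    IsReduced (Ω ⊗[k] F) := by
  haveI : IsReduced (kbar ⊗[k] F) := inferInstance
  haveI h1 : IsReduced ((kbar ⊗[k] F) ⊗[kbar] Ω) := isReduced_tensor_of_isAlgClosed kbar _ Ω
  exact isReduced_of_injective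
      (((Algebra.TensorProduct.cancelBaseChange k kbar kbar Ω F).symm.toRingEquiv.trans
        (Algebra.TensorProduct.comm kbar Ω (kbar ⊗[k] F)).toRingEquiv).toRingHom)
      (RingEquiv.injective _)

/-- A geometrically reduced algebra over a field stays reduced after an arbitrary field
extension (not only algebraic ones). -/
theorem isReduced_tensor_of_isGeometricallyReduced (k F L : Type*) [Field k] [CommRing F]
    [Algebra k F] [Algebra.IsGeometricallyReduced k F] [Field L] [Algebra k L] :
    IsReduced (L ⊗[k] F) := by
  haveI : IsAlgClosed (algebraicClosure k (AlgebraicClosure L)) :=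
    (algebraicClosure.isAlgClosure k (AlgebraicClosure L)).isAlgClosed
  haveI : Algebra.IsAlgebraic k (algebraicClosure k (AlgebraicClosure L)) :=
    algebraicClosure.isAlgebraic k (AlgebraicClosure L)
  haveI h2 : IsReduced ((AlgebraicClosure L) ⊗[k] F) :=
    isReduced_tensor_aux k (algebraicClosure k (AlgebraicClosure L)) (AlgebraicClosure L) F
  exact isReduced_of_injective
    (Algebra.TensorProduct.map (IsScalarTower.toAlgHom k L (AlgebraicClosure L)) (AlgHom.id k F))
    (Module.Flat.rTensor_preserves_injective_linearMap _ (RingHom.injective _))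

/-- A flat algebra over a reduced Noetherian ring whose fibres at the minimal primes are reduced
is reduced. -/
theorem isReduced_of_flat_of_fibers (R S : Type*) [CommRing R] [IsNoetherianRing R] [IsReduced R]
    [CommRing S] [Algebra R S] [Module.Flat R S]
    (h : ∀ (q : Ideal R) [q.IsPrime], q ∈ minimalPrimes R → IsReduced (S ⊗[R] q.ResidueField)) :
    IsReduced S := by
  classical
  let ι := {x : PrimeSpectrum R // x.asIdeal ∈ minimalPrimes R}
  haveI : Finite ι := by
    have hfin := minimalPrimes.finite_of_isNoetherianRing R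
    haveI : Finite (minimalPrimes R) := hfin.to_subtype
    refine Finite.of_injective (fun x : ι => (⟨x.1.asIdeal, x.2⟩ : minimalPrimes R)) ?_
    intro x y hxy
    have : x.1.asIdeal = y.1.asIdeal := congrArg Subtype.val hxy
    exact Subtype.ext (PrimeSpectrum.ext this)
  haveI := Fintype.ofFinite ι
  let P := ∀ x : ι, x.1.asIdeal.ResidueField
  have hinj : Function.Injective (Algebra.linearMap R P) := by
    rw [← LinearMap.ker_eq_bot, LinearMap.ker_eq_bot']
    intro r hr
    have hmem : r ∈ sInf (minimalPrimes R) := by
      rw [Submodule.mem_sInf]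
      intro (q : Ideal R) hq
      haveI : q.IsPrime := Ideal.IsMinimalPrime.isPrime hq
      have := congrFun hr ⟨⟨q, inferInstance⟩, hq⟩
      simpa [P, Ideal.algebraMap_residueField_eq_zero] using this
    rw [minimalPrimes, Ideal.sInf_minimalPrimes] at hmem
    have h0 : (⊥ : Ideal R).radical = ⊥ := (Ideal.isRadical_bot (R := R)).radical
    rw [h0] at hmem
    exact hmem
  have hinj2 : Function.Injective ((Algebra.linearMap R P).lTensor S) :=
    Module.Flat.lTensor_preserves_injective_linearMap _ hinj
  haveI : ∀ x : ι, IsReduced (S ⊗[R] x.1.asIdeal.ResidueField) := fun x => h x.1.asIdeal x.2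
  let ψ : S →+* ∀ x : ι, S ⊗[R] x.1.asIdeal.ResidueField :=
    ((Algebra.TensorProduct.piRight R R S (fun x : ι => x.1.asIdeal.ResidueField)).toAlgHom.comp
      (Algebra.TensorProduct.includeLeft (R := R) (S := R) (A := S) (B := P))).toRingHom
  refine isReduced_of_injective ψ ?_
  intro s t hst
  have h1 : (Algebra.TensorProduct.includeLeft (R := R) (S := R) (A := S) (B := P)) s =
      (Algebra.TensorProduct.includeLeft (R := R) (S := R) (A := S) (B := P)) t :=
    (Algebra.TensorProduct.piRight R R S (fun x : ι => x.1.asIdeal.ResidueField)).injective hst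
  have h2 : ∀ s : S, (Algebra.TensorProduct.includeLeft (R := R) (S := R) (A := S) (B := P)) s =
      (Algebra.linearMap R P).lTensor S ((TensorProduct.rid R S).symm s) := by
    intro s; simp
  rw [h2, h2] at h1
  exact (TensorProduct.rid R S).symm.injective (hinj2 h1)

/-- If all fibres of `B → C` are geometrically reduced then `L ⊗[B] C` is reduced for every
field `L` over `B`. -/
theorem isReduced_tensor_field_of_fibers (B C : Type*) [CommRing B] [CommRing C] [Algebra B C]
    (hBC : ∀ (q : Ideal B) [q.IsPrime],
      Algebra.IsGeometricallyReduced q.ResidueField (q.Fiber C))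
    (L : Type*) [Field L] [Algebra B L] : IsReduced (L ⊗[B] C) := by
  haveI hq : (RingHom.ker (algebraMap B L)).IsPrime := RingHom.ker_isPrime _
  let f : (RingHom.ker (algebraMap B L)).ResidueField →+* L :=
    Ideal.ResidueField.lift (RingHom.ker (algebraMap B L)) (algebraMap B L) le_rfl (by
      intro x hx
      simp only [Submonoid.mem_comap, IsUnit.mem_submonoid_iff]
      exact isUnit_iff_ne_zero.mpr hx)
  letI : Algebra (RingHom.ker (algebraMap B L)).ResidueField L := f.toAlgebra
  haveI : IsScalarTower B (RingHom.ker (algebraMap B L)).ResidueField L :=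
    IsScalarTower.of_algebraMap_eq (fun r =>
      (Ideal.ResidueField.lift_algebraMap (RingHom.ker (algebraMap B L)) (algebraMap B L)
        le_rfl _ r).symm)
  haveI := hBC (RingHom.ker (algebraMap B L))
  haveI : IsReduced (L ⊗[(RingHom.ker (algebraMap B L)).ResidueField]
      ((RingHom.ker (algebraMap B L)).Fiber C)) :=
    isReduced_tensor_of_isGeometricallyReduced _ _ _
  exact isReduced_of_injective
    (Algebra.TensorProduct.cancelBaseChange B (RingHom.ker (algebraMap B L)).ResidueField
      (RingHom.ker (algebraMap B L)).ResidueField L C).symm.toRingEquiv.toRingHom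
    (RingEquiv.injective _)

theorem isNoetherianRing_fiber (A B : Type*) [CommRing A] [CommRing B] [Algebra A B]
    [IsNoetherianRing B] (p : Ideal A) [p.IsPrime] : IsNoetherianRing (p.Fiber B) := by
  haveI : Algebra.EssFiniteType B (B ⊗[A] p.ResidueField) := inferInstance
  haveI : IsNoetherianRing (B ⊗[A] p.ResidueField) :=
    Algebra.EssFiniteType.isNoetherianRing B _
  exact isNoetherianRing_of_ringEquiv _
    (Algebra.TensorProduct.comm A B p.ResidueField).toRingEquiv

theorem isReduced_finite_ext (A B C : Type*) [CommRing A] [CommRing B] [CommRing C]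
    [IsNoetherianRing B] [Algebra A B] [Algebra B C] [Algebra A C] [IsScalarTower A B C]
    [Module.Flat B C]
    (hBC : ∀ (q : Ideal B) [q.IsPrime],
      Algebra.IsGeometricallyReduced q.ResidueField (q.Fiber C))
    (p : Ideal A) [p.IsPrime] [Algebra.IsGeometricallyReduced p.ResidueField (p.Fiber B)]
    (K : Type*) [Field K] [Algebra p.ResidueField K] [Module.Finite p.ResidueField K]
    [Algebra A K] [IsScalarTower A p.ResidueField K] :
    IsReduced (K ⊗[p.ResidueField] (p.Fiber C)) := by
  haveI hRred : IsReduced (B ⊗[A] K) := by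
    haveI : IsReduced (K ⊗[p.ResidueField] p.Fiber B) := inferInstance
    exact isReduced_of_injective
      ((Algebra.TensorProduct.comm A B K).toRingEquiv.trans
        (Algebra.TensorProduct.cancelBaseChange A p.ResidueField p.ResidueField K
          B).symm.toRingEquiv).toRingHom (RingEquiv.injective _)
  haveI hRnoeth : IsNoetherianRing (B ⊗[A] K) := by
    haveI := isNoetherianRing_fiber A B p
    haveI : IsNoetherianRing (p.Fiber B ⊗[p.ResidueField] K) :=
      Algebra.FiniteType.isNoetherianRing (p.Fiber B) (p.Fiber B ⊗[p.ResidueField] K)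
    exact isNoetherianRing_of_ringEquiv _
      ((Algebra.TensorProduct.comm p.ResidueField (p.Fiber B) K).toRingEquiv.trans
        ((Algebra.TensorProduct.cancelBaseChange A p.ResidueField p.ResidueField K
          B).toRingEquiv.trans (Algebra.TensorProduct.comm A K B).toRingEquiv))
  haveI hflat : Module.Flat (B ⊗[A] K) ((B ⊗[A] K) ⊗[B] C) := inferInstance
  haveI : IsReduced ((B ⊗[A] K) ⊗[B] C) := by
    apply isReduced_of_flat_of_fibers (B ⊗[A] K) _
    intro q' _ _
    haveI : IsReduced (q'.ResidueField ⊗[B] C) :=
      isReduced_tensor_field_of_fibers B C hBC _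
    exact isReduced_of_injective
      ((Algebra.TensorProduct.comm (B ⊗[A] K) ((B ⊗[A] K) ⊗[B] C) q'.ResidueField).toRingEquiv.trans
        (Algebra.TensorProduct.cancelBaseChange B (B ⊗[A] K) (B ⊗[A] K) q'.ResidueField
          C).toRingEquiv).toRingHom (RingEquiv.injective _)
  exact isReduced_of_injective
    ((Algebra.TensorProduct.cancelBaseChange A p.ResidueField p.ResidueField K C).toRingEquiv.trans
      ((Algebra.TensorProduct.comm A K C).toRingEquiv.trans
        ((Algebra.TensorProduct.cancelBaseChange A B B C K).symm.toRingEquiv.trans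
          (Algebra.TensorProduct.comm B C (B ⊗[A] K)).toRingEquiv))).toRingHom
    (RingEquiv.injective _)

/-- Composition of flat maps with geometrically reduced fibres has geometrically reduced fibres. -/
theorem isGeometricallyReduced_fiber_comp (A B C : Type*) [CommRing A] [CommRing B] [CommRing C]
    [IsNoetherianRing B] [Algebra A B] [Algebra B C] [Algebra A C] [IsScalarTower A B C]
    [Module.Flat B C]
    (hAB : ∀ (p : Ideal A) [p.IsPrime],
      Algebra.IsGeometricallyReduced p.ResidueField (p.Fiber B))
    (hBC : ∀ (q : Ideal B) [q.IsPrime],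
      Algebra.IsGeometricallyReduced q.ResidueField (q.Fiber C))
    (p : Ideal A) [p.IsPrime] :
    Algebra.IsGeometricallyReduced p.ResidueField (p.Fiber C) := by
  rw [Algebra.isGeometricallyReduced_field_iff]
  haveI : IsReduced (p.Fiber C ⊗[p.ResidueField] AlgebraicClosure p.ResidueField) := by
    apply IsReduced.tensorProduct_of_flat_of_forall_fg
    intro K hK
    obtain ⟨s, hs⟩ := hK
    have hE : (IntermediateField.adjoin p.ResidueField
        (s : Set (AlgebraicClosure p.ResidueField))).toSubalgebra = K := by
      rw [← hs]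
      exact IntermediateField.adjoin_toSubalgebra _
    subst hE
    haveI : FiniteDimensional p.ResidueField (IntermediateField.adjoin p.ResidueField
        (s : Set (AlgebraicClosure p.ResidueField))) :=
      IntermediateField.finiteDimensional_adjoin (fun x _ => Algebra.IsIntegral.isIntegral x)
    haveI := hAB p
    haveI : IsReduced ((IntermediateField.adjoin p.ResidueField
        (s : Set (AlgebraicClosure p.ResidueField))) ⊗[p.ResidueField] p.Fiber C) :=
      isReduced_finite_ext A B C hBC p _
    exact isReduced_of_injective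
      (Algebra.TensorProduct.comm p.ResidueField (p.Fiber C)
        (IntermediateField.adjoin p.ResidueField
          (s : Set (AlgebraicClosure p.ResidueField))))
      (AlgEquiv.injective _)
  exact isReduced_of_injective
    (Algebra.TensorProduct.comm p.ResidueField (AlgebraicClosure p.ResidueField)
      (p.Fiber C)) (AlgEquiv.injective _)

/-- Geometric reducedness of all fibres is stable under arbitrary base change. -/
theorem isGeometricallyReduced_fiber_baseChange (A B A' B' : Type*) [CommRing A] [CommRing B]
    [CommRing A'] [CommRing B'] [Algebra A B] [Algebra A A'] [Algebra A' B'] [Algebra B B']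
    [Algebra A B'] [IsScalarTower A A' B'] [IsScalarTower A B B'] [Algebra.IsPushout A A' B B']
    (h : ∀ (p : Ideal A) [p.IsPrime], Algebra.IsGeometricallyReduced p.ResidueField (p.Fiber B))
    (p' : Ideal A') [p'.IsPrime] :
    Algebra.IsGeometricallyReduced p'.ResidueField (p'.Fiber B') := by
  rw [Algebra.isGeometricallyReduced_field_iff]
  haveI : IsScalarTower A A' (AlgebraicClosure p'.ResidueField) := inferInstance
  haveI h1 : IsReduced (AlgebraicClosure p'.ResidueField ⊗[A] B) :=
    isReduced_tensor_field_of_fibers A B h _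
  -- Ω ⊗[κ'] (κ' ⊗[A'] B') ≃ Ω ⊗[A'] B' ≃ Ω ⊗[A'] (A' ⊗[A] B) ≃ Ω ⊗[A] B
  exact isReduced_of_injective
    ((Algebra.TensorProduct.cancelBaseChange A' p'.ResidueField p'.ResidueField
        (AlgebraicClosure p'.ResidueField) B').toRingEquiv.trans
      ((Algebra.TensorProduct.congr (AlgEquiv.refl (R := A')
          (A₁ := AlgebraicClosure p'.ResidueField))
          (Algebra.IsPushout.equiv A A' B B').symm).toRingEquiv.trans
        (Algebra.TensorProduct.cancelBaseChange A A' A'
          (AlgebraicClosure p'.ResidueField) B).toRingEquiv)).toRingHom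
    (RingEquiv.injective _)

end Groth.Agent.Lib.Helper14.GeomReduced
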