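import Mathlib
import Groth.Prelude.Def_FDesc
import Groth.Agent.Lib.Helper9.GeomRed
import Groth.Agent.Lib.Helper6.GeomReducedProd
import Groth.Agent.Lib.Helper11.FBaseLib2
import Groth.Agent.Lib.Helper14.GeomReduced

/-!
# Reduced algebras over a perfect field are geometrically reduced; scheme consequences (helper14)
-/

set_option autoImplicit false
universe u

open CategoryTheory CategoryTheory.Limits AlgebraicGeometry
open scoped TensorProduct

namespace Groth.Agent.Lib.Helper14.PerfectGeomRed

/-- A reduced algebra over a perfect field is geometrically reduced. -/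
theorem isGeometricallyReduced_of_perfectField {Ω S : Type u} [Field Ω] [PerfectField Ω]
    [CommRing S] [Algebra Ω S] [IsReduced S] : Algebra.IsGeometricallyReduced Ω S := by
  apply Groth.Agent.Lib.Helper9.GeomRed.isGeometricallyReduced_of_finite_insep
  intro k' _ _ _ _
  have hsurj : Function.Surjective (algebraMap Ω k') :=
    IsPurelyInseparable.surjective_algebraMap_of_isSeparable Ω k'
  have hbij : Function.Bijective (Algebra.ofId Ω k') :=
    ⟨(algebraMap Ω k').injective, hsurj⟩
  let e : Ω ≃ₐ[Ω] k' := AlgEquiv.ofBijective (Algebra.ofId Ω k') hbij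
  exact isReduced_of_injective
    ((Algebra.TensorProduct.congr e.symm (AlgEquiv.refl (R := Ω) (A₁ := S))).trans
      (Algebra.TensorProduct.lid Ω S)).toRingEquiv (RingEquiv.injective _)

/-- `Spec K' ⟶ Spec K` is geometrically reduced when `K'` is a geometrically reduced `K`-algebra
which is a field. -/
theorem geometricallyReduced_SpecMap (k k' : Type u) [Field k] [Field k'] [Algebra k k']
    [Algebra.IsGeometricallyReduced k k'] :
    GeometricallyReduced (Spec.map (CommRingCat.ofHom (algebraMap k k'))) := by
  refine ⟨?_⟩
  rw [geometrically_iff_of_commRing_of_isClosedUnderIsomorphisms]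
  intro L _ _
  haveI : _root_.IsReduced (L ⊗[k] k') :=
    Groth.Agent.Lib.Helper14.GeomReduced.isReduced_tensor_of_isGeometricallyReduced k k' L
  haveI : _root_.IsReduced (k' ⊗[k] L) :=
    isReduced_of_injective (Algebra.TensorProduct.comm k k' L).toRingEquiv
      (RingEquiv.injective _)
  have e := pullbackSpecIso k k' L
  haveI : AlgebraicGeometry.IsReduced (Spec (CommRingCat.of (k' ⊗[k] L))) :=
    inferInstance
  exact isReduced_of_isOpenImmersion e.hom

variable {k : Type u} [Field k] {X : Scheme.{u}} (f : X ⟶ Spec (CommRingCat.of k))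

open Groth.Agent.Lib.Helper11.FBaseLib2

/-- Reducedness ascends along geometrically reduced field extensions. -/
theorem isReduced_bc_of_tower (K L : Type u) [Field K] [Field L] [Algebra k K] [Algebra k L]
    [Algebra K L] [IsScalarTower k K L] [Algebra.IsGeometricallyReduced K L]
    [AlgebraicGeometry.IsReduced (FBase.bc f K)] : AlgebraicGeometry.IsReduced (FBase.bc f L) := by
  haveI := geometricallyReduced_SpecMap K L
  haveI h := Groth.Agent.Lib.Helper6.GeomReducedProd.isReduced_pullback
    (Spec.map (CommRingCat.ofHom (algebraMap K L))) (FBase.bcStr f K)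
  have hp := (isPullback_bcMap f K L).flip
  exact isReduced_of_isOpenImmersion hp.isoPullback.hom

/-- Reducedness descends along field extensions. -/
theorem isReduced_bc_of_tower_descend (K L : Type u) [Field K] [Field L] [Algebra k K] [Algebra k L]
    [Algebra K L] [IsScalarTower k K L]
    [AlgebraicGeometry.IsReduced (FBase.bc f L)] : AlgebraicGeometry.IsReduced (FBase.bc f K) := by
  haveI : IsSchemeTheoreticallyDominant (Spec.map (CommRingCat.ofHom (algebraMap K L))) :=
    IsSchemeTheoreticallyDominant.of_isDominant _
  haveI : IsSchemeTheoreticallyDominant (bcMap f K L) :=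
    IsSchemeTheoreticallyDominant.of_isPullback (isPullback_bcMap f K L).flip
  haveI : QuasiCompact (bcMap f K L) :=
    bcMap_of f K L @QuasiCompact inferInstance
  exact IsSchemeTheoreticallyDominant.isReduced (bcMap f K L)

/-- If `X ⊗ Ω` is reduced for a perfect extension `Ω` of `k`, then `X` is geometrically reduced. -/
theorem geometricallyReduced_of_perfect (Ω : Type u) [Field Ω] [Algebra k Ω] [PerfectField Ω]
    [AlgebraicGeometry.IsReduced (FBase.bc f Ω)] : GeometricallyReduced f := by
  refine ⟨?_⟩
  rw [geometrically_iff_of_commRing_of_isClosedUnderIsomorphisms]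
  intro K _ _
  obtain ⟨L, _, _, _, ⟨φ⟩, ⟨ψ⟩⟩ := exists_compositum k K Ω
  letI : Algebra K L := φ.toRingHom.toAlgebra
  letI : Algebra Ω L := ψ.toRingHom.toAlgebra
  haveI : IsScalarTower k K L := IsScalarTower.of_algebraMap_eq (fun x => (φ.commutes x).symm)
  haveI : IsScalarTower k Ω L := IsScalarTower.of_algebraMap_eq (fun x => (ψ.commutes x).symm)
  haveI : Algebra.IsGeometricallyReduced Ω L := isGeometricallyReduced_of_perfectField
  haveI : AlgebraicGeometry.IsReduced (FBase.bc f L) := isReduced_bc_of_tower f Ω L
  exact isReduced_bc_of_tower_descend f K L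

end Groth.Agent.Lib.Helper14.PerfectGeomRed
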