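import Mathlib
import Groth.Prelude.Def_FDesc
import Groth.Agent.Lib.Helper11.FBaseLib2
import Groth.Agent.Lib.Helper16.GeomRed
import Groth.Agent.Lib.Helper6.GeomReducedProd
import Groth.Agent.Lib.Helper14.PerfectGeomRed
import Groth.Agent.Lib.Helper11.TensorDomain

/-!
# Geometric reducedness at a point: toolkit (helper14)
-/

set_option autoImplicit false
universe u

open CategoryTheory CategoryTheory.Limits AlgebraicGeometry
open scoped TensorProduct

namespace Groth.Agent.Lib.Helper14.GeomRedAt

open Groth.Agent.Lib.Helper11.FBaseLib2 Groth.Agent.Lib.Helper16.GeomRed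

variable {k : Type u} [Field k] {X : Scheme.{u}} (f : X ⟶ Spec (CommRingCat.of k))

section Tower

variable (K L : Type u) [Field K] [Field L] [Algebra k K] [Algebra k L] [Algebra K L]
  [IsScalarTower k K L]

instance flat_SpecMap_field : Flat (Spec.map (CommRingCat.ofHom (algebraMap K L))) := by
  rw [HasRingHomProperty.Spec_iff (P := @Flat)]
  exact RingHom.flat_algebraMap_iff.mpr (inferInstance : Module.Flat K L)

instance flat_bcMap : Flat (bcMap f K L) :=
  bcMap_of f K L @Flat (flat_SpecMap_field K L)

/-- T2: reducedness of local rings descends along a field tower. -/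
theorem isReduced_stalk_descend (z : ↥(FBase.bc f L))
    (h : _root_.IsReduced ((FBase.bc f L).presheaf.stalk z)) :
    _root_.IsReduced ((FBase.bc f K).presheaf.stalk ((bcMap f K L) z)) :=
  isReduced_stalk_of_flat (bcMap f K L) z h

/-- T1: reducedness of local rings ascends along a geometrically reduced field extension. -/
theorem isReduced_stalk_ascend [Algebra.IsGeometricallyReduced K L] (z : ↥(FBase.bc f L))
    (h : _root_.IsReduced ((FBase.bc f K).presheaf.stalk ((bcMap f K L) z))) :
    _root_.IsReduced ((FBase.bc f L).presheaf.stalk z) := by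
  set Y := FBase.bc f K
  set g := bcMap f K L
  set y := g z
  let j := Y.fromSpecStalk y
  haveI := PerfectGeomRed.geometricallyReduced_SpecMap K L
  haveI : AlgebraicGeometry.IsReduced (Spec (Y.presheaf.stalk y)) := by
    haveI := h
    infer_instance
  have hP : AlgebraicGeometry.IsReduced (pullback g j) := by
    have h1 : IsPullback (pullback.fst g j) (pullback.snd g j) g j := IsPullback.of_hasPullback g j
    have h2 := (isPullback_bcMap f K L).flip
    have h3 := (h1.paste_horiz h2).flip
    haveI := Groth.Agent.Lib.Helper6.GeomReducedProd.isReduced_pullback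
      (Spec.map (CommRingCat.ofHom (algebraMap K L))) (j ≫ FBase.bcStr f K)
    exact isReduced_of_isOpenImmersion h3.flip.isoPullback.hom
  obtain ⟨w, hw1, -⟩ := Scheme.Pullback.exists_preimage_pullback (f := g) (g := j) z
    (IsLocalRing.closedPoint _) (Scheme.fromSpecStalk_closedPoint).symm
  have h1 : _root_.IsReduced ((pullback g j).presheaf.stalk w) := inferInstance
  have h2 := isReduced_stalk_of_flat (pullback.fst g j) w h1
  rwa [hw1] at h2

end Tower

section Common

variable (K K' : Type u) [Field K] [Field K'] [Algebra k K] [Algebra k K']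

/-- Auxiliary form of the common point lemma: a field-valued point of `X_K ×_X X_{K'}`. -/
theorem exists_common_point_aux (L : Type u) [Field L]
    (a : Spec (CommRingCat.of L) ⟶ FBase.bc f K) (a' : Spec (CommRingCat.of L) ⟶ FBase.bc f K')
    (h : a ≫ FBase.bcπ f K = a' ≫ FBase.bcπ f K') (pt : ↥(Spec (CommRingCat.of L))) :
    ∃ (_ : Algebra k L) (_ : Algebra K L) (_ : Algebra K' L)
      (_ : IsScalarTower k K L) (_ : IsScalarTower k K' L) (z : ↥(FBase.bc f L)),
      (bcMap f K L) z = a pt ∧ (bcMap f K' L) z = a' pt := by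
  let φ : CommRingCat.of K ⟶ CommRingCat.of L := Spec.preimage (a ≫ FBase.bcStr f K)
  let φ' : CommRingCat.of K' ⟶ CommRingCat.of L := Spec.preimage (a' ≫ FBase.bcStr f K')
  have hφ : Spec.map φ = a ≫ FBase.bcStr f K := Spec.map_preimage _
  have hφ' : Spec.map φ' = a' ≫ FBase.bcStr f K' := Spec.map_preimage _
  have hcond : ∀ (M : Type u) [Field M] [Algebra k M],
      FBase.bcπ f M ≫ f = FBase.bcStr f M ≫ Spec.map (CommRingCat.ofHom (algebraMap k M)) :=
    fun M _ _ => pullback.condition
  have hcomp : CommRingCat.ofHom (algebraMap k K') ≫ φ' = CommRingCat.ofHom (algebraMap k K) ≫ φ := by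
    apply Spec.map_injective
    rw [Spec.map_comp, Spec.map_comp, hφ, hφ', Category.assoc, Category.assoc, ← hcond K, ← hcond K',
      ← Category.assoc, ← Category.assoc, h]
  letI iK : Algebra K L := φ.hom.toAlgebra
  letI iK' : Algebra K' L := φ'.hom.toAlgebra
  letI ik : Algebra k L := (φ.hom.comp (algebraMap k K)).toAlgebra
  haveI t1 : IsScalarTower k K L := IsScalarTower.of_algebraMap_eq (fun x => rfl)
  haveI t2 : IsScalarTower k K' L := IsScalarTower.of_algebraMap_eq (fun x => by
    have := congrArg (fun ψ => ψ.hom x) hcomp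
    exact this.symm)
  have hkL : CommRingCat.ofHom (algebraMap k L) = CommRingCat.ofHom (algebraMap k K) ≫ φ := rfl
  have hKL : CommRingCat.ofHom (algebraMap K L) = φ := rfl
  have hK'L : CommRingCat.ofHom (algebraMap K' L) = φ' := rfl
  let ζ : Spec (CommRingCat.of L) ⟶ FBase.bc f L :=
    pullback.lift (a ≫ FBase.bcπ f K) (𝟙 _) (by
      rw [Category.id_comp, hkL, Spec.map_comp, hφ, Category.assoc, Category.assoc, hcond K])
  have hζπ : ζ ≫ FBase.bcπ f L = a ≫ FBase.bcπ f K := pullback.lift_fst _ _ _
  have hζs : ζ ≫ FBase.bcStr f L = 𝟙 _ := pullback.lift_snd _ _ _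
  have e1 : ζ ≫ bcMap f K L = a := by
    refine pullback.hom_ext
      (?_ : (ζ ≫ bcMap f K L) ≫ FBase.bcπ f K = a ≫ FBase.bcπ f K)
      (?_ : (ζ ≫ bcMap f K L) ≫ FBase.bcStr f K = a ≫ FBase.bcStr f K)
    · rw [Category.assoc, bcMap_π, hζπ]
    · rw [Category.assoc, bcMap_str, ← Category.assoc, hζs, Category.id_comp, hKL, hφ]
  have e2 : ζ ≫ bcMap f K' L = a' := by
    refine pullback.hom_ext
      (?_ : (ζ ≫ bcMap f K' L) ≫ FBase.bcπ f K' = a' ≫ FBase.bcπ f K')
      (?_ : (ζ ≫ bcMap f K' L) ≫ FBase.bcStr f K' = a' ≫ FBase.bcStr f K')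
    · rw [Category.assoc, bcMap_π, hζπ, h]
    · rw [Category.assoc, bcMap_str, ← Category.assoc, hζs, Category.id_comp, hK'L, hφ']
  refine ⟨ik, iK, iK', t1, t2, ζ pt, ?_, ?_⟩
  · rw [← Scheme.Hom.comp_apply, e1]
  · rw [← Scheme.Hom.comp_apply, e2]

/-- T3: two points of `X_K` and `X_{K'}` over the same point of `X` come from a common point of
`X_L` for a common field extension `L`. -/
theorem exists_common_point (y : ↥(FBase.bc f K)) (y' : ↥(FBase.bc f K'))
    (h : (FBase.bcπ f K) y = (FBase.bcπ f K') y') :
    ∃ (L : Type u) (_ : Field L) (_ : Algebra k L) (_ : Algebra K L) (_ : Algebra K' L)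
      (_ : IsScalarTower k K L) (_ : IsScalarTower k K' L) (z : ↥(FBase.bc f L)),
      (bcMap f K L) z = y ∧ (bcMap f K' L) z = y' := by
  obtain ⟨q, hq1, hq2⟩ := Scheme.Pullback.exists_preimage_pullback
    (f := FBase.bcπ f K) (g := FBase.bcπ f K') y y' h
  let Q := pullback (FBase.bcπ f K) (FBase.bcπ f K')
  change ↥Q at q
  let a : Spec (CommRingCat.of (Q.residueField q)) ⟶ FBase.bc f K :=
    Q.fromSpecResidueField q ≫ pullback.fst _ _
  let a' : Spec (CommRingCat.of (Q.residueField q)) ⟶ FBase.bc f K' :=
    Q.fromSpecResidueField q ≫ pullback.snd _ _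
  have haa' : a ≫ FBase.bcπ f K = a' ≫ FBase.bcπ f K' := by
    simp only [a, a', Category.assoc, pullback.condition]
  let pt : ↥(Spec (CommRingCat.of (Q.residueField q))) := IsLocalRing.closedPoint _
  obtain ⟨ik, iK, iK', t1, t2, z, hz1, hz2⟩ :=
    exists_common_point_aux f K K' (Q.residueField q) a a' haa' pt
  refine ⟨Q.residueField q, inferInstance, ik, iK, iK', t1, t2, z, ?_, ?_⟩
  · rw [hz1, ← hq1]
    simp only [a, Scheme.Hom.comp_apply]
    congr 1
    exact Scheme.fromSpecResidueField_apply _ _
  · rw [hz2, ← hq2]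
    simp only [a', Scheme.Hom.comp_apply]
    congr 1
    exact Scheme.fromSpecResidueField_apply _ _

end Common

section Perfect

/-- If the local ring of `X ⊗ Ω` at some point over `x` is reduced, with `Ω` perfect, then `X` is
geometrically reduced at `x`. -/
theorem isGeomReducedAt_of_perfect (Ω : Type u) [Field Ω] [Algebra k Ω] [PerfectField Ω] (x : X)
    (x' : ↥(FBase.bc f Ω)) (hx' : (FBase.bcπ f Ω).base x' = x)
    (h : FBase.IsReducedAt (FBase.bc f Ω) x') : FBase.IsGeomReducedAt f x := by
  intro K _ _ x'' hx''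
  obtain ⟨L, _, _, _, _, _, _, z, hz1, hz2⟩ :=
    exists_common_point f Ω K x' x'' (hx'.trans hx''.symm)
  haveI : Algebra.IsGeometricallyReduced Ω L :=
    PerfectGeomRed.isGeometricallyReduced_of_perfectField
  have h1 : _root_.IsReduced ((FBase.bc f L).presheaf.stalk z) :=
    isReduced_stalk_ascend f Ω L z (by rw [hz1]; exact h)
  have h2 := isReduced_stalk_descend f K L z h1
  rwa [hz2] at h2

instance isIso_bcπ_self : IsIso (FBase.bcπ f k) := by
  haveI : IsIso (Spec.map (CommRingCat.ofHom (algebraMap k k))) := by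
    have : CommRingCat.ofHom (algebraMap k k) = 𝟙 (CommRingCat.of k) := rfl
    rw [this, Spec.map_id]
    infer_instance
  unfold FBase.bcπ
  exact pullback_fst_iso_of_right_iso f (Spec.map (CommRingCat.ofHom (algebraMap k k)))

/-- Over a perfect field, a point with reduced local ring is a point of geometric reducedness. -/
theorem isGeomReducedAt_of_perfectField [PerfectField k] (x : X)
    (h : _root_.IsReduced (X.presheaf.stalk x)) : FBase.IsGeomReducedAt f x := by
  let ψ : X ⟶ FBase.bc f k := inv (FBase.bcπ f k)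
  have hψ : ψ ≫ FBase.bcπ f k = 𝟙 X := IsIso.inv_hom_id _
  refine isGeomReducedAt_of_perfect f k x (ψ x) ?_ (isReduced_stalk_of_flat ψ x h)
  change (ψ ≫ FBase.bcπ f k) x = x
  rw [hψ]
  rfl

end Perfect

section Generic

/-- A property of rings which descends along injective ring maps descends along stalk maps of flat
morphisms. -/
theorem stalk_descend_of_flat (P : ∀ (R : Type u) [CommRing R], Prop)
    (hP : ∀ {R S : Type u} [CommRing R] [CommRing S] (φ : R →+* S), Function.Injective φ → P S → P R)
    {X Y : Scheme.{u}} (g : X ⟶ Y) [Flat g] (x : X)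
    (h : P (X.presheaf.stalk x)) : P (Y.presheaf.stalk (g x)) := by
  have hflat : (g.stalkMap x).hom.Flat := Flat.stalkMap g x
  let _ : Algebra (Y.presheaf.stalk (g x)) (X.presheaf.stalk x) := (g.stalkMap x).hom.toAlgebra
  have : Module.Flat (Y.presheaf.stalk (g x)) (X.presheaf.stalk x) := hflat
  have : IsLocalHom (algebraMap (Y.presheaf.stalk (g x)) (X.presheaf.stalk x)) :=
    inferInstanceAs (IsLocalHom (g.stalkMap x).hom)
  have : Module.FaithfullyFlat (Y.presheaf.stalk (g x)) (X.presheaf.stalk x) :=
    Module.FaithfullyFlat.of_flat_of_isLocalHom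
  have hinj : Function.Injective (algebraMap (Y.presheaf.stalk (g x)) (X.presheaf.stalk x)) :=
    FaithfulSMul.algebraMap_injective _ _
  exact hP _ hinj h

/-- The generic "geometrically `P` at a point" predicate. -/
def GeomAt (P : ∀ (R : Type u) [CommRing R], Prop) (f : X ⟶ Spec (CommRingCat.of k)) (x : X) : Prop :=
  ∀ (K : Type u) [Field K] [Algebra k K] (x' : ↥(FBase.bc f K)), (FBase.bcπ f K).base x' = x →
    P ((FBase.bc f K).presheaf.stalk x')

theorem geomAt_isReduced_iff (x : X) :
    GeomAt (fun R _ => _root_.IsReduced R) f x ↔ FBase.IsGeomReducedAt f x := Iff.rfl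

theorem geomAt_isDomain_iff (x : X) :
    GeomAt (fun R _ => IsDomain R) f x ↔ FBase.IsGeomPtIntegralAt f x := Iff.rfl

/-- Invariance of "geometrically `P` at a point" under extension of the base field. -/
theorem geomAt_iff_bcStr (P : ∀ (R : Type u) [CommRing R], Prop)
    (hP : ∀ {R S : Type u} [CommRing R] [CommRing S] (φ : R →+* S), Function.Injective φ → P S → P R)
    (K : Type u) [Field K] [Algebra k K] (x' : ↥(FBase.bc f K)) :
    GeomAt P f ((FBase.bcπ f K).base x') ↔ GeomAt P (FBase.bcStr f K) x' := by
  constructor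
  · intro h L _ _ y hy
    letI : Algebra k L := ((algebraMap K L).comp (algebraMap k K)).toAlgebra
    haveI : IsScalarTower k K L := IsScalarTower.of_algebraMap_eq (fun _ => rfl)
    let e := (isPullback_bcMap f K L).isoPullback
    have he1 : e.inv ≫ bcMap f K L = pullback.fst _ _ := IsPullback.isoPullback_inv_fst _
    have hz1 : (bcMap f K L) (e.inv y) = x' := by
      rw [← Scheme.Hom.comp_apply, he1]
      exact hy
    have hz2 : (FBase.bcπ f L).base (e.inv y) = (FBase.bcπ f K).base x' := by
      rw [← hz1]
      exact (bcπ_bcMap_apply f K L (e.inv y)).symm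
    have h1 := h L (e.inv y) hz2
    have h2 := stalk_descend_of_flat P hP e.hom (e.inv y) h1
    have h3 : e.hom (e.inv y) = y := by
      rw [← Scheme.Hom.comp_apply, e.inv_hom_id]
      rfl
    rw [h3] at h2
    exact h2
  · intro h K' _ _ y hy
    obtain ⟨L, _, _, _, _, _, _, z, hz1, hz2⟩ := exists_common_point f K' K y x' hy
    let e := (isPullback_bcMap f K L).isoPullback
    have he1 : e.hom ≫ pullback.fst _ _ = bcMap f K L := IsPullback.isoPullback_hom_fst _
    have hy' : (FBase.bcπ (FBase.bcStr f K) L).base (e.hom z) = x' := by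
      rw [← hz2]
      change (e.hom ≫ pullback.fst _ _) z = _
      rw [he1]
    have h1 := h L (e.hom z) hy'
    have h2 := stalk_descend_of_flat P hP e.inv (e.hom z) h1
    have h3 : e.inv (e.hom z) = z := by
      rw [← Scheme.Hom.comp_apply, e.hom_inv_id]
      rfl
    rw [h3] at h2
    have h4 := stalk_descend_of_flat P hP (bcMap f K' L) z h2
    rwa [hz1] at h4

/-- Faithfully flat variant of `stalk_descend_of_flat`. -/
theorem stalk_descend_of_flat' (P : ∀ (R : Type u) [CommRing R], Prop)
    (hP : ∀ {R S : Type u} [CommRing R] [CommRing S] [Algebra R S] [Module.FaithfullyFlat R S],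
      P S → P R)
    {X Y : Scheme.{u}} (g : X ⟶ Y) [Flat g] (x : X)
    (h : P (X.presheaf.stalk x)) : P (Y.presheaf.stalk (g x)) := by
  have hflat : (g.stalkMap x).hom.Flat := Flat.stalkMap g x
  let _ : Algebra (Y.presheaf.stalk (g x)) (X.presheaf.stalk x) := (g.stalkMap x).hom.toAlgebra
  have : Module.Flat (Y.presheaf.stalk (g x)) (X.presheaf.stalk x) := hflat
  have : IsLocalHom (algebraMap (Y.presheaf.stalk (g x)) (X.presheaf.stalk x)) :=
    inferInstanceAs (IsLocalHom (g.stalkMap x).hom)
  have : Module.FaithfullyFlat (Y.presheaf.stalk (g x)) (X.presheaf.stalk x) :=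
    Module.FaithfullyFlat.of_flat_of_isLocalHom
  exact hP h

/-- Faithfully flat variant of `geomAt_iff_bcStr`. -/
theorem geomAt_iff_bcStr' (P : ∀ (R : Type u) [CommRing R], Prop)
    (hP : ∀ {R S : Type u} [CommRing R] [CommRing S] [Algebra R S] [Module.FaithfullyFlat R S],
      P S → P R)
    (K : Type u) [Field K] [Algebra k K] (x' : ↥(FBase.bc f K)) :
    GeomAt P f ((FBase.bcπ f K).base x') ↔ GeomAt P (FBase.bcStr f K) x' := by
  constructor
  · intro h L _ _ y hy
    letI : Algebra k L := ((algebraMap K L).comp (algebraMap k K)).toAlgebra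
    haveI : IsScalarTower k K L := IsScalarTower.of_algebraMap_eq (fun _ => rfl)
    let e := (isPullback_bcMap f K L).isoPullback
    have he1 : e.inv ≫ bcMap f K L = pullback.fst _ _ := IsPullback.isoPullback_inv_fst _
    have hz1 : (bcMap f K L) (e.inv y) = x' := by
      rw [← Scheme.Hom.comp_apply, he1]
      exact hy
    have hz2 : (FBase.bcπ f L).base (e.inv y) = (FBase.bcπ f K).base x' := by
      rw [← hz1]
      exact (bcπ_bcMap_apply f K L (e.inv y)).symm
    have h1 := h L (e.inv y) hz2
    have h2 := stalk_descend_of_flat' P hP e.hom (e.inv y) h1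
    have h3 : e.hom (e.inv y) = y := by
      rw [← Scheme.Hom.comp_apply, e.inv_hom_id]
      rfl
    rw [h3] at h2
    exact h2
  · intro h K' _ _ y hy
    obtain ⟨L, _, _, _, _, _, _, z, hz1, hz2⟩ := exists_common_point f K' K y x' hy
    let e := (isPullback_bcMap f K L).isoPullback
    have he1 : e.hom ≫ pullback.fst _ _ = bcMap f K L := IsPullback.isoPullback_hom_fst _
    have hy' : (FBase.bcπ (FBase.bcStr f K) L).base (e.hom z) = x' := by
      rw [← hz2]
      change (e.hom ≫ pullback.fst _ _) z = _
      rw [he1]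
    have h1 := h L (e.hom z) hy'
    have h2 := stalk_descend_of_flat' P hP e.inv (e.hom z) h1
    have h3 : e.inv (e.hom z) = z := by
      rw [← Scheme.Hom.comp_apply, e.hom_inv_id]
      rfl
    rw [h3] at h2
    have h4 := stalk_descend_of_flat' P hP (bcMap f K' L) z h2
    rwa [hz1] at h4

theorem isReduced_of_injective' {R S : Type u} [CommRing R] [CommRing S] (φ : R →+* S)
    (hφ : Function.Injective φ) (h : _root_.IsReduced S) : _root_.IsReduced R :=
  isReduced_of_injective φ hφ

theorem isDomain_of_injective' {R S : Type u} [CommRing R] [CommRing S] (φ : R →+* S)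
    (hφ : Function.Injective φ) (h : IsDomain S) : IsDomain R :=
  hφ.isDomain φ

end Generic

section Generize

/-- Reducedness of local rings passes to generizations. -/
theorem isReduced_stalk_of_specializes {Y : Scheme.{u}} {y y' : Y} (h : y ⤳ y')
    (hy' : _root_.IsReduced (Y.presheaf.stalk y')) : _root_.IsReduced (Y.presheaf.stalk y) := by
  have hmem : y ∈ Set.range (Y.fromSpecStalk y') := by
    rw [Scheme.range_fromSpecStalk]; exact h
  obtain ⟨t, rfl⟩ := hmem
  haveI : AlgebraicGeometry.IsReduced (Spec (Y.presheaf.stalk y')) := inferInstance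
  exact isReduced_stalk_of_flat (Y.fromSpecStalk y') t inferInstance

/-- A flat morphism which is surjective on stalks induces bijections on stalks. -/
theorem stalkMap_bijective_of_flat_of_surjectiveOnStalks {P Y : Scheme.{u}} (g : P ⟶ Y) [Flat g]
    [SurjectiveOnStalks g] (w : P) : Function.Bijective (g.stalkMap w).hom := by
  refine ⟨?_, g.stalkMap_surjective w⟩
  have hflat : (g.stalkMap w).hom.Flat := Flat.stalkMap g w
  let _ : Algebra (Y.presheaf.stalk (g w)) (P.presheaf.stalk w) := (g.stalkMap w).hom.toAlgebra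
  have : Module.Flat (Y.presheaf.stalk (g w)) (P.presheaf.stalk w) := hflat
  have : IsLocalHom (algebraMap (Y.presheaf.stalk (g w)) (P.presheaf.stalk w)) :=
    inferInstanceAs (IsLocalHom (g.stalkMap w).hom)
  have : Module.FaithfullyFlat (Y.presheaf.stalk (g w)) (P.presheaf.stalk w) :=
    Module.FaithfullyFlat.of_flat_of_isLocalHom
  exact FaithfulSMul.algebraMap_injective _ _

theorem isReduced_stalk_of_flat_of_surjectiveOnStalks {P Y : Scheme.{u}} (g : P ⟶ Y) [Flat g]
    [SurjectiveOnStalks g] (w : P) (h : _root_.IsReduced (Y.presheaf.stalk (g w))) :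
    _root_.IsReduced (P.presheaf.stalk w) := by
  let e := RingEquiv.ofBijective (g.stalkMap w).hom
    (stalkMap_bijective_of_flat_of_surjectiveOnStalks g w)
  exact isReduced_of_injective e.symm e.symm.injective

end Generize

section StalkAlg

variable (x : X) [Algebra k (X.presheaf.stalk x)]

/-- Reducedness of `Spec 𝒪_{X,x} ×_X X_K` in terms of the tensor product. -/
theorem isReduced_pullback_fromSpecStalk_iff
    (hc : X.fromSpecStalk x ≫ f =
      Spec.map (CommRingCat.ofHom (algebraMap k (X.presheaf.stalk x))))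
    (K : Type u) [Field K] [Algebra k K] :
    AlgebraicGeometry.IsReduced (pullback (FBase.bcπ f K) (X.fromSpecStalk x)) ↔
      _root_.IsReduced ((X.presheaf.stalk x) ⊗[k] K) := by
  have h1 : IsPullback (pullback.fst (FBase.bcπ f K) (X.fromSpecStalk x))
      (pullback.snd (FBase.bcπ f K) (X.fromSpecStalk x)) (FBase.bcπ f K) (X.fromSpecStalk x) :=
    IsPullback.of_hasPullback _ _
  have h2 := (isPullback_bc f K).flip
  have h3 := (h1.paste_horiz h2).flip
  rw [hc] at h3
  let e := h3.isoPullback ≪≫ pullbackSpecIso k (X.presheaf.stalk x) K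
  constructor
  · intro h
    haveI : AlgebraicGeometry.IsReduced
        (Spec (CommRingCat.of ((X.presheaf.stalk x) ⊗[k] K))) :=
      isReduced_of_isOpenImmersion e.inv
    exact (affine_isReduced_iff (CommRingCat.of ((X.presheaf.stalk x) ⊗[k] K))).mp this
  · intro h
    haveI : AlgebraicGeometry.IsReduced
        (Spec (CommRingCat.of ((X.presheaf.stalk x) ⊗[k] K))) := inferInstance
    exact isReduced_of_isOpenImmersion e.hom

/-- `Spec 𝒪_{X,x} ×_X X_K ≅ Spec (𝒪_{X,x} ⊗ K)`. -/
noncomputable def pullbackFromSpecStalkIso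
    (hc : X.fromSpecStalk x ≫ f =
      Spec.map (CommRingCat.ofHom (algebraMap k (X.presheaf.stalk x))))
    (K : Type u) [Field K] [Algebra k K] :
    pullback (FBase.bcπ f K) (X.fromSpecStalk x) ≅
      Spec (CommRingCat.of ((X.presheaf.stalk x) ⊗[k] K)) :=
  have h1 : IsPullback (pullback.fst (FBase.bcπ f K) (X.fromSpecStalk x))
      (pullback.snd (FBase.bcπ f K) (X.fromSpecStalk x)) (FBase.bcπ f K) (X.fromSpecStalk x) :=
    IsPullback.of_hasPullback _ _
  have h3 := (h1.paste_horiz (isPullback_bc f K).flip).flip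
  (hc ▸ h3).isoPullback ≪≫ pullbackSpecIso k (X.presheaf.stalk x) K

instance isIntegralHom_bcπ (K : Type u) [Field K] [Algebra k K] [Algebra.IsAlgebraic k K] :
    IsIntegralHom (FBase.bcπ f K) := by
  haveI : IsIntegralHom (Spec.map (CommRingCat.ofHom (algebraMap k K))) := by
    rw [IsIntegralHom.SpecMap_iff]
    exact algebraMap_isIntegral_iff.mpr inferInstance
  unfold FBase.bcπ
  exact MorphismProperty.pullback_fst (P := @IsIntegralHom) f _ this

/-- For an algebraic extension `K/k`: if all local rings of `X_K` at points over `x` are reduced,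
then `𝒪_{X,x} ⊗ K` is reduced. -/
theorem isReduced_tensor_of_stalks
    (hc : X.fromSpecStalk x ≫ f =
      Spec.map (CommRingCat.ofHom (algebraMap k (X.presheaf.stalk x))))
    (K : Type u) [Field K] [Algebra k K] [Algebra.IsAlgebraic k K]
    (hgeo : ∀ y' : ↥(FBase.bc f K), (FBase.bcπ f K).base y' = x →
      _root_.IsReduced ((FBase.bc f K).presheaf.stalk y')) :
    _root_.IsReduced ((X.presheaf.stalk x) ⊗[k] K) := by
  rw [← isReduced_pullback_fromSpecStalk_iff f x hc K]
  set j := X.fromSpecStalk x
  haveI : ∀ w : ↥(pullback (FBase.bcπ f K) j),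
      _root_.IsReduced ((pullback (FBase.bcπ f K) j).presheaf.stalk w) := by
    intro w
    apply isReduced_stalk_of_flat_of_surjectiveOnStalks (pullback.fst (FBase.bcπ f K) j) w
    set y := (pullback.fst (FBase.bcπ f K) j) w
    have hy : (FBase.bcπ f K) y ⤳ x := by
      have h1 : (FBase.bcπ f K) y = j ((pullback.snd (FBase.bcπ f K) j) w) := by
        simp only [y, ← Scheme.Hom.comp_apply, pullback.condition]
      have h2 : j ((pullback.snd (FBase.bcπ f K) j) w) ∈ Set.range j := ⟨_, rfl⟩
      rw [Scheme.range_fromSpecStalk] at h2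
      rw [h1]; exact h2
    have hcl : IsClosedMap (FBase.bcπ f K) := (FBase.bcπ f K).isClosedMap
    obtain ⟨y', hyy', hy'x⟩ := hcl.specializingMap hy
    exact isReduced_stalk_of_specializes hyy' (hgeo y' hy'x)
  exact isReduced_of_isReduced_stalk _

/-- **Geometric reducedness at a point in terms of the local ring.** -/
theorem isGeomReducedAt_iff_stalk
    (hc : X.fromSpecStalk x ≫ f =
      Spec.map (CommRingCat.ofHom (algebraMap k (X.presheaf.stalk x)))) :
    FBase.IsGeomReducedAt f x ↔ Algebra.IsGeometricallyReduced k (X.presheaf.stalk x) := by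
  constructor
  · intro hgeo
    rw [Algebra.isGeometricallyReduced_field_iff]
    have h := isReduced_tensor_of_stalks f x hc (AlgebraicClosure k)
      (fun y' hy' => hgeo (AlgebraicClosure k) y' hy')
    exact isReduced_of_injective
      (Algebra.TensorProduct.comm k (AlgebraicClosure k) (X.presheaf.stalk x)).toRingEquiv
      (RingEquiv.injective _)
  · intro hgr K _ _ x' hx'
    set j := X.fromSpecStalk x
    haveI : _root_.IsReduced (K ⊗[k] (X.presheaf.stalk x)) :=
      Groth.Agent.Lib.Helper14.GeomReduced.isReduced_tensor_of_isGeometricallyReduced k _ K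
    have hred : _root_.IsReduced ((X.presheaf.stalk x) ⊗[k] K) :=
      isReduced_of_injective (Algebra.TensorProduct.comm k (X.presheaf.stalk x) K).toRingEquiv
        (RingEquiv.injective _)
    haveI := (isReduced_pullback_fromSpecStalk_iff f x hc K).mpr hred
    obtain ⟨w, hw1, -⟩ := Scheme.Pullback.exists_preimage_pullback (f := FBase.bcπ f K) (g := j) x'
      (IsLocalRing.closedPoint _) (hx'.trans (Scheme.fromSpecStalk_closedPoint).symm)
    have h1 : _root_.IsReduced ((pullback (FBase.bcπ f K) j).presheaf.stalk w) := inferInstance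
    have h2 := isReduced_stalk_of_flat (pullback.fst (FBase.bcπ f K) j) w h1
    rwa [hw1] at h2

/-- If `𝒪_{X,x}` is geometrically reduced, then all local rings of `X_K` at points over
generizations of `x` are reduced. -/
theorem isReduced_stalk_of_specializes_of_isGeometricallyReduced
    (hc : X.fromSpecStalk x ≫ f =
      Spec.map (CommRingCat.ofHom (algebraMap k (X.presheaf.stalk x))))
    (hgr : Algebra.IsGeometricallyReduced k (X.presheaf.stalk x))
    (K : Type u) [Field K] [Algebra k K] (y : ↥(FBase.bc f K)) (hy : (FBase.bcπ f K) y ⤳ x) :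
    _root_.IsReduced ((FBase.bc f K).presheaf.stalk y) := by
  set j := X.fromSpecStalk x
  haveI : _root_.IsReduced (K ⊗[k] (X.presheaf.stalk x)) :=
    Groth.Agent.Lib.Helper14.GeomReduced.isReduced_tensor_of_isGeometricallyReduced k _ K
  have hred : _root_.IsReduced ((X.presheaf.stalk x) ⊗[k] K) :=
    isReduced_of_injective (Algebra.TensorProduct.comm k (X.presheaf.stalk x) K).toRingEquiv
      (RingEquiv.injective _)
  haveI := (isReduced_pullback_fromSpecStalk_iff f x hc K).mpr hred
  have hmem : (FBase.bcπ f K) y ∈ Set.range j := by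
    rw [Scheme.range_fromSpecStalk]; exact hy
  obtain ⟨t, ht⟩ := hmem
  obtain ⟨w, hw1, -⟩ := Scheme.Pullback.exists_preimage_pullback (f := FBase.bcπ f K) (g := j) y
    t ht.symm
  have h1 : _root_.IsReduced ((pullback (FBase.bcπ f K) j).presheaf.stalk w) := inferInstance
  have h2 := isReduced_stalk_of_flat (pullback.fst (FBase.bcπ f K) j) w h1
  rwa [hw1] at h2

/-- Geometric reducedness at a point can be tested on finite purely inseparable extensions. -/
theorem isGeomReducedAt_of_forall_finite_purelyInseparable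
    (hc : X.fromSpecStalk x ≫ f =
      Spec.map (CommRingCat.ofHom (algebraMap k (X.presheaf.stalk x))))
    (h : ∀ (k' : Type u) [Field k'] [Algebra k k'] [FiniteDimensional k k']
      [IsPurelyInseparable k k'] (x' : ↥(FBase.bc f k')), (FBase.bcπ f k').base x' = x →
      _root_.IsReduced ((FBase.bc f k').presheaf.stalk x')) :
    FBase.IsGeomReducedAt f x := by
  rw [isGeomReducedAt_iff_stalk f x hc]
  apply Groth.Agent.Lib.Helper9.GeomRed.isGeometricallyReduced_of_finite_insep
  intro k' _ _ _ _
  haveI : Algebra.IsAlgebraic k k' := Algebra.IsAlgebraic.of_finite k k'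
  have h1 := isReduced_tensor_of_stalks f x hc k' (fun y' hy' => h k' y' hy')
  exact isReduced_of_injective
    (Algebra.TensorProduct.comm k k' (X.presheaf.stalk x)).toRingEquiv (RingEquiv.injective _)

/-- Over an algebraically closed field, geometric pointwise integrality at `x` is the same as
the local ring at `x` being a domain. -/
theorem isGeomPtIntegralAt_of_isDomain_stalk [IsAlgClosed k]
    (hc : X.fromSpecStalk x ≫ f =
      Spec.map (CommRingCat.ofHom (algebraMap k (X.presheaf.stalk x))))
    (hdom : IsDomain (X.presheaf.stalk x)) : FBase.IsGeomPtIntegralAt f x := by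
  intro K _ _ x' hx'
  set j := X.fromSpecStalk x
  haveI : IsDomain ((X.presheaf.stalk x) ⊗[k] K) :=
    Groth.Agent.Lib.Helper11.TensorDomain.isDomain_tensorProduct
  let e := pullbackFromSpecStalkIso f x hc K
  haveI : IsIntegral (Spec (CommRingCat.of ((X.presheaf.stalk x) ⊗[k] K))) := inferInstance
  haveI : IsIntegral (pullback (FBase.bcπ f K) j) := IsIntegral.of_isIso e.inv
  obtain ⟨w, hw1, -⟩ := Scheme.Pullback.exists_preimage_pullback (f := FBase.bcπ f K) (g := j) x'
    (IsLocalRing.closedPoint _) (hx'.trans (Scheme.fromSpecStalk_closedPoint).symm)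
  have h1 : IsDomain ((pullback (FBase.bcπ f K) j).presheaf.stalk w) := inferInstance
  have h2 := stalk_descend_of_flat (fun R _ => IsDomain R)
    (fun φ hφ h => isDomain_of_injective' φ hφ h) (pullback.fst (FBase.bcπ f K) j) w h1
  rwa [hw1] at h2

/-- Ascent of a property of local rings to `X_K` from the localizations of `𝒪_{X,x} ⊗ K`. -/
theorem stalk_of_tensor_localizations (P : ∀ (R : Type u) [CommRing R], Prop)
    (hP : ∀ {R S : Type u} [CommRing R] [CommRing S] [Algebra R S] [Module.FaithfullyFlat R S],
      P S → P R)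
    (hPiso : ∀ {R S : Type u} [CommRing R] [CommRing S] (_ : R ≃+* S), P R → P S)
    (hc : X.fromSpecStalk x ≫ f =
      Spec.map (CommRingCat.ofHom (algebraMap k (X.presheaf.stalk x))))
    (K : Type u) [Field K] [Algebra k K] (x' : ↥(FBase.bc f K)) (hx' : (FBase.bcπ f K).base x' = x)
    (hR : ∀ (q : Ideal ((X.presheaf.stalk x) ⊗[k] K)) [q.IsPrime], P (Localization.AtPrime q)) :
    P ((FBase.bc f K).presheaf.stalk x') := by
  set j := X.fromSpecStalk x
  let e := pullbackFromSpecStalkIso f x hc K
  obtain ⟨w, hw1, -⟩ := Scheme.Pullback.exists_preimage_pullback (f := FBase.bcπ f K) (g := j) x'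
    (IsLocalRing.closedPoint _) (hx'.trans (Scheme.fromSpecStalk_closedPoint).symm)
  let q : ↥(Spec (CommRingCat.of ((X.presheaf.stalk x) ⊗[k] K))) := e.hom w
  have h0 : P (Localization.AtPrime q.asIdeal) := hR q.asIdeal
  have h1 : P ((Spec (CommRingCat.of ((X.presheaf.stalk x) ⊗[k] K))).presheaf.stalk q) :=
    hPiso (AlgebraicGeometry.StructureSheaf.stalkIso
      (CommRingCat.of ((X.presheaf.stalk x) ⊗[k] K)) q).toRingEquiv h0
  have h2 := stalk_descend_of_flat' P hP e.inv q h1
  have h3 : e.inv q = w := by
    change e.inv (e.hom w) = w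
    rw [← Scheme.Hom.comp_apply, e.hom_inv_id]
    rfl
  rw [h3] at h2
  have h4 := stalk_descend_of_flat' P hP (pullback.fst (FBase.bcπ f K) j) w h2
  rwa [hw1] at h4

end StalkAlg

/-- Geometric reducedness at a point passes to generizations. -/
theorem isGeomReducedAt_of_specializes {x x' : X} (h : x' ⤳ x)
    (hx : FBase.IsGeomReducedAt f x) : FBase.IsGeomReducedAt f x' := by
  letI : Algebra k (X.presheaf.stalk x) :=
    (Spec.preimage (X.fromSpecStalk x ≫ f)).hom.toAlgebra
  have hc : X.fromSpecStalk x ≫ f =
      Spec.map (CommRingCat.ofHom (algebraMap k (X.presheaf.stalk x))) :=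
    (Spec.map_preimage _).symm
  have hgr := (isGeomReducedAt_iff_stalk f x hc).mp hx
  intro K _ _ y hy
  refine isReduced_stalk_of_specializes_of_isGeometricallyReduced f x hc hgr K y ?_
  have : (FBase.bcπ f K) y = x' := hy
  rw [this]; exact h

/-- A `k`-scheme is geometrically reduced iff it is geometrically reduced at every point. -/
theorem geometricallyReduced_iff_forall_isGeomReducedAt :
    GeometricallyReduced f ↔ ∀ x : X, FBase.IsGeomReducedAt f x := by
  constructor
  · intro h x K _ _ x' _
    have h1 := h.geometrically_isReduced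
    rw [geometrically_iff_of_commRing_of_isClosedUnderIsomorphisms] at h1
    haveI : AlgebraicGeometry.IsReduced (FBase.bc f K) := h1 K
    infer_instance
  · intro h
    refine ⟨?_⟩
    rw [geometrically_iff_of_commRing_of_isClosedUnderIsomorphisms]
    intro K _ _
    haveI : ∀ y : ↥(FBase.bc f K), _root_.IsReduced ((FBase.bc f K).presheaf.stalk y) :=
      fun y => h ((FBase.bcπ f K).base y) K y rfl
    exact isReduced_of_isReduced_stalk (FBase.bc f K)

/-- If `X_{k'}` is reduced for all finite purely inseparable `k'/k`, then `X` is geometrically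
reduced. -/
theorem geometricallyReduced_of_forall_finite_purelyInseparable
    (h : ∀ (k' : Type u) [Field k'] [Algebra k k'] [FiniteDimensional k k']
      [IsPurelyInseparable k k'], AlgebraicGeometry.IsReduced (FBase.bc f k')) :
    GeometricallyReduced f := by
  rw [geometricallyReduced_iff_forall_isGeomReducedAt]
  intro x
  letI : Algebra k (X.presheaf.stalk x) :=
    (Spec.preimage (X.fromSpecStalk x ≫ f)).hom.toAlgebra
  have hc : X.fromSpecStalk x ≫ f =
      Spec.map (CommRingCat.ofHom (algebraMap k (X.presheaf.stalk x))) :=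
    (Spec.map_preimage _).symm
  refine isGeomReducedAt_of_forall_finite_purelyInseparable f x hc ?_
  intro k' _ _ _ _ x' _
  haveI := h k'
  infer_instance

theorem isGeomPtIntegralAt_iff_isDomain_stalk [IsAlgClosed k] (x : X) :
    FBase.IsGeomPtIntegralAt f x ↔ IsDomain (X.presheaf.stalk x) := by
  constructor
  · intro h
    let ψ : X ⟶ FBase.bc f k := inv (FBase.bcπ f k)
    have hψ : ψ ≫ FBase.bcπ f k = 𝟙 X := IsIso.inv_hom_id _
    have hx : (FBase.bcπ f k).base (ψ x) = x := by
      change (ψ ≫ FBase.bcπ f k) x = x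
      rw [hψ]; rfl
    have h1 := h k (ψ x) hx
    have h2 := stalk_descend_of_flat (fun R _ => IsDomain R)
      (fun φ hφ h => isDomain_of_injective' φ hφ h) (FBase.bcπ f k) (ψ x) h1
    have hx' : (FBase.bcπ f k) (ψ x) = x := hx
    rwa [hx'] at h2
  · intro hdom
    letI : Algebra k (X.presheaf.stalk x) :=
      (Spec.preimage (X.fromSpecStalk x ≫ f)).hom.toAlgebra
    have hc : X.fromSpecStalk x ≫ f =
        Spec.map (CommRingCat.ofHom (algebraMap k (X.presheaf.stalk x))) :=
      (Spec.map_preimage _).symm
    exact isGeomPtIntegralAt_of_isDomain_stalk f x hc hdom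

/-- `Spec A ⟶ Spec k` is geometrically reduced when `A` is a geometrically reduced `k`-algebra. -/
theorem geometricallyReduced_SpecMap_of_algebra (k A : Type u) [Field k] [CommRing A] [Algebra k A]
    [Algebra.IsGeometricallyReduced k A] :
    GeometricallyReduced (Spec.map (CommRingCat.ofHom (algebraMap k A))) := by
  refine ⟨?_⟩
  rw [geometrically_iff_of_commRing_of_isClosedUnderIsomorphisms]
  intro L _ _
  haveI : _root_.IsReduced (L ⊗[k] A) :=
    Groth.Agent.Lib.Helper14.GeomReduced.isReduced_tensor_of_isGeometricallyReduced k A L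
  haveI : _root_.IsReduced (A ⊗[k] L) :=
    isReduced_of_injective (Algebra.TensorProduct.comm k A L).toRingEquiv
      (RingEquiv.injective _)
  have e := pullbackSpecIso k A L
  haveI : AlgebraicGeometry.IsReduced (Spec (CommRingCat.of (A ⊗[k] L))) :=
    inferInstance
  exact isReduced_of_isOpenImmersion e.hom

/-- Geometric reducedness at a point and products with reduced schemes. -/
theorem isReduced_stalk_pullback_of_isGeomReducedAt {Y : Scheme.{u}}
    (g : Y ⟶ Spec (CommRingCat.of k)) [AlgebraicGeometry.IsReduced Y] (x : X)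
    (hx : FBase.IsGeomReducedAt f x) (z : ↥(pullback f g)) (hz : (pullback.fst f g) z = x) :
    _root_.IsReduced ((pullback f g).presheaf.stalk z) := by
  letI : Algebra k (X.presheaf.stalk x) :=
    (Spec.preimage (X.fromSpecStalk x ≫ f)).hom.toAlgebra
  have hc : X.fromSpecStalk x ≫ f =
      Spec.map (CommRingCat.ofHom (algebraMap k (X.presheaf.stalk x))) :=
    (Spec.map_preimage _).symm
  haveI hgr := (isGeomReducedAt_iff_stalk f x hc).mp hx
  set j := X.fromSpecStalk x
  haveI : GeometricallyReduced (j ≫ f) := by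
    rw [hc]; exact geometricallyReduced_SpecMap_of_algebra k _
  have h1 : IsPullback (pullback.fst (pullback.fst f g) j) (pullback.snd (pullback.fst f g) j)
      (pullback.fst f g) j := IsPullback.of_hasPullback _ _
  have h2 : IsPullback (pullback.snd f g) (pullback.fst f g) g f :=
    (IsPullback.of_hasPullback f g).flip
  have h3 := (h1.paste_horiz h2).flip
  haveI := Groth.Agent.Lib.Helper6.GeomReducedProd.isReduced_pullback (j ≫ f) g
  haveI : AlgebraicGeometry.IsReduced (pullback (pullback.fst f g) j) :=
    isReduced_of_isOpenImmersion h3.isoPullback.hom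
  obtain ⟨w, hw1, -⟩ := Scheme.Pullback.exists_preimage_pullback (f := pullback.fst f g) (g := j)
    z (IsLocalRing.closedPoint _) (hz.trans (Scheme.fromSpecStalk_closedPoint).symm)
  have h4 : _root_.IsReduced ((pullback (pullback.fst f g) j).presheaf.stalk w) := inferInstance
  have h5 := isReduced_stalk_of_flat (pullback.fst (pullback.fst f g) j) w h4
  rwa [hw1] at h5

end Groth.Agent.Lib.Helper14.GeomRedAt
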