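import Mathlib
import Groth.Agent.Lib.Helper14.GeomRedAt

/-!
# Geometric reducedness from generic points (helper14)
-/

set_option autoImplicit false
universe u

open CategoryTheory CategoryTheory.Limits AlgebraicGeometry
open scoped TensorProduct

namespace Groth.Agent.Lib.Helper14.GeomRedGeneric

open Groth.Agent.Lib.Helper14.GeomRedAt

/-- If `A` maps jointly injectively into algebras `B i` with `B i ⊗ K` reduced, then `A ⊗ K` is
reduced. -/
theorem isReduced_tensor_of_jointly_injective {k A K : Type u} [Field k] [CommRing A] [Algebra k A]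
    [Field K] [Algebra k K] {ι : Type u} (B : ι → Type u) [∀ i, CommRing (B i)]
    [∀ i, Algebra k (B i)] (φ : ∀ i, A →ₐ[k] B i)
    (hinj : ∀ a : A, (∀ i, φ i a = 0) → a = 0)
    (hB : ∀ i, _root_.IsReduced (B i ⊗[k] K)) : _root_.IsReduced (A ⊗[k] K) := by
  classical
  let b := Module.Free.chooseBasis k K
  refine ⟨fun z hz => ?_⟩
  apply (Algebra.TensorProduct.basis A b).repr.injective
  ext j
  simp only [map_zero, Finsupp.coe_zero, Pi.zero_apply]
  apply hinj
  intro i
  haveI := hB i
  have h1 : IsNilpotent (Algebra.TensorProduct.map (φ i) (AlgHom.id k K) z) := hz.map _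
  have h2 : Algebra.TensorProduct.map (φ i) (AlgHom.id k K) z = 0 := h1.eq_zero
  have h3 := Groth.Agent.Lib.Helper9.GeomRed.repr_map b (φ i) z j
  rw [h2] at h3
  simpa using h3.symm

variable {k : Type u} [Field k] {X : Scheme.{u}} (f : X ⟶ Spec (CommRingCat.of k))

/-- The canonical `k`-algebra structure on a local ring of a `k`-scheme. -/
noncomputable abbrev stalkAlg (x : X) : Algebra k (X.presheaf.stalk x) :=
  (Spec.preimage (X.fromSpecStalk x ≫ f)).hom.toAlgebra

theorem stalkAlg_compat (x : X) :
    X.fromSpecStalk x ≫ f =
      Spec.map (CommRingCat.ofHom (@algebraMap k (X.presheaf.stalk x) _ _ (stalkAlg f x))) :=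
  (Spec.map_preimage _).symm

/-- `stalkSpecializes` as a `k`-algebra homomorphism. -/
noncomputable def stalkSpecializesAlgHom {x y : X} (h : y ⤳ x) :
    letI := stalkAlg f x
    letI := stalkAlg f y
    (X.presheaf.stalk x) →ₐ[k] (X.presheaf.stalk y) :=
  letI := stalkAlg f x
  letI := stalkAlg f y
  { (X.presheaf.stalkSpecializes h).hom with
    commutes' := by
      intro r
      have h1 : Spec.map (CommRingCat.ofHom (algebraMap k (X.presheaf.stalk x)) ≫
          X.presheaf.stalkSpecializes h) =
          Spec.map (CommRingCat.ofHom (algebraMap k (X.presheaf.stalk y))) := by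
        rw [Spec.map_comp, ← stalkAlg_compat f x, ← stalkAlg_compat f y,
          Scheme.SpecMap_stalkSpecializes_fromSpecStalk_assoc]
      have h2 := Spec.map_injective h1
      exact congrArg (fun ψ => ψ.hom r) h2 }

/-- An element of `𝒪_{X,x}` whose image in `𝒪_{X,y}` is a nonunit lies in the prime of `y`. -/
theorem mem_of_stalkSpecializes_mem {x y : X} (h : y ⤳ x) (a : X.presheaf.stalk x)
    (ha : (X.presheaf.stalkSpecializes h).hom a ∈ IsLocalRing.maximalIdeal (X.presheaf.stalk y))
    (p : ↥(Spec (X.presheaf.stalk x)))
    (hp : (X.fromSpecStalk x) p = y) : a ∈ p.asIdeal := by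
  have h1 : (Spec.map (X.presheaf.stalkSpecializes h)) (IsLocalRing.closedPoint _) = p := by
    have hinj : Function.Injective (X.fromSpecStalk x) :=
      (X.fromSpecStalk x).isEmbedding.injective
    apply hinj
    rw [← Scheme.Hom.comp_apply, Scheme.SpecMap_stalkSpecializes_fromSpecStalk, hp]
    exact Scheme.fromSpecStalk_closedPoint
  rw [← h1]
  change a ∈ Ideal.comap (X.presheaf.stalkSpecializes h).hom (IsLocalRing.maximalIdeal _)
  rw [Ideal.mem_comap]
  exact ha

/-- A reduced `k`-scheme which is geometrically reduced at the generic points of its irreducible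
components is geometrically reduced. -/
theorem geometricallyReduced_of_generic_points [AlgebraicGeometry.IsReduced X]
    (h : ∀ Z ∈ irreducibleComponents (X : Type u), ∀ η : X, IsGenericPoint η Z →
      FBase.IsGeomReducedAt f η) :
    GeometricallyReduced f := by
  rw [geometricallyReduced_iff_forall_isGeomReducedAt]
  intro x
  letI := stalkAlg f x
  rw [isGeomReducedAt_iff_stalk f x (stalkAlg_compat f x),
    Algebra.isGeometricallyReduced_field_iff]
  suffices hA : _root_.IsReduced ((X.presheaf.stalk x) ⊗[k] (AlgebraicClosure k)) from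
    isReduced_of_injective
      (Algebra.TensorProduct.comm k (AlgebraicClosure k) (X.presheaf.stalk x)).toRingEquiv
      (RingEquiv.injective _)
  let ι := {η : X // η ⤳ x ∧ ∃ Z ∈ irreducibleComponents (X : Type u), IsGenericPoint η Z}
  letI : ∀ η : ι, Algebra k (X.presheaf.stalk η.1) := fun η => stalkAlg f η.1
  refine isReduced_tensor_of_jointly_injective (ι := ι) (fun η => X.presheaf.stalk η.1)
    (fun η => stalkSpecializesAlgHom f η.2.1) ?_ ?_
  · intro a ha
    have hnil : a ∈ nilradical (X.presheaf.stalk x) := by
      rw [nilradical_eq_sInf, Ideal.mem_sInf]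
      intro P hP
      let p : ↥(Spec (X.presheaf.stalk x)) := ⟨P, hP⟩
      set x' := (X.fromSpecStalk x) p with hx'
      have hx'x : x' ⤳ x := by
        have : x' ∈ Set.range (X.fromSpecStalk x) := ⟨p, rfl⟩
        rwa [Scheme.range_fromSpecStalk] at this
      have hirr : IsIrreducible (irreducibleComponent x') := isIrreducible_irreducibleComponent
      set η := hirr.genericPoint with hη
      have hgen : IsGenericPoint η (irreducibleComponent x') := by
        have := hirr.isGenericPoint_genericPoint_closure
        rwa [isClosed_irreducibleComponent.closure_eq] at this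
      have hηx' : η ⤳ x' := by
        rw [specializes_iff_mem_closure, hgen.def]
        exact mem_irreducibleComponent
      have hηx : η ⤳ x := hηx'.trans hx'x
      let i : ι := ⟨η, hηx, irreducibleComponent x', irreducibleComponent_mem_irreducibleComponents x',
        hgen⟩
      have hai : (X.presheaf.stalkSpecializes hηx).hom a = 0 := ha i
      refine mem_of_stalkSpecializes_mem hx'x a ?_ p rfl
      by_contra hnot
      have hunit : IsUnit ((X.presheaf.stalkSpecializes hx'x).hom a) := by
        by_contra hnu
        exact hnot ((IsLocalRing.mem_maximalIdeal _).mpr hnu)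
      have hunit2 := hunit.map (X.presheaf.stalkSpecializes hηx').hom
      have hcomp : (X.presheaf.stalkSpecializes hηx').hom
          ((X.presheaf.stalkSpecializes hx'x).hom a) = (X.presheaf.stalkSpecializes hηx).hom a := by
        have := TopCat.Presheaf.stalkSpecializes_comp X.presheaf hηx' hx'x
        exact congrArg (fun ψ => ψ.hom a) this
      rw [hcomp, hai] at hunit2
      exact not_isUnit_zero hunit2
    have hred : _root_.IsReduced (X.presheaf.stalk x) := inferInstance
    have : nilradical (X.presheaf.stalk x) = ⊥ := nilradical_eq_zero _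
    rw [this] at hnil
    exact hnil
  · intro η
    obtain ⟨Z, hZ, hgen⟩ := η.2.2
    have h1 := h Z hZ η.1 hgen
    rw [isGeomReducedAt_iff_stalk f η.1 (stalkAlg_compat f η.1)] at h1
    haveI := h1
    haveI : _root_.IsReduced ((AlgebraicClosure k) ⊗[k] (X.presheaf.stalk η.1)) := inferInstance
    exact isReduced_of_injective
      (Algebra.TensorProduct.comm k (X.presheaf.stalk η.1) (AlgebraicClosure k)).toRingEquiv
      (RingEquiv.injective _)

end Groth.Agent.Lib.Helper14.GeomRedGeneric
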