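import Groth.Prelude.Def_CAlgX
import Mathlib

/-!
# Adic formal smoothness and completion of the target (helper14)
-/

set_option autoImplicit false
universe u

namespace Groth.Agent.Lib.Helper14

open CAlgX

section

variable {S : Type u} [CommRing S] (𝔫 : Ideal S)

lemma mem_map_of_evalₐ_eq_zero (h : 𝔫.FG) (m : ℕ) (z : AdicCompletion 𝔫 S)
    (hz : AdicCompletion.evalₐ 𝔫 m z = 0) :
    z ∈ (𝔫 ^ m).map (algebraMap S (AdicCompletion 𝔫 S)) := by
  have h' : 𝔫 ^ m ≤ 𝔫 ^ m • (⊤ : Ideal S) := by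
    intro x hx
    simpa using hx
  have h1 : AdicCompletion.eval 𝔫 S m z = 0 := by
    rw [← AdicCompletion.factor_evalₐ_eq_eval 𝔫 z h', hz, map_zero]
  have h2 : z ∈ (𝔫 ^ m • ⊤ : Submodule S (AdicCompletion 𝔫 S)) := by
    rw [AdicCompletion.pow_smul_top_eq_ker_eval h]
    exact h1
  rw [Ideal.smul_top_eq_map] at h2
  exact h2

lemma evalₐ_eq_zero_of_mem_map (m : ℕ) (z : AdicCompletion 𝔫 S)
    (hz : z ∈ (𝔫 ^ m).map (algebraMap S (AdicCompletion 𝔫 S))) :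
    AdicCompletion.evalₐ 𝔫 m z = 0 := by
  have hle : (𝔫 ^ m).map (algebraMap S (AdicCompletion 𝔫 S)) ≤
      RingHom.ker (AdicCompletion.evalₐ 𝔫 m).toRingHom := by
    rw [Ideal.map_le_iff_le_comap]
    intro s hs
    rw [Ideal.mem_comap, RingHom.mem_ker]
    change AdicCompletion.evalₐ 𝔫 m (algebraMap S (AdicCompletion 𝔫 S) s) = 0
    rw [AdicCompletion.algebraMap_apply, AdicCompletion.evalₐ_of,
      Algebra.algebraMap_self, RingHom.id_apply]
    exact Ideal.Quotient.eq_zero_iff_mem.mpr hs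
  exact hle hz

end

variable {R S : Type u} [CommRing R] [CommRing S] [Algebra R S] (𝔫 : Ideal S)

theorem isAdicFormallySmooth_iff_adicCompletion (h𝔫 : 𝔫.FG) :
    IsAdicFormallySmooth R S 𝔫 ↔
      IsAdicFormallySmooth R (AdicCompletion 𝔫 S)
        (𝔫.map (algebraMap S (AdicCompletion 𝔫 S))) := by
  constructor
  · intro H A _ _ J hJ ψ' ⟨k, hk⟩
    let can : S →ₐ[R] AdicCompletion 𝔫 S := IsScalarTower.toAlgHom R S (AdicCompletion 𝔫 S)
    let ψ : S →ₐ[R] A ⧸ J := ψ'.comp can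
    have hψ : ∀ x ∈ 𝔫 ^ k, ψ x = 0 := by
      intro x hx
      apply hk
      rw [← Ideal.map_pow]
      exact Ideal.mem_map_of_mem _ hx
    obtain ⟨χ, hχ⟩ := H A J hJ ψ ⟨k, hψ⟩
    have hχJ : ∀ x ∈ 𝔫 ^ k, χ x ∈ J := by
      intro x hx
      rw [← Ideal.Quotient.eq_zero_iff_mem]
      have := AlgHom.congr_fun hχ x
      simp only [AlgHom.coe_comp, Function.comp_apply, Ideal.Quotient.mkₐ_eq_mk] at this
      rw [this]
      exact hψ x hx
    have hkill : ∀ x ∈ 𝔫 ^ (k + k), χ x = 0 := by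
      intro x hx
      rw [pow_add] at hx
      refine Submodule.mul_induction_on hx ?_ ?_
      · intro y hy z hz
        rw [map_mul]
        have : χ y * χ z ∈ J ^ 2 := by
          rw [pow_two]
          exact Ideal.mul_mem_mul (hχJ y hy) (hχJ z hz)
        rw [hJ] at this
        exact this
      · intro y z hy hz
        rw [map_add, hy, hz, add_zero]
    let χ₀ : S ⧸ 𝔫 ^ (k + k) →ₐ[R] A := Ideal.Quotient.liftₐ (𝔫 ^ (k + k)) χ hkill
    let ev : AdicCompletion 𝔫 S →ₐ[R] S ⧸ 𝔫 ^ (k + k) :=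
      (AdicCompletion.evalₐ 𝔫 (k + k)).restrictScalars R
    refine ⟨χ₀.comp ev, ?_⟩
    ext z
    obtain ⟨s, hs⟩ := Ideal.Quotient.mk_surjective (AdicCompletion.evalₐ 𝔫 (k + k) z)
    have hz0 : AdicCompletion.evalₐ 𝔫 (k + k) (z - algebraMap S (AdicCompletion 𝔫 S) s) = 0 := by
      rw [map_sub, AdicCompletion.algebraMap_apply, AdicCompletion.evalₐ_of,
        Algebra.algebraMap_self, RingHom.id_apply, hs, sub_self]
    have hmem := mem_map_of_evalₐ_eq_zero 𝔫 h𝔫 (k + k) _ hz0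
    have hmem' : z - algebraMap S (AdicCompletion 𝔫 S) s ∈
        (𝔫.map (algebraMap S (AdicCompletion 𝔫 S))) ^ k := by
      rw [← Ideal.map_pow]
      exact Ideal.map_mono (Ideal.pow_le_pow_right (Nat.le_add_left k k)) hmem
    have h1 : ψ' (z - algebraMap S (AdicCompletion 𝔫 S) s) = 0 := hk _ hmem'
    rw [map_sub, sub_eq_zero] at h1
    simp only [AlgHom.coe_comp, Function.comp_apply, Ideal.Quotient.mkₐ_eq_mk]
    rw [h1]
    have h2 : ev z = Ideal.Quotient.mk _ s := hs.symm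
    rw [h2]
    have h3 : χ₀ (Ideal.Quotient.mk _ s) = χ s := Ideal.Quotient.liftₐ_apply _ _ _ _
    rw [h3]
    have := AlgHom.congr_fun hχ s
    simp only [AlgHom.coe_comp, Function.comp_apply, Ideal.Quotient.mkₐ_eq_mk] at this
    rw [this]
    rfl
  · intro H A _ _ J hJ ψ ⟨k, hk⟩
    let can : S →ₐ[R] AdicCompletion 𝔫 S := IsScalarTower.toAlgHom R S (AdicCompletion 𝔫 S)
    let ψ₀ : S ⧸ 𝔫 ^ k →ₐ[R] A ⧸ J := Ideal.Quotient.liftₐ (𝔫 ^ k) ψ hk
    let ev : AdicCompletion 𝔫 S →ₐ[R] S ⧸ 𝔫 ^ k :=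
      (AdicCompletion.evalₐ 𝔫 k).restrictScalars R
    let ψ' : AdicCompletion 𝔫 S →ₐ[R] A ⧸ J := ψ₀.comp ev
    have hψ' : ∀ x ∈ (𝔫.map (algebraMap S (AdicCompletion 𝔫 S))) ^ k, ψ' x = 0 := by
      intro x hx
      rw [← Ideal.map_pow] at hx
      have := evalₐ_eq_zero_of_mem_map 𝔫 k x hx
      change ψ₀ (AdicCompletion.evalₐ 𝔫 k x) = 0
      rw [this, map_zero]
    obtain ⟨χ', hχ'⟩ := H A J hJ ψ' ⟨k, hψ'⟩
    refine ⟨χ'.comp can, ?_⟩
    ext s
    have := AlgHom.congr_fun hχ' (can s)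
    simp only [AlgHom.coe_comp, Function.comp_apply, Ideal.Quotient.mkₐ_eq_mk] at this ⊢
    rw [this]
    change ψ₀ (AdicCompletion.evalₐ 𝔫 k (algebraMap S (AdicCompletion 𝔫 S) s)) = ψ s
    rw [AdicCompletion.algebraMap_apply, AdicCompletion.evalₐ_of,
      Algebra.algebraMap_self, RingHom.id_apply]
    exact Ideal.Quotient.liftₐ_apply _ _ _ _

end Groth.Agent.Lib.Helper14
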