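import Mathlib

/-!
Universal property of the adic completion of an algebra with values in an adically complete algebra.
-/

namespace Groth.Agent.Lib.Helper14.AdicLift

open AdicCompletion

variable {R : Type*} [CommRing R] {C : Type*} [CommRing C] [Algebra R C] {B : Type*} [CommRing B]
  [Algebra R B] (J : Ideal C) (K : Ideal B) (g : C →ₐ[R] B)

theorem pow_le_comap (hg : J ≤ K.comap g) (n : ℕ) : J ^ n ≤ (K ^ n).comap g :=
  le_trans (Ideal.pow_right_mono hg n) (Ideal.le_comap_pow _ n)

/-- The level-`n` map. -/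
noncomputable def levelMap (hg : J ≤ K.comap g) (n : ℕ) : AdicCompletion J C →ₐ[R] B ⧸ K ^ n :=
  (Ideal.quotientMapₐ (K ^ n) g (pow_le_comap J K g hg n)).comp
    ((evalₐ J n).restrictScalars R)

theorem levelMap_apply_of_eval (hg : J ≤ K.comap g) {n : ℕ} (x : AdicCompletion J C) (c : C)
    (h : evalₐ J n x = Ideal.Quotient.mk _ c) :
    levelMap J K g hg n x = Ideal.Quotient.mk _ (g c) := by
  simp [levelMap, h]

theorem evalₐ_factor {m n : ℕ} (hle : m ≤ n) (x : AdicCompletion J C) (c : C)
    (h : evalₐ J n x = Ideal.Quotient.mk _ c) : evalₐ J m x = Ideal.Quotient.mk _ c := by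
  have h1 : Ideal.Quotient.factor (Ideal.pow_le_pow_right hle) (evalₐ J n x) = evalₐ J m x := by
    obtain ⟨y, rfl⟩ := AdicCompletion.mk_surjective J C x
    simp only [evalₐ_mk]
    rw [Ideal.Quotient.factor_mk]
    exact (AdicCompletion.Ideal.mk_eq_mk J hle y)
  rw [← h1, h, Ideal.Quotient.factor_mk]

theorem levelMap_compat (hg : J ≤ K.comap g) {m n : ℕ} (hle : m ≤ n) :
    (Ideal.Quotient.factorₐ R (Ideal.pow_le_pow_right hle)).comp (levelMap J K g hg n) =
      levelMap J K g hg m := by
  ext x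
  obtain ⟨c, hc⟩ := Ideal.Quotient.mk_surjective (evalₐ J n x)
  have hm := evalₐ_factor J hle x c hc.symm
  rw [AlgHom.comp_apply, levelMap_apply_of_eval J K g hg x c hc.symm,
    levelMap_apply_of_eval J K g hg x c hm]
  simp

variable [IsAdicComplete K B]

/-- The lift of `g` to the completion. -/
noncomputable def lift (hg : J ≤ K.comap g) : AdicCompletion J C →ₐ[R] B :=
  IsAdicComplete.liftAlgHom K (levelMap J K g hg) (fun hle => levelMap_compat J K g hg hle)

theorem mk_lift (hg : J ≤ K.comap g) (n : ℕ) (x : AdicCompletion J C) :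
    Ideal.Quotient.mk (K ^ n) (lift J K g hg x) = levelMap J K g hg n x :=
  IsAdicComplete.mk_liftAlgHom K _ (fun hle => levelMap_compat J K g hg hle) n x

theorem lift_of (hg : J ≤ K.comap g) (c : C) : lift J K g hg (of J C c) = g c := by
  have hH : IsHausdorff K B := inferInstance
  rw [← sub_eq_zero]
  apply hH.haus
  intro n
  rw [SModEq.zero, smul_eq_mul, Ideal.mul_top, ← Ideal.Quotient.eq_zero_iff_mem, map_sub,
    mk_lift, levelMap_apply_of_eval J K g hg (of J C c) c (by simp), sub_self]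

omit [IsAdicComplete K B] in
theorem of_pow_mem (ψ : AdicCompletion J C →ₐ[R] B) (hψ : ∀ c ∈ J, ψ (of J C c) ∈ K) :
    ∀ (n : ℕ) (j : C), j ∈ J ^ n → ψ (of J C j) ∈ K ^ n := by
  intro n
  induction n with
  | zero => intro j _; simp
  | succ n ih =>
    intro j hj
    rw [pow_succ] at hj
    induction hj using Submodule.mul_induction_on' with
    | mem_mul_mem a ha b hb =>
      have : of J C (a * b) = of J C a * of J C b := by
        have := map_mul (algebraMap C (AdicCompletion J C)) a b
        exact this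
      rw [this, map_mul, pow_succ]
      exact Ideal.mul_mem_mul (ih a ha) (hψ b hb)
    | add a _ b _ ha hb => rw [map_add, map_add]; exact Ideal.add_mem _ ha hb

omit [IsAdicComplete K B] in
theorem map_mem_pow (ψ : AdicCompletion J C →ₐ[R] B) (hψ : ∀ c ∈ J, ψ (of J C c) ∈ K) (n : ℕ)
    (y : AdicCompletion J C) (hy : y ∈ (J ^ n • ⊤ : Submodule C (AdicCompletion J C))) :
    ψ y ∈ K ^ n := by
  induction hy using Submodule.smul_induction_on' with
  | smul j hj z _ =>
    have : j • z = of J C j * z := by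
      rw [Algebra.smul_def]; rfl
    rw [this, map_mul]
    apply Ideal.mul_mem_right
    exact of_pow_mem J K ψ hψ n j hj
  | add a _ b _ ha hb => rw [map_add]; exact Ideal.add_mem _ ha hb

omit [IsAdicComplete K B] in
/-- Uniqueness: two algebra maps out of the completion which agree on `C` are equal
(for finitely generated `J`, Hausdorff target). -/
theorem algHom_ext_of [IsHausdorff K B] (hJ : J.FG) (ψ₁ ψ₂ : AdicCompletion J C →ₐ[R] B)
    (h1 : ∀ c ∈ J, ψ₁ (of J C c) ∈ K)
    (h12 : ∀ c, ψ₁ (of J C c) = ψ₂ (of J C c)) : ψ₁ = ψ₂ := by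
  have hH : IsHausdorff K B := inferInstance
  have h2 : ∀ c ∈ J, ψ₂ (of J C c) ∈ K := fun c hc => h12 c ▸ h1 c hc
  ext x
  rw [← sub_eq_zero]
  apply hH.haus
  intro n
  rw [SModEq.zero, smul_eq_mul, Ideal.mul_top]
  obtain ⟨c, hc⟩ := Ideal.Quotient.mk_surjective (evalₐ J n x)
  have hx : x - of J C c ∈ (J ^ n • ⊤ : Submodule C (AdicCompletion J C)) := by
    rw [AdicCompletion.pow_smul_top_eq_ker_eval hJ, LinearMap.mem_ker, map_sub]
    have := factor_evalₐ_eq_eval J (n := n) (x - of J C c) (le_of_eq (by simp))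
    rw [← map_sub, ← this, map_sub, ← hc]
    simp
  have e1 := map_mem_pow J K ψ₁ h1 n _ hx
  have e2 := map_mem_pow J K ψ₂ h2 n _ hx
  rw [map_sub] at e1 e2
  have : ψ₁ x - ψ₂ x = (ψ₁ x - ψ₁ (of J C c)) - (ψ₂ x - ψ₂ (of J C c)) := by
    rw [h12 c]; ring
  rw [this]
  exact Ideal.sub_mem _ e1 e2

end Groth.Agent.Lib.Helper14.AdicLift
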