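import Mathlib.RingTheory.Smooth.Kaehler
import Mathlib.RingTheory.Smooth.Basic

/-!
# Injectivity of `I/I² → A ⊗_P Ω_{P/R}` when `A = P/I` is formally smooth over `R`

`kerCotangentToTensor_injective_of_section`: if `P/I² → A` has an `R`-algebra section then
`I/I² → A ⊗_P Ω_{P/R}` is (split) injective.

`kerCotangentToTensor_injective_of_formallySmooth`: this holds in particular when `A` is formally
smooth over `R` (no assumption on `P`).
-/

set_option autoImplicit false

namespace Groth.Agent.Lib.Helper14

open KaehlerDifferential

variable {R P A : Type*} [CommRing R] [CommRing P] [CommRing A] [Algebra R P] [Algebra P A]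
  [Algebra R A] [IsScalarTower R P A]

theorem kerCotangentToTensor_injective_of_section
    (hf : Function.Surjective (algebraMap P A))
    (g : A →ₐ[R] P ⧸ (RingHom.ker (algebraMap P A) ^ 2))
    (hg : (IsScalarTower.toAlgHom R P A).kerSquareLift.comp g = AlgHom.id R A) :
    Function.Injective (kerCotangentToTensor R P A) := by
  obtain ⟨l, hl⟩ := (retractionKerCotangentToTensorEquivSection (R := R) hf).symm ⟨g, hg⟩
  intro x y hxy
  have := congrArg l hxy
  rwa [← LinearMap.comp_apply, ← LinearMap.comp_apply, hl] at this

theorem kerCotangentToTensor_injective_of_formallySmooth [Algebra.FormallySmooth R A]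
    (hf : Function.Surjective (algebraMap P A)) :
    Function.Injective (kerCotangentToTensor R P A) := by
  have hsurj : Function.Surjective (IsScalarTower.toAlgHom R P A).kerSquareLift := by
    intro a
    obtain ⟨p, rfl⟩ := hf a
    exact ⟨Ideal.Quotient.mk _ p, rfl⟩
  have hnil : IsNilpotent (RingHom.ker
      ((IsScalarTower.toAlgHom R P A).kerSquareLift :
        P ⧸ (RingHom.ker (IsScalarTower.toAlgHom R P A).toRingHom ^ 2) →+* A)) := by
    refine ⟨2, ?_⟩
    have := (IsScalarTower.toAlgHom R P A).ker_kerSquareLift
    rw [show RingHom.ker ((IsScalarTower.toAlgHom R P A).kerSquareLift :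
        P ⧸ (RingHom.ker (IsScalarTower.toAlgHom R P A).toRingHom ^ 2) →+* A) =
        RingHom.ker (IsScalarTower.toAlgHom R P A).kerSquareLift.toRingHom from rfl, this,
      Ideal.cotangentIdeal_square, Ideal.zero_eq_bot]
  exact kerCotangentToTensor_injective_of_section hf
    (Algebra.FormallySmooth.liftOfSurjective (AlgHom.id R A)
      (IsScalarTower.toAlgHom R P A).kerSquareLift hsurj hnil)
    (Algebra.FormallySmooth.comp_liftOfSurjective _ _ hsurj hnil)

end Groth.Agent.Lib.Helper14
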