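import Mathlib

/-!
# Local algebras essentially of finite type

* `essPrime A B`: for a local `A`-algebra `B` essentially of finite type, the prime of the chosen
  finite type subalgebra `B₀` with `B = (B₀)_q`.
* `atPrimeLift ψ`: for `ψ : R →ₐ[A] B` with `B` local, the induced map `R_𝔮 →ₐ[A] B`, where
  `𝔮 = ψ⁻¹ m_B`; criteria for surjectivity / bijectivity.
-/

open IsLocalRing

namespace Groth.Agent.Lib.Helper14

universe u v w

section essPrime

variable (A : Type u) (B : Type v) [CommRing A] [CommRing B] [Algebra A B] [IsLocalRing B]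
  [Algebra.EssFiniteType A B]

/-- The prime of the finite type subalgebra at which `B` is the localization. -/
noncomputable def essPrime : Ideal (Algebra.EssFiniteType.subalgebra A B) :=
  (maximalIdeal B).comap (algebraMap (Algebra.EssFiniteType.subalgebra A B) B)

instance : (essPrime A B).IsPrime := by
  unfold essPrime
  infer_instance

theorem essSubmonoid_eq :
    Algebra.EssFiniteType.submonoid A B = (essPrime A B).primeCompl := by
  ext x
  simp only [Algebra.EssFiniteType.submonoid, Submonoid.mem_comap, IsUnit.mem_submonoid_iff,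
    essPrime, Ideal.mem_primeCompl_iff, Ideal.mem_comap, mem_maximalIdeal, mem_nonunits_iff,
    not_not]

instance essPrime_isLocalization : IsLocalization.AtPrime B (essPrime A B) := by
  have h : IsLocalization (Algebra.EssFiniteType.submonoid A B) B := inferInstance
  rwa [essSubmonoid_eq] at h

end essPrime

section atPrimeLift

variable {A : Type u} {R : Type v} {B : Type w} [CommRing A] [CommRing R] [CommRing B]
  [Algebra A R] [Algebra A B] [IsLocalRing B] (ψ : R →ₐ[A] B)

/-- The preimage of the maximal ideal. -/
def comapMax : Ideal R := (maximalIdeal B).comap ψ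

instance : (comapMax ψ).IsPrime := by
  unfold comapMax
  infer_instance

theorem isUnit_of_notMem_comapMax {x : R} (hx : x ∉ comapMax ψ) : IsUnit (ψ x) := by
  simpa [comapMax] using hx

theorem notMem_comapMax_of_isUnit {x : R} (hx : IsUnit (ψ x)) : x ∉ comapMax ψ := by
  simpa [comapMax] using hx

/-- The induced map on the localization. -/
noncomputable def atPrimeLift : Localization.AtPrime (comapMax ψ) →ₐ[A] B :=
  IsLocalization.liftAlgHom (M := (comapMax ψ).primeCompl) (f := ψ)
    (fun y => isUnit_of_notMem_comapMax ψ y.2)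

theorem atPrimeLift_algebraMap (x : R) :
    atPrimeLift ψ (algebraMap R (Localization.AtPrime (comapMax ψ)) x) = ψ x := by
  simp [atPrimeLift]

theorem atPrimeLift_surjective
    (h : ∀ b : B, ∃ x s : R, IsUnit (ψ s) ∧ b * ψ s = ψ x) :
    Function.Surjective (atPrimeLift ψ) := by
  intro b
  obtain ⟨x, s, hs, hb⟩ := h b
  let s' : (comapMax ψ).primeCompl := ⟨s, notMem_comapMax_of_isUnit ψ hs⟩
  refine ⟨IsLocalization.mk' _ x s', ?_⟩
  have h1 : atPrimeLift ψ (IsLocalization.mk' (Localization.AtPrime (comapMax ψ)) x s') * ψ s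
      = ψ x := by
    rw [← atPrimeLift_algebraMap ψ s, ← map_mul]
    rw [show (s : R) = (s' : R) from rfl, IsLocalization.mk'_spec, atPrimeLift_algebraMap]
  exact hs.mul_left_injective (h1.trans hb.symm)

theorem atPrimeLift_injective
    (h : ∀ a : R, ψ a = 0 → ∃ c : R, IsUnit (ψ c) ∧ c * a = 0) :
    Function.Injective (atPrimeLift ψ) := by
  rw [injective_iff_map_eq_zero]
  intro z hz
  obtain ⟨a, s, rfl⟩ := IsLocalization.exists_mk'_eq (comapMax ψ).primeCompl z
  have h1 : ψ a = 0 := by
    have := congrArg (· * ψ s) hz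
    simp only [zero_mul] at this
    rwa [← atPrimeLift_algebraMap ψ (s : R), ← map_mul, IsLocalization.mk'_spec,
      atPrimeLift_algebraMap] at this
  obtain ⟨c, hc, hca⟩ := h a h1
  rw [IsLocalization.mk'_eq_zero_iff]
  exact ⟨⟨c, notMem_comapMax_of_isUnit ψ hc⟩, hca⟩

end atPrimeLift

end Groth.Agent.Lib.Helper14
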