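import Mathlib
import Groth.Prelude.Def_Found
import Groth.Prelude.Def_Coh
import Groth.Agent.Lib.Helper21.GeomRegB
import Groth.Agent.Lib.Helper21.JacAdicB
import Groth.Agent.Lib.Helper21.CohenStructD
import Groth.Agent.Lib.Helper26.RegularSch
import Groth.Agent.Lib.Helper8.SmoothLocusBC

/-!
# Geometric regularity at a point vs the smooth locus (helper14)
-/

set_option autoImplicit false
universe u
open CategoryTheory CategoryTheory.Limits AlgebraicGeometry TopologicalSpace IsLocalRing

namespace Groth.Agent.Lib.Helper14.GeomRegSmooth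

theorem formallySmooth_of_isGeometricallyRegular_local (k A : Type u) [Field k] [CommRing A]
    [IsLocalRing A] [IsNoetherianRing A] [Algebra k A] [Algebra.EssFiniteType k A]
    (h : CAlg.IsGeometricallyRegular k A) : Algebra.FormallySmooth k A := by
  have h1 := Groth.Agent.Lib.Helper21.GeomReg.forall_adicFS_of_isGeometricallyRegular k A h
    (maximalIdeal A)
  let e₀ : A ≃ₐ[A] Localization.AtPrime (maximalIdeal A) :=
    IsLocalization.atUnits A (maximalIdeal A).primeCompl (fun x hx => by
      have : x ∉ maximalIdeal A := hx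
      rwa [mem_maximalIdeal, mem_nonunits_iff, not_not] at this)
  let e : Localization.AtPrime (maximalIdeal A) ≃ₐ[k] A := (e₀.restrictScalars k).symm
  have h2 : CAlgX.IsAdicFormallySmooth k A (maximalIdeal A) := by
    refine Groth.Agent.Lib.Helper21.CohenStruct.isAdicFormallySmooth_of_equiv h1 e ?_
    apply IsLocalRing.le_maximalIdeal
    intro htop
    have : (maximalIdeal (Localization.AtPrime (maximalIdeal A))) = ⊤ := by
      rw [Ideal.eq_top_iff_one] at htop ⊢
      obtain ⟨y, hy, hy1⟩ := (Ideal.mem_map_iff_of_surjective (e : Localization.AtPrime (maximalIdeal A) →+* A)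
        e.surjective).mp htop
      have : y = 1 := e.injective (by rw [map_one]; exact hy1)
      rw [← this]; exact hy
    exact (maximalIdeal.isMaximal _).ne_top this
  exact Groth.Agent.Lib.Helper21.JacAdic.formallySmooth_of_isAdicFormallySmooth_of_essFiniteType h2

theorem isRegularLocalRing_stalk_of_mem_smoothLocus (K : Type u) [Field K] {Y : Scheme.{u}}
    (g : Y ⟶ Spec (CommRingCat.of K)) [LocallyOfFinitePresentation g] (y : Y)
    (hy : y ∈ g.smoothLocus) : IsRegularLocalRing (Y.presheaf.stalk y) := by
  haveI : Smooth (g.smoothLocus.ι ≫ g) := by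
    rw [← Scheme.Hom.smoothLocus_eq_top_iff, ← Scheme.Hom.preimage_smoothLocus_eq]
    exact g.smoothLocus.ι_preimage_self
  rw [Groth.Agent.Lib.Helper26.RegularSch.isRegularLocalRing_stalk_iff_of_smooth_nhd g y
    g.smoothLocus hy]
  exact Groth.Agent.Lib.Helper26.RegularSch.isRegularLocalRing_stalk_of_smooth_field K (𝟙 _) _

/-- The structure map `k → O_{Spec k, pt}`. -/
noncomputable def toStalkSpec (k : Type u) [Field k] (pt : Spec (CommRingCat.of k)) :
    k →+* (Spec (CommRingCat.of k)).presheaf.stalk pt :=
  ((Spec (CommRingCat.of k)).presheaf.germ ⊤ pt trivial).hom.comp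
    (Scheme.ΓSpecIso (CommRingCat.of k)).inv.hom

set_option backward.isDefEq.respectTransparency false in
theorem toStalkSpec_bijective (k : Type u) [Field k] (pt : Spec (CommRingCat.of k)) :
    Function.Bijective (toStalkSpec k pt) := by
  let p : PrimeSpectrum k := pt
  let K' := (Spec.structureSheaf k).presheaf.stalk p
  let e : k ≃ₐ[k] K' := IsLocalization.atUnits _ p.asIdeal.primeCompl
      (fun x hx ↦ by aesop (add simp IsUnit.mem_submonoid_iff))
  have : (toStalkSpec k pt : k → _) = e := by
    ext c
    rfl
  rw [this]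
  exact e.bijective

section
variable {k : Type u} [Field k] {X : Scheme.{u}} (f : X ⟶ Spec (CommRingCat.of k))

/-- The structure map `k → O_{X,x}` of a `k`-scheme. -/
noncomputable def stalkStr (x : X) : k →+* X.presheaf.stalk x :=
  (X.presheaf.germ ⊤ x trivial).hom.comp (Coh.toGlobal f)

theorem stalkStr_eq (x : X) :
    stalkStr f x = (f.stalkMap x).hom.comp (toStalkSpec k (f.base x)) := by
  ext c
  simp only [stalkStr, toStalkSpec, Coh.toGlobal, RingHom.comp_apply]
  exact (Scheme.Hom.germ_stalkMap_apply f ⊤ x trivial _).symm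

theorem essFiniteType_stalkStr [LocallyOfFiniteType f] (x : X) :
    (stalkStr f x).EssFiniteType := by
  rw [stalkStr_eq]
  refine RingHom.EssFiniteType.comp ?_ (LocallyOfFiniteType.stalkMap f x)
  exact RingHom.FiniteType.essFiniteType
    (RingHom.FiniteType.of_surjective _ (toStalkSpec_bijective k _).2)

theorem mem_smoothLocus_of_formallySmooth_stalkStr [LocallyOfFinitePresentation f] (x : X)
    (h : (stalkStr f x).FormallySmooth) : x ∈ f.smoothLocus := by
  rw [Scheme.Hom.mem_smoothLocus]
  let e : k ≃+* (Spec (CommRingCat.of k)).presheaf.stalk (f.base x) :=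
    RingEquiv.ofBijective (toStalkSpec k (f.base x)) (toStalkSpec_bijective k _)
  let es : (Spec (CommRingCat.of k)).presheaf.stalk (f.base x) →+* k := e.symm.toRingHom
  have h1 : es.FormallySmooth := RingHom.FormallySmooth.of_bijective e.symm.bijective
  have h2 : ((stalkStr f x).comp es).FormallySmooth := h1.comp h
  have h3 : (stalkStr f x).comp es = (f.stalkMap x).hom := by
    rw [stalkStr_eq]
    ext z
    simp only [RingHom.comp_apply]
    congr 1
    exact e.apply_symm_apply z
  rw [← h3]
  exact h2

end

end Groth.Agent.Lib.Helper14.GeomRegSmooth
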