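import Mathlib
import Groth.Agent.Lib.Helper14.GeomRegSmooth
import Groth.Agent.Lib.Helper14.GeomRedGeneric
import Groth.Agent.Lib.Helper9.RegLocal

/-!
# Geometrically reduced iff generically smooth, for reduced schemes locally of finite type over a
field (helper14)
-/

set_option autoImplicit false
universe u
open CategoryTheory CategoryTheory.Limits AlgebraicGeometry TopologicalSpace IsLocalRing

namespace Groth.Agent.Lib.Helper14.DenseSmooth

/-- In a locally Noetherian scheme, a dense open contains the generic points of the irreducible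
components. -/
theorem genericPoint_mem_of_dense {X : Scheme.{u}} [IsLocallyNoetherian X] (U : X.Opens)
    (hU : Dense (U : Set X)) (Z : Set X) (hZ : Z ∈ irreducibleComponents X) (η : X)
    (hη : IsGenericPoint η Z) : η ∈ U := by
  have hηZ : η ∈ Z := hη.mem
  obtain ⟨_, ⟨W, hW, rfl⟩, hηW, -⟩ := X.isBasis_affineOpens.exists_subset_of_mem_open
    (Set.mem_univ η) isOpen_univ
  haveI : IsNoetherianRing Γ(X, W) := IsLocallyNoetherian.component_noetherian ⟨W, hW⟩
  haveI : NoetherianSpace W := noetherianSpace_of_isAffineOpen W hW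
  have hemb : Topology.IsOpenEmbedding (Subtype.val : W → X) := W.isOpen.isOpenEmbedding_subtypeVal
  have hZW : (Subtype.val : W → X) ⁻¹' Z ∈ irreducibleComponents W :=
    preimage_mem_irreducibleComponents hZ hemb ⟨η, hηZ, ⟨⟨η, hηW⟩, rfl⟩⟩
  obtain ⟨o, ho, ⟨z, hz⟩, hoZ⟩ :=
    NoetherianSpace.exists_isOpen_nonempty_subset_irreducibleComponent _ hZW
  have ho' : IsOpen ((Subtype.val : W → X) '' o) := hemb.isOpenMap o ho
  obtain ⟨y, hyo, hyU⟩ := hU.inter_open_nonempty _ ho' ⟨z.1, z, hz, rfl⟩
  obtain ⟨w, hw, rfl⟩ := hyo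
  have hwZ : (w : X) ∈ Z := hoZ hw
  have hsp : η ⤳ (w : X) := hη.specializes hwZ
  exact hsp.mem_open U.isOpen hyU

theorem smooth_smoothLocus_ι {X Y : Scheme.{u}} (g : X ⟶ Y) [LocallyOfFinitePresentation g] :
    Smooth (g.smoothLocus.ι ≫ g) := by
  rw [← Scheme.Hom.smoothLocus_eq_top_iff, ← Scheme.Hom.preimage_smoothLocus_eq]
  exact g.smoothLocus.ι_preimage_self

theorem le_smoothLocus_of_smooth {X Y : Scheme.{u}} (g : X ⟶ Y) [LocallyOfFinitePresentation g]
    (U : X.Opens) [Smooth (U.ι ≫ g)] : U ≤ g.smoothLocus := by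
  have h1 : (U.ι ≫ g).smoothLocus = ⊤ := Scheme.Hom.smoothLocus_eq_top_iff.mpr inferInstance
  rw [← Scheme.Hom.preimage_smoothLocus_eq] at h1
  intro x hx
  have : (⟨x, hx⟩ : U) ∈ U.ι ⁻¹ᵁ g.smoothLocus := by rw [h1]; trivial
  exact this

theorem geomReduced_iff_dense_smooth (k : Type u) [Field k] {X : Scheme.{u}}
    (f : X ⟶ Spec (CommRingCat.of k)) [AlgebraicGeometry.IsReduced X] [LocallyOfFiniteType f] :
    GeometricallyReduced f ↔ ∃ U : X.Opens, Dense (U : Set X) ∧ Smooth (U.ι ≫ f) := by
  haveI : IsLocallyNoetherian X := LocallyOfFiniteType.isLocallyNoetherian f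
  constructor
  · intro hgr
    refine ⟨f.smoothLocus, ?_, smooth_smoothLocus_ι f⟩
    let kb := AlgebraicClosure k
    let g := Spec.map (CommRingCat.ofHom (algebraMap k kb))
    haveI : AlgebraicGeometry.IsReduced (pullback f g) :=
      hgr.geometrically_isReduced g (pullback.fst f g) (pullback.snd f g)
        (IsPullback.of_hasPullback f g)
    have hd := Scheme.Hom.dense_smoothLocus_of_perfectField (pullback.snd f g)
    have heq : ∀ x' : ↥(pullback f g), x' ∈ (pullback.snd f g).smoothLocus ↔
        (pullback.fst f g).base x' ∈ f.smoothLocus := fun x' =>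
      Groth.Agent.Lib.Helper8.SmoothLocusBC.mem_smoothLocus_iff_of_isPullback f g
        (pullback.snd f g) (pullback.fst f g) (IsPullback.of_hasPullback f g)
        (Or.inr inferInstance) x'
    haveI : Surjective g := ⟨fun x => ⟨default, Subsingleton.elim _ _⟩⟩
    have hsurj : Function.Surjective (pullback.fst f g).base := (pullback.fst f g).surjective
    rw [dense_iff_inter_open]
    intro W hW ⟨w, hw⟩
    obtain ⟨w', rfl⟩ := hsurj w
    obtain ⟨z, hzW, hzU⟩ := hd.inter_open_nonempty _
      (hW.preimage (pullback.fst f g).continuous) ⟨w', hw⟩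
    exact ⟨(pullback.fst f g).base z, hzW, (heq z).mp hzU⟩
  · rintro ⟨U, hUd, hUs⟩
    apply GeomRedGeneric.geometricallyReduced_of_generic_points f
    intro Z hZ η hη K _ _ x' hx'
    have hηU : η ∈ U := genericPoint_mem_of_dense U hUd Z hZ η hη
    have hηs : η ∈ f.smoothLocus := le_smoothLocus_of_smooth f U hηU
    haveI : LocallyOfFinitePresentation (FBase.bcStr f K) :=
      inferInstanceAs (LocallyOfFinitePresentation
        (pullback.snd f (Spec.map (CommRingCat.ofHom (algebraMap k K)))))
    have hmem : x' ∈ (FBase.bcStr f K).smoothLocus := by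
      rw [Groth.Agent.Lib.Helper8.SmoothLocusBC.mem_smoothLocus_iff_of_isPullback f
        (Spec.map (CommRingCat.ofHom (algebraMap k K))) (FBase.bcStr f K) (FBase.bcπ f K)
        (IsPullback.of_hasPullback _ _) (Or.inr inferInstance) x', hx']
      exact hηs
    haveI := GeomRegSmooth.isRegularLocalRing_stalk_of_mem_smoothLocus K (FBase.bcStr f K) x' hmem
    haveI := Groth.Agent.Lib.Helper9.RegLocal.isDomain_of_isRegularLocalRing
      ((FBase.bc f K).presheaf.stalk x')
    infer_instance

end Groth.Agent.Lib.Helper14.DenseSmooth
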