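import Mathlib

/-!
# Closed points with separable residue fields on smooth schemes: ring level (helper14)
-/

set_option autoImplicit false
universe u
open Polynomial

namespace Groth.Agent.Lib.Helper14.SepPoints

theorem infinite_of_isSepClosed (K : Type*) [Field K] [IsSepClosed K] : Infinite K := by
  apply Infinite.of_not_fintype
  intro hfin
  let q := Fintype.card K
  have hq : 1 < q := Fintype.one_lt_card
  let f : K[X] := X ^ q - (X + C 1)
  have hsep : f.Separable := by
    rw [Polynomial.separable_def]
    have hd : derivative f = -1 := by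
      simp [f, derivative_X_pow, q]
    rw [hd]
    exact isCoprime_one_right.neg_right
  have hdeg : f.degree ≠ 0 := by
    have h1 : (X + C (1 : K)).degree < ((X : K[X]) ^ q).degree := by
      rw [degree_X_add_C, degree_X_pow]
      exact_mod_cast hq
    rw [degree_sub_eq_left_of_degree_lt h1, degree_X_pow]
    exact_mod_cast (by omega : q ≠ 0)
  obtain ⟨a, ha⟩ := IsSepClosed.exists_root f hdeg hsep
  have h2 : a ^ q = a := FiniteField.pow_card a
  simp [f, h2] at ha

/-- A nonzero polynomial over a field does not vanish at some point with separable coordinates: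
there is a maximal ideal avoiding it with finite separable residue field. -/
theorem exists_maximal_separable (k : Type u) [Field k] (n : ℕ) (h : MvPolynomial (Fin n) k)
    (hh : h ≠ 0) :
    ∃ (p : Ideal (MvPolynomial (Fin n) k)) (_ : p.IsMaximal), h ∉ p ∧
      Module.Finite k (MvPolynomial (Fin n) k ⧸ p) ∧
      Algebra.IsSeparable k (MvPolynomial (Fin n) k ⧸ p) := by
  classical
  let K := SeparableClosure k
  haveI : Infinite K := infinite_of_isSepClosed K
  have hmap : MvPolynomial.map (algebraMap k K) h ≠ 0 := by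
    intro h0
    apply hh
    exact MvPolynomial.map_injective _ (algebraMap k K).injective (by rw [h0, map_zero])
  obtain ⟨a, ha⟩ : ∃ a : Fin n → K, MvPolynomial.eval a (MvPolynomial.map (algebraMap k K) h) ≠ 0 := by
    by_contra hcon
    push Not at hcon
    exact hmap (MvPolynomial.funext (fun a => by rw [hcon a, map_zero]))
  let E : IntermediateField k K := IntermediateField.adjoin k (Set.range a)
  have haE : ∀ i, a i ∈ E := fun i => IntermediateField.subset_adjoin k _ ⟨i, rfl⟩
  let φ : MvPolynomial (Fin n) k →ₐ[k] E := MvPolynomial.aeval (fun i => (⟨a i, haE i⟩ : E))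
  have hφval : ∀ g, ((φ g : E) : K) = MvPolynomial.eval a (MvPolynomial.map (algebraMap k K) g) := by
    intro g
    have : (E.val.comp φ) g = MvPolynomial.aeval a g := by
      congr 1
      apply MvPolynomial.algHom_ext
      intro i
      simp [φ]
    rw [MvPolynomial.eval_map, ← MvPolynomial.aeval_def]
    exact this
  have hφsurj : Function.Surjective φ := by
    intro y
    have hy : (y : K) ∈ E.toSubalgebra := y.2
    have halg : E.toSubalgebra = Algebra.adjoin k (Set.range a) :=
      IntermediateField.adjoin_toSubalgebra_of_isAlgebraic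
        (fun x _ => Algebra.IsAlgebraic.isAlgebraic x)
    rw [halg, Algebra.adjoin_range_eq_range_aeval] at hy
    obtain ⟨g, hg⟩ := hy
    refine ⟨g, Subtype.ext ?_⟩
    rw [hφval, MvPolynomial.eval_map, ← MvPolynomial.aeval_def]
    exact hg
  haveI hfin : FiniteDimensional k E :=
    IntermediateField.finiteDimensional_adjoin (fun x _ => Algebra.IsIntegral.isIntegral x)
  haveI hsep : Algebra.IsSeparable k E := inferInstance
  let e : (MvPolynomial (Fin n) k ⧸ RingHom.ker (φ : MvPolynomial (Fin n) k →+* E)) ≃ₐ[k] E :=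
    Ideal.quotientKerAlgEquivOfSurjective hφsurj
  refine ⟨RingHom.ker (φ : MvPolynomial (Fin n) k →+* E), RingHom.ker_isMaximal_of_surjective _ hφsurj, ?_, ?_, ?_⟩
  · intro hmem
    rw [RingHom.mem_ker] at hmem
    apply ha
    rw [← hφval]
    show ((φ h : E) : K) = 0
    have : φ h = 0 := hmem
    rw [this]; rfl
  · exact Module.Finite.equiv e.symm.toLinearEquiv
  · exact AlgEquiv.Algebra.isSeparable e.symm

theorem exists_maximal_separable_of_etale (k : Type u) [Field k] (n : ℕ) (S : Type u) [CommRing S]
    [Nontrivial S] [Algebra k S] [Algebra (MvPolynomial (Fin n) k) S]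
    [IsScalarTower k (MvPolynomial (Fin n) k) S] [Algebra.Etale (MvPolynomial (Fin n) k) S] :
    ∃ (m : Ideal S) (_ : m.IsMaximal), Module.Finite k (S ⧸ m) ∧ Algebra.IsSeparable k (S ⧸ m) := by
  classical
  haveI : Algebra.HasGoingDown (MvPolynomial (Fin n) k) S := inferInstance
  have hopen : IsOpenMap (PrimeSpectrum.comap (algebraMap (MvPolynomial (Fin n) k) S)) :=
    PrimeSpectrum.isOpenMap_comap_of_hasGoingDown_of_finitePresentation
  have hU : IsOpen (Set.range (PrimeSpectrum.comap (algebraMap (MvPolynomial (Fin n) k) S))) :=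
    hopen.isOpen_range
  obtain ⟨x, hx⟩ : (Set.range (PrimeSpectrum.comap (algebraMap (MvPolynomial (Fin n) k) S))).Nonempty :=
    Set.range_nonempty _
  obtain ⟨_, ⟨_, ⟨h, rfl⟩, rfl⟩, hxh, hsub⟩ :=
    PrimeSpectrum.isBasis_basic_opens.exists_subset_of_mem_open hx hU
  have hh : h ≠ 0 := by
    rintro rfl
    simp at hxh
  obtain ⟨p, hp, hhp, hfin, hsep⟩ := exists_maximal_separable k n h hh
  have hmem : (⟨p, hp.isPrime⟩ : PrimeSpectrum (MvPolynomial (Fin n) k)) ∈
      Set.range (PrimeSpectrum.comap (algebraMap (MvPolynomial (Fin n) k) S)) :=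
    hsub (by
      rw [SetLike.mem_coe, PrimeSpectrum.mem_basicOpen]
      exact hhp)
  obtain ⟨q, hq⟩ := hmem
  obtain ⟨m, hm, hqm⟩ := Ideal.exists_le_maximal q.asIdeal q.2.ne_top
  have hpq : p = q.asIdeal.comap (algebraMap (MvPolynomial (Fin n) k) S) :=
    (congrArg PrimeSpectrum.asIdeal hq).symm
  haveI : m.LiesOver p := ⟨by
    have hle : p ≤ m.comap (algebraMap (MvPolynomial (Fin n) k) S) := by
      rw [hpq]; exact Ideal.comap_mono hqm
    exact hp.eq_of_le (Ideal.comap_ne_top _ hm.ne_top) hle⟩
  letI : Field (MvPolynomial (Fin n) k ⧸ p) := Ideal.Quotient.field p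
  letI : Field (S ⧸ m) := Ideal.Quotient.field m
  haveI : Algebra.FormallyUnramified (MvPolynomial (Fin n) k) (S ⧸ m) :=
    Algebra.FormallyUnramified.of_surjective (Ideal.Quotient.mkₐ (MvPolynomial (Fin n) k) m)
      Ideal.Quotient.mk_surjective
  haveI : Algebra.FormallyUnramified (MvPolynomial (Fin n) k ⧸ p) (S ⧸ m) :=
    Algebra.FormallyUnramified.of_restrictScalars (MvPolynomial (Fin n) k) _ _
  haveI : Algebra.FiniteType (MvPolynomial (Fin n) k) (S ⧸ m) :=
    Algebra.FiniteType.of_surjective (Ideal.Quotient.mkₐ (MvPolynomial (Fin n) k) m)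
      Ideal.Quotient.mk_surjective
  haveI : Algebra.FiniteType (MvPolynomial (Fin n) k ⧸ p) (S ⧸ m) :=
    Algebra.FiniteType.of_restrictScalars_finiteType (MvPolynomial (Fin n) k) _ _
  haveI : Module.Finite (MvPolynomial (Fin n) k ⧸ p) (S ⧸ m) :=
    Algebra.FormallyUnramified.finite_of_free _ _
  haveI : Algebra.IsSeparable (MvPolynomial (Fin n) k ⧸ p) (S ⧸ m) :=
    Algebra.FormallyUnramified.isSeparable _ _
  exact ⟨m, hm, Module.Finite.trans (MvPolynomial (Fin n) k ⧸ p) (S ⧸ m),
    Algebra.IsSeparable.trans k (MvPolynomial (Fin n) k ⧸ p) (S ⧸ m)⟩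

theorem exists_maximal_separable_of_etale_notMem (k : Type u) [Field k] (n : ℕ) (S : Type u)
    [CommRing S] [Algebra k S] [Algebra (MvPolynomial (Fin n) k) S]
    [IsScalarTower k (MvPolynomial (Fin n) k) S] [Algebra.Etale (MvPolynomial (Fin n) k) S]
    (s : S) (hs : ¬ IsNilpotent s) :
    ∃ (m : Ideal S) (_ : m.IsMaximal), s ∉ m ∧ Module.Finite k (S ⧸ m) ∧
      Algebra.IsSeparable k (S ⧸ m) := by
  classical
  haveI : Nontrivial (Localization.Away s) := by
    rw [← not_subsingleton_iff_nontrivial]
    intro hsub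
    apply hs
    have := (IsLocalization.subsingleton_iff (S := Localization.Away s)
      (M := Submonoid.powers s)).mp hsub
    obtain ⟨n, hn⟩ := this
    exact ⟨n, hn⟩
  haveI : Algebra.Etale (MvPolynomial (Fin n) k) (Localization.Away s) :=
    Algebra.Etale.comp (MvPolynomial (Fin n) k) S (Localization.Away s)
  obtain ⟨M, hM, hfin, hsep⟩ :=
    exists_maximal_separable_of_etale k n (Localization.Away s)
  let m : Ideal S := M.comap (algebraMap S (Localization.Away s))
  haveI : m.IsPrime := Ideal.comap_isPrime _ _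
  -- the injective k-algebra map S/m → S_s/M
  let ι : (S ⧸ m) →ₐ[k] (Localization.Away s ⧸ M) :=
    Ideal.quotientMapₐ M (IsScalarTower.toAlgHom k S (Localization.Away s)) (le_refl _)
  have hι : Function.Injective ι := Ideal.quotientMap_injective
  haveI : Module.Finite k (S ⧸ m) := Module.Finite.of_injective ι.toLinearMap hι
  have hfield : IsField (S ⧸ m) := by
    haveI : IsDomain (S ⧸ m) := Ideal.Quotient.isDomain m
    haveI : Algebra.IsIntegral k (S ⧸ m) := Algebra.IsIntegral.of_finite k (S ⧸ m)
    exact isField_of_isIntegral_of_isField' (Field.toIsField k)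
  have hm : m.IsMaximal := Ideal.Quotient.maximal_of_isField m hfield
  refine ⟨m, hm, ?_, inferInstance, ?_⟩
  · intro hmem
    have h1 : algebraMap S (Localization.Away s) s ∈ M := hmem
    have h2 : IsUnit (algebraMap S (Localization.Away s) s) :=
      IsLocalization.map_units (Localization.Away s) (⟨s, Submonoid.mem_powers s⟩ : Submonoid.powers s)
    exact hM.ne_top (Ideal.eq_top_of_isUnit_mem _ h1 h2)
  · letI : Field (S ⧸ m) := Ideal.Quotient.field m
    letI : Field (Localization.Away s ⧸ M) := Ideal.Quotient.field M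
    exact Algebra.IsSeparable.of_algHom k (Localization.Away s ⧸ M) ι

end Groth.Agent.Lib.Helper14.SepPoints
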