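import Mathlib
import Groth.Prelude.Def_Coh
import Groth.Agent.Lib.Helper14.SepPoints

/-!
# Closed points with separable residue fields are dense on a smooth scheme over a field (helper14)
-/

set_option autoImplicit false
universe u
open CategoryTheory CategoryTheory.Limits AlgebraicGeometry TopologicalSpace

namespace Groth.Agent.Lib.Helper14.SepPointsSch

theorem dense_sep_points (k : Type u) [Field k] {X : Scheme.{u}}
    (f : X ⟶ Spec (CommRingCat.of k)) [Smooth f] :
    Dense {x : X | IsClosed ({x} : Set X) ∧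
      letI := ((X.residue x).hom.comp
        ((X.presheaf.germ ⊤ x trivial).hom.comp (Coh.toGlobal f))).toAlgebra
      FiniteDimensional k (X.residueField x) ∧ Algebra.IsSeparable k (X.residueField x)} := by
  rw [dense_iff_inter_open]
  rintro U hUo ⟨x₀, hx₀⟩
  obtain ⟨U₀, hU₀, V, hV, hxV, e, hss⟩ := Smooth.exists_isStandardSmooth f x₀
  have hUtop : U₀ = ⊤ := by
    ext y
    simp only [TopologicalSpace.Opens.coe_top, Set.mem_univ, iff_true]
    have : y = f.base x₀ := Subsingleton.elim _ _
    rw [this]; exact e hxV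
  subst hUtop
  let ψ : k →+* Γ(X, V) :=
    (X.presheaf.map (homOfLE le_top : V ⟶ ⊤).op).hom.comp (Coh.toGlobal f)
  have hψ : ψ.IsStandardSmooth := by
    have h1 := RingHom.isStandardSmooth_respectsIso.2 _
      (Scheme.ΓSpecIso (CommRingCat.of k)).symm.commRingCatIsoToRingEquiv hss
    exact h1
  obtain ⟨n, g, hgC, hg⟩ := hψ.exists_etale_mvPolynomial
  letI algk : Algebra k Γ(X, V) := ψ.toAlgebra
  letI algP : Algebra (MvPolynomial (Fin n) k) Γ(X, V) := g.toAlgebra
  haveI : IsScalarTower k (MvPolynomial (Fin n) k) Γ(X, V) :=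
    IsScalarTower.of_algebraMap_eq' hgC.symm
  haveI : Algebra.Etale (MvPolynomial (Fin n) k) Γ(X, V) := hg
  obtain ⟨s, hsU, hxs⟩ := hV.exists_basicOpen_le (V := ⟨U, hUo⟩) ⟨x₀, hx₀⟩ hxV
  have hs : ¬ IsNilpotent s := by
    intro hnil
    have : X.basicOpen s = ⊥ :=
      X.toLocallyRingedSpace.basicOpen_eq_bot_of_isNilpotent V s hnil
    rw [this] at hxs
    exact hxs
  obtain ⟨m, hm, hsm, hfin, hsep⟩ :=
    SepPoints.exists_maximal_separable_of_etale_notMem k n Γ(X, V) s hs
  let pm : PrimeSpectrum Γ(X, V) := ⟨m, hm.isPrime⟩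
  let y : X := hV.fromSpec pm
  have hyV : y ∈ V := by
    have : y ∈ Set.range hV.fromSpec := ⟨pm, rfl⟩
    rw [hV.range_fromSpec] at this
    exact this
  have hys : y ∈ X.basicOpen s := by
    have h1 := hV.fromSpec_preimage_basicOpen s
    have h2 : pm ∈ hV.fromSpec ⁻¹ᵁ X.basicOpen s := by
      rw [h1]; exact hsm
    exact h2
  refine ⟨y, hsU hys, ?_, ?_⟩
  · haveI : JacobsonSpace X := LocallyOfFiniteType.jacobsonSpace f
    apply isClosed_singleton_of_isLocallyClosed_singleton
    have h1 : IsClosed ({pm} : Set (PrimeSpectrum Γ(X, V))) :=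
      (PrimeSpectrum.isClosed_singleton_iff_isMaximal pm).mpr hm
    have h2 : ({y} : Set X) = hV.fromSpec '' ({pm} : Set (PrimeSpectrum Γ(X, V))) := by
      ext z
      simp only [Set.mem_singleton_iff, Set.mem_image]
      constructor
      · rintro rfl; exact ⟨pm, rfl, rfl⟩
      · rintro ⟨w, rfl, rfl⟩; rfl
    rw [h2]
    exact h1.isLocallyClosed.image hV.fromSpec.isOpenEmbedding.isInducing
      hV.fromSpec.isOpenEmbedding.isOpen_range.isLocallyClosed
  · letI algst := TopCat.Presheaf.algebra_section_stalk X.presheaf ⟨y, hyV⟩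
    haveI hloc : IsLocalization.AtPrime (X.presheaf.stalk y) m := hV.isLocalization_stalk' pm hyV
    let e := IsLocalization.AtPrime.equivQuotMaximalIdeal m (X.presheaf.stalk y)
    letI algκ : Algebra k (X.residueField y) := ((X.residue y).hom.comp
        ((X.presheaf.germ ⊤ y trivial).hom.comp (Coh.toGlobal f))).toAlgebra
    let E : (Γ(X, V) ⧸ m) ≃ₐ[k] X.residueField y :=
      { e with
        commutes' := by
          intro c
          show e (Ideal.Quotient.mk m (ψ c)) = (X.residue y).hom
            ((X.presheaf.germ ⊤ y trivial).hom (Coh.toGlobal f c))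
          rw [IsLocalization.AtPrime.equivQuotMaximalIdeal_apply_mk]
          have h3 : algebraMap Γ(X, V) (X.presheaf.stalk y) (ψ c) =
              (X.presheaf.germ ⊤ y trivial).hom (Coh.toGlobal f c) := by
            show (X.presheaf.germ V y hyV).hom
              ((X.presheaf.map (homOfLE le_top : V ⟶ ⊤).op).hom (Coh.toGlobal f c)) = _
            exact TopCat.Presheaf.germ_res_apply X.presheaf (homOfLE le_top : V ⟶ ⊤) y hyV _
          rw [h3]
          rfl }
    exact ⟨Module.Finite.equiv E.toLinearEquiv, AlgEquiv.Algebra.isSeparable E⟩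

end Groth.Agent.Lib.Helper14.SepPointsSch
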