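import Mathlib
import Groth.Prelude.Def_DRing2
import Groth.Agent.Lib.Helper7.TorBasic
set_option autoImplicit false
universe u
open CategoryTheory CategoryTheory.Limits MonoidalCategory TensorProduct

/-! # `Tor_1` via a flat presentation (helper14)

For a short exact sequence `0 → K → F → N → 0` with `F` flat,
`Tor_1(M, N) ≃ ker (M ⊗ K → M ⊗ F)` (Mathlib `Tor`, via Helper7's balancing library). -/

namespace Groth.Agent.Lib.Helper14.TorKer

open Groth.Agent.Lib.Helper7

variable {A : Type u} [CommRing A]

/-- the short complex in `ModuleCat` attached to linear maps `i`, `p` with `p ∘ i = 0`. -/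
noncomputable def sc {K F N : Type u} [AddCommGroup K] [Module A K] [AddCommGroup F] [Module A F]
    [AddCommGroup N] [Module A N] (i : K →ₗ[A] F) (p : F →ₗ[A] N) (hex : Function.Exact i p) :
    ShortComplex (ModuleCat.{u} A) :=
  ShortComplex.mk (ModuleCat.ofHom i) (ModuleCat.ofHom p) (by
    ext x
    exact hex.apply_apply_eq_zero x)

lemma sc_shortExact {K F N : Type u} [AddCommGroup K] [Module A K] [AddCommGroup F] [Module A F]
    [AddCommGroup N] [Module A N] (i : K →ₗ[A] F) (p : F →ₗ[A] N) (hex : Function.Exact i p)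
    (hi : Function.Injective i) (hp : Function.Surjective p) : (sc i p hex).ShortExact :=
  ModuleCat.shortComplex_shortExact _ hex hi hp

/-- `Tor_1(M, N) ≃ ker (M ⊗ K → M ⊗ F)` for `0 → K → F → N → 0` with `F` flat. -/
theorem nonempty_tor_one_equiv_ker (M : Type u) [AddCommGroup M] [Module A M]
    {K F N : Type u} [AddCommGroup K] [Module A K] [AddCommGroup F] [Module A F]
    [AddCommGroup N] [Module A N] [Module.Flat A F]
    (i : K →ₗ[A] F) (p : F →ₗ[A] N) (hex : Function.Exact i p)
    (hi : Function.Injective i) (hp : Function.Surjective p) :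
    Nonempty (DRing.Tor A 1 M N ≃ₗ[A] LinearMap.ker (LinearMap.lTensor M i)) := by
  let P := ProjectiveResolution.of (ModuleCat.of A M)
  have hP := FlatRes.ofProjectiveResolution P
  obtain ⟨e1⟩ := nonempty_Tor_equiv_T_of_flatRes hP (ModuleCat.of A N) 1
  have hS := sc_shortExact i p hex hi hp
  obtain ⟨e2⟩ := nonempty_T1_equiv_ker P.complex hP.flat hP.exactAt (sc i p hex) hS
    (inferInstanceAs (Module.Flat A F))
  let e0K := T0Equiv hP (sc i p hex).X₁
  let e0F := T0Equiv hP (sc i p hex).X₂
  have hnat : ∀ h, e0F (((CohIII.TFun P.complex 0).map (sc i p hex).f).hom h) =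
      LinearMap.lTensor M i (e0K h) := fun h => T0Equiv_naturality hP (sc i p hex).f h
  let e3 : LinearMap.ker ((CohIII.TFun P.complex 0).map (sc i p hex).f).hom ≃ₗ[A]
      LinearMap.ker (LinearMap.lTensor M i) :=
    LinearEquiv.ofSubmodules e0K _ _ (by
      ext y
      simp only [Submodule.mem_map, LinearMap.mem_ker]
      constructor
      · rintro ⟨h, hh, rfl⟩
        exact ((hnat h).symm.trans (congrArg e0F hh)).trans (map_zero e0F)
      · intro hy
        refine ⟨e0K.symm y, ?_, e0K.apply_symm_apply y⟩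
        apply e0F.injective
        refine (hnat (e0K.symm y)).trans ?_
        rw [e0K.apply_symm_apply]
        exact hy.trans (map_zero e0F).symm)
  exact ⟨e1.trans (e2.trans e3)⟩

theorem tor_one_subsingleton_iff (M : Type u) [AddCommGroup M] [Module A M]
    {K F N : Type u} [AddCommGroup K] [Module A K] [AddCommGroup F] [Module A F]
    [AddCommGroup N] [Module A N] [Module.Flat A F]
    (i : K →ₗ[A] F) (p : F →ₗ[A] N) (hex : Function.Exact i p)
    (hi : Function.Injective i) (hp : Function.Surjective p) :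
    Subsingleton (DRing.Tor A 1 M N) ↔ Function.Injective (LinearMap.lTensor M i) := by
  obtain ⟨e⟩ := nonempty_tor_one_equiv_ker M i p hex hi hp
  rw [← LinearMap.ker_eq_bot, ← Submodule.subsingleton_iff_eq_bot]
  exact e.toEquiv.subsingleton_congr

/-- dimension shift: `Tor_{k+2}(M, N) ≃ Tor_{k+1}(M, K)` for `0 → K → F → N → 0` with `F` flat. -/
theorem nonempty_tor_shift (M : Type u) [AddCommGroup M] [Module A M]
    {K F N : Type u} [AddCommGroup K] [Module A K] [AddCommGroup F] [Module A F]
    [AddCommGroup N] [Module A N] [Module.Flat A F]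
    (i : K →ₗ[A] F) (p : F →ₗ[A] N) (hex : Function.Exact i p)
    (hi : Function.Injective i) (hp : Function.Surjective p) (k : ℕ) :
    Nonempty (DRing.Tor A (k + 2) M N ≃ₗ[A] DRing.Tor A (k + 1) M K) := by
  let P := ProjectiveResolution.of (ModuleCat.of A M)
  have hP := FlatRes.ofProjectiveResolution P
  obtain ⟨e1⟩ := nonempty_Tor_equiv_T_of_flatRes hP (ModuleCat.of A N) (k + 2)
  obtain ⟨e1'⟩ := nonempty_Tor_equiv_T_of_flatRes hP (ModuleCat.of A K) (k + 1)
  have hS := sc_shortExact i p hex hi hp
  obtain ⟨e2⟩ := nonempty_shift_iso P.complex hP.flat hP.exactAt (sc i p hex) hS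
    (inferInstanceAs (Module.Flat A F)) k
  exact ⟨e1.trans (e2.toLinearEquiv.trans e1'.symm)⟩

end Groth.Agent.Lib.Helper14.TorKer
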