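import Mathlib
import Groth.Prelude.Def_DRing2
import Groth.Agent.Lib.Helper14.TorKer
set_option autoImplicit false
universe u
open CategoryTheory CategoryTheory.Limits MonoidalCategory TensorProduct

/-! # Vanishing calculus for `Tor` (helper14)

`TorZ A n M N` says `Tor_n^A(M, N) = 0` (Mathlib `Tor` through `DRing.Tor`). It is symmetric in
`M`, `N`, and satisfies the usual consequences of the long exact sequences in either variable. -/

namespace Groth.Agent.Lib.Helper14.TorKer

open Groth.Agent.Lib.Helper7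

variable (A : Type u) [CommRing A]

/-- `Tor_n^A(M, N) = 0`. -/
def TorZ (n : ℕ) (M N : Type u) [AddCommGroup M] [Module A M] [AddCommGroup N] [Module A N] :
    Prop :=
  Subsingleton (DRing.Tor A n M N)

variable {A}
variable {M N : Type u} [AddCommGroup M] [Module A M] [AddCommGroup N] [Module A N]

theorem TorZ.comm {n : ℕ} (h : TorZ A n M N) : TorZ A n N M := by
  obtain ⟨e⟩ := nonempty_Tor_equiv_flip (ModuleCat.of A M) (ModuleCat.of A N) n
  unfold TorZ at h ⊢
  exact e.symm.toEquiv.subsingleton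

theorem torZ_comm {n : ℕ} : TorZ A n M N ↔ TorZ A n N M := ⟨TorZ.comm, TorZ.comm⟩

theorem torZ_iff_isZero (Q : ProjectiveResolution (ModuleCat.of A N)) (n : ℕ) :
    TorZ A n M N ↔ IsZero (CohIII.T Q.complex n (ModuleCat.of A M)) := by
  obtain ⟨e⟩ := nonempty_Tor_iso_T (ModuleCat.of A M) (ModuleCat.of A N) Q n
  unfold TorZ
  rw [← ModuleCat.isZero_iff_subsingleton]
  exact ⟨fun h => h.of_iso e.symm, fun h => h.of_iso e⟩

theorem torZ_of_flat_left [Module.Flat A M] (n : ℕ) : TorZ A (n + 1) M N :=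
  Tor_subsingleton_of_flat_left (ModuleCat.of A M) (ModuleCat.of A N)
    (inferInstanceAs (Module.Flat A M)) (n + 1) n.succ_pos

theorem torZ_of_flat_right [Module.Flat A N] (n : ℕ) : TorZ A (n + 1) M N :=
  Tor_subsingleton_of_flat_right (ModuleCat.of A M) (ModuleCat.of A N)
    (inferInstanceAs (Module.Flat A N)) (n + 1) n.succ_pos

section LES

variable {X₁ X₂ X₃ : Type u} [AddCommGroup X₁] [Module A X₁] [AddCommGroup X₂] [Module A X₂]
  [AddCommGroup X₃] [Module A X₃] (i : X₁ →ₗ[A] X₂) (p : X₂ →ₗ[A] X₃)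
  (hex : Function.Exact i p) (hi : Function.Injective i) (hp : Function.Surjective p)
include hex hi hp

/-- middle term, first variable. -/
theorem torZ_mid_left (n : ℕ) (h₁ : TorZ A n X₁ N) (h₃ : TorZ A n X₃ N) : TorZ A n X₂ N := by
  let Q := ProjectiveResolution.of (ModuleCat.of A N)
  have hQ := FlatRes.ofProjectiveResolution Q
  rw [torZ_iff_isZero Q] at h₁ h₃ ⊢
  have hSE := tensorSC_shortExact Q.complex hQ.flat (sc i p hex) (sc_shortExact i p hex hi hp)
  have e2 := hSE.homology_exact₂ n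
  exact e2.isZero_of_both_zeros (h₁.eq_of_src _ _) (h₃.eq_of_tgt _ _)

/-- sub term, first variable. -/
theorem torZ_sub_left (n : ℕ) (h₃ : TorZ A (n + 1) X₃ N) (h₂ : TorZ A n X₂ N) :
    TorZ A n X₁ N := by
  let Q := ProjectiveResolution.of (ModuleCat.of A N)
  have hQ := FlatRes.ofProjectiveResolution Q
  rw [torZ_iff_isZero Q] at h₃ h₂ ⊢
  have hSE := tensorSC_shortExact Q.complex hQ.flat (sc i p hex) (sc_shortExact i p hex hi hp)
  have hrel : (ComplexShape.down ℕ).Rel (n + 1) n := rfl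
  have e1 := hSE.homology_exact₁ (n + 1) n hrel
  exact e1.isZero_of_both_zeros (h₃.eq_of_src _ _) (h₂.eq_of_tgt _ _)

/-- quotient term, first variable. -/
theorem torZ_quot_left (n : ℕ) (h₂ : TorZ A (n + 1) X₂ N) (h₁ : TorZ A n X₁ N) :
    TorZ A (n + 1) X₃ N := by
  let Q := ProjectiveResolution.of (ModuleCat.of A N)
  have hQ := FlatRes.ofProjectiveResolution Q
  rw [torZ_iff_isZero Q] at h₂ h₁ ⊢
  have hSE := tensorSC_shortExact Q.complex hQ.flat (sc i p hex) (sc_shortExact i p hex hi hp)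
  have hrel : (ComplexShape.down ℕ).Rel (n + 1) n := rfl
  have e3 := hSE.homology_exact₃ (n + 1) n hrel
  exact e3.isZero_of_both_zeros (h₂.eq_of_src _ _) (h₁.eq_of_tgt _ _)

/-- middle term, second variable. -/
theorem torZ_mid_right (n : ℕ) (h₁ : TorZ A n M X₁) (h₃ : TorZ A n M X₃) : TorZ A n M X₂ :=
  (torZ_mid_left i p hex hi hp n h₁.comm h₃.comm).comm

/-- sub term, second variable. -/
theorem torZ_sub_right (n : ℕ) (h₃ : TorZ A (n + 1) M X₃) (h₂ : TorZ A n M X₂) :
    TorZ A n M X₁ :=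
  (torZ_sub_left i p hex hi hp n h₃.comm h₂.comm).comm

/-- quotient term, second variable. -/
theorem torZ_quot_right (n : ℕ) (h₂ : TorZ A (n + 1) M X₂) (h₁ : TorZ A n M X₁) :
    TorZ A (n + 1) M X₃ :=
  (torZ_quot_left i p hex hi hp n h₂.comm h₁.comm).comm

end LES

/-- `Tor_1(M, N) = 0` for all cyclic `N` implies flatness. -/
theorem flat_of_torZ (h : ∀ I : Ideal A, TorZ A 1 M (A ⧸ I)) : Module.Flat A M := by
  rw [Module.Flat.iff_lTensor_injective']
  intro I
  have hex : Function.Exact I.subtype I.mkQ := LinearMap.exact_subtype_mkQ I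
  exact (tor_one_subsingleton_iff (A := A) (K := I) (F := A) (N := A ⧸ I) M I.subtype I.mkQ hex
    I.subtype_injective I.mkQ_surjective).mp (h I)

theorem torZ_of_equiv_left {M' : Type u} [AddCommGroup M'] [Module A M'] (e : M ≃ₗ[A] M')
    {n : ℕ} (h : TorZ A n M N) : TorZ A n M' N := by
  unfold TorZ DRing.Tor at h ⊢
  let ι : ModuleCat.of A M ≅ ModuleCat.of A M' := e.toModuleIso
  let ι' := ((Tor (ModuleCat.{u} A) n).mapIso ι).app (ModuleCat.of A N)
  exact ι'.toLinearEquiv.symm.toEquiv.subsingleton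

theorem torZ_of_equiv_right {N' : Type u} [AddCommGroup N'] [Module A N'] (e : N ≃ₗ[A] N')
    {n : ℕ} (h : TorZ A n M N) : TorZ A n M N' :=
  (torZ_of_equiv_left e h.comm).comm

end Groth.Agent.Lib.Helper14.TorKer
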