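/-
Helper14 library: a finitely presented module over a local `A`-algebra `B` (local homomorphism)
which is `A`-flat and whose reduction modulo `𝔪_A B` is flat over `B/𝔪_A B` is free over `B`.
No Noetherian or flatness hypothesis on `B`.
-/
import Mathlib

set_option autoImplicit false
universe u
open TensorProduct

namespace Groth.Agent.Lib.Helper14.FibreFree

section Ker
variable {A B F N : Type*} [CommRing A] [CommRing B] [Algebra A B]
  [AddCommGroup F] [Module A F] [Module B F] [IsScalarTower A B F]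
  [AddCommGroup N] [Module A N] [Module B N] [IsScalarTower A B N]

/-- `(I B) F ⊆ I F` (as sets). -/
theorem mem_smul_top_of_mem_map_smul_top (I : Ideal A) {x : F}
    (hx : x ∈ (I.map (algebraMap A B)) • (⊤ : Submodule B F)) :
    x ∈ I • (⊤ : Submodule A F) := by
  have key : ∀ b ∈ I.map (algebraMap A B), ∀ f : F, b • f ∈ I • (⊤ : Submodule A F) := by
    intro b hb
    refine Submodule.span_induction (p := fun b _ => ∀ f : F, b • f ∈ I • (⊤ : Submodule A F))
      ?_ ?_ ?_ ?_ hb
    · rintro _ ⟨a, ha, rfl⟩ f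
      rw [algebraMap_smul]
      exact Submodule.smul_mem_smul ha Submodule.mem_top
    · intro f
      rw [zero_smul]; exact Submodule.zero_mem _
    · intro b₁ b₂ _ _ h₁ h₂ f
      rw [add_smul]; exact Submodule.add_mem _ (h₁ f) (h₂ f)
    · intro β b _ h f
      rw [smul_eq_mul, mul_comm, mul_smul]
      exact h (β • f)
  refine Submodule.smul_induction_on hx ?_ ?_
  · intro b hb f _
    exact key b hb f
  · intro x y hx hy
    exact Submodule.add_mem _ hx hy

/-- for a surjection `ψ : F → N` onto an `A`-flat module, `ker ψ ∩ I F ⊆ I ker ψ`. -/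
theorem mem_smul_ker_of_flat [Module.Flat A N] (ψ : F →ₗ[B] N) (hψ : Function.Surjective ψ)
    (I : Ideal A) {x : F} (hxK : x ∈ LinearMap.ker ψ)
    (hx : x ∈ (I.map (algebraMap A B)) • (⊤ : Submodule B F)) :
    x ∈ (I.map (algebraMap A B)) • (LinearMap.ker ψ) := by
  classical
  have hx' := mem_smul_top_of_mem_map_smul_top I hx
  -- write `x = Σ a_i • f_i`
  have hspan : (⊤ : Submodule A F) = Submodule.span A (Set.range (id : F → F)) := by
    rw [Set.range_id, Submodule.span_univ]
  rw [hspan, Submodule.mem_ideal_smul_span_iff_exists_sum] at hx'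
  obtain ⟨a, haI, hax⟩ := hx'
  -- the relation in `N`
  have h0 : ∑ i : a.support, a i.1 • ψ i.1 = 0 := by
    have h1 : ψ x = 0 := hxK
    rw [← hax, Finsupp.sum, map_sum] at h1
    rw [← h1, ← Finset.sum_coe_sort a.support (fun i => ψ (a i • id i))]
    refine Finset.sum_congr rfl (fun i _ => ?_)
    have : ψ (a i.1 • i.1) = a i.1 • ψ i.1 := by
      rw [← algebraMap_smul B (a i.1) i.1, map_smul, algebraMap_smul]
    simpa using this.symm
  obtain ⟨k, c, y, hxy, hc⟩ := Module.Flat.isTrivialRelation_of_sum_smul_eq_zero h0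
  -- lift the `y j`
  choose g hg using fun j => hψ (y j)
  -- the elements of the kernel
  have hk : ∀ i : a.support, (i.1 - ∑ j, c i j • g j) ∈ LinearMap.ker ψ := by
    intro i
    rw [LinearMap.mem_ker, map_sub, map_sum, sub_eq_zero]
    have h3 := hxy i
    simp only at h3
    rw [h3]
    refine Finset.sum_congr rfl (fun j _ => ?_)
    rw [← algebraMap_smul B (c i j) (g j), map_smul, algebraMap_smul, hg]
  have hsum : x = ∑ i : a.support, a i.1 • (i.1 - ∑ j, c i j • g j) := by
    have h2 : ∑ i : a.support, a i.1 • (∑ j, c i j • g j) = 0 := by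
      simp_rw [Finset.smul_sum, smul_smul]
      rw [Finset.sum_comm]
      refine Finset.sum_eq_zero (fun j _ => ?_)
      rw [← Finset.sum_smul, hc j, zero_smul]
    simp_rw [smul_sub]
    rw [Finset.sum_sub_distrib, h2, sub_zero, ← hax, Finsupp.sum,
      ← Finset.sum_coe_sort a.support (fun i => a i • id i)]
    rfl
  rw [hsum]
  refine Submodule.sum_mem _ (fun i _ => ?_)
  rw [← algebraMap_smul B (a i.1)]
  exact Submodule.smul_mem_smul (Ideal.mem_map_of_mem _ (haI i.1)) (hk i)

end Ker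

section Local
variable {A B N : Type u} [CommRing A] [IsLocalRing A] [CommRing B] [IsLocalRing B]
  [Algebra A B] [IsLocalHom (algebraMap A B)]
  [AddCommGroup N] [Module A N] [Module B N] [IsScalarTower A B N]

/-- **freeness from flatness over the base and flatness of the fibre**: `N` f.p. over the local
`A`-algebra `B`, `A`-flat, `N/𝔪_A N` flat over `B/𝔪_A B` ⟹ `N` is `B`-free. -/
theorem free_of_flat_of_flat_fibre [Module.FinitePresentation B N] [Module.Flat A N]
    (h2 : Module.Flat (B ⧸ (IsLocalRing.maximalIdeal A).map (algebraMap A B))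
      (N ⧸ ((IsLocalRing.maximalIdeal A).map (algebraMap A B)) • (⊤ : Submodule B N))) :
    Module.Free B N := by
  classical
  set 𝔞 : Ideal B := (IsLocalRing.maximalIdeal A).map (algebraMap A B) with h𝔞def
  have h𝔞 : 𝔞 ≤ IsLocalRing.maximalIdeal B :=
    IsLocalRing.map_maximalIdeal_le (algebraMap A B)
  have hjac : 𝔞 ≤ Ideal.jacobson ⊥ := by
    rw [IsLocalRing.jacobson_eq_maximalIdeal ⊥ bot_ne_top]; exact h𝔞
  have hne : 𝔞 ≠ ⊤ := fun h => (IsLocalRing.maximalIdeal.isMaximal B).ne_top (top_le_iff.1 (h ▸ h𝔞))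
  haveI : Nontrivial (B ⧸ 𝔞) := Ideal.Quotient.nontrivial_iff.2 hne
  haveI : IsLocalRing (B ⧸ 𝔞) :=
    IsLocalRing.of_surjective' (Ideal.Quotient.mk 𝔞) Ideal.Quotient.mk_surjective
  -- finite presentation of the reduction
  haveI : Module.FinitePresentation (B ⧸ 𝔞) (N ⧸ 𝔞 • (⊤ : Submodule B N)) := by
    have e : (B ⧸ 𝔞) ⊗[B] N ≃ₗ[B ⧸ 𝔞] N ⧸ 𝔞 • (⊤ : Submodule B N) :=
      (TensorProduct.quotTensorEquivQuotSMul N 𝔞).extendScalarsOfSurjective
        (Ideal.Quotient.mk_surjective (I := 𝔞))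
    exact Module.FinitePresentation.of_equiv e
  haveI : Module.Free (B ⧸ 𝔞) (N ⧸ 𝔞 • (⊤ : Submodule B N)) := Module.free_of_flat_of_isLocalRing
  let bb := Module.finBasis (B ⧸ 𝔞) (N ⧸ 𝔞 • (⊤ : Submodule B N))
  set r := Module.finrank (B ⧸ 𝔞) (N ⧸ 𝔞 • (⊤ : Submodule B N)) with hr
  choose n hn using fun i : Fin r => Submodule.mkQ_surjective (𝔞 • (⊤ : Submodule B N)) (bb i)
  let ψ : (Fin r → B) →ₗ[B] N := Fintype.linearCombination B n
  have hψ : ∀ k : Fin r → B, ψ k = ∑ i, k i • n i := fun k => Fintype.linearCombination_apply B n k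
  have hmk : ∀ k : Fin r → B, Submodule.mkQ (𝔞 • (⊤ : Submodule B N)) (ψ k) =
      ∑ i, Ideal.Quotient.mk 𝔞 (k i) • bb i := by
    intro k
    rw [hψ, map_sum]
    refine Finset.sum_congr rfl (fun i _ => ?_)
    rw [map_smul, hn i]
    rfl
  -- surjectivity (Nakayama)
  have hsurj : Function.Surjective ψ := by
    rw [← LinearMap.range_eq_top, eq_top_iff]
    refine Submodule.le_of_le_smul_of_le_jacobson_bot (Module.Finite.fg_top) hjac ?_
    intro y _
    obtain ⟨c, hc⟩ : ∃ c : Fin r → B, ∀ i, Ideal.Quotient.mk 𝔞 (c i) =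
        bb.repr (Submodule.mkQ (𝔞 • (⊤ : Submodule B N)) y) i := by
      choose c hc using fun i => Ideal.Quotient.mk_surjective (I := 𝔞)
        (bb.repr (Submodule.mkQ (𝔞 • (⊤ : Submodule B N)) y) i)
      exact ⟨c, hc⟩
    have h1 : Submodule.mkQ (𝔞 • (⊤ : Submodule B N)) (y - ψ c) = 0 := by
      rw [map_sub, hmk, sub_eq_zero]
      conv_lhs => rw [← bb.sum_repr (Submodule.mkQ (𝔞 • (⊤ : Submodule B N)) y)]
      refine Finset.sum_congr rfl (fun i _ => ?_)
      rw [hc i]
    have h2' : y - ψ c ∈ 𝔞 • (⊤ : Submodule B N) := by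
      rwa [Submodule.mkQ_apply, Submodule.Quotient.mk_eq_zero] at h1
    have : y = ψ c + (y - ψ c) := by abel
    rw [this]
    exact Submodule.add_mem_sup (LinearMap.mem_range_self ψ c) h2'
  -- the kernel
  have hKfg : (LinearMap.ker ψ).FG := Module.FinitePresentation.fg_ker ψ hsurj
  have hK : LinearMap.ker ψ ≤ 𝔞 • LinearMap.ker ψ := by
    intro k hk
    have hk0 : ∑ i, Ideal.Quotient.mk 𝔞 (k i) • bb i = 0 := by
      rw [← hmk, (LinearMap.mem_ker.1 hk), map_zero]
    have hki : ∀ i, k i ∈ 𝔞 := by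
      intro i
      have := Fintype.linearIndependent_iff.1 bb.linearIndependent _ hk0 i
      exact Ideal.Quotient.eq_zero_iff_mem.1 this
    have hk𝔞 : k ∈ 𝔞 • (⊤ : Submodule B (Fin r → B)) := by
      have hsum : k = ∑ i, k i • (Pi.single i 1 : Fin r → B) := by
        ext j
        simp [Finset.sum_apply, Pi.single_apply]
      rw [hsum]
      exact Submodule.sum_mem _ (fun i _ => Submodule.smul_mem_smul (hki i) Submodule.mem_top)
    exact mem_smul_ker_of_flat ψ hsurj (IsLocalRing.maximalIdeal A) hk hk𝔞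
  have hKbot : LinearMap.ker ψ = ⊥ :=
    Submodule.eq_bot_of_le_smul_of_le_jacobson_bot 𝔞 _ hKfg hK hjac
  exact Module.Free.of_equiv (LinearEquiv.ofBijective ψ ⟨LinearMap.ker_eq_bot.1 hKbot, hsurj⟩)

end Local

end Groth.Agent.Lib.Helper14.FibreFree
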