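/-
Helper14 library: a finitely presented quasi-coherent module which is flat over the base at `x`
and whose restriction to the fibre is flat at `x` is free near `x`.
-/
import Groth.Agent.Lib.Helper14.FibreFree
import Groth.Prelude.Def_FlatMod2
import Groth.Agent.Lib.Helper3.SecLoc
import Groth.Agent.Lib.Helper3.QCProps
import Groth.Agent.Lib.Helper3.AssPoints
import Groth.Agent.Lib.Helper3.FreeBasis
import Groth.Agent.Lib.Helper3.SemilocalAlg
import Groth.Agent.Lib.Helper3.AffinePoints

set_option autoImplicit false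
set_option linter.style.haveILetI false
universe u
open CategoryTheory CategoryTheory.Limits AlgebraicGeometry Opposite TopologicalSpace

namespace Groth.Agent.Lib.Helper14.FibreFree

open Groth.Agent.Lib.Helper3 TensorProduct

variable {X S : Scheme.{u}}

attribute [local instance] SecLoc.modBasicOpen

/-- a f.p. quasi-coherent module whose stalk at `x` is free is free near `x`. -/
theorem exists_open_free_of_free_stalk (F : X.Modules) [F.IsQuasicoherent]
    [SheafOfModules.IsFinitePresentation (R := X.ringCatSheaf) F] (x : X)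
    (hfree : Module.Free (X.presheaf.stalk x) (F.presheaf.stalk x)) :
    ∃ (U : X.Opens) (n : ℕ), x ∈ U ∧ Nonempty (F.restrict U.ι ≅ FlatMod.freeMod (↑U) n) := by
  obtain ⟨U₀, hU₀, hx⟩ := QCProps.exists_affine_nbhd x
  obtain ⟨i1, i2, i3, i4, g, hg1, hg2, hg3⟩ := QS.exists_isLocalizedModule hU₀ F x hx
  haveI := QCProps.finitePresentation_sections F hU₀
  haveI : Nontrivial (X.presheaf.stalk x) := inferInstance
  obtain ⟨r, hr, hfr, -⟩ := Module.FinitePresentation.exists_free_localizedModule_powers
    (hU₀.primeIdealOf ⟨x, hx⟩).asIdeal.primeCompl g (X.presheaf.stalk x)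
  haveI := hfr
  haveI : Nontrivial (Localization (Submonoid.powers r)) :=
    (show Localization (Submonoid.powers r) →+* X.presheaf.stalk x from
      IsLocalization.map (M := Submonoid.powers r)
        (T := (hU₀.primeIdealOf ⟨x, hx⟩).asIdeal.primeCompl) _
        (RingHom.id _) (Submonoid.powers_le.mpr hr)).domain_nontrivial
  let b := Module.finBasis (Localization (Submonoid.powers r)) (LocalizedModule.Away r Γ(F, U₀))
  haveI := hU₀.isLocalization_basicOpen r
  haveI := SecLoc.isLocalizedModule_resLin F hU₀ r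
  obtain ⟨b'⟩ := SemilocalAlg.nonempty_basis_of_isLocalizedModule (Submonoid.powers r)
    Γ(X, X.basicOpen r) (SecLoc.resLin F r) b
  refine ⟨X.basicOpen r,
    Module.finrank (Localization (Submonoid.powers r)) (LocalizedModule.Away r Γ(F, U₀)),
    (mem_basicOpen_iff_notMem_primeIdealOf hU₀ x hx r).mpr hr, ?_⟩
  exact FreeBasis.nonempty_iso_of_isBasis
    (SecLoc.isBasis_of_isBasisAt F (hU₀.basicOpen r) (SecLoc.isBasisAt_of_basis F _ b'))

/-- the stalk of a f.p. quasi-coherent module is finitely presented over the local ring -/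
theorem finitePresentation_stalk (F : X.Modules) [F.IsQuasicoherent]
    [SheafOfModules.IsFinitePresentation (R := X.ringCatSheaf) F] (x : X) :
    Module.FinitePresentation (X.presheaf.stalk x) (F.presheaf.stalk x) := by
  obtain ⟨U₀, hU₀, hx⟩ := QCProps.exists_affine_nbhd x
  obtain ⟨i1, i2, i3, i4, g, hg1, hg2, hg3⟩ := QS.exists_isLocalizedModule hU₀ F x hx
  haveI := QCProps.finitePresentation_sections F hU₀
  exact _root_.FinitePresentation.of_isBaseChange g
    ((isLocalizedModule_iff_isBaseChange (hU₀.primeIdealOf ⟨x, hx⟩).asIdeal.primeCompl _ g).1 hg3)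

/-- flat over the base at `x` + fibre flat at `x` ⟹ free near `x` -/
theorem exists_open_free_of_flat_fibre (f : X ⟶ S) (F : X.Modules) [F.IsQuasicoherent]
    [SheafOfModules.IsFinitePresentation (R := X.ringCatSheaf) F] (x : X)
    (h1 : FlatMod.IsFlatOverAt f F x)
    (h2 : Module.Flat (↑(X.presheaf.stalk x) ⧸ Ideal.map (f.stalkMap x).hom
        (IsLocalRing.maximalIdeal ↑(S.presheaf.stalk (f x))))
      (↑(F.presheaf.stalk x) ⧸ (Ideal.map (f.stalkMap x).hom
        (IsLocalRing.maximalIdeal ↑(S.presheaf.stalk (f x))) •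
          (⊤ : Submodule ↑(X.presheaf.stalk x) ↑(F.presheaf.stalk x))))) :
    ∃ (U : X.Opens) (n : ℕ), x ∈ U ∧ Nonempty (F.restrict U.ι ≅ FlatMod.freeMod (↑U) n) := by
  apply exists_open_free_of_free_stalk F x
  haveI := finitePresentation_stalk F x
  letI : Algebra (S.presheaf.stalk (f x)) (X.presheaf.stalk x) := (f.stalkMap x).hom.toAlgebra
  letI := FlatMod.moduleStalkOver f F x
  haveI : IsScalarTower (S.presheaf.stalk (f x)) (X.presheaf.stalk x) (F.presheaf.stalk x) :=
    IsScalarTower.of_algebraMap_smul (fun r y => rfl)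
  haveI : IsLocalHom (algebraMap (S.presheaf.stalk (f x)) (X.presheaf.stalk x)) :=
    inferInstanceAs (IsLocalHom (f.stalkMap x).hom)
  haveI : Module.Flat (S.presheaf.stalk (f x)) (F.presheaf.stalk x) := h1
  exact free_of_flat_of_flat_fibre h2

end Groth.Agent.Lib.Helper14.FibreFree
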