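import Mathlib
import Groth.Prelude.Def_EGA4b
import Groth.Agent.Lib.Helper4.FlatFibre
import Groth.Agent.Lib.Helper4.RegCM

/-!
# Cohen–Macaulayness ascends along flat maps with CM fibres; regular rings are CM (helper14)
-/

set_option autoImplicit false
universe u
open IsLocalRing Groth.Agent.Lib.Helper4 Groth.Agent.Lib.Helper4.FlatRing
  Groth.Agent.Lib.Helper4.FlatFibre

namespace Groth.Agent.Lib.Helper14.CMFlat

theorem cm_of_flat_of_fibres (A B : Type u) [CommRing A] [CommRing B] [IsNoetherianRing B]
    [Algebra A B] [Module.Flat A B] [hA : LocCoh.IsCohenMacaulayRing A]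
    (hfib : ∀ (p : Ideal A) [p.IsPrime], LocCoh.IsCohenMacaulayRing (p.Fiber B)) :
    LocCoh.IsCohenMacaulayRing B := by
  refine { isCohenMacaulayLocalRing_localization := fun q _ => ?_ }
  rw [isCohenMacaulayLocalRing_iff_closedCM]
  intro _
  obtain ⟨h1, h2, -⟩ := exists_local_data A B q
  rw [SerreNormal.height_maximalIdeal_atPrime, h1, h2]
  have hAp := (isCohenMacaulayLocalRing_iff_closedCM _).mp
    (hA.isCohenMacaulayLocalRing_localization (q.comap (algebraMap A B)))
  have hAp' : (maximalIdeal (Localization.AtPrime (q.comap (algebraMap A B)))).height = _ := hAp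
  rw [SerreNormal.height_maximalIdeal_atPrime] at hAp'
  have hF := (isCohenMacaulayRing_fiber_iff A B (q.comap (algebraMap A B))).mp
    (hfib (q.comap (algebraMap A B))) q rfl
  have hF' : (maximalIdeal (EGA4.FibLocRing A B q)).height = _ := hF
  rw [hAp', hF']

theorem cm_of_isRegularRing (A : Type u) [CommRing A] [IsRegularRing A] :
    LocCoh.IsCohenMacaulayRing A :=
  { isCohenMacaulayLocalRing_localization := fun _ _ =>
      RegCM.isCohenMacaulayLocalRing _ }

theorem cm_mvPolynomial {R : Type u} [CommRing R] [LocCoh.IsCohenMacaulayRing R] (n : ℕ) :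
    LocCoh.IsCohenMacaulayRing (MvPolynomial (Fin n) R) := by
  apply cm_of_flat_of_fibres R (MvPolynomial (Fin n) R)
  intro p _
  have e : p.Fiber (MvPolynomial (Fin n) R) ≃ₐ[p.ResidueField]
      MvPolynomial (Fin n) p.ResidueField := MvPolynomial.algebraTensorAlgEquiv R p.ResidueField
  haveI : IsRegularRing (p.Fiber (MvPolynomial (Fin n) R)) :=
    IsRegularRing.of_ringEquiv e.symm.toRingEquiv
  exact cm_of_isRegularRing _

end Groth.Agent.Lib.Helper14.CMFlat
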