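import Mathlib
import Groth.Prelude.Def_EGA4b
import Groth.Agent.Lib.Helper14.CMFlat
import Groth.Agent.Lib.Helper22.DetGen

/-!
# `K ⊗_k L` is Cohen–Macaulay; CM descends to fibres of flat maps (helper14)
-/

set_option autoImplicit false
universe u
open IsLocalRing TensorProduct Groth.Agent.Lib.Helper4 Groth.Agent.Lib.Helper4.FlatRing
  Groth.Agent.Lib.Helper4.FlatFibre

namespace Groth.Agent.Lib.Helper14.CMField

theorem enat_eq_of_add_eq_add {a b c d : ℕ∞} (h : a + b = c + d) (hc : c ≤ a) (hd : d ≤ b)
    (ha : a ≠ ⊤) : b = d := by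
  have hc' : c ≠ ⊤ := ne_top_of_le_ne_top ha hc
  rcases eq_or_ne b ⊤ with hb | hb
  · subst hb
    have hcd : c + d = ⊤ := by rw [← h]; simp
    rcases WithTop.add_eq_top.mp hcd with h1 | h1
    · exact absurd h1 hc'
    · exact h1.symm
  · have hd' : d ≠ ⊤ := ne_top_of_le_ne_top hb hd
    lift a to ℕ using ha
    lift b to ℕ using hb
    lift c to ℕ using hc'
    lift d to ℕ using hd'
    norm_cast at *
    omega

/-- Cohen–Macaulayness descends to the fibres of a flat map. -/
theorem cm_fiber_of_flat (A B : Type u) [CommRing A] [CommRing B] [IsNoetherianRing A]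
    [IsNoetherianRing B] [Algebra A B] [Module.Flat A B] [hB : LocCoh.IsCohenMacaulayRing B]
    (p : Ideal A) [p.IsPrime] : LocCoh.IsCohenMacaulayRing (p.Fiber B) := by
  rw [isCohenMacaulayRing_fiber_iff A B p]
  intro r _ hr _
  obtain ⟨h1, h2, -⟩ := exists_local_data A B r
  have hBr := (isCohenMacaulayLocalRing_iff_closedCM _).mp
    (hB.isCohenMacaulayLocalRing_localization r)
  have hBr' : (maximalIdeal (Localization.AtPrime r)).height =
      LocCoh.depth (Localization.AtPrime r) (Localization.AtPrime r) := hBr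
  rw [SerreNormal.height_maximalIdeal_atPrime, h1, h2] at hBr'
  haveI : IsNoetherianRing (Localization.AtPrime (r.comap (algebraMap A B))) :=
    IsLocalization.isNoetherianRing (r.comap (algebraMap A B)).primeCompl _ inferInstance
  haveI : IsNoetherianRing (Localization.AtPrime r) :=
    IsLocalization.isNoetherianRing r.primeCompl _ inferInstance
  have hle1 := depth_self_le_height (B := Localization.AtPrime (r.comap (algebraMap A B)))
  rw [SerreNormal.height_maximalIdeal_atPrime] at hle1
  have hle2 := depth_self_le_height (B := EGA4.FibLocRing A B r)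
  exact enat_eq_of_add_eq_add hBr' hle1 hle2 Ideal.height_ne_top_of_isPrime

/-- An essentially finite type field extension is the residue field of a prime of a polynomial
ring in finitely many variables. -/
theorem exists_prime_residueField_equiv (k L : Type u) [Field k] [Field L] [Algebra k L]
    [Algebra.EssFiniteType k L] :
    ∃ (σ : Type u) (_ : Finite σ) (P : Ideal (MvPolynomial σ k)) (_ : P.IsPrime),
      Nonempty (P.ResidueField ≃ₐ[k] L) := by
  obtain ⟨s, hs⟩ := (Algebra.essFiniteType_iff (R := k) (S := L)).mp inferInstance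
  let φ : MvPolynomial s k →ₐ[k] L := MvPolynomial.aeval (fun i : s => (i : L))
  have hrange : φ.range = Algebra.adjoin k (s : Set L) := by
    rw [← Algebra.adjoin_range_eq_range_aeval]
    congr 1
    ext x
    simp
  let P : Ideal (MvPolynomial s k) := RingHom.ker φ.toRingHom
  haveI hP : P.IsPrime := RingHom.ker_isPrime φ.toRingHom
  letI : Algebra (MvPolynomial s k) L := φ.toRingHom.toAlgebra
  haveI : IsScalarTower k (MvPolynomial s k) L :=
    IsScalarTower.of_algebraMap_eq (fun x => (φ.commutes x).symm)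
  letI : Algebra (MvPolynomial s k ⧸ P) L := (RingHom.kerLift φ.toRingHom).toAlgebra
  haveI : IsScalarTower (MvPolynomial s k) (MvPolynomial s k ⧸ P) L := ⟨fun x y z => by
    obtain ⟨y, rfl⟩ := Ideal.Quotient.mk_surjective y
    change (RingHom.kerLift φ.toRingHom) (Ideal.Quotient.mk P (x * y)) * z =
      φ x * ((RingHom.kerLift φ.toRingHom) (Ideal.Quotient.mk P y) * z)
    rw [map_mul, map_mul, mul_assoc]
    rfl⟩
  haveI : FaithfulSMul (MvPolynomial s k ⧸ P) L :=
    (faithfulSMul_iff_algebraMap_injective _ _).mpr (RingHom.kerLift_injective _)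
  haveI : IsFractionRing (MvPolynomial s k ⧸ P) L := IsFractionRing.of_field _ _ (by
    intro z
    obtain ⟨t, ht, htu, hzt⟩ := hs z
    rw [← hrange] at ht hzt
    obtain ⟨b, rfl⟩ := ht
    obtain ⟨a, ha⟩ := hzt
    refine ⟨Ideal.Quotient.mk P a, Ideal.Quotient.mk P b, ?_⟩
    have hb : φ b ≠ 0 := htu.ne_zero
    change z = φ a / φ b
    rw [eq_div_iff hb]
    exact ha.symm)
  let e : P.ResidueField ≃ₐ[MvPolynomial s k ⧸ P] L :=
    IsLocalization.algEquiv (nonZeroDivisors (MvPolynomial s k ⧸ P)) P.ResidueField L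
  exact ⟨s, inferInstance, P, hP,
    ⟨(e.restrictScalars (MvPolynomial s k)).restrictScalars k⟩⟩

/-- `K ⊗_k L` is Cohen–Macaulay when `L` is essentially of finite type over `k`. -/
theorem cm_tensor_of_essFiniteType_right (k K L : Type u) [Field k] [Field K] [Field L]
    [Algebra k K] [Algebra k L] [Algebra.EssFiniteType k L] :
    LocCoh.IsCohenMacaulayRing (K ⊗[k] L) := by
  obtain ⟨σ, hσ, P, hP, ⟨e⟩⟩ := exists_prime_residueField_equiv k L
  let e1 : (MvPolynomial σ k ⊗[k] K) ≃+* MvPolynomial σ K :=
    (Algebra.TensorProduct.comm k (MvPolynomial σ k) K).toRingEquiv.trans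
      (MvPolynomial.algebraTensorAlgEquiv k K).toRingEquiv
  haveI : IsRegularRing (MvPolynomial σ k ⊗[k] K) := IsRegularRing.of_ringEquiv e1.symm
  haveI : IsNoetherianRing (MvPolynomial σ k ⊗[k] K) :=
    isNoetherianRing_of_ringEquiv _ e1.symm
  haveI : IsNoetherianRing (MvPolynomial σ k) := inferInstance
  haveI : LocCoh.IsCohenMacaulayRing (MvPolynomial σ k ⊗[k] K) :=
    CMFlat.cm_of_isRegularRing _
  haveI hF : LocCoh.IsCohenMacaulayRing (P.Fiber (MvPolynomial σ k ⊗[k] K)) :=
    cm_fiber_of_flat (MvPolynomial σ k) (MvPolynomial σ k ⊗[k] K) P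
  let e2 : P.Fiber (MvPolynomial σ k ⊗[k] K) ≃+* K ⊗[k] L :=
    ((Algebra.TensorProduct.cancelBaseChange k (MvPolynomial σ k) (MvPolynomial σ k)
      P.ResidueField K).toRingEquiv.trans
      (Algebra.TensorProduct.congr e (AlgEquiv.refl : K ≃ₐ[k] K)).toRingEquiv).trans
      (Algebra.TensorProduct.comm k L K).toRingEquiv
  exact Groth.Agent.Lib.Helper22.CMG.isCMRing_of_ringEquiv
    (R := P.Fiber (MvPolynomial σ k ⊗[k] K)) e2

/-- `K ⊗_k L` is Cohen–Macaulay when one of the two fields is essentially of finite type. -/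
theorem cm_tensor (k K L : Type u) [Field k] [Field K] [Field L] [Algebra k K] [Algebra k L]
    (h : Algebra.EssFiniteType k K ∨ Algebra.EssFiniteType k L) :
    LocCoh.IsCohenMacaulayRing (K ⊗[k] L) := by
  rcases h with h | h
  · haveI := h
    haveI := cm_tensor_of_essFiniteType_right k L K
    exact Groth.Agent.Lib.Helper22.CMG.isCMRing_of_ringEquiv
      (Algebra.TensorProduct.comm k L K).toRingEquiv
  · haveI := h
    exact cm_tensor_of_essFiniteType_right k K L

end Groth.Agent.Lib.Helper14.CMField
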