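import Mathlib
import Groth.Prelude.Def_EGA4b
import Groth.Agent.Lib.Helper14.CMField
import Groth.Agent.Lib.Helper28.Reflexive

/-!
# Codepth and `(S_n)` along flat maps with Cohen–Macaulay fibres; field base change (helper14)
-/

set_option autoImplicit false
universe u
open IsLocalRing TensorProduct Groth.Agent.Lib.Helper4 Groth.Agent.Lib.Helper4.FlatRing
  Groth.Agent.Lib.Helper4.FlatFibre

namespace Groth.Agent.Lib.Helper14.CMFieldBC

section hasSkAt
variable {R : Type u} [CommRing R] [IsNoetherianRing R]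

theorem hasSkAt_self_iff_hasSk (n : ℕ) (q : Ideal R) [q.IsPrime] :
    EGA4.HasSkAt n R R q ↔ LocCoh.HasSk n (Localization.AtPrime q) (Localization.AtPrime q) :=
  ⟨fun h => Groth.Agent.Lib.Helper28.hasSk_congr n
      (Groth.Agent.Lib.Helper28.localizedSelfEquiv q.primeCompl) h,
   fun h => Groth.Agent.Lib.Helper28.hasSk_congr n
      (Groth.Agent.Lib.Helper28.localizedSelfEquiv q.primeCompl).symm h⟩

theorem hasSk_atPrime_iff (n : ℕ) (q : Ideal R) [q.IsPrime] :
    LocCoh.HasSk n (Localization.AtPrime q) (Localization.AtPrime q) ↔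
      ∀ (P : Ideal R) [P.IsPrime], P ≤ q →
        min (n : ℕ∞) P.height ≤
          LocCoh.depth (Localization.AtPrime P) (Localization.AtPrime P) := by
  constructor
  · intro h P _ hPq
    exact min_le_depth_atPrime_of_hasSk_atPrime n P q hPq h
  · intro h
    haveI : IsNoetherianRing (Localization.AtPrime q) :=
      IsLocalization.isNoetherianRing q.primeCompl _ inferInstance
    rw [hasSk_self_iff']
    intro Q' _
    have h1 := h (Q'.comap (algebraMap R (Localization.AtPrime q))) (comap_le_of_prime q Q')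
    have h2 : (Q'.comap (algebraMap R (Localization.AtPrime q))).height = Q'.height :=
      IsLocalization.height_under q.primeCompl Q'
    rw [h2] at h1
    exact h1.trans (Groth.Agent.Lib.Helper5.Hartogs.depth_le_of_ringEquiv
      (IsLocalization.localizationLocalizationAtPrimeIsoLocalization q.primeCompl Q').toRingEquiv)

end hasSkAt

section flat
variable (S B : Type u) [CommRing S] [CommRing B] [IsNoetherianRing S] [IsNoetherianRing B]
  [Algebra S B] [Module.Flat S B]

/-- Below a prime `q₀` of `B` and over a prime `r ≤ q₀ ∩ S` there is a prime whose fibre local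
ring has dimension and depth zero. -/
theorem exists_prime_le_fibre_dim_zero (q₀ : Ideal B) [q₀.IsPrime] (r : Ideal S) [hrp : r.IsPrime]
    (hr : r ≤ q₀.comap (algebraMap S B)) :
    ∃ (s : Ideal B) (_ : s.IsPrime), s ≤ q₀ ∧ s.comap (algebraMap S B) = r ∧
      (maximalIdeal (EGA4.FibLocRing S B s)).height = 0 ∧
      LocCoh.depth (EGA4.FibLocRing S B s) (EGA4.FibLocRing S B s) = 0 := by
  have hle : r.map (algebraMap S B) ≤ q₀ := Ideal.map_le_iff_le_comap.mpr hr
  obtain ⟨s, hsmin, hsle⟩ := Ideal.exists_minimalPrimes_le hle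
  haveI hsprime : s.IsPrime := hsmin.1.1
  have hge : r ≤ s.comap (algebraMap S B) := by
    rw [← Ideal.map_le_iff_le_comap]; exact hsmin.1.2
  have hsr : s.comap (algebraMap S B) = r := by
    haveI : (s.comap (algebraMap S B)).IsPrime := Ideal.IsPrime.comap _
    haveI : s.LiesOver (s.comap (algebraMap S B)) := ⟨rfl⟩
    obtain ⟨s', hs's, hs'p, hs'over⟩ :=
      Ideal.exists_ideal_le_liesOver_of_le (p := r) (q := s.comap (algebraMap S B)) s hge
    have h1 : r.map (algebraMap S B) ≤ s' := by
      rw [Ideal.map_le_iff_le_comap]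
      exact hs'over.over.le
    have h2 : s ≤ s' := hsmin.2 ⟨hs'p, h1⟩ hs's
    have h3 : s = s' := le_antisymm h2 hs's
    rw [h3]
    exact hs'over.over.symm
  haveI : s.LiesOver r := ⟨hsr.symm⟩
  have hht := Ideal.height_eq_height_add_of_liesOver_of_hasGoingDown r s
  have hmem := map_mk_mem_minimalPrimes hsmin
  haveI : (s.map (Ideal.Quotient.mk (r.map (algebraMap S B)))).IsPrime := hmem.1.1
  have h0 : (s.map (Ideal.Quotient.mk (r.map (algebraMap S B)))).height = 0 :=
    Ideal.height_eq_zero_iff.mpr hmem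
  rw [h0, add_zero] at hht
  obtain ⟨h1, -, -⟩ := exists_local_data S B s
  have hsr' : (s.comap (algebraMap S B)).height = r.height := by rw [hsr]
  rw [hsr', hht] at h1
  have hfin : r.height ≠ ⊤ := Ideal.height_ne_top_of_isPrime
  have h2 : r.height + (maximalIdeal (EGA4.FibLocRing S B s)).height ≤ r.height + 0 := by
    rw [add_zero]; exact h1.ge
  have h3 : (maximalIdeal (EGA4.FibLocRing S B s)).height = 0 :=
    nonpos_iff_eq_zero.mp ((ENat.add_le_add_iff_left hfin).mp h2)
  refine ⟨s, hsprime, hsle, hsr, h3, ?_⟩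
  have h4 := depth_self_le_height (B := EGA4.FibLocRing S B s)
  rw [h3] at h4
  exact nonpos_iff_eq_zero.mp h4

/-- Height and depth formulas at a prime whose fibre is Cohen–Macaulay. -/
theorem local_formulas_of_cm_fibre (q' : Ideal B) [q'.IsPrime]
    (hF : LocCoh.IsCohenMacaulayRing ((q'.comap (algebraMap S B)).Fiber B)) :
    ∃ c : ℕ∞, c ≠ ⊤ ∧ q'.height = (q'.comap (algebraMap S B)).height + c ∧
      LocCoh.depth (Localization.AtPrime q') (Localization.AtPrime q') =
        LocCoh.depth (Localization.AtPrime (q'.comap (algebraMap S B)))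
          (Localization.AtPrime (q'.comap (algebraMap S B))) + c := by
  obtain ⟨h1, h2, -⟩ := exists_local_data S B q'
  have hc := (isCohenMacaulayRing_fiber_iff S B (q'.comap (algebraMap S B))).mp hF q' rfl
  have hc' : (maximalIdeal (EGA4.FibLocRing S B q')).height =
      LocCoh.depth (EGA4.FibLocRing S B q') (EGA4.FibLocRing S B q') := hc
  refine ⟨(maximalIdeal (EGA4.FibLocRing S B q')).height, Ideal.height_ne_top_of_isPrime, h1, ?_⟩
  rw [h2, hc']

theorem hasSkAt_iff (hfib : ∀ (P : Ideal S) [P.IsPrime], LocCoh.IsCohenMacaulayRing (P.Fiber B))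
    (n : ℕ) (q' : Ideal B) [q'.IsPrime] :
    EGA4.HasSkAt n S S (q'.comap (algebraMap S B)) ↔ EGA4.HasSkAt n B B q' := by
  rw [hasSkAt_self_iff_hasSk, hasSkAt_self_iff_hasSk, hasSk_atPrime_iff, hasSk_atPrime_iff]
  constructor
  · intro h P' _ hP'
    obtain ⟨c, hc, h1, h2⟩ := local_formulas_of_cm_fibre S B P' (hfib _)
    have h3 := h (P'.comap (algebraMap S B)) (Ideal.comap_mono hP')
    rw [h1, h2]
    exact (min_add_le _ _ _).trans (add_le_add h3 (min_le_right _ _))
  · intro h P _ hP
    obtain ⟨s, hs, hsq, hsP, h0, hd0⟩ := exists_prime_le_fibre_dim_zero S B q' P hP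
    obtain ⟨h1, h2, -⟩ := exists_local_data S B s
    have h3 := h s hsq
    rw [h1, h2, h0, hd0, add_zero, add_zero] at h3
    subst hsP
    exact h3

theorem codepth_eq (q' : Ideal B) [q'.IsPrime]
    (hF : LocCoh.IsCohenMacaulayRing ((q'.comap (algebraMap S B)).Fiber B)) :
    ringKrullDim (Localization.AtPrime (q'.comap (algebraMap S B))) +
        ((LocCoh.depth (Localization.AtPrime q') (Localization.AtPrime q') : ℕ∞) : WithBot ℕ∞) =
      ringKrullDim (Localization.AtPrime q') +
        ((LocCoh.depth (Localization.AtPrime (q'.comap (algebraMap S B)))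
          (Localization.AtPrime (q'.comap (algebraMap S B))) : ℕ∞) : WithBot ℕ∞) := by
  obtain ⟨c, hc, h1, h2⟩ := local_formulas_of_cm_fibre S B q' hF
  rw [IsLocalization.AtPrime.ringKrullDim_eq_height (q'.comap (algebraMap S B))
    (Localization.AtPrime (q'.comap (algebraMap S B))),
    IsLocalization.AtPrime.ringKrullDim_eq_height q' (Localization.AtPrime q'), h1, h2]
  push_cast
  abel

end flat

section field
variable (k S k' : Type u) [Field k] [CommRing S] [Algebra k S] [Field k'] [Algebra k k']

theorem cm_fiber_tensor (P : Ideal S) [P.IsPrime]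
    (h : Algebra.EssFiniteType k P.ResidueField ∨ Algebra.EssFiniteType k k') :
    LocCoh.IsCohenMacaulayRing (P.Fiber (S ⊗[k] k')) := by
  haveI := CMField.cm_tensor k P.ResidueField k' h
  exact Groth.Agent.Lib.Helper22.CMG.isCMRing_of_ringEquiv (R := P.ResidueField ⊗[k] k')
    (Algebra.TensorProduct.cancelBaseChange k S S P.ResidueField k').symm.toRingEquiv

theorem cm_fiber_tensor' (hft : Algebra.FiniteType k S ∨ Algebra.EssFiniteType k k')
    (P : Ideal S) [P.IsPrime] :
    LocCoh.IsCohenMacaulayRing (P.Fiber (S ⊗[k] k')) := by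
  apply cm_fiber_tensor
  rcases hft with h | h
  · left
    haveI := h
    exact Algebra.EssFiniteType.comp k S P.ResidueField
  · right; exact h

end field

end Groth.Agent.Lib.Helper14.CMFieldBC
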