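import Mathlib
import Groth.Agent.Lib.Helper14.GeomRedAt

/-!
# The local ring of a base change `X ×_A T` as a localization of `𝒪_{X,x} ⊗_A T` (helper14)
-/

set_option autoImplicit false
universe u

open CategoryTheory CategoryTheory.Limits AlgebraicGeometry TopologicalSpace
open scoped TensorProduct

namespace Groth.Agent.Lib.Helper14.StalkTensor

open Groth.Agent.Lib.Helper14.GeomRedAt

variable {A : Type u} [CommRing A] {X : Scheme.{u}} (f : X ⟶ Spec (CommRingCat.of A))

/-- The canonical `A`-algebra structure on a local ring of a scheme over `Spec A`. -/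
noncomputable abbrev stalkAlgA (x : X) : Algebra A (X.presheaf.stalk x) :=
  (Spec.preimage (X.fromSpecStalk x ≫ f)).hom.toAlgebra

theorem stalkAlgA_compat (x : X) :
    X.fromSpecStalk x ≫ f =
      Spec.map (CommRingCat.ofHom (@algebraMap A (X.presheaf.stalk x) _ _ (stalkAlgA f x))) :=
  (Spec.map_preimage _).symm

variable (T : Type u) [CommRing T] [Algebra A T]

/-- `Spec 𝒪_{X,x} ×_X (X ×_A T) ≅ Spec (𝒪_{X,x} ⊗_A T)`. -/
noncomputable def pullbackFromSpecStalkIsoA (x : X) [Algebra A (X.presheaf.stalk x)]
    (hc : X.fromSpecStalk x ≫ f =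
      Spec.map (CommRingCat.ofHom (algebraMap A (X.presheaf.stalk x)))) :
    pullback (pullback.fst f (Spec.map (CommRingCat.ofHom (algebraMap A T))))
      (X.fromSpecStalk x) ≅ Spec (CommRingCat.of ((X.presheaf.stalk x) ⊗[A] T)) :=
  have h1 : IsPullback
      (pullback.fst (pullback.fst f (Spec.map (CommRingCat.ofHom (algebraMap A T))))
        (X.fromSpecStalk x))
      (pullback.snd (pullback.fst f (Spec.map (CommRingCat.ofHom (algebraMap A T))))
        (X.fromSpecStalk x))
      (pullback.fst f (Spec.map (CommRingCat.ofHom (algebraMap A T)))) (X.fromSpecStalk x) :=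
    IsPullback.of_hasPullback _ _
  have h3 := (h1.paste_horiz
    (IsPullback.of_hasPullback f (Spec.map (CommRingCat.ofHom (algebraMap A T)))).flip).flip
  (hc ▸ h3).isoPullback ≪≫ pullbackSpecIso A (X.presheaf.stalk x) T

theorem pullbackFromSpecStalkIsoA_hom_fst (x : X) [Algebra A (X.presheaf.stalk x)]
    (hc : X.fromSpecStalk x ≫ f =
      Spec.map (CommRingCat.ofHom (algebraMap A (X.presheaf.stalk x)))) :
    (pullbackFromSpecStalkIsoA f T x hc).hom ≫
      Spec.map (CommRingCat.ofHom (Algebra.TensorProduct.includeLeftRingHom :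
        (X.presheaf.stalk x) →+* (X.presheaf.stalk x) ⊗[A] T)) =
      pullback.snd (pullback.fst f (Spec.map (CommRingCat.ofHom (algebraMap A T))))
        (X.fromSpecStalk x) := by
  unfold pullbackFromSpecStalkIsoA
  simp only [Iso.trans_hom, Category.assoc]
  rw [pullbackSpecIso_hom_fst, IsPullback.isoPullback_hom_fst]

/-- **The local ring of a base change.** For `y ∈ X ×_A T` over `x ∈ X`, the local ring at `y`
is the localization of `𝒪_{X,x} ⊗_A T` at a prime lying over the maximal ideal of `𝒪_{X,x}`. -/
theorem exists_prime_stalk_equiv (x : X) [Algebra A (X.presheaf.stalk x)]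
    (hc : X.fromSpecStalk x ≫ f =
      Spec.map (CommRingCat.ofHom (algebraMap A (X.presheaf.stalk x))))
    (y : ↥(pullback f (Spec.map (CommRingCat.ofHom (algebraMap A T)))))
    (hy : (pullback.fst f (Spec.map (CommRingCat.ofHom (algebraMap A T)))) y = x) :
    ∃ (Q : Ideal ((X.presheaf.stalk x) ⊗[A] T)) (_ : Q.IsPrime),
      Q.comap (Algebra.TensorProduct.includeLeftRingHom :
        (X.presheaf.stalk x) →+* (X.presheaf.stalk x) ⊗[A] T) =
        IsLocalRing.maximalIdeal _ ∧
      Nonempty ((pullback f (Spec.map (CommRingCat.ofHom (algebraMap A T)))).presheaf.stalk y ≃+*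
        Localization.AtPrime Q) := by
  set g := pullback.fst f (Spec.map (CommRingCat.ofHom (algebraMap A T))) with hg
  set j := X.fromSpecStalk x with hj
  let e := pullbackFromSpecStalkIsoA f T x hc
  obtain ⟨w, hw1, hw2⟩ := Scheme.Pullback.exists_preimage_pullback (f := g) (g := j) y
    (IsLocalRing.closedPoint _) (hy.trans (Scheme.fromSpecStalk_closedPoint).symm)
  let q : ↥(Spec (CommRingCat.of ((X.presheaf.stalk x) ⊗[A] T))) := e.hom w
  refine ⟨q.asIdeal, q.isPrime, ?_, ?_⟩
  · have h1 : (Spec.map (CommRingCat.ofHom (Algebra.TensorProduct.includeLeftRingHom :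
        (X.presheaf.stalk x) →+* (X.presheaf.stalk x) ⊗[A] T))) q = IsLocalRing.closedPoint _ := by
      rw [← hw2]
      show (e.hom ≫ Spec.map _) w = _
      rw [pullbackFromSpecStalkIsoA_hom_fst]
    exact congrArg PrimeSpectrum.asIdeal h1
  · -- the chain of isomorphisms
    have hb1 := stalkMap_bijective_of_flat_of_surjectiveOnStalks (pullback.fst g j) w
    have key : ∀ (y' : ↥(pullback f (Spec.map (CommRingCat.ofHom (algebraMap A T)))))
        (_ : (pullback.fst g j) w = y'),
        Nonempty ((pullback f (Spec.map (CommRingCat.ofHom (algebraMap A T)))).presheaf.stalk y' ≃+*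
          Localization.AtPrime q.asIdeal) := by
      rintro y' rfl
      let e1 := RingEquiv.ofBijective ((pullback.fst g j).stalkMap w).hom hb1
      let e2 := (asIso (e.hom.stalkMap w)).commRingCatIsoToRingEquiv
      let e3 := (AlgebraicGeometry.StructureSheaf.stalkIso
        (CommRingCat.of ((X.presheaf.stalk x) ⊗[A] T)) q).toRingEquiv
      exact ⟨e1.trans (e2.symm.trans e3.symm)⟩
    exact key y hw1

end Groth.Agent.Lib.Helper14.StalkTensor
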