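import Mathlib
import Groth.Prelude.Def_CurvBase
import Groth.Agent.Lib.Helper14.CMFieldBC
import Groth.Agent.Lib.Helper14.StalkTensor
import Groth.Agent.Lib.Helper14.GeomRegSmooth
import Groth.Agent.Lib.Helper22.CMGlue

/-!
# Cohen–Macaulayness of local rings under base field extension (helper14)
-/

set_option autoImplicit false
universe u
open CategoryTheory CategoryTheory.Limits AlgebraicGeometry IsLocalRing TensorProduct
  Groth.Agent.Lib.Helper4 Groth.Agent.Lib.Helper4.FlatRing Groth.Agent.Lib.Helper4.FlatFibre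

namespace Groth.Agent.Lib.Helper14.CMFieldBCSch

open Groth.Agent.Lib.Helper14.CMFieldBC Groth.Agent.Lib.Helper14.StalkTensor

section ring
variable (k S k' : Type u) [Field k] [CommRing S] [Algebra k S] [Field k'] [Algebra k k']
  [IsNoetherianRing S] [IsNoetherianRing (S ⊗[k] k')]

theorem cm_atPrime_iff (q' : Ideal (S ⊗[k] k')) [q'.IsPrime]
    (h : Algebra.EssFiniteType k (q'.comap (algebraMap S (S ⊗[k] k'))).ResidueField ∨
      Algebra.EssFiniteType k k') :
    LocCoh.IsCohenMacaulayLocalRing
        (Localization.AtPrime (q'.comap (algebraMap S (S ⊗[k] k')))) ↔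
      LocCoh.IsCohenMacaulayLocalRing (Localization.AtPrime q') := by
  obtain ⟨c, hc, h1, h2⟩ := local_formulas_of_cm_fibre S (S ⊗[k] k') q'
    (cm_fiber_tensor k S k' _ h)
  haveI : IsNoetherianRing (Localization.AtPrime q') :=
    IsLocalization.isNoetherianRing q'.primeCompl _ inferInstance
  haveI : IsNoetherianRing (Localization.AtPrime (q'.comap (algebraMap S (S ⊗[k] k')))) :=
    IsLocalization.isNoetherianRing (q'.comap (algebraMap S (S ⊗[k] k'))).primeCompl _
      inferInstance
  rw [isCohenMacaulayLocalRing_iff_closedCM, isCohenMacaulayLocalRing_iff_closedCM]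
  constructor
  · intro hcm _
    have h3 : (maximalIdeal (Localization.AtPrime
        (q'.comap (algebraMap S (S ⊗[k] k'))))).height = _ := hcm
    rw [SerreNormal.height_maximalIdeal_atPrime] at h3 ⊢
    rw [h1, h2, h3]
  · intro hcm _
    have h3 : (maximalIdeal (Localization.AtPrime q')).height = _ := hcm
    rw [SerreNormal.height_maximalIdeal_atPrime] at h3 ⊢
    rw [h1, h2] at h3
    exact le_antisymm ((ENat.add_le_add_iff_right hc).mp h3.le)
      ((ENat.add_le_add_iff_right hc).mp h3.ge)

omit [IsNoetherianRing S] in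
theorem cm_atPrime_maximalIdeal_iff [IsLocalRing S] (P : Ideal S) [P.IsPrime]
    (hP : P = maximalIdeal S) :
    LocCoh.IsCohenMacaulayLocalRing (Localization.AtPrime P) ↔
      LocCoh.IsCohenMacaulayLocalRing S := by
  subst hP
  let e : S ≃ₐ[S] Localization.AtPrime (maximalIdeal S) :=
    IsLocalization.atUnits S (maximalIdeal S).primeCompl (by
      intro x hx
      exact IsLocalRing.notMem_maximalIdeal.mp hx)
  constructor
  · intro h
    exact Groth.Agent.Lib.Helper22.CMG.isCMLocalRing_of_ringEquiv e.symm.toRingEquiv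
  · intro h
    exact Groth.Agent.Lib.Helper22.CMG.isCMLocalRing_of_ringEquiv e.toRingEquiv

end ring

section scheme
variable {k : Type u} [Field k] {X : Scheme.{u}} (f : X ⟶ Spec (CommRingCat.of k))

open Groth.Agent.Lib.Helper14.GeomRegSmooth in
theorem algebraMap_stalkAlgA (x : X) :
    @algebraMap k (X.presheaf.stalk x) _ _ (stalkAlgA f x) = stalkStr f x := by
  rw [stalkStr_eq]
  have h : X.fromSpecStalk x ≫ f = Spec.map (((Scheme.ΓSpecIso (CommRingCat.of k)).inv ≫
      (Spec (CommRingCat.of k)).presheaf.germ ⊤ (f x) trivial) ≫ f.stalkMap x) := by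
    rw [Spec.map_comp, ← Spec.fromSpecStalk_eq, Scheme.SpecMap_stalkMap_fromSpecStalk]
  change (Spec.preimage (X.fromSpecStalk x ≫ f)).hom = _
  rw [h, Spec.preimage_map]
  rfl

variable (k' : Type u) [Field k'] [Algebra k k']

local notation "qk" => Spec.map (CommRingCat.ofHom (algebraMap k k'))

/-- The key statement: Cohen–Macaulayness at `x'` and at its image, given the Noetherian and
finiteness hypotheses needed for the fibre. -/
theorem cm_stalk_iff [IsLocallyNoetherian X] (x' : ↥(pullback f qk))
    (hN : letI := stalkAlgA f ((pullback.fst f qk) x')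
      IsNoetherianRing (X.presheaf.stalk ((pullback.fst f qk) x') ⊗[k] k'))
    (h : letI := stalkAlgA f ((pullback.fst f qk) x')
      Algebra.EssFiniteType k (X.presheaf.stalk ((pullback.fst f qk) x')) ∨
      Algebra.EssFiniteType k k') :
    LocCoh.IsCohenMacaulayLocalRing (X.presheaf.stalk ((pullback.fst f qk) x')) ↔
      LocCoh.IsCohenMacaulayLocalRing ((pullback f qk).presheaf.stalk x') := by
  letI := stalkAlgA f ((pullback.fst f qk) x')
  have hc := stalkAlgA_compat f ((pullback.fst f qk) x')
  haveI := hN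
  obtain ⟨Q, hQp, hQ1, ⟨e⟩⟩ := exists_prime_stalk_equiv f k' ((pullback.fst f qk) x') hc x' rfl
  have hQ1' : Q.comap (algebraMap (X.presheaf.stalk ((pullback.fst f qk) x'))
      (X.presheaf.stalk ((pullback.fst f qk) x') ⊗[k] k')) = maximalIdeal _ := hQ1
  have h' : Algebra.EssFiniteType k (Q.comap (algebraMap (X.presheaf.stalk ((pullback.fst f qk) x'))
      (X.presheaf.stalk ((pullback.fst f qk) x') ⊗[k] k'))).ResidueField ∨
      Algebra.EssFiniteType k k' := by
    rcases h with h | h
    · left
      haveI := h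
      exact Algebra.EssFiniteType.comp k (X.presheaf.stalk ((pullback.fst f qk) x')) _
    · right; exact h
  have key := cm_atPrime_iff k (X.presheaf.stalk ((pullback.fst f qk) x')) k' Q h'
  rw [cm_atPrime_maximalIdeal_iff _ _ hQ1'] at key
  rw [key]
  constructor
  · intro hh
    exact Groth.Agent.Lib.Helper22.CMG.isCMLocalRing_of_ringEquiv e.symm
  · intro hh
    exact Groth.Agent.Lib.Helper22.CMG.isCMLocalRing_of_ringEquiv e

end scheme

end Groth.Agent.Lib.Helper14.CMFieldBCSch
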