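import Mathlib

/-!
Kernel of the Rees algebra presentation `A[X_1..X_n] → A[T]`, `X_i ↦ a_i T`, for a weakly
regular sequence.
-/

namespace Groth.Agent.Lib.Helper14.ReesKer

open MvPolynomial

universe u

section Basic

variable {A : Type u} [CommRing A] {n : ℕ} (a : Fin n → A)

/-- The Rees map. -/
noncomputable def phi : MvPolynomial (Fin n) A →ₐ[A] Polynomial A :=
  aeval (fun i => Polynomial.C (a i) * Polynomial.X)

/-- The Koszul-type generator `a_i X_j - a_j X_i`. -/
noncomputable def gen (i j : Fin n) : MvPolynomial (Fin n) A := C (a i) * X j - C (a j) * X i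

/-- The ideal generated by the `gen a i j`. -/
noncomputable def L : Ideal (MvPolynomial (Fin n) A) :=
  Ideal.span {q | ∃ i j : Fin n, q = C (a i) * X j - C (a j) * X i}

/-- The ideal generated by the first `k` elements of the sequence. -/
def I (k : ℕ) : Ideal A := Ideal.span (a '' {j | j.val < k})

/-- Elementwise weak regularity. -/
def Reg : Prop := ∀ i : Fin n, ∀ x : A, a i * x ∈ I a i.val → x ∈ I a i.val

theorem reg_of_isWeaklyRegular
    (ha : RingTheory.Sequence.IsWeaklyRegular A (List.ofFn a)) : Reg a := by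
  intro i x hx
  have h := (RingTheory.Sequence.isWeaklyRegular_iff A (List.ofFn a)).mp ha i.val
    (by rw [List.length_ofFn]; exact i.isLt)
  have hI : (Ideal.ofList ((List.ofFn a).take i.val) • ⊤ : Submodule A A) = I a i.val := by
    rw [smul_eq_mul, Ideal.mul_top]
    unfold I Ideal.ofList
    congr 1
    ext r
    simp only [Set.mem_setOf_eq, Set.mem_image, List.mem_take_iff_getElem, List.getElem_ofFn]
    constructor
    · rintro ⟨j, hj, rfl⟩
      simp only [List.length_ofFn, lt_inf_iff] at hj
      exact ⟨⟨j, hj.2⟩, hj.1, rfl⟩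
    · rintro ⟨j, hj, rfl⟩
      exact ⟨j.val, by simp [hj], rfl⟩
  have h2 := (isSMulRegular_quotient_iff_mem_of_smul_mem _ _).mp h x
  rw [hI] at h2
  apply h2
  rw [List.getElem_ofFn, smul_eq_mul]
  exact hx

theorem phi_C (r : A) : phi a (C r) = Polynomial.C r := by
  unfold phi
  rw [aeval_C, Polynomial.algebraMap_eq]

theorem phi_X (i : Fin n) : phi a (X i) = Polynomial.C (a i) * Polynomial.X := by
  unfold phi
  rw [aeval_X]

theorem gen_mem_L (i j : Fin n) : gen a i j ∈ L a := Ideal.subset_span ⟨i, j, rfl⟩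

theorem phi_gen (i j : Fin n) : phi a (gen a i j) = 0 := by
  unfold gen
  rw [map_sub, map_mul, map_mul, phi_C, phi_C, phi_X, phi_X]
  ring

theorem L_le_ker : L a ≤ RingHom.ker (phi a) := by
  unfold L
  rw [Ideal.span_le]
  rintro _ ⟨i, j, rfl⟩
  exact phi_gen a i j

theorem phi_monomial (m : Fin n →₀ ℕ) (c : A) :
    phi a (monomial m c) =
      Polynomial.C (c * m.prod fun i k => a i ^ k) * Polynomial.X ^ m.degree := by
  unfold phi
  rw [aeval_monomial, Polynomial.algebraMap_eq, Polynomial.C_mul, mul_assoc]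
  congr 1
  simp only [Finsupp.prod, mul_pow, Finset.prod_mul_distrib, map_prod, map_pow,
    Finset.prod_pow_eq_pow_sum]
  rfl

theorem phi_homogeneousComponent (d : ℕ) (F : MvPolynomial (Fin n) A) :
    phi a (homogeneousComponent d F) =
      Polynomial.C ((phi a F).coeff d) * Polynomial.X ^ d := by
  induction F using MvPolynomial.induction_on' with
  | monomial m c =>
    rw [homogeneousComponent_of_mem (isHomogeneous_monomial c rfl), phi_monomial,
      Polynomial.coeff_C_mul_X_pow]
    by_cases h : d = m.degree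
    · rw [if_pos h, if_pos h, phi_monomial, h]
    · rw [if_neg h, if_neg h, map_zero, map_zero, zero_mul]
  | add p q hp hq =>
    rw [map_add, map_add, hp, hq, map_add, Polynomial.coeff_add, map_add, add_mul]

theorem L_isHomogeneous (d : ℕ) {F : MvPolynomial (Fin n) A} (hF : F ∈ L a) :
    homogeneousComponent d F ∈ L a := by
  letI := MvPolynomial.gradedAlgebra (σ := Fin n) (R := A)
  refine homogeneousComponent_mem_of_mem ?_ hF d
  unfold L
  refine Ideal.homogeneous_span _ _ ?_
  rintro _ ⟨i, j, rfl⟩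
  refine ⟨1, ?_⟩
  exact ((isHomogeneous_X A j).C_mul (a i)).sub ((isHomogeneous_X A i).C_mul (a j))

theorem homogeneousComponent_X_mul (i : Fin n) (d : ℕ) (p : MvPolynomial (Fin n) A) :
    homogeneousComponent (d + 1) (X i * p) = X i * homogeneousComponent d p := by
  letI := MvPolynomial.gradedAlgebra (σ := Fin n) (R := A)
  have h := DirectSum.coe_decompose_mul_add_of_left_mem (homogeneousSubmodule (Fin n) A)
    (i := 1) (j := d) (a := X i) (b := p) (isHomogeneous_X A i)
  rw [add_comm 1 d] at h
  have e1 := decomposition.decompose'_apply (X i * p) (d + 1)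
  have e2 := decomposition.decompose'_apply p d
  rw [← e1, ← e2]
  exact h

theorem phi_X_mul_eq_zero (i : Fin n) (hi : ∀ x, a i * x = 0 → x = 0)
    (q : MvPolynomial (Fin n) A) (h : phi a (X i * q) = 0) : phi a q = 0 := by
  rw [map_mul, phi_X] at h
  ext k
  have := congrArg (fun g => Polynomial.coeff g (k + 1)) h
  simp only [mul_assoc, Polynomial.coeff_C_mul, Polynomial.coeff_X_mul, Polynomial.coeff_zero]
    at this
  rw [Polynomial.coeff_zero]
  exact hi _ this

end Basic

section Succ

variable {A : Type u} [CommRing A] {n : ℕ} (a : Fin (n + 1) → A)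

theorem exists_C_mul_sub_mem (G : MvPolynomial (Fin (n + 1)) A) :
    ∃ G' : MvPolynomial (Fin (n + 1)) A,
      C (a 0) * G - C (a 0 * constantCoeff G) - X 0 * G' ∈ L a := by
  induction G using MvPolynomial.induction_on with
  | C r => exact ⟨0, by simp⟩
  | add p q hp hq =>
    obtain ⟨p', hp'⟩ := hp
    obtain ⟨q', hq'⟩ := hq
    refine ⟨p' + q', ?_⟩
    have : C (a 0) * (p + q) - C (a 0 * constantCoeff (p + q)) - X 0 * (p' + q') =
        (C (a 0) * p - C (a 0 * constantCoeff p) - X 0 * p') +
          (C (a 0) * q - C (a 0 * constantCoeff q) - X 0 * q') := by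
      rw [map_add, mul_add (a 0), map_add]
      ring
    rw [this]
    exact Ideal.add_mem _ hp' hq'
  | mul_X p i hp =>
    refine ⟨C (a i) * p, ?_⟩
    have : C (a 0) * (p * X i) - C (a 0 * constantCoeff (p * X i)) - X 0 * (C (a i) * p) =
        p * gen a 0 i := by
      rw [map_mul constantCoeff, constantCoeff_X, mul_zero, mul_zero, map_zero, sub_zero]
      unfold gen
      ring
    rw [this]
    exact Ideal.mul_mem_left _ _ (gen_mem_L a 0 i)

/-- The quotient ring `A / (a 0)`. -/
abbrev Abar : Type u := A ⧸ Ideal.span {a 0}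

/-- The image sequence. -/
def abar : Fin n → Abar a := fun i => Ideal.Quotient.mk _ (a i.succ)

theorem I_abar (k : ℕ) : I (abar a) k = (I a (k + 1)).map (Ideal.Quotient.mk (Ideal.span {a 0})) := by
  unfold I
  rw [Ideal.map_span]
  apply le_antisymm
  · rw [Ideal.span_le]
    rintro _ ⟨j, hj, rfl⟩
    refine Ideal.subset_span ⟨a j.succ, ⟨j.succ, ?_, rfl⟩, rfl⟩
    simpa using hj
  · rw [Ideal.span_le]
    rintro _ ⟨_, ⟨j, hj, rfl⟩, rfl⟩
    rcases Fin.eq_zero_or_eq_succ j with rfl | ⟨j', rfl⟩
    · have : Ideal.Quotient.mk (Ideal.span {a 0}) (a 0) = 0 :=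
        Ideal.Quotient.eq_zero_iff_mem.mpr (Ideal.mem_span_singleton_self _)
      rw [this]
      exact Ideal.zero_mem _
    · refine Ideal.subset_span ⟨j', ?_, rfl⟩
      simpa using hj

theorem reg_abar (h : Reg a) : Reg (abar a) := by
  intro i xb hx
  obtain ⟨x, rfl⟩ := Ideal.Quotient.mk_surjective xb
  rw [I_abar] at hx ⊢
  have hle : Ideal.span {a 0} ≤ I a (i.val + 1) := by
    rw [Ideal.span_le, Set.singleton_subset_iff]
    exact Ideal.subset_span ⟨0, by simp, rfl⟩
  have e : abar a i * Ideal.Quotient.mk (Ideal.span {a 0}) x =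
      Ideal.Quotient.mk (Ideal.span {a 0}) (a i.succ * x) := by
    rw [map_mul]; rfl
  rw [e, Ideal.mem_quotient_iff_mem hle] at hx
  rw [Ideal.mem_quotient_iff_mem hle]
  have := h i.succ x
  simp only [Fin.val_succ] at this
  exact this hx

/-- The ideal `L a ⊔ (X 0, C (a 0))`. -/
noncomputable def K : Ideal (MvPolynomial (Fin (n + 1)) A) :=
  L a ⊔ Ideal.span {X 0, C (a 0)}

theorem X0_mem_K : (X 0 : MvPolynomial (Fin (n + 1)) A) ∈ K a :=
  Ideal.mem_sup_right (Ideal.subset_span (by simp))

theorem Ca0_mem_K : (C (a 0) : MvPolynomial (Fin (n + 1)) A) ∈ K a :=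
  Ideal.mem_sup_right (Ideal.subset_span (by simp))

/-- Reduction modulo `a 0` and `X 0`. -/
noncomputable def rho : MvPolynomial (Fin (n + 1)) A →+* MvPolynomial (Fin n) (Abar a) :=
  eval₂Hom (C.comp (Ideal.Quotient.mk _)) (Fin.cases 0 X)

theorem rho_C (r : A) : rho a (C r) = C (Ideal.Quotient.mk _ r) := by
  unfold rho
  rw [eval₂Hom_C]
  rfl

theorem rho_X_zero : rho a (X 0) = 0 := by
  unfold rho
  rw [eval₂Hom_X']
  rfl

theorem rho_X_succ (i : Fin n) : rho a (X i.succ) = X i := by
  unfold rho
  rw [eval₂Hom_X']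
  rfl

/-- A partial inverse of `rho` modulo `K`. -/
noncomputable def psi : MvPolynomial (Fin n) (Abar a) →+* MvPolynomial (Fin (n + 1)) A ⧸ K a :=
  eval₂Hom (Ideal.Quotient.lift (Ideal.span {a 0}) ((Ideal.Quotient.mk (K a)).comp C) (by
    intro x hx
    obtain ⟨y, rfl⟩ := Ideal.mem_span_singleton'.mp hx
    rw [RingHom.comp_apply, Ideal.Quotient.eq_zero_iff_mem, map_mul]
    exact Ideal.mul_mem_left _ _ (Ca0_mem_K a)))
    (fun i => Ideal.Quotient.mk (K a) (X i.succ))

theorem psi_rho (F : MvPolynomial (Fin (n + 1)) A) :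
    psi a (rho a F) = Ideal.Quotient.mk (K a) F := by
  have : (psi a).comp (rho a) = Ideal.Quotient.mk (K a) := by
    apply MvPolynomial.ringHom_ext
    · intro r
      rw [RingHom.comp_apply, rho_C]
      unfold psi
      rw [eval₂Hom_C, Ideal.Quotient.lift_mk, RingHom.comp_apply]
    · intro i
      rw [RingHom.comp_apply]
      rcases Fin.eq_zero_or_eq_succ i with rfl | ⟨j, rfl⟩
      · rw [rho_X_zero, map_zero]
        exact (Ideal.Quotient.eq_zero_iff_mem.mpr (X0_mem_K a)).symm
      · rw [rho_X_succ]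
        unfold psi
        rw [eval₂Hom_X']
  exact RingHom.congr_fun this F

theorem rho_gen (i j : Fin n) : rho a (gen a i.succ j.succ) = gen (abar a) i j := by
  unfold gen
  rw [map_sub, map_mul, map_mul, rho_C, rho_C, rho_X_succ, rho_X_succ]
  rfl

theorem L_abar_le : L (abar a) ≤ RingHom.ker (psi a) := by
  unfold L
  rw [Ideal.span_le]
  rintro _ ⟨i, j, rfl⟩
  have := rho_gen a i j
  unfold gen at this
  rw [SetLike.mem_coe, RingHom.mem_ker, ← this, psi_rho, Ideal.Quotient.eq_zero_iff_mem]
  exact Ideal.mem_sup_left (gen_mem_L a i.succ j.succ)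

theorem mem_K_of_rho_mem (F : MvPolynomial (Fin (n + 1)) A) (hF : rho a F ∈ L (abar a)) :
    F ∈ K a := by
  have := L_abar_le a hF
  rwa [RingHom.mem_ker, psi_rho, Ideal.Quotient.eq_zero_iff_mem] at this

theorem phi_rho (F : MvPolynomial (Fin (n + 1)) A) :
    phi (abar a) (rho a F) =
      Polynomial.map (Ideal.Quotient.mk (Ideal.span {a 0})) (phi a F) := by
  have : (phi (abar a)).toRingHom.comp (rho a) =
      (Polynomial.mapRingHom (Ideal.Quotient.mk (Ideal.span {a 0}))).comp (phi a).toRingHom := by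
    apply MvPolynomial.ringHom_ext
    · intro r
      simp only [RingHom.comp_apply, AlgHom.toRingHom_eq_coe, RingHom.coe_coe, rho_C, phi_C,
        Polynomial.coe_mapRingHom, Polynomial.map_C]
    · intro i
      simp only [RingHom.comp_apply, AlgHom.toRingHom_eq_coe, RingHom.coe_coe, phi_X,
        Polynomial.coe_mapRingHom, Polynomial.map_mul, Polynomial.map_C, Polynomial.map_X]
      rcases Fin.eq_zero_or_eq_succ i with rfl | ⟨j, rfl⟩
      · rw [rho_X_zero, map_zero]
        have : Ideal.Quotient.mk (Ideal.span {a 0}) (a 0) = 0 :=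
          Ideal.Quotient.eq_zero_iff_mem.mpr (Ideal.mem_span_singleton_self _)
        rw [this, map_zero, zero_mul]
      · rw [rho_X_succ, phi_X]
        rfl
  exact RingHom.congr_fun this F

theorem exists_decomp (ih : ∀ G : MvPolynomial (Fin n) (Abar a), phi (abar a) G = 0 → G ∈ L (abar a))
    (F : MvPolynomial (Fin (n + 1)) A) (hF : phi a F = 0) :
    ∃ ℓ ∈ L a, ∃ (p : MvPolynomial (Fin (n + 1)) A) (e : A), F = ℓ + X 0 * p + C e := by
  have h1 : rho a F ∈ L (abar a) := by
    apply ih
    rw [phi_rho, hF, Polynomial.map_zero]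
  obtain ⟨ℓ, hℓ, k, hk, hFk⟩ := Submodule.mem_sup.mp (mem_K_of_rho_mem a F h1)
  obtain ⟨p, q, hpq⟩ := Ideal.mem_span_pair.mp hk
  obtain ⟨q', hq'⟩ := exists_C_mul_sub_mem a q
  refine ⟨ℓ + (C (a 0) * q - C (a 0 * constantCoeff q) - X 0 * q'), Ideal.add_mem _ hℓ hq',
    p + q', a 0 * constantCoeff q, ?_⟩
  rw [← hFk, ← hpq]
  ring

end Succ

theorem ker_le_L : ∀ (n : ℕ) {A : Type u} [CommRing A] (a : Fin n → A), Reg a →
    ∀ F : MvPolynomial (Fin n) A, phi a F = 0 → F ∈ L a := by
  intro n
  induction n with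
  | zero =>
    intro A _ a _ F hF
    rw [MvPolynomial.eq_C_of_isEmpty F] at hF ⊢
    rw [phi_C] at hF
    rw [Polynomial.C_eq_zero.mp hF, map_zero]
    exact Ideal.zero_mem _
  | succ n ih =>
    intro A _ a h
    have ihA := ih (abar a) (reg_abar a h)
    have h0 : ∀ x, a 0 * x = 0 → x = 0 := by
      intro x hx
      have := h 0 x
      simp only [I, Fin.val_zero, not_lt_zero', Set.setOf_false, Set.image_empty,
        Ideal.span_empty, Ideal.mem_bot] at this
      exact this hx
    have key : ∀ d : ℕ, ∀ F : MvPolynomial (Fin (n + 1)) A, F.IsHomogeneous d → phi a F = 0 →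
        F ∈ L a := by
      intro d
      induction d with
      | zero =>
        intro F hF hphi
        have e : F = C (coeff 0 F) := by
          rw [← homogeneousComponent_zero, homogeneousComponent_eq_self hF]
        rw [e] at hphi ⊢
        rw [phi_C] at hphi
        rw [Polynomial.C_eq_zero.mp hphi, map_zero]
        exact Ideal.zero_mem _
      | succ d ihd =>
        intro F hF hphi
        obtain ⟨ℓ, hℓ, p, e, hFe⟩ := exists_decomp a ihA F hphi
        have h1 : F = homogeneousComponent (d + 1) ℓ + X 0 * homogeneousComponent d p := by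
          have := congrArg (homogeneousComponent (d + 1)) hFe
          rw [homogeneousComponent_eq_self hF, map_add, map_add, homogeneousComponent_X_mul,
            homogeneousComponent_of_mem (isHomogeneous_C _ e), if_neg (Nat.succ_ne_zero d),
            add_zero] at this
          exact this
        have hℓ' := L_isHomogeneous a (d + 1) hℓ
        have h2 : phi a (X 0 * homogeneousComponent d p) = 0 := by
          have := congrArg (phi a) h1
          rw [hphi, map_add, (L_le_ker a hℓ' : phi a _ = 0), zero_add] at this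
          exact this.symm
        have h3 := phi_X_mul_eq_zero a 0 h0 _ h2
        have h4 := ihd _ (homogeneousComponent_isHomogeneous d p) h3
        rw [h1]
        exact Ideal.add_mem _ hℓ' (Ideal.mul_mem_left _ _ h4)
    intro F hphi
    rw [← sum_homogeneousComponent F]
    refine Ideal.sum_mem _ (fun d _ => key d _ (homogeneousComponent_isHomogeneous d F) ?_)
    rw [phi_homogeneousComponent, hphi, Polynomial.coeff_zero, map_zero, zero_mul]

theorem ker_eq {A : Type u} [CommRing A] {n : ℕ} (a : Fin n → A) (h : Reg a) :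
    RingHom.ker (phi a) = L a :=
  le_antisymm (fun F hF => ker_le_L n a h F hF) (L_le_ker a)

end Groth.Agent.Lib.Helper14.ReesKer
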