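import Groth.Agent.Lib.Helper14.KoszulBC
import Mathlib

/-!
# Koszul homology under exact functors: restriction of scalars, tensoring with a flat module
-/

set_option autoImplicit false

universe u

open CategoryTheory CategoryTheory.Limits CochainComplex HomComplex MonoidalCategory

namespace Groth.Agent.Lib.Helper14.KoszulFun

open CohIII

section general

variable {R R' : Type u} [CommRing R] [CommRing R']
  (G : ModuleCat.{u} R ⥤ ModuleCat.{u} R') [G.Additive] [G.PreservesHomology]

theorem isZero_homology_map (K : CochainComplex (ModuleCat.{u} R) ℤ) (i : ℤ)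
    (h : IsZero (K.homology i)) :
    IsZero (((G.mapHomologicalComplex (ComplexShape.up ℤ)).obj K).homology i) := by
  rw [← HomologicalComplex.exactAt_iff_isZero_homology] at h ⊢
  exact ShortComplex.Exact.map h G

theorem isZero_homology_map_iff [G.Faithful] (K : CochainComplex (ModuleCat.{u} R) ℤ) (i : ℤ) :
    IsZero (((G.mapHomologicalComplex (ComplexShape.up ℤ)).obj K).homology i) ↔
      IsZero (K.homology i) := by
  rw [← HomologicalComplex.exactAt_iff_isZero_homology,
    ← HomologicalComplex.exactAt_iff_isZero_homology]
  exact ShortComplex.exact_map_iff_of_faithful (K.sc i) G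

theorem isZero_homology_koszul_of_compat (M : ModuleCat.{u} R) {l : List R} {l' : List R'}
    (h : List.Forall₂ (ScalarCompat G) l l') (i : ℤ)
    (hz : IsZero ((koszulCx M l).homology i)) :
    IsZero ((koszulCx (G.obj M) l').homology i) := by
  obtain ⟨e⟩ := nonempty_mapKoszulIso G M h
  exact (isZero_homology_map G _ i hz).of_iso
    ((HomologicalComplex.homologyFunctor _ _ i).mapIso e).symm

theorem isZero_homology_koszul_iff_of_compat [G.Faithful] (M : ModuleCat.{u} R) {l : List R}
    {l' : List R'} (h : List.Forall₂ (ScalarCompat G) l l') (i : ℤ) :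
    IsZero ((koszulCx (G.obj M) l').homology i) ↔ IsZero ((koszulCx M l).homology i) := by
  obtain ⟨e⟩ := nonempty_mapKoszulIso G M h
  rw [← isZero_homology_map_iff G]
  exact ((HomologicalComplex.homologyFunctor _ _ i).mapIso e).isZero_iff.symm

end general

section restrict

variable {R R' : Type u} [CommRing R] [CommRing R'] (f : R →+* R')

lemma scalarCompat_restrictScalars (r : R) :
    ScalarCompat (ModuleCat.restrictScalars.{u} f) (f r) r := by
  intro X
  ext x
  rfl

lemma forall₂_restrictScalars (l : List R) :
    List.Forall₂ (ScalarCompat (ModuleCat.restrictScalars.{u} f)) (l.map f) l := by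
  induction l with
  | nil => exact List.Forall₂.nil
  | cons r l ih => exact List.Forall₂.cons (scalarCompat_restrictScalars f r) ih

/-- Koszul homology over `R'` of `l.map f` vanishes iff Koszul homology over `R` of `l` on the
restricted module vanishes. -/
theorem isZero_homology_koszul_restrictScalars_iff (M : ModuleCat.{u} R') (l : List R) (i : ℤ) :
    IsZero ((koszulCx ((ModuleCat.restrictScalars.{u} f).obj M) l).homology i) ↔
      IsZero ((koszulCx M (l.map f)).homology i) :=
  isZero_homology_koszul_iff_of_compat (ModuleCat.restrictScalars.{u} f) M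
    (forall₂_restrictScalars f l) i

end restrict

section tensor

variable {R : Type u} [CommRing R] (Y : ModuleCat.{u} R)

lemma scalarCompat_tensorLeft (r : R) : ScalarCompat (tensorLeft Y) r r := by
  intro X
  change Y ◁ (r • 𝟙 X) = r • 𝟙 (Y ⊗ X)
  rw [MonoidalLinear.whiskerLeft_smul, MonoidalCategory.whiskerLeft_id]

lemma forall₂_tensorLeft (l : List R) : List.Forall₂ (ScalarCompat (tensorLeft Y)) l l := by
  induction l with
  | nil => exact List.Forall₂.nil
  | cons r l ih => exact List.Forall₂.cons (scalarCompat_tensorLeft Y r) ih

/-- Tensoring with a flat module preserves vanishing of Koszul homology. -/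
theorem isZero_homology_koszul_tensorLeft [Module.Flat R Y] (M : ModuleCat.{u} R) (l : List R)
    (i : ℤ) (hz : IsZero ((koszulCx M l).homology i)) :
    IsZero ((koszulCx (Y ⊗ M) l).homology i) :=
  isZero_homology_koszul_of_compat (tensorLeft Y) M (forall₂_tensorLeft Y l) i hz

end tensor

end Groth.Agent.Lib.Helper14.KoszulFun
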