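import Groth.Agent.Lib.Helper14.KoszulTop
import Groth.Agent.Lib.Helper14.KoszulBC2

/-!
# The natural surjection `M → H^0(K(M; l))` with kernel `(l) M`
-/

set_option autoImplicit false

universe u

open CategoryTheory CategoryTheory.Limits CochainComplex HomComplex

namespace Groth.Agent.Lib.Helper14.KoszulFun

open CohIII

variable {A : Type u} [CommRing A]

/-- `inr` commutes with `coneMap` (as morphisms of complexes). -/
lemma inr_comp_coneMap (g : A) {X Y : CochainComplex (ModuleCat.{u} A) ℤ} (φ : X ⟶ Y) :
    mappingCone.inr (g • 𝟙 X) ≫ coneMap g φ = φ ≫ mappingCone.inr (g • 𝟙 Y) := by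
  ext p : 1
  exact inr_coneMap g φ p

/-- The natural map `M → H^0(K(M; l))`. -/
noncomputable def toH0 (M : ModuleCat.{u} A) : ∀ l : List A, M ⟶ (koszulCx M l).homology 0
  | [] => (HomologicalComplex.singleObjHomologySelfIso (ComplexShape.up ℤ) (0 : ℤ) M).inv
  | x :: l => toH0 M l ≫
      HomologicalComplex.homologyMap (mappingCone.inr (x • 𝟙 (koszulCx M l))) 0

lemma toH0_nil (M : ModuleCat.{u} A) :
    toH0 M [] = (HomologicalComplex.singleObjHomologySelfIso (ComplexShape.up ℤ) (0 : ℤ) M).inv :=
  rfl

lemma toH0_cons (M : ModuleCat.{u} A) (x : A) (l : List A) :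
    toH0 M (x :: l) = toH0 M l ≫
      HomologicalComplex.homologyMap (mappingCone.inr (x • 𝟙 (koszulCx M l))) 0 := rfl

/-- Naturality of `toH0`. -/
lemma toH0_naturality {M N : ModuleCat.{u} A} (φ : M ⟶ N) :
    ∀ l : List A, toH0 M l ≫ HomologicalComplex.homologyMap (koszulMap φ l) 0 = φ ≫ toH0 N l
  | [] => by
    rw [toH0_nil, toH0_nil, koszulMap_nil]
    exact HomologicalComplex.singleObjHomologySelfIso_inv_naturality (ComplexShape.up ℤ) 0 φ
  | x :: l => by
    change (toH0 M l ≫ HomologicalComplex.homologyMap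
        (mappingCone.inr (x • 𝟙 (koszulCx M l))) 0) ≫
        HomologicalComplex.homologyMap (coneMap x (koszulMap φ l)) 0 =
      φ ≫ (toH0 N l ≫ HomologicalComplex.homologyMap
        (mappingCone.inr (x • 𝟙 (koszulCx N l))) 0)
    rw [Category.assoc, ← HomologicalComplex.homologyMap_comp, inr_comp_coneMap,
      HomologicalComplex.homologyMap_comp, ← Category.assoc, toH0_naturality φ l, Category.assoc]

lemma toH0_surjective (M : ModuleCat.{u} A) : ∀ l : List A, Function.Surjective (toH0 M l)
  | [] => by
    rw [toH0_nil]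
    exact (ConcreteCategory.bijective_of_isIso _).2
  | x :: l => by
    have hH1 : IsZero ((koszulCx M l).homology 1) :=
      isZero_homology_of_isZero_X _ 1 (isZero_koszulCx_X_pos _ l 1 one_pos)
    have hepi := Groth.Agent.Lib.Helper14.ConeLES.epi_homologyMap_inr
      (x • 𝟙 (koszulCx M l)) 0 1 rfl hH1
    rw [ModuleCat.epi_iff_surjective] at hepi
    rw [toH0_cons]
    exact hepi.comp (toH0_surjective M l)

lemma toH0_eq_zero_iff (M : ModuleCat.{u} A) :
    ∀ (l : List A) (m : M), toH0 M l m = 0 ↔ m ∈ Ideal.ofList l • (⊤ : Submodule A M)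
  | [], m => by
    rw [toH0_nil, Ideal.ofList_nil, Submodule.bot_smul, Submodule.mem_bot]
    have hinj := (ConcreteCategory.bijective_of_isIso
      (HomologicalComplex.singleObjHomologySelfIso (ComplexShape.up ℤ) (0 : ℤ) M).inv).1
    constructor
    · intro h
      exact hinj (h.trans (map_zero _).symm)
    · rintro rfl
      exact map_zero _
  | x :: l, m => by
    set K := koszulCx M l with hK
    have hex := Groth.Agent.Lib.Helper14.ConeLES.exact₂ (x • 𝟙 K) 0
    rw [ShortComplex.moduleCat_exact_iff] at hex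
    have hsmul : ∀ w : K.homology 0,
        (HomologicalComplex.homologyMap (x • 𝟙 K) 0) w = x • w := by
      intro w
      rw [homologyMap_smul, HomologicalComplex.homologyMap_id]
      rfl
    rw [toH0_cons, Ideal.ofList_cons, Submodule.sup_smul, Submodule.mem_sup]
    constructor
    · intro h
      have h' : (HomologicalComplex.homologyMap (mappingCone.inr (x • 𝟙 K)) 0)
          (toH0 M l m) = 0 := h
      obtain ⟨w, hw⟩ := hex _ h'
      obtain ⟨m', rfl⟩ := toH0_surjective M l w
      have hw' : (HomologicalComplex.homologyMap (x • 𝟙 K) 0) (toH0 M l m') = toH0 M l m := hw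
      rw [hsmul, ← map_smul] at hw'
      have h2 : toH0 M l (m - x • m') = 0 := by rw [map_sub, hw', sub_self]
      rw [toH0_eq_zero_iff M l] at h2
      refine ⟨x • m', ?_, m - x • m', h2, by abel⟩
      exact Submodule.smul_mem_smul (Ideal.mem_span_singleton_self x) Submodule.mem_top
    · rintro ⟨y, hy, z, hz, rfl⟩
      have hz0 : toH0 M l z = 0 := (toH0_eq_zero_iff M l z).mpr hz
      have hy' : ∃ m', y = x • m' := by
        rw [Submodule.ideal_span_singleton_smul, Submodule.mem_smul_pointwise_iff_exists] at hy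
        obtain ⟨m', -, rfl⟩ := hy
        exact ⟨m', rfl⟩
      obtain ⟨m', rfl⟩ := hy'
      change (HomologicalComplex.homologyMap (mappingCone.inr (x • 𝟙 K)) 0)
          (toH0 M l (x • m' + z)) = 0
      rw [map_add, hz0, add_zero, map_smul, ← hsmul]
      have := ConcreteCategory.congr_hom
        (Groth.Agent.Lib.Helper14.ConeLES.homologyMap_comp_inr (x • 𝟙 K) 0) (toH0 M l m')
      simpa using this

end Groth.Agent.Lib.Helper14.KoszulFun
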