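import Groth.Agent.Lib.Helper14.KoszulLift
import Groth.Prelude.Def_LCI2

/-!
# Bridge between `LCI.IsKoszulRegularSeq` and `CohIII.koszulCx`, and the lifting theorem in terms of
`LCI.IsKoszulRegularSeq`.
-/

set_option autoImplicit false

universe u

open CategoryTheory CategoryTheory.Limits

namespace Groth.Agent.Lib.Helper14.KoszulFun

theorem koszul_eq_koszulCx (A : Type u) [CommRing A] :
    ∀ l : List A, Koszul.koszul A l = CohIII.koszulCx (ModuleCat.of A A) l := by
  intro l
  induction l with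
  | nil => rfl
  | cons f l ih =>
    show CochainComplex.mappingCone (f • 𝟙 (Koszul.koszul A l)) =
      CochainComplex.mappingCone (f • 𝟙 (CohIII.koszulCx (ModuleCat.of A A) l))
    rw [ih]

theorem isKoszulRegularSeq_iff (A : Type u) [CommRing A] (l : List A) :
    LCI.IsKoszulRegularSeq A l ↔
      ∀ i : ℤ, i ≠ 0 → IsZero ((CohIII.koszulCx (ModuleCat.of A A) l).homology i) := by
  have tr : ∀ (K K' : CochainComplex (ModuleCat.{u} A) ℤ) (_ : K = K'),
      (∀ i : ℤ, i ≠ 0 → IsZero (K.homology i)) ↔ (∀ i : ℤ, i ≠ 0 → IsZero (K'.homology i)) := by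
    intro K K' h; subst h; exact Iff.rfl
  exact tr _ _ (koszul_eq_koszulCx A l)

/-- Lifting Koszul-regularity and flatness along a square-zero thickening of the base, in terms of
`LCI.IsKoszulRegularSeq`. -/
theorem isKoszulRegularSeq_lift (A B : Type u) [CommRing A] [CommRing B] [Algebra A B]
    [Module.Flat A B] (J : Ideal A) (hJ : J * J = ⊥) (rs : List B)
    (hreg : LCI.IsKoszulRegularSeq (B ⧸ Ideal.map (algebraMap A B) J)
      (rs.map (Ideal.Quotient.mk (Ideal.map (algebraMap A B) J))))
    (hflat : Module.Flat (A ⧸ J) ((B ⧸ Ideal.map (algebraMap A B) J) ⧸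
      Ideal.ofList (rs.map (Ideal.Quotient.mk (Ideal.map (algebraMap A B) J))))) :
    LCI.IsKoszulRegularSeq B rs ∧ Module.Flat A (B ⧸ Ideal.ofList rs) := by
  rw [isKoszulRegularSeq_iff] at hreg ⊢
  exact koszul_lift J hJ rs hreg

end Groth.Agent.Lib.Helper14.KoszulFun
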