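import Mathlib

/-!
# The conormal sequence `I/I² → J/J² → C ⊗_B Ω_{B/A}` for `A → B → C` with `A → C` surjective

Helper lemmas (helper14).
-/

set_option autoImplicit false

namespace Groth.Agent.Lib.Helper14

open TensorProduct KaehlerDifferential Algebra

/-- Key lemma: for `A → B → C` with `A → C` surjective, `I = ker (A → C)`, `J = ker (B → C)`, if
`j ∈ J` satisfies `1 ⊗ dj = 0` in `C ⊗_B Ω_{B/A}` then `j ∈ I B + J²`. -/
theorem mem_map_sup_sq_of_tmul_D_eq_zero (A B C : Type*) [CommRing A] [CommRing B]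
    [CommRing C] [Algebra A B] [Algebra B C] [Algebra A C] [IsScalarTower A B C]
    (hAC : Function.Surjective (algebraMap A C)) (j : B) (hj : j ∈ RingHom.ker (algebraMap B C))
    (h0 : (1 : C) ⊗ₜ[B] KaehlerDifferential.D A B j = 0) :
    j ∈ (RingHom.ker (algebraMap A C)).map (algebraMap A B) ⊔ RingHom.ker (algebraMap B C) ^ 2 := by
  set I := RingHom.ker (algebraMap A C) with hI
  set J := RingHom.ker (algebraMap B C) with hJ
  set 𝔫 : Ideal B := I.map (algebraMap A B) ⊔ J ^ 2 with h𝔫
  have hIJ : I.map (algebraMap A B) ≤ J := by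
    rw [Ideal.map_le_iff_le_comap]
    intro a ha
    rw [Ideal.mem_comap, hJ, RingHom.mem_ker, ← IsScalarTower.algebraMap_apply]
    exact ha
  have h𝔫J : 𝔫 ≤ J := sup_le hIJ (Ideal.pow_le_self two_ne_zero)
  have hBC : Function.Surjective (algebraMap B C) := by
    intro c
    obtain ⟨a, rfl⟩ := hAC c
    exact ⟨algebraMap A B a, (IsScalarTower.algebraMap_apply A B C a).symm⟩
  -- the algebra structure `B ⧸ 𝔫 → C`
  letI algBC : Algebra (B ⧸ 𝔫) C := (Ideal.Quotient.lift 𝔫 (algebraMap B C) h𝔫J).toAlgebra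
  have halg : ∀ b : B, algebraMap (B ⧸ 𝔫) C (Ideal.Quotient.mk 𝔫 b) = algebraMap B C b :=
    fun b => rfl
  haveI : IsScalarTower B (B ⧸ 𝔫) C := IsScalarTower.of_algebraMap_eq fun b => (halg b).symm
  haveI : IsScalarTower A (B ⧸ 𝔫) C := IsScalarTower.of_algebraMap_eq fun a => by
    rw [IsScalarTower.algebraMap_apply A B (B ⧸ 𝔫), Ideal.Quotient.algebraMap_eq, halg,
      ← IsScalarTower.algebraMap_apply]
  -- the two extensions
  let P : Algebra.Extension A C :=
    { Ring := B
      σ := fun c => (hBC c).choose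
      algebraMap_σ := fun c => (hBC c).choose_spec }
  have hBC' : Function.Surjective (algebraMap (B ⧸ 𝔫) C) := by
    intro c
    obtain ⟨b, rfl⟩ := hBC c
    exact ⟨Ideal.Quotient.mk 𝔫 b, halg b⟩
  let P' : Algebra.Extension A C :=
    { Ring := B ⧸ 𝔫
      σ := fun c => (hBC' c).choose
      algebraMap_σ := fun c => (hBC' c).choose_spec }
  -- the section `C → B ⧸ 𝔫`
  let s : C →ₐ[A] (B ⧸ 𝔫) := AlgHom.liftOfSurjective (Algebra.ofId A C) hAC (Algebra.ofId A (B ⧸ 𝔫))
    (by
      intro a ha
      rw [RingHom.mem_ker]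
      change algebraMap A (B ⧸ 𝔫) a = 0
      rw [IsScalarTower.algebraMap_apply A B (B ⧸ 𝔫), Ideal.Quotient.algebraMap_eq,
        Ideal.Quotient.eq_zero_iff_mem]
      exact le_sup_left (a := I.map (algebraMap A B)) (Ideal.mem_map_of_mem _ ha))
  have hs : ∀ a : A, s (algebraMap A C a) = algebraMap A (B ⧸ 𝔫) a := fun a =>
    AlgHom.liftOfSurjective_apply (Algebra.ofId A C) hAC (Algebra.ofId A (B ⧸ 𝔫)) _ a
  have hs' : ∀ c : C, algebraMap (B ⧸ 𝔫) C (s c) = c := by
    intro c
    obtain ⟨a, rfl⟩ := hAC c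
    rw [hs, ← IsScalarTower.algebraMap_apply]
  let f₁ : P.Hom P' :=
    { toRingHom := Ideal.Quotient.mk 𝔫
      toRingHom_algebraMap := fun a => rfl
      algebraMap_toRingHom := fun b => rfl }
  let f₂ : P.Hom P' :=
    { toRingHom := (s : C →+* (B ⧸ 𝔫)).comp (algebraMap B C)
      toRingHom_algebraMap := fun a => by
        change s (algebraMap B C (algebraMap A B a)) = algebraMap A (B ⧸ 𝔫) a
        rw [← IsScalarTower.algebraMap_apply, hs]
      algebraMap_toRingHom := fun b => by
        change algebraMap (B ⧸ 𝔫) C (s (algebraMap B C b)) = algebraMap B C b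
        rw [hs'] }
  -- the cotangent computation
  let y : P.Cotangent := Algebra.Extension.Cotangent.mk ⟨j, hj⟩
  have hy : P.cotangentComplex y = 0 := by
    rw [Algebra.Extension.cotangentComplex_mk]
    exact h0
  have h1 := LinearMap.congr_fun (Algebra.Extension.Cotangent.map_sub_map f₁ f₂) y
  rw [LinearMap.sub_apply, LinearMap.comp_apply, hy, map_zero, sub_eq_zero] at h1
  have h2 : Algebra.Extension.Cotangent.map f₂ y = 0 := by
    rw [Algebra.Extension.Cotangent.map_mk, Algebra.Extension.Cotangent.mk_eq_zero_iff]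
    have : f₂.toAlgHom j = 0 := by
      change s (algebraMap B C j) = 0
      rw [RingHom.mem_ker.mp hj, map_zero]
    simp only [this]
    exact zero_mem _
  rw [h2, Algebra.Extension.Cotangent.map_mk, Algebra.Extension.Cotangent.mk_eq_zero_iff] at h1
  have h3 : P'.ker ^ 2 ≤ ⊥ := by
    rw [pow_two, Ideal.mul_le]
    intro x hx y hy
    obtain ⟨b, rfl⟩ := Ideal.Quotient.mk_surjective x
    obtain ⟨b', rfl⟩ := Ideal.Quotient.mk_surjective y
    have hb : b ∈ J := hx
    have hb' : b' ∈ J := hy
    rw [Ideal.mem_bot, ← map_mul, Ideal.Quotient.eq_zero_iff_mem]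
    exact le_sup_right (a := I.map (algebraMap A B)) (by rw [pow_two]; exact Ideal.mul_mem_mul hb hb')
  have h4 := h3 h1
  rw [Ideal.mem_bot] at h4
  exact Ideal.Quotient.eq_zero_iff_mem.mp h4


/-- For `A → B → C` with `A → C` surjective, `I = ker (A → C)`, `J = ker (B → C)`, the sequence
`I/I² → J/J² → C ⊗_B Ω_{B/A}` is exact. -/
theorem exact_mapCotangent_kerCotangentToTensor (A B C : Type*) [CommRing A] [CommRing B]
    [CommRing C] [Algebra A B] [Algebra B C] [Algebra A C] [IsScalarTower A B C]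
    (hAC : Function.Surjective (algebraMap A C))
    (h : RingHom.ker (algebraMap A C) ≤ (RingHom.ker (algebraMap B C)).comap (Algebra.ofId A B)) :
    Function.Exact
      (Ideal.mapCotangent (RingHom.ker (algebraMap A C)) (RingHom.ker (algebraMap B C))
        (Algebra.ofId A B) h)
      (KaehlerDifferential.kerCotangentToTensor A B C) := by
  set I := RingHom.ker (algebraMap A C) with hI
  set J := RingHom.ker (algebraMap B C) with hJ
  have hIJ : I.map (algebraMap A B) ≤ J := by
    rw [Ideal.map_le_iff_le_comap]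
    exact h
  -- the range of `I/I² → J/J²` contains the classes of all elements of `I B`
  have hrange : ∀ (x : B) (hx : x ∈ I.map (algebraMap A B)),
      J.toCotangent ⟨x, hIJ hx⟩ ∈ Set.range (Ideal.mapCotangent I J (Algebra.ofId A B) h) := by
    intro x hx
    unfold Ideal.map at hx
    induction hx using Submodule.span_induction with
    | mem x hx =>
      obtain ⟨a, ha, rfl⟩ := hx
      exact ⟨I.toCotangent ⟨a, ha⟩, rfl⟩
    | zero =>
      refine ⟨0, ?_⟩
      rw [map_zero]
      exact (map_zero J.toCotangent).symm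
    | add x y hx hy ihx ihy =>
      obtain ⟨z₁, hz₁⟩ := ihx
      obtain ⟨z₂, hz₂⟩ := ihy
      refine ⟨z₁ + z₂, ?_⟩
      rw [map_add, hz₁, hz₂, ← map_add]
      rfl
    | smul b x hx ihx =>
      obtain ⟨z, hz⟩ := ihx
      obtain ⟨a, ha⟩ := hAC (algebraMap B C b)
      refine ⟨a • z, ?_⟩
      rw [map_smul, hz]
      have hb : b - algebraMap A B a ∈ J := by
        rw [hJ, RingHom.mem_ker, map_sub, ← IsScalarTower.algebraMap_apply, ha, sub_self]
      have h1 : (b - algebraMap A B a) • J.toCotangent ⟨x, hIJ hx⟩ = 0 :=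
        Ideal.Cotangent.smul_eq_zero_of_mem hb _
      rw [sub_smul, sub_eq_zero, algebraMap_smul] at h1
      rw [← h1, ← map_smul]
      rfl
  intro y
  constructor
  · intro hy
    obtain ⟨⟨j, hj⟩, rfl⟩ := Ideal.toCotangent_surjective _ y
    rw [KaehlerDifferential.kerCotangentToTensor_toCotangent] at hy
    have hmem := mem_map_sup_sq_of_tmul_D_eq_zero A B C hAC j hj hy
    obtain ⟨i', hi', q, hq, hiq⟩ := Submodule.mem_sup.mp hmem
    have : J.toCotangent ⟨j, hj⟩ = J.toCotangent ⟨i', hIJ hi'⟩ := by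
      rw [Ideal.toCotangent_eq]
      have : j - i' = q := by rw [← hiq]; ring
      simp only [this]
      exact hq
    rw [this]
    exact hrange i' hi'
  · rintro ⟨x, rfl⟩
    obtain ⟨⟨a, ha⟩, rfl⟩ := Ideal.toCotangent_surjective _ x
    rw [Ideal.mapCotangent_toCotangent, KaehlerDifferential.kerCotangentToTensor_toCotangent]
    simp only [Algebra.ofId_apply, Derivation.map_algebraMap, tmul_zero]

end Groth.Agent.Lib.Helper14
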