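import Groth.Agent.Lib.Helper14.KoszulFun

/-!
# Koszul cohomology of a weakly regular sequence vanishes outside the top degree
-/

set_option autoImplicit false

universe u

open CategoryTheory CategoryTheory.Limits CochainComplex HomComplex

namespace Groth.Agent.Lib.Helper14.KoszulFun

variable {A : Type u} [CommRing A]

open CohIII RingTheory.Sequence Pointwise

lemma shortExact_of_eq {C : Type*} [Category C] [HasZeroMorphisms C] {S : ShortComplex C}
    (hS : S.ShortExact) (f' : S.X₁ ⟶ S.X₂) (hf : f' = S.f) :
    (ShortComplex.mk f' S.g (by rw [hf]; exact S.zero)).ShortExact := by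
  subst hf; exact hS

section

variable (f : A) (M : Type u) [AddCommGroup M] [Module A M]

/-- The short complex `M --f--> M --> M/fM`. -/
noncomputable def S0 : ShortComplex (ModuleCat.{u} A) :=
  ShortComplex.mk (f • 𝟙 (ModuleCat.of A M))
    (ModuleCat.ofHom (Submodule.mkQ (f • (⊤ : Submodule A M))) :
      ModuleCat.of A M ⟶ ModuleCat.of A (QuotSMulTop f M)) (by
    ext x
    simp only [ModuleCat.hom_comp, ModuleCat.hom_smul, ModuleCat.hom_id, ModuleCat.hom_ofHom,
      LinearMap.comp_apply, LinearMap.smul_apply, LinearMap.id_apply, ModuleCat.hom_zero,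
      LinearMap.zero_apply, Submodule.mkQ_apply, Submodule.Quotient.mk_eq_zero]
    exact Submodule.smul_mem_pointwise_smul x f ⊤ Submodule.mem_top)

lemma S0_shortExact (hf : IsSMulRegular M f) : (S0 f M).ShortExact := by
  refine ShortComplex.ShortExact.mk' ?_ ?_ ?_
  · rw [ShortComplex.moduleCat_exact_iff]
    intro x hx
    change Submodule.mkQ (f • (⊤ : Submodule A M)) x = 0 at hx
    rw [Submodule.mkQ_apply, Submodule.Quotient.mk_eq_zero,
      Submodule.mem_smul_pointwise_iff_exists] at hx
    obtain ⟨y, -, hy⟩ := hx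
    exact ⟨y, hy⟩
  · rw [ModuleCat.mono_iff_injective]
    intro x y hxy
    exact hf hxy
  · rw [ModuleCat.epi_iff_surjective]
    exact Submodule.mkQ_surjective _

lemma S0_f : (S0 f M).f = f • 𝟙 (ModuleCat.of A M) := rfl

lemma koszulCx_cons (N : ModuleCat.{u} A) (fs : List A) :
    koszulCx N (f :: fs) = mappingCone (f • 𝟙 (koszulCx N fs)) := rfl

/-- The short complex of Koszul complexes `K(fs;M) --f--> K(fs;M) --> K(fs;M/fM)`. -/
noncomputable def SK (fs : List A) : ShortComplex (CochainComplex (ModuleCat.{u} A) ℤ) :=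
  ShortComplex.mk (f • 𝟙 (koszulCx (ModuleCat.of A M) fs)) (koszulMap (S0 f M).g fs)
      (by
        have h1 := (KS (S0 f M) fs).zero
        have h2 : (KS (S0 f M) fs).f = f • 𝟙 (koszulCx (ModuleCat.of A M) fs) :=
          koszulMap_smul_id (ModuleCat.of A M) f fs
        rw [h2] at h1
        exact h1)

theorem SK_shortExact (hf : IsSMulRegular M f) (fs : List A) : (SK f M fs).ShortExact := by
  have h := koszul_shortExact (S0 f M) (S0_shortExact f M hf) fs
  have h2 : (KS (S0 f M) fs).f = f • 𝟙 (koszulCx (ModuleCat.of A M) fs) :=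
    koszulMap_smul_id (ModuleCat.of A M) f fs
  have h3 : KS (S0 f M) fs = SK f M fs := by
    unfold SK
    unfold KS at h2 ⊢
    congr 1
  rw [← h3]
  exact h

/-- For `f` regular on `M`, vanishing of the Koszul cohomology of `M/fM` in degree `j` implies
vanishing for `f :: fs` on `M`. -/
theorem isZero_homology_cons (hf : IsSMulRegular M f) (fs : List A) (j : ℤ)
    (h : IsZero ((koszulCx (ModuleCat.of A (QuotSMulTop f M)) fs).homology j)) :
    IsZero ((koszulCx (ModuleCat.of A M) (f :: fs)).homology j) := by
  have hq : QuasiIso (mappingCone.descShortComplex (SK f M fs)) :=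
    mappingCone.quasiIso_descShortComplex (SK_shortExact f M hf fs)
  have hiso : IsIso (HomologicalComplex.homologyMap (mappingCone.descShortComplex (SK f M fs)) j) :=
    (quasiIsoAt_iff_isIso_homologyMap (mappingCone.descShortComplex (SK f M fs)) j).mp
      (hq.quasiIsoAt j)
  rw [koszulCx_cons]
  exact IsZero.of_iso h
    (@asIso _ _ _ _ (HomologicalComplex.homologyMap (mappingCone.descShortComplex (SK f M fs)) j)
      hiso)

end

/-- **Koszul cohomology of a weakly regular sequence** vanishes outside degree `0`
(top Koszul degree). -/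
theorem isZero_homology_of_isWeaklyRegular : ∀ (fs : List A) (M : Type u) [AddCommGroup M]
    [Module A M], IsWeaklyRegular M fs → ∀ j : ℤ, j ≠ 0 →
    IsZero ((koszulCx (ModuleCat.of A M) fs).homology j)
  | [], M, _, _, _, j, hj => HomologicalComplex.isZero_single_obj_homology _ _ _ j hj
  | f :: fs, M, _, _, hreg, j, hj => by
    rw [isWeaklyRegular_cons_iff] at hreg
    exact isZero_homology_cons f M hreg.1 fs j
      (isZero_homology_of_isWeaklyRegular fs (QuotSMulTop f M) hreg.2 j hj)

end Groth.Agent.Lib.Helper14.KoszulFun
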