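import Groth.Agent.Lib.Helper14.QuasiRegReg

/-!
`H_1`-regular sequences: the kernel of the Rees presentation is the Koszul ideal (linear type),
hence such sequences are quasi-regular.
-/

namespace Groth.Agent.Lib.Helper14.H1Reg

open MvPolynomial
open Groth.Agent.Lib.Helper14.ReesKer (phi L gen gen_mem_L phi_C phi_X L_le_ker
  phi_homogeneousComponent homogeneousComponent_X_mul)
open Groth.Agent.Lib.Helper14.QuasiRegReg (QR exists_hom_of_mem_pow_succ)

universe u

variable {A : Type u} [CommRing A] {c : ℕ} (f : Fin c → A)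

/-- `H_1`-regularity (identical to `CAlgX.IsH1Regular`). -/
def H1 : Prop := ∀ a : Fin c → A, ∑ i, a i * f i = 0 →
    a ∈ Submodule.span A {v : Fin c → A | ∃ i j : Fin c, v = Pi.single i (f j) - Pi.single j (f i)}

/-- The linear form attached to a coefficient vector. -/
noncomputable def lin : (Fin c → A) →ₗ[A] MvPolynomial (Fin c) A :=
  Fintype.linearCombination A (fun i => (X i : MvPolynomial (Fin c) A))

lemma lin_apply (v : Fin c → A) : lin v = ∑ i, C (v i) * X i := by
  unfold lin
  rw [Fintype.linearCombination_apply]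
  refine Finset.sum_congr rfl fun i _ => ?_
  rw [smul_eq_C_mul]

lemma lin_single (i : Fin c) (r : A) : lin (Pi.single i r) = C r * X i := by
  classical
  rw [lin_apply, Finset.sum_eq_single i]
  · rw [Pi.single_eq_same]
  · intro j _ hj
    rw [Pi.single_eq_of_ne hj, map_zero, zero_mul]
  · intro h
    exact absurd (Finset.mem_univ i) h

lemma lin_mem_L (h : H1 f) (v : Fin c → A) (hv : ∑ i, v i * f i = 0) : lin v ∈ L f := by
  have hle : Submodule.span A
      {v : Fin c → A | ∃ i j : Fin c, v = Pi.single i (f j) - Pi.single j (f i)} ≤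
      Submodule.comap lin ((L f).restrictScalars A) := by
    rw [Submodule.span_le]
    rintro _ ⟨i, j, rfl⟩
    rw [SetLike.mem_coe, Submodule.mem_comap, Submodule.restrictScalars_mem, map_sub, lin_single,
      lin_single]
    exact gen_mem_L f j i
  exact hle (h v hv)

lemma sum_X_mul_mem_L (h : H1 f) (G : Fin c → MvPolynomial (Fin c) A)
    (hG : ∑ i, C (f i) * G i = 0) : ∑ i, X i * G i ∈ L f := by
  classical
  set S : Finset (Fin c →₀ ℕ) := Finset.univ.biUnion (fun i => (G i).support) with hS
  have hGi : ∀ i, G i = ∑ m ∈ S, monomial m (coeff m (G i)) := by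
    intro i
    conv_lhs => rw [MvPolynomial.as_sum (G i)]
    apply Finset.sum_subset
    · intro m hm
      exact Finset.mem_biUnion.mpr ⟨i, Finset.mem_univ i, hm⟩
    · intro m _ hm
      rw [notMem_support_iff.mp hm, monomial_zero]
  have e : ∑ i, X i * G i = ∑ m ∈ S, monomial m 1 * lin (fun i => coeff m (G i)) := by
    calc ∑ i, X i * G i = ∑ i, X i * ∑ m ∈ S, monomial m (coeff m (G i)) := by
          refine Finset.sum_congr rfl fun i _ => ?_
          rw [← hGi i]
      _ = ∑ i, ∑ m ∈ S, X i * monomial m (coeff m (G i)) := by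
          refine Finset.sum_congr rfl fun i _ => ?_
          rw [Finset.mul_sum]
      _ = ∑ m ∈ S, ∑ i, X i * monomial m (coeff m (G i)) := Finset.sum_comm
      _ = ∑ m ∈ S, monomial m 1 * lin (fun i => coeff m (G i)) := by
          refine Finset.sum_congr rfl fun m _ => ?_
          rw [lin_apply, Finset.mul_sum]
          refine Finset.sum_congr rfl fun i _ => ?_
          have : monomial m (coeff m (G i)) = C (coeff m (G i)) * monomial m (1 : A) := by
            rw [C_mul_monomial, mul_one]
          rw [this]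
          ring
  rw [e]
  refine Ideal.sum_mem _ fun m _ => Ideal.mul_mem_left _ _ (lin_mem_L f h _ ?_)
  have := congrArg (coeff m) hG
  rw [coeff_sum, coeff_zero] at this
  rw [← this]
  refine Finset.sum_congr rfl fun i _ => ?_
  rw [coeff_C_mul, mul_comm]

lemma exists_K {F : MvPolynomial (Fin c) A} (hF : F ∈ L f) :
    ∃ K : Fin c → MvPolynomial (Fin c) A, F = ∑ i, C (f i) * K i ∧ ∑ i, X i * K i = 0 := by
  classical
  unfold L at hF
  induction hF using Submodule.span_induction with
  | mem x hx =>
    obtain ⟨a, b, rfl⟩ := hx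
    refine ⟨fun i => (if i = a then X b else 0) - (if i = b then X a else 0), ?_, ?_⟩
    · simp only [mul_sub, mul_ite, mul_zero, Finset.sum_sub_distrib, Finset.sum_ite_eq',
        Finset.mem_univ, if_true]
    · simp only [mul_sub, mul_ite, mul_zero, Finset.sum_sub_distrib, Finset.sum_ite_eq',
        Finset.mem_univ, if_true]
      ring
  | zero => exact ⟨fun _ => 0, by simp, by simp⟩
  | add x y _ _ hx hy =>
    obtain ⟨K1, h1, h1'⟩ := hx
    obtain ⟨K2, h2, h2'⟩ := hy
    refine ⟨fun i => K1 i + K2 i, ?_, ?_⟩
    · rw [h1, h2, ← Finset.sum_add_distrib]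
      refine Finset.sum_congr rfl fun i _ => ?_
      ring
    · have : ∑ i, X i * (K1 i + K2 i) = ∑ i, X i * K1 i + ∑ i, X i * K2 i := by
        rw [← Finset.sum_add_distrib]
        refine Finset.sum_congr rfl fun i _ => ?_
        ring
      rw [this, h1', h2', add_zero]
  | smul p x _ hx =>
    obtain ⟨K, h1, h1'⟩ := hx
    refine ⟨fun i => p * K i, ?_, ?_⟩
    · rw [smul_eq_mul, h1, Finset.mul_sum]
      refine Finset.sum_congr rfl fun i _ => ?_
      ring
    · have : ∑ i, X i * (p * K i) = p * ∑ i, X i * K i := by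
        rw [Finset.mul_sum]
        refine Finset.sum_congr rfl fun i _ => ?_
        ring
      rw [this, h1', mul_zero]

lemma exists_decomp_X (F : MvPolynomial (Fin c) A) :
    ∃ G : Fin c → MvPolynomial (Fin c) A, F = C (constantCoeff F) + ∑ i, X i * G i := by
  classical
  induction F using MvPolynomial.induction_on with
  | C r => exact ⟨fun _ => 0, by simp⟩
  | add p q hp hq =>
    obtain ⟨G1, h1⟩ := hp
    obtain ⟨G2, h2⟩ := hq
    refine ⟨fun i => G1 i + G2 i, ?_⟩
    have : ∑ i, X i * (G1 i + G2 i) = ∑ i, X i * G1 i + ∑ i, X i * G2 i := by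
      rw [← Finset.sum_add_distrib]
      refine Finset.sum_congr rfl fun i _ => ?_
      ring
    rw [this, map_add, map_add]
    conv_lhs => rw [h1, h2]
    ring
  | mul_X p i _ =>
    refine ⟨fun j => if j = i then p else 0, ?_⟩
    simp only [mul_ite, mul_zero, Finset.sum_ite_eq', Finset.mem_univ, if_true, map_mul,
      constantCoeff_X, mul_zero, map_zero, zero_add]
    ring

theorem hom_mem_L (h : H1 f) : ∀ (n : ℕ) (F : MvPolynomial (Fin c) A), F.IsHomogeneous n →
    phi f F = 0 → F ∈ L f := by
  intro n
  induction n with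
  | zero =>
    intro F hF hphi
    have e : F = C (coeff 0 F) := by
      rw [← homogeneousComponent_zero, homogeneousComponent_eq_self hF]
    rw [e] at hphi ⊢
    rw [phi_C] at hphi
    rw [Polynomial.C_eq_zero.mp hphi, map_zero]
    exact Ideal.zero_mem _
  | succ n ih =>
    intro F hF hphi
    obtain ⟨G, hG⟩ := exists_decomp_X F
    have h1 : F = ∑ i, X i * homogeneousComponent n (G i) := by
      have := congrArg (homogeneousComponent (n + 1)) hG
      rw [homogeneousComponent_eq_self hF, map_add,
        homogeneousComponent_of_mem (isHomogeneous_C _ _), if_neg (Nat.succ_ne_zero n), zero_add,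
        map_sum] at this
      rw [this]
      refine Finset.sum_congr rfl fun i _ => ?_
      exact homogeneousComponent_X_mul i n (G i)
    set G2 : Fin c → MvPolynomial (Fin c) A := fun i => homogeneousComponent n (G i) with hG2
    have hF'h : (∑ i, C (f i) * G2 i).IsHomogeneous n :=
      IsHomogeneous.sum _ _ _ fun i _ => (homogeneousComponent_isHomogeneous n (G i)).C_mul (f i)
    have hF'phi : phi f (∑ i, C (f i) * G2 i) = 0 := by
      have e1 : phi f F = Polynomial.X * phi f (∑ i, C (f i) * G2 i) := by
        rw [h1, map_sum, map_sum, Finset.mul_sum]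
        refine Finset.sum_congr rfl fun i _ => ?_
        rw [map_mul, map_mul, phi_X, phi_C]
        ring
      rw [hphi] at e1
      ext k
      have := congrArg (fun g => Polynomial.coeff g (k + 1)) e1
      simp only [Polynomial.coeff_X_mul, Polynomial.coeff_zero] at this
      rw [Polynomial.coeff_zero]
      exact this.symm
    obtain ⟨K, hK1, hK2⟩ := exists_K f (ih _ hF'h hF'phi)
    have h2 : F = ∑ i, X i * (G2 i - K i) := by
      have : ∑ i, X i * (G2 i - K i) = ∑ i, X i * G2 i - ∑ i, X i * K i := by
        rw [← Finset.sum_sub_distrib]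
        refine Finset.sum_congr rfl fun i _ => ?_
        ring
      rw [this, hK2, sub_zero]
      exact h1
    rw [h2]
    apply sum_X_mul_mem_L f h
    have : ∑ i, C (f i) * (G2 i - K i) = ∑ i, C (f i) * G2 i - ∑ i, C (f i) * K i := by
      rw [← Finset.sum_sub_distrib]
      refine Finset.sum_congr rfl fun i _ => ?_
      ring
    rw [this, ← hK1, sub_self]

theorem ker_le_L (h : H1 f) (F : MvPolynomial (Fin c) A) (hphi : phi f F = 0) : F ∈ L f := by
  rw [← sum_homogeneousComponent F]
  refine Ideal.sum_mem _ (fun d _ => hom_mem_L f h d _ (homogeneousComponent_isHomogeneous d F) ?_)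
  rw [phi_homogeneousComponent, hphi, Polynomial.coeff_zero, map_zero, zero_mul]

theorem ker_eq (h : H1 f) : RingHom.ker (phi f) = L f :=
  le_antisymm (fun F hF => ker_le_L f h F hF) (L_le_ker f)

lemma eval_one_phi (F : MvPolynomial (Fin c) A) : (phi f F).eval 1 = eval f F := by
  have : (Polynomial.evalRingHom (1 : A)).comp (phi f).toRingHom = (eval f : _ →+* A) := by
    apply MvPolynomial.ringHom_ext
    · intro r
      simp [phi_C]
    · intro i
      simp [phi_X]
  exact RingHom.congr_fun this F

lemma phi_of_isHomogeneous {n : ℕ} {F : MvPolynomial (Fin c) A} (hF : F.IsHomogeneous n) :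
    phi f F = Polynomial.C (eval f F) * Polynomial.X ^ n := by
  have h1 := phi_homogeneousComponent f n F
  rw [homogeneousComponent_eq_self hF] at h1
  have h2 := eval_one_phi f F
  rw [h1] at h2
  simp only [Polynomial.eval_mul, Polynomial.eval_C, Polynomial.eval_pow, Polynomial.eval_X,
    one_pow, mul_one] at h2
  rw [h1, h2]

lemma L_le_map : L f ≤ (Ideal.span (Set.range f)).map (C : A →+* MvPolynomial (Fin c) A) := by
  unfold L
  rw [Ideal.span_le]
  rintro _ ⟨i, j, rfl⟩
  exact Ideal.sub_mem _
    (Ideal.mul_mem_right _ _ (Ideal.mem_map_of_mem _ (Ideal.subset_span ⟨i, rfl⟩)))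
    (Ideal.mul_mem_right _ _ (Ideal.mem_map_of_mem _ (Ideal.subset_span ⟨j, rfl⟩)))

theorem qr_of_h1 (h : H1 f) : QR f := by
  intro n P hP hev d
  obtain ⟨W, hW, hWc, hWe⟩ := exists_hom_of_mem_pow_succ f n hev
  have h1 : phi f (P - W) = 0 := by
    rw [phi_of_isHomogeneous f (hP.sub hW), map_sub, hWe, sub_self, map_zero, zero_mul]
  have h2 := mem_map_C_iff.mp (L_le_map f (ker_le_L f h _ h1)) d
  rw [coeff_sub] at h2
  have := Ideal.add_mem _ h2 (hWc d)
  rwa [sub_add_cancel] at this

end Groth.Agent.Lib.Helper14.H1Reg
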