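import Groth.Agent.Lib.Helper14.ReesKer

/-!
Quasi-regular sequences in the Jacobson radical of a Noetherian ring are regular
(Matsumura 16.3, case `M = A`).
-/

namespace Groth.Agent.Lib.Helper14.QuasiRegReg

open MvPolynomial
open Groth.Agent.Lib.Helper14.ReesKer (Reg I abar Abar I_abar)

universe u

section

variable {A : Type u} [CommRing A]

/-- Quasi-regularity (coefficient form; identical to `CAlgX.IsQuasiRegular`). -/
def QR {c : ℕ} (f : Fin c → A) : Prop :=
  ∀ (n : ℕ) (P : MvPolynomial (Fin c) A), P.IsHomogeneous n →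
    eval f P ∈ Ideal.span (Set.range f) ^ (n + 1) →
      ∀ d : Fin c →₀ ℕ, P.coeff d ∈ Ideal.span (Set.range f)

lemma eval_mem_pow_succ {c : ℕ} (f : Fin c → A) {ν : ℕ} {F : MvPolynomial (Fin c) A}
    (hF : F.IsHomogeneous ν) (hc : ∀ d, F.coeff d ∈ Ideal.span (Set.range f)) :
    eval f F ∈ Ideal.span (Set.range f) ^ (ν + 1) := by
  rw [eval_eq', pow_succ']
  refine Ideal.sum_mem _ fun d hd => ?_
  refine Ideal.mul_mem_mul (hc d) ?_
  rw [Ideal.mem_span_pow_iff_exists_isHomogeneous]
  refine ⟨monomial d 1, isHomogeneous_monomial 1 ?_, ?_⟩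
  · by_contra h
    exact (mem_support_iff.mp hd) (hF.coeff_eq_zero h)
  · rw [eval_monomial, one_mul, Finsupp.prod_fintype]
    intro i
    exact pow_zero _

lemma exists_hom_of_mem_pow_succ {c : ℕ} (f : Fin c → A) (ν : ℕ) {x : A}
    (hx : x ∈ Ideal.span (Set.range f) ^ (ν + 1)) :
    ∃ W : MvPolynomial (Fin c) A, W.IsHomogeneous ν ∧
      (∀ d, W.coeff d ∈ Ideal.span (Set.range f)) ∧ eval f W = x := by
  rw [pow_succ'] at hx
  refine Submodule.mul_induction_on hx ?_ ?_
  · intro u hu v hv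
    obtain ⟨V, hV, rfl⟩ := (Ideal.mem_span_pow_iff_exists_isHomogeneous f v).mp hv
    refine ⟨C u * V, hV.C_mul u, fun d => ?_, by simp⟩
    rw [coeff_C_mul]
    exact Ideal.mul_mem_right _ _ hu
  · rintro x y ⟨W₁, h1, h1', rfl⟩ ⟨W₂, h2, h2', rfl⟩
    exact ⟨W₁ + W₂, h1.add h2,
      fun d => by rw [coeff_add]; exact Ideal.add_mem _ (h1' d) (h2' d), by simp⟩

theorem map_homogeneousComponent' {R S : Type*} [CommSemiring R] [CommSemiring S] {σ : Type*}
    (φ : R →+* S) (n : ℕ) (p : MvPolynomial σ R) :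
    map φ (homogeneousComponent n p) = homogeneousComponent n (map φ p) := by
  ext d
  rw [coeff_map, coeff_homogeneousComponent, coeff_homogeneousComponent, coeff_map]
  split_ifs
  · rfl
  · exact map_zero φ

lemma mem_pow_succ_of_mul {c : ℕ} (f : Fin (c + 1) → A) (hq : QR f) (k : ℕ) (x : A)
    (hx : x ∈ Ideal.span (Set.range f) ^ k)
    (hfx : f 0 * x ∈ Ideal.span (Set.range f) ^ (k + 2)) :
    x ∈ Ideal.span (Set.range f) ^ (k + 1) := by
  obtain ⟨G, hG, rfl⟩ := (Ideal.mem_span_pow_iff_exists_isHomogeneous f x).mp hx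
  have hXG : (X 0 * G).IsHomogeneous (k + 1) := by
    have := (isHomogeneous_X A (0 : Fin (c + 1))).mul hG
    rwa [add_comm 1 k] at this
  have h := hq (k + 1) (X 0 * G) hXG (by rw [map_mul, eval_X]; exact hfx)
  refine eval_mem_pow_succ f hG (fun d => ?_)
  have := h (Finsupp.single 0 1 + d)
  rwa [coeff_X_mul] at this

theorem nzd_of_qr [IsNoetherianRing A] {c : ℕ} (f : Fin (c + 1) → A) (hq : QR f)
    (hf : ∀ i, f i ∈ Ring.jacobson A) (x : A) (hx : f 0 * x = 0) : x = 0 := by
  have hJ : Ideal.span (Set.range f) ≤ Ideal.jacobson ⊥ := by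
    rw [Ideal.jacobson_bot, Ideal.span_le]
    rintro _ ⟨i, rfl⟩
    exact hf i
  have h1 : ∀ k, x ∈ Ideal.span (Set.range f) ^ k := by
    intro k
    induction k with
    | zero => rw [pow_zero, Ideal.one_eq_top]; trivial
    | succ k ih => exact mem_pow_succ_of_mul f hq k x ih (by rw [hx]; exact Ideal.zero_mem _)
  have h2 := Ideal.iInf_pow_smul_eq_bot_of_le_jacobson (M := A) _ hJ
  have h3 : x ∈ (⨅ i : ℕ, Ideal.span (Set.range f) ^ i • ⊤ : Submodule A A) := by
    rw [Submodule.mem_iInf]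
    intro i
    rw [smul_eq_mul, Ideal.mul_top]
    exact h1 i
  rw [h2] at h3
  exact (Submodule.mem_bot A).mp h3

lemma coeff_mem_of_eval_eq_mul {c : ℕ} (f : Fin (c + 1) → A) (hq : QR f) (ν : ℕ)
    (P : MvPolynomial (Fin c) A) (hP : P.IsHomogeneous ν) (ω : A)
    (hev : eval (fun i => f i.succ) P = f 0 * ω) (d : Fin c →₀ ℕ) :
    P.coeff d ∈ Ideal.span (Set.range f) := by
  have hJ' : Ideal.span (Set.range fun i : Fin c => f i.succ) ≤ Ideal.span (Set.range f) := by
    apply Ideal.span_mono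
    rintro _ ⟨i, rfl⟩
    exact ⟨i.succ, rfl⟩
  have hf0 : f 0 ∈ Ideal.span (Set.range f) := Ideal.subset_span ⟨0, rfl⟩
  cases ν with
  | zero =>
    have e : P = C (coeff 0 P) := by
      rw [← homogeneousComponent_zero, homogeneousComponent_eq_self hP]
    rw [e] at hev
    rw [eval_C] at hev
    rw [e, coeff_C]
    split_ifs
    · rw [hev]; exact Ideal.mul_mem_right _ _ hf0
    · exact Ideal.zero_mem _
  | succ μ =>
    have hevmem : f 0 * ω ∈ Ideal.span (Set.range f) ^ (μ + 1) := by
      rw [← hev]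
      apply Ideal.pow_right_mono hJ'
      rw [Ideal.mem_span_pow_iff_exists_isHomogeneous]
      exact ⟨P, hP, rfl⟩
    have h1 : ∀ i, i ≤ μ → ω ∈ Ideal.span (Set.range f) ^ i := by
      intro i
      induction i with
      | zero => intro _; rw [pow_zero, Ideal.one_eq_top]; trivial
      | succ i ih =>
        intro hi
        refine mem_pow_succ_of_mul f hq i ω (ih (by omega)) ?_
        exact Ideal.pow_le_pow_right (by omega) hevmem
    obtain ⟨G, hG, hGω⟩ := (Ideal.mem_span_pow_iff_exists_isHomogeneous f ω).mp (h1 μ le_rfl)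
    have hXG : (X 0 * G).IsHomogeneous (μ + 1) := by
      have := (isHomogeneous_X A (0 : Fin (c + 1))).mul hG
      rwa [add_comm 1 μ] at this
    have hH : (rename Fin.succ P - X 0 * G).IsHomogeneous (μ + 1) :=
      (hP.rename_isHomogeneous).sub hXG
    have hevH : eval f (rename Fin.succ P - X 0 * G) = 0 := by
      rw [map_sub, eval_rename, map_mul, eval_X, hGω, sub_eq_zero]
      exact hev
    have h2 := hq (μ + 1) _ hH (by rw [hevH]; exact Ideal.zero_mem _)
      (Finsupp.mapDomain Fin.succ d)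
    rw [coeff_sub, coeff_rename_mapDomain Fin.succ (Fin.succ_injective c), coeff_X_mul',
      if_neg, sub_zero] at h2
    · exact h2
    · rw [Finsupp.mem_support_iff, not_not]
      apply Finsupp.mapDomain_of_notMem_range
      rintro ⟨j, hj⟩
      exact Fin.succ_ne_zero j hj

theorem qr_abar {c : ℕ} (f : Fin (c + 1) → A) (hq : QR f) : QR (abar f) := by
  intro ν Pb hPb hev d
  have hJ'J : Ideal.span (Set.range fun i : Fin c => f i.succ) ≤ Ideal.span (Set.range f) := by
    apply Ideal.span_mono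
    rintro _ ⟨i, rfl⟩
    exact ⟨i.succ, rfl⟩
  have hJb : Ideal.span (Set.range (abar f)) =
      (Ideal.span (Set.range fun i : Fin c => f i.succ)).map
        (Ideal.Quotient.mk (Ideal.span {f 0})) := by
    rw [Ideal.map_span]
    congr 1
    ext x
    simp only [Set.mem_range, Set.mem_image, exists_exists_eq_and]
    rfl
  have hJsup : Ideal.span (Set.range f) ≤
      Ideal.span (Set.range fun i : Fin c => f i.succ) ⊔ Ideal.span {f 0} := by
    rw [Ideal.span_le]
    rintro _ ⟨i, rfl⟩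
    rcases Fin.eq_zero_or_eq_succ i with rfl | ⟨j, rfl⟩
    · exact Ideal.mem_sup_right (Ideal.mem_span_singleton_self _)
    · exact Ideal.mem_sup_left (Ideal.subset_span ⟨j, rfl⟩)
  obtain ⟨P1, hP1⟩ := MvPolynomial.map_surjective (Ideal.Quotient.mk (Ideal.span {f 0}))
    Ideal.Quotient.mk_surjective Pb
  have hP0h : (homogeneousComponent ν P1).IsHomogeneous ν := homogeneousComponent_isHomogeneous ν P1
  have hP0m : map (Ideal.Quotient.mk (Ideal.span {f 0})) (homogeneousComponent ν P1) = Pb := by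
    rw [map_homogeneousComponent', hP1, homogeneousComponent_eq_self hPb]
  have hev1 : Ideal.Quotient.mk (Ideal.span {f 0})
      (eval (fun i => f i.succ) (homogeneousComponent ν P1)) = eval (abar f) Pb := by
    rw [← hP0m, eval_map, eval₂_comp]
    rfl
  have hev2 : eval (fun i => f i.succ) (homogeneousComponent ν P1) ∈
      Ideal.span (Set.range fun i : Fin c => f i.succ) ^ (ν + 1) ⊔ Ideal.span {f 0} := by
    rw [← Ideal.mem_quotient_iff_mem_sup, hev1, Ideal.map_pow, ← hJb]
    exact hev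
  obtain ⟨y, hy, z, hz, hyz⟩ := Submodule.mem_sup.mp hev2
  obtain ⟨ω, rfl⟩ := Ideal.mem_span_singleton'.mp hz
  obtain ⟨Q, hQ, hQc, hQe⟩ := exists_hom_of_mem_pow_succ (fun i => f i.succ) ν hy
  have hP : (homogeneousComponent ν P1 - Q).IsHomogeneous ν := hP0h.sub hQ
  have hevP : eval (fun i => f i.succ) (homogeneousComponent ν P1 - Q) = f 0 * ω := by
    rw [map_sub, hQe, ← hyz]
    ring
  have h3 := coeff_mem_of_eval_eq_mul f hq ν _ hP ω hevP d
  rw [coeff_sub] at h3
  have h4 : coeff d (homogeneousComponent ν P1) ∈ Ideal.span (Set.range f) := by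
    have := Ideal.add_mem _ h3 (hJ'J (hQc d))
    rwa [sub_add_cancel] at this
  rw [hJb, ← hP0m, coeff_map, Ideal.mem_quotient_iff_mem_sup]
  exact hJsup h4

theorem reg_of_abar {c : ℕ} (f : Fin (c + 1) → A) (h0 : ∀ x, f 0 * x = 0 → x = 0)
    (h : Reg (abar f)) : Reg f := by
  intro i x hx
  rcases Fin.eq_zero_or_eq_succ i with rfl | ⟨j, rfl⟩
  · simp only [I, Fin.val_zero, not_lt_zero', Set.setOf_false, Set.image_empty,
      Ideal.span_empty, Ideal.mem_bot] at hx ⊢
    exact h0 x hx
  · have hle : Ideal.span {f 0} ≤ I f (j.val + 1) := by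
      rw [Ideal.span_le, Set.singleton_subset_iff]
      exact Ideal.subset_span ⟨0, by simp, rfl⟩
    simp only [Fin.val_succ] at hx ⊢
    have h1 := h j (Ideal.Quotient.mk _ x)
    rw [I_abar] at h1
    have e : abar f j * Ideal.Quotient.mk (Ideal.span {f 0}) x =
        Ideal.Quotient.mk (Ideal.span {f 0}) (f j.succ * x) := by
      rw [map_mul]; rfl
    rw [e, Ideal.mem_quotient_iff_mem hle, Ideal.mem_quotient_iff_mem hle] at h1
    exact h1 hx

theorem isWeaklyRegular_of_reg {n : ℕ} (a : Fin n → A) (h : Reg a) :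
    RingTheory.Sequence.IsWeaklyRegular A (List.ofFn a) := by
  rw [RingTheory.Sequence.isWeaklyRegular_iff]
  intro i hi
  have hi' : i < n := by rwa [List.length_ofFn] at hi
  have hI : (Ideal.ofList ((List.ofFn a).take i) • ⊤ : Submodule A A) = I a i := by
    rw [smul_eq_mul, Ideal.mul_top]
    unfold I Ideal.ofList
    congr 1
    ext r
    simp only [Set.mem_setOf_eq, Set.mem_image, List.mem_take_iff_getElem, List.getElem_ofFn]
    constructor
    · rintro ⟨j, hj, rfl⟩
      simp only [List.length_ofFn, lt_inf_iff] at hj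
      exact ⟨⟨j, hj.2⟩, hj.1, rfl⟩
    · rintro ⟨j, hj, rfl⟩
      exact ⟨j.val, by simp [hj], rfl⟩
  rw [isSMulRegular_quotient_iff_mem_of_smul_mem]
  intro x hx
  rw [hI] at hx ⊢
  rw [List.getElem_ofFn, smul_eq_mul] at hx
  exact h ⟨i, hi'⟩ x hx

end

theorem reg_of_qr : ∀ (c : ℕ) {A : Type u} [CommRing A] [IsNoetherianRing A] (f : Fin c → A),
    (∀ i, f i ∈ Ring.jacobson A) → QR f → Reg f := by
  intro c
  induction c with
  | zero => intro A _ _ f _ _ i; exact i.elim0
  | succ c ih =>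
    intro A _ _ f hf hq
    apply reg_of_abar f (nzd_of_qr f hq hf)
    apply ih (abar f) _ (qr_abar f hq)
    intro i
    exact Ring.le_comap_jacobson (Ideal.Quotient.mk (Ideal.span {f 0})) (hf i.succ)

theorem isWeaklyRegular_of_qr {A : Type u} [CommRing A] [IsNoetherianRing A] {c : ℕ}
    (f : Fin c → A) (hf : ∀ i, f i ∈ Ring.jacobson A) (hq : QR f) :
    RingTheory.Sequence.IsWeaklyRegular A (List.ofFn f) :=
  isWeaklyRegular_of_reg f (reg_of_qr c f hf hq)

end Groth.Agent.Lib.Helper14.QuasiRegReg
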