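/-
Helper14 library: the Cohen–Macaulay property of a morphism at a point and base change
(EGA IV 6.7.1-type statements for fibres, via base field extension).
-/
import Groth.Agent.Lib.Helper14.LCF.Thickening
import Groth.Agent.Lib.Helper14.LCF.FibreMapStalk
import Groth.Agent.Lib.Helper14.CMFieldBCSch
import Groth.Prelude.Def_MoreMor

set_option autoImplicit false
set_option linter.style.haveILetI false
universe u
open CategoryTheory CategoryTheory.Limits AlgebraicGeometry TensorProduct Opposite

namespace Groth.Agent.Lib.Helper14.CMBaseChange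

variable {X Y X' Y' : Scheme.{u}}

theorem essFiniteType_residueFieldMap (g : Y' ⟶ Y) [LocallyOfFiniteType g] (y' : Y') :
    (g.residueFieldMap y').hom.EssFiniteType :=
  RingHom.EssFiniteType.residueFieldMap (LocallyOfFiniteType.stalkMap g y')

/-- stalk of a fibre at a point does not depend on the name of the base point. -/
theorem nonempty_stalk_equiv_of_fiberι_eq (f : X ⟶ Y) (y₁ y₂ : Y) (h : y₁ = y₂)
    (z₁ : f.fiber y₁) (z₂ : f.fiber y₂) (hz : f.fiberι y₁ z₁ = f.fiberι y₂ z₂) :
    Nonempty ((f.fiber y₁).presheaf.stalk z₁ ≃+* (f.fiber y₂).presheaf.stalk z₂) := by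
  subst h
  have : z₁ = z₂ := (f.fiberι y₁).isEmbedding.injective hz
  subst this
  exact ⟨RingEquiv.refl _⟩

open Groth.Agent.Lib.Helper14 in
theorem cm_fibre_iff {f : X ⟶ Y} {f' : X' ⟶ Y'} {g' : X' ⟶ X} {g : Y' ⟶ Y}
    (hc : IsPullback g' f' f g) (x' : X') [IsLocallyNoetherian (f.fiber (g (f' x')))]
    (hyp : LocallyOfFiniteType g ∨ LocallyOfFiniteType f) :
    LocCoh.IsCohenMacaulayLocalRing ↑((f.fiber (f (g' x'))).presheaf.stalk (f.asFiber (g' x'))) ↔
      LocCoh.IsCohenMacaulayLocalRing ↑((f'.fiber (f' x')).presheaf.stalk (f'.asFiber x')) := by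
  obtain ⟨e, hpb, he⟩ := LCF.exists_fibre_isPullback hc (f' x')
  letI aK : Algebra (Y.residueField (g (f' x'))) (Y'.residueField (f' x')) :=
    (g.residueFieldMap (f' x')).hom.toAlgebra
  set φ : f.fiber (g (f' x')) ⟶ Spec (CommRingCat.of (Y.residueField (g (f' x')))) :=
    f.fiberToSpecResidueField (g (f' x')) with hφ
  have hpb' : IsPullback e (f'.fiberToSpecResidueField (f' x')) φ
      (Spec.map (CommRingCat.ofHom (algebraMap (Y.residueField (g (f' x')))
        (Y'.residueField (f' x'))))) := hpb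
  set iso := hpb'.isoPullback with hiso
  set x₀' := f'.asFiber x' with hx₀'
  set x'' := iso.hom x₀' with hx''
  set z := pullback.fst φ (Spec.map (CommRingCat.ofHom (algebraMap (Y.residueField (g (f' x')))
        (Y'.residueField (f' x'))))) x'' with hz
  have hzι : f.fiberι (g (f' x')) z = g' x' := by
    have h1 : z = e x₀' :=
      (Scheme.Hom.comp_apply _ _ _).symm.trans
        (congrArg (fun m : f'.fiber (f' x') ⟶ f.fiber (g (f' x')) => m x₀')
          (IsPullback.isoPullback_hom_fst hpb'))
    have h2 : f.fiberι (g (f' x')) (e x₀') = g' (f'.fiberι (f' x') x₀') :=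
      (Scheme.Hom.comp_apply _ _ _).symm.trans
        ((congrArg (fun m : f'.fiber (f' x') ⟶ X => m x₀') he).trans
          (Scheme.Hom.comp_apply _ _ _))
    rw [h1, h2, f'.fiberι_asFiber]
  obtain ⟨e1⟩ := nonempty_stalk_equiv_of_fiberι_eq f (f (g' x')) (g (f' x'))
    ((Scheme.Hom.comp_apply _ _ _).symm.trans
      ((congrArg (fun m : X' ⟶ Y => m x') hc.w).trans (Scheme.Hom.comp_apply _ _ _)))
    (f.asFiber (g' x')) z (by
    rw [f.fiberι_asFiber, hzι])
  let e3 : ↑((pullback φ (Spec.map (CommRingCat.ofHom (algebraMap (Y.residueField (g (f' x')))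
        (Y'.residueField (f' x')))))).presheaf.stalk x'') ≃+*
      ↑((f'.fiber (f' x')).presheaf.stalk x₀') :=
    (asIso (iso.hom.stalkMap x₀')).commRingCatIsoToRingEquiv
  have key : LocCoh.IsCohenMacaulayLocalRing ↑((f.fiber (g (f' x'))).presheaf.stalk z) ↔
      LocCoh.IsCohenMacaulayLocalRing ↑((pullback φ (Spec.map (CommRingCat.ofHom
        (algebraMap (Y.residueField (g (f' x'))) (Y'.residueField (f' x')))))).presheaf.stalk
          x'') := by
    rcases hyp with hg | hf
    · haveI := hg
      haveI : Algebra.EssFiniteType (Y.residueField (g (f' x'))) (Y'.residueField (f' x')) :=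
        essFiniteType_residueFieldMap g (f' x')
      refine CMFieldBCSch.cm_stalk_iff φ (Y'.residueField (f' x')) x'' ?_ (Or.inr inferInstance)
      letI := Groth.Agent.Lib.Helper14.StalkTensor.stalkAlgA φ z
      exact Algebra.EssFiniteType.isNoetherianRing ((f.fiber (g (f' x'))).presheaf.stalk z) _
    · haveI := hf
      have hφft : LocallyOfFiniteType (f.fiberToSpecResidueField (g (f' x'))) := by
        change LocallyOfFiniteType (pullback.snd f (Y.fromSpecResidueField (g (f' x'))))
        infer_instance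
      haveI : LocallyOfFiniteType φ := hφft
      letI := Groth.Agent.Lib.Helper14.StalkTensor.stalkAlgA φ z
      haveI hE : Algebra.EssFiniteType (Y.residueField (g (f' x')))
          ((f.fiber (g (f' x'))).presheaf.stalk z) := by
        rw [← RingHom.essFiniteType_algebraMap,
          Groth.Agent.Lib.Helper14.CMFieldBCSch.algebraMap_stalkAlgA]
        exact Groth.Agent.Lib.Helper14.GeomRegSmooth.essFiniteType_stalkStr _ _
      refine CMFieldBCSch.cm_stalk_iff φ (Y'.residueField (f' x')) x'' ?_ (Or.inl hE)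
      haveI : IsNoetherianRing (TensorProduct (Y.residueField (g (f' x')))
          (Y'.residueField (f' x')) ((f.fiber (g (f' x'))).presheaf.stalk z)) :=
        Algebra.EssFiniteType.isNoetherianRing (Y'.residueField (f' x')) _
      exact isNoetherianRing_of_ringEquiv _
        (Algebra.TensorProduct.comm (Y.residueField (g (f' x'))) (Y'.residueField (f' x'))
          ((f.fiber (g (f' x'))).presheaf.stalk z)).toRingEquiv
  constructor
  · intro h
    haveI := h
    haveI := Groth.Agent.Lib.Helper22.CMG.isCMLocalRing_of_ringEquiv e1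
    haveI := key.1 inferInstance
    exact Groth.Agent.Lib.Helper22.CMG.isCMLocalRing_of_ringEquiv e3
  · intro h
    haveI := h
    haveI := Groth.Agent.Lib.Helper22.CMG.isCMLocalRing_of_ringEquiv e3.symm
    haveI := key.2 inferInstance
    exact Groth.Agent.Lib.Helper22.CMG.isCMLocalRing_of_ringEquiv e1.symm

open Groth.Agent.Lib.Helper17 in
/-- base change preserves "Cohen–Macaulay at a point". -/
theorem isCMAt_baseChange {f : X ⟶ Y} {f' : X' ⟶ Y'} {g' : X' ⟶ X} {g : Y' ⟶ Y}
    (hc : IsPullback g' f' f g) (x' : X') [IsLocallyNoetherian (f.fiber (g (f' x')))]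
    (hyp : LocallyOfFiniteType g ∨ LocallyOfFiniteType f)
    (h : MoreMor.IsCMAt f (g' x')) : MoreMor.IsCMAt f' x' :=
  ⟨FibreFlat.flat_stalkMap_baseChange hc.flip x' h.1, (cm_fibre_iff hc x' hyp).1 h.2⟩

/-- descent of "Cohen–Macaulay at a point", given flatness downstairs. -/
theorem isCMAt_of_baseChange {f : X ⟶ Y} {f' : X' ⟶ Y'} {g' : X' ⟶ X} {g : Y' ⟶ Y}
    (hc : IsPullback g' f' f g) (x' : X') [IsLocallyNoetherian (f.fiber (g (f' x')))]
    (hyp : LocallyOfFiniteType g ∨ LocallyOfFiniteType f)
    (hflat : (f.stalkMap (g' x')).hom.Flat)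
    (h : MoreMor.IsCMAt f' x') : MoreMor.IsCMAt f (g' x') :=
  ⟨hflat, (cm_fibre_iff hc x' hyp).2 h.2⟩

theorem flat_stalkMap_congr {f₁ f₂ : X' ⟶ Y} (h : f₁ = f₂) (x' : X')
    (hf : (f₁.stalkMap x').hom.Flat) : (f₂.stalkMap x').hom.Flat := by
  subst h
  exact hf

open Groth.Agent.Lib.Helper17 in
/-- descent of flatness at a point along a base change which is flat at the image point. -/
theorem flat_stalkMap_of_baseChange {f : X ⟶ Y} {f' : X' ⟶ Y'} {g' : X' ⟶ X} {g : Y' ⟶ Y}
    (hc : IsPullback g' f' f g) (x' : X') (hg : (g.stalkMap (f' x')).hom.Flat)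
    (hf' : (f'.stalkMap x').hom.Flat) : (f.stalkMap (g' x')).hom.Flat := by
  have hg' : (g'.stalkMap x').hom.Flat := FibreFlat.flat_stalkMap_baseChange hc x' hg
  have h1 : ((f' ≫ g).stalkMap x').hom.Flat := by
    rw [Scheme.Hom.stalkMap_comp]
    exact RingHom.Flat.comp hg hf'
  have h2 : ((g' ≫ f).stalkMap x').hom.Flat := flat_stalkMap_congr hc.w.symm x' h1
  exact LCF.flat_stalkMap_of_comp g' f x' h2 hg'

end Groth.Agent.Lib.Helper14.CMBaseChange
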