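/-
Helper14 library: closed points with Cohen–Macaulay local ring on schemes locally of finite type
over a field, and in fibres of morphisms locally of finite type.
-/
import Mathlib
import Groth.Agent.Lib.Helper4.FlatRing
import Groth.Agent.Lib.Helper4.CMOpen
import Groth.Agent.Lib.Helper22.CMGlue
import Groth.Agent.Lib.Helper14.CMBaseChange

set_option autoImplicit false
set_option linter.style.haveILetI false
universe u
open CategoryTheory CategoryTheory.Limits AlgebraicGeometry Opposite

namespace Groth.Agent.Lib.Helper14.CMPoint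

/-- a Noetherian local ring whose maximal ideal has height `0` is Cohen–Macaulay. -/
theorem isCM_of_height_eq_zero (R : Type u) [CommRing R] [IsLocalRing R] [IsNoetherianRing R]
    (h : (IsLocalRing.maximalIdeal R).height = 0) : LocCoh.IsCohenMacaulayLocalRing R := by
  refine { supportDim_eq_depth := ?_ }
  have h1 := Groth.Agent.Lib.Helper4.FlatRing.depth_self_le_height (B := R)
  rw [h] at h1
  have h2 : LocCoh.depth R R = 0 := le_antisymm h1 bot_le
  rw [Module.supportDim_self_eq_ringKrullDim, ← IsLocalRing.maximalIdeal_height_eq_ringKrullDim,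
    h, h2]

/-- the localization of a Noetherian ring at a minimal prime is Cohen–Macaulay. -/
theorem isCM_atPrime_of_mem_minimalPrimes (R : Type u) [CommRing R] [IsNoetherianRing R]
    (p : Ideal R) [p.IsPrime] (hp : p ∈ minimalPrimes R) :
    LocCoh.IsCohenMacaulayLocalRing (Localization.AtPrime p) := by
  apply isCM_of_height_eq_zero
  have h1 : p.height = 0 := Ideal.height_eq_zero_iff.2 hp
  have h2 := IsLocalization.AtPrime.ringKrullDim_eq_height p (Localization.AtPrime p)
  rw [← IsLocalRing.maximalIdeal_height_eq_ringKrullDim, h1] at h2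
  exact_mod_cast h2

/-- a nonzero finite type algebra over a field has a maximal ideal at which it is
Cohen–Macaulay. -/
theorem exists_closed_cm_prime (k R : Type u) [Field k] [CommRing R] [Algebra k R]
    [Algebra.FiniteType k R] [Nontrivial R] :
    ∃ y : PrimeSpectrum R, IsClosed ({y} : Set (PrimeSpectrum R)) ∧
      LocCoh.IsCohenMacaulayLocalRing (Localization.AtPrime y.asIdeal) := by
  obtain ⟨n, f, hf⟩ := (Algebra.FiniteType.iff_quotient_mvPolynomial'' (R := k) (S := R)).1
    inferInstance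
  letI : Algebra (MvPolynomial (Fin n) k) R := f.toRingHom.toAlgebra
  have hsurj : Function.Surjective (algebraMap (MvPolynomial (Fin n) k) R) := hf
  haveI : IsNoetherianRing R := Algebra.FiniteType.isNoetherianRing k R
  haveI : IsJacobsonRing R := isJacobsonRing_of_finiteType (A := k)
  have hn : ringKrullDim (MvPolynomial (Fin n) k) ≤ (n : WithBot ℕ∞) := by
    rw [MvPolynomial.ringKrullDim_of_isNoetherianRing, ringKrullDim_eq_zero_of_field, zero_add]
    simp
  have hopen := Groth.Agent.Lib.Helper4.CMOpen.isOpen_cmLocus (MvPolynomial (Fin n) k) n R hn hsurj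
  obtain ⟨p, hp⟩ := Ideal.nonempty_minimalPrimes (I := (⊥ : Ideal R)) bot_ne_top
  haveI : p.IsPrime := hp.1.1
  have hne : {q : PrimeSpectrum R |
      LocCoh.IsCohenMacaulayLocalRing (Localization.AtPrime q.asIdeal)}.Nonempty :=
    ⟨⟨p, inferInstance⟩, isCM_atPrime_of_mem_minimalPrimes R p hp⟩
  obtain ⟨y, hy, hcl⟩ := PrimeSpectrum.exists_isClosed_singleton_of_isJacobsonRing _ hopen hne
  exact ⟨y, hcl, hy⟩

/-- a nonempty scheme locally of finite type over a field has a closed point with
Cohen–Macaulay local ring. -/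
theorem exists_closed_cm_point {F : Scheme.{u}} {k : Type u} [Field k]
    (φ : F ⟶ Spec (CommRingCat.of k)) [LocallyOfFiniteType φ] [Nonempty F] :
    ∃ x₀ : F, IsClosed ({x₀} : Set F) ∧
      LocCoh.IsCohenMacaulayLocalRing (F.presheaf.stalk x₀) := by
  obtain ⟨a⟩ := ‹Nonempty F›
  obtain ⟨_, ⟨W, hW0, rfl⟩, haW, -⟩ :=
    F.isBasis_affineOpens.exists_subset_of_mem_open (Set.mem_univ a) isOpen_univ
  have hW : IsAffineOpen W := hW0
  set ψ : k →+* Γ(F, W) :=
    (φ.appLE ⊤ W le_top).hom.comp (Scheme.ΓSpecIso (CommRingCat.of k)).inv.hom with hψdef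
  have hψ : ψ.FiniteType :=
    RingHom.FiniteType.comp (φ.finiteType_appLE (isAffineOpen_top _) hW le_top)
      (RingHom.FiniteType.of_surjective _
        (ConcreteCategory.bijective_of_isIso (Scheme.ΓSpecIso (CommRingCat.of k)).inv).2)
  letI := ψ.toAlgebra
  haveI : Algebra.FiniteType k Γ(F, W) := hψ
  haveI : Nontrivial Γ(F, W) := (hW.primeIdealOf ⟨a, haW⟩).nontrivial
  obtain ⟨y, hycl, hycm⟩ := exists_closed_cm_prime k Γ(F, W)
  have hx₀W : hW.fromSpec y ∈ W := by
    have : hW.fromSpec y ∈ Set.range hW.fromSpec := ⟨y, rfl⟩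
    rwa [hW.range_fromSpec] at this
  refine ⟨hW.fromSpec y, ?_, ?_⟩
  · haveI : JacobsonSpace F := LocallyOfFiniteType.jacobsonSpace φ
    apply isClosed_singleton_of_isLocallyClosed_singleton
    have h1 := hycl.isLocallyClosed.image hW.fromSpec.isOpenEmbedding.isInducing
      hW.fromSpec.isOpenEmbedding.isOpen_range.isLocallyClosed
    convert h1 using 1
    exact Set.image_singleton.symm
  · letI := TopCat.Presheaf.algebra_section_stalk F.presheaf (U := W) ⟨hW.fromSpec y, hx₀W⟩
    have hloc : IsLocalization.AtPrime (F.presheaf.stalk (hW.fromSpec y)) y.asIdeal :=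
      hW.isLocalization_stalk' y hx₀W
    haveI : IsLocalization y.asIdeal.primeCompl (F.presheaf.stalk (hW.fromSpec y)) := hloc
    haveI := hycm
    exact Groth.Agent.Lib.Helper22.CMG.isCMLocalRing_of_ringEquiv
      (IsLocalization.algEquiv y.asIdeal.primeCompl (Localization.AtPrime y.asIdeal)
        (F.presheaf.stalk (hW.fromSpec y))).toRingEquiv

open Groth.Agent.Lib.Helper14.CMBaseChange in
/-- a nonempty fibre of a morphism locally of finite type has a closed point at which it is
Cohen–Macaulay. -/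
theorem exists_closed_cm_point_fibre {S' S : Scheme.{u}} (g : S' ⟶ S) [LocallyOfFiniteType g]
    (s : S) (hs : s ∈ Set.range g) :
    ∃ x : S', g x = s ∧ IsClosed ({g.asFiber x} : Set ↑(g.fiber (g x))) ∧
      LocCoh.IsCohenMacaulayLocalRing ↑((g.fiber (g x)).presheaf.stalk (g.asFiber x)) := by
  obtain ⟨x₁, rfl⟩ := hs
  haveI : Nonempty ↑(g.fiber (g x₁)) := ⟨g.asFiber x₁⟩
  have hφft : LocallyOfFiniteType (g.fiberToSpecResidueField (g x₁)) := by
    change LocallyOfFiniteType (pullback.snd g (S.fromSpecResidueField (g x₁)))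
    infer_instance
  let φ : g.fiber (g x₁) ⟶ Spec (CommRingCat.of (S.residueField (g x₁))) :=
    g.fiberToSpecResidueField (g x₁)
  haveI : LocallyOfFiniteType φ := hφft
  obtain ⟨x₀, hcl, hcm⟩ := exists_closed_cm_point φ
  have hgx : g (g.fiberι (g x₁) x₀) = g x₁ := by
    have : g.fiberι (g x₁) x₀ ∈ Set.range (g.fiberι (g x₁)) := ⟨x₀, rfl⟩
    rw [g.range_fiberι] at this
    exact this
  have key : ∀ (y₁ y₂ : S) (h : y₁ = y₂) (z₁ : g.fiber y₁) (z₂ : g.fiber y₂)
      (_ : g.fiberι y₁ z₁ = g.fiberι y₂ z₂), IsClosed ({z₁} : Set ↑(g.fiber y₁)) →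
      IsClosed ({z₂} : Set ↑(g.fiber y₂)) := by
    intro y₁ y₂ h z₁ z₂ hz hc
    subst h
    have : z₁ = z₂ := (g.fiberι y₁).isEmbedding.injective hz
    subst this
    exact hc
  refine ⟨g.fiberι (g x₁) x₀, hgx, ?_, ?_⟩
  · exact key (g x₁) (g (g.fiberι (g x₁) x₀)) hgx.symm x₀ (g.asFiber (g.fiberι (g x₁) x₀))
      (g.fiberι_asFiber _).symm hcl
  · obtain ⟨e⟩ := nonempty_stalk_equiv_of_fiberι_eq g (g x₁) (g (g.fiberι (g x₁) x₀)) hgx.symm x₀
      (g.asFiber (g.fiberι (g x₁) x₀)) (g.fiberι_asFiber _).symm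
    haveI := hcm
    exact Groth.Agent.Lib.Helper22.CMG.isCMLocalRing_of_ringEquiv e

end Groth.Agent.Lib.Helper14.CMPoint
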