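import Mathlib
import Groth.Agent.S9766
import Groth.Agent.S9767
import Groth.Agent.Lib.Helper14.CMBaseChange
import Groth.Agent.Lib.Helper14.CMFlat
import Groth.Agent.Lib.Helper14.CMPoint

/-!
# Cohen–Macaulay morphisms and maps to affine space

* `flat_over`, `isCMAt_over`: the structure morphism of an affine space is flat and
  Cohen–Macaulay at every point; the local rings of its fibres are regular of dimension `≤ n`.
* `isCMAt_of_quasiFiniteAt_of_flat`: if `g : U ⟶ 𝔸ⁿ_Y` is quasi-finite and flat at `u`, then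
  `g ≫ (𝔸ⁿ_Y ↘ Y)` is Cohen–Macaulay at `u`.
-/

set_option autoImplicit false
universe u

open AlgebraicGeometry CategoryTheory Limits

namespace Groth.Agent.Lib.Helper14.CMAffine

variable (n : ℕ) (Y : Scheme.{u})

instance flat_over : Flat (𝔸(ULift.{u} (Fin n); Y) ↘ Y) := by
  refine MorphismProperty.pullback_fst (P := @Flat) _ _ ?_
  have := isIso_of_isTerminal specULiftZIsTerminal.{u} terminalIsTerminal (terminal.from _)
  rw [← terminal.comp_from (Spec.map (CommRingCat.ofHom MvPolynomial.C)),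
    MorphismProperty.cancel_right_of_respectsIso (P := @Flat),
    HasRingHomProperty.Spec_iff (P := @Flat)]
  simp only [CommRingCat.hom_ofHom]
  have h : (algebraMap (ULift.{u} ℤ) (MvPolynomial (ULift.{u} (Fin n)) (ULift.{u} ℤ))).Flat :=
    RingHom.flat_algebraMap_iff.mpr inferInstance
  rwa [MvPolynomial.algebraMap_eq] at h

instance lft_over : LocallyOfFiniteType (𝔸(ULift.{u} (Fin n); Y) ↘ Y) := by
  haveI : LocallyOfFinitePresentation (𝔸(ULift.{u} (Fin n); Y) ↘ Y) := inferInstance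
  infer_instance

/-- the fibres of an affine space are spectra of polynomial rings over the residue field. -/
noncomputable def fiberIso (y : Y) : (𝔸(ULift.{u} (Fin n); Y) ↘ Y).fiber y ≅
    Spec (CommRingCat.of (MvPolynomial (ULift.{u} (Fin n)) (Y.residueField y))) :=
  (AffineSpace.isPullback_map (n := ULift.{u} (Fin n))
    (Y.fromSpecResidueField y)).isoPullback.symm ≪≫
    AffineSpace.SpecIso (ULift.{u} (Fin n)) (Y.residueField y)

/-- the local rings of the fibres of an affine space are localizations of a polynomial ring over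
a field. -/
theorem exists_stalk_equiv (y : Y) (z : ↑((𝔸(ULift.{u} (Fin n); Y) ↘ Y).fiber y)) :
    ∃ (P : Ideal (MvPolynomial (ULift.{u} (Fin n)) (Y.residueField y))) (_ : P.IsPrime),
      Nonempty (((𝔸(ULift.{u} (Fin n); Y) ↘ Y).fiber y).presheaf.stalk z ≃+*
        Localization.AtPrime P) := by
  set e := fiberIso n Y y with he
  refine ⟨(e.hom z).asIdeal, (e.hom z).2, ⟨?_⟩⟩
  haveI : IsIso (e.hom.stalkMap z) := inferInstance
  let e1 := (asIso (e.hom.stalkMap z)).commRingCatIsoToRingEquiv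
  let e3 := (AlgebraicGeometry.StructureSheaf.stalkIso
    (MvPolynomial (ULift.{u} (Fin n)) (Y.residueField y)) (e.hom z)).toRingEquiv
  exact e1.symm.trans e3.symm

theorem isRegularLocalRing_stalk_fiber (y : Y) (z : ↑((𝔸(ULift.{u} (Fin n); Y) ↘ Y).fiber y)) :
    IsRegularLocalRing (((𝔸(ULift.{u} (Fin n); Y) ↘ Y).fiber y).presheaf.stalk z) := by
  obtain ⟨P, hP, ⟨e⟩⟩ := exists_stalk_equiv n Y y z
  haveI : IsRegularLocalRing (Localization.AtPrime P) :=
    IsRegularRing.isRegularLocalRing_localization P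
  exact IsRegularLocalRing.of_ringEquiv e.symm

theorem ringKrullDim_stalk_fiber_le (y : Y) (z : ↑((𝔸(ULift.{u} (Fin n); Y) ↘ Y).fiber y)) :
    ringKrullDim (((𝔸(ULift.{u} (Fin n); Y) ↘ Y).fiber y).presheaf.stalk z) ≤ (n : WithBot ℕ∞) := by
  obtain ⟨P, hP, ⟨e⟩⟩ := exists_stalk_equiv n Y y z
  rw [ringKrullDim_eq_of_ringEquiv e,
    IsLocalization.AtPrime.ringKrullDim_eq_height P (Localization.AtPrime P)]
  refine (Ideal.height_le_ringKrullDim_of_ne_top hP.ne_top).trans ?_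
  rw [MvPolynomial.ringKrullDim_of_isNoetherianRing, ringKrullDim_eq_zero_of_field, zero_add]
  simp

theorem isCMAt_over (p : ↑(𝔸(ULift.{u} (Fin n); Y))) :
    MoreMor.IsCMAt (𝔸(ULift.{u} (Fin n); Y) ↘ Y) p := by
  refine ⟨Flat.stalkMap _ p, ?_⟩
  haveI := isRegularLocalRing_stalk_fiber n Y ((𝔸(ULift.{u} (Fin n); Y) ↘ Y) p)
    ((𝔸(ULift.{u} (Fin n); Y) ↘ Y).asFiber p)
  exact Groth.Agent.Lib.Helper4.RegCM.isCohenMacaulayLocalRing _


theorem isCM_quot_of_quasiFinite {A B : Type u} [CommRing A] [CommRing B] [IsLocalRing A]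
    [IsLocalRing B] (φ : A →+* B) [IsLocalHom φ] (h : φ.QuasiFinite) :
    LocCoh.IsCohenMacaulayLocalRing (B ⧸ (IsLocalRing.maximalIdeal A).map φ) := by
  algebraize [φ]
  have hne : (IsLocalRing.maximalIdeal A).map (algebraMap A B) ≠ ⊤ := by
    intro h
    have hle : (IsLocalRing.maximalIdeal A).map (algebraMap A B) ≤ IsLocalRing.maximalIdeal B :=
      IsLocalRing.map_maximalIdeal_le (algebraMap A B)
    rw [h] at hle
    exact (IsLocalRing.maximalIdeal.isMaximal B).ne_top (top_le_iff.mp hle)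
  change LocCoh.IsCohenMacaulayLocalRing (B ⧸ (IsLocalRing.maximalIdeal A).map (algebraMap A B))
  haveI : Nontrivial (B ⧸ (IsLocalRing.maximalIdeal A).map (algebraMap A B)) :=
    Ideal.Quotient.nontrivial_iff.mpr hne
  haveI : IsLocalRing (B ⧸ (IsLocalRing.maximalIdeal A).map (algebraMap A B)) :=
    IsLocalRing.of_surjective' (Ideal.Quotient.mk _) Ideal.Quotient.mk_surjective
  letI := Ideal.Quotient.field (IsLocalRing.maximalIdeal A)
  haveI : Algebra.QuasiFinite (A ⧸ IsLocalRing.maximalIdeal A) (B ⧸ (IsLocalRing.maximalIdeal A).map (algebraMap A B)) :=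
    Algebra.QuasiFinite.of_restrictScalars A _ _
  haveI : Module.Finite (A ⧸ IsLocalRing.maximalIdeal A) (B ⧸ (IsLocalRing.maximalIdeal A).map (algebraMap A B)) :=
    Module.Finite.of_quasiFinite
  haveI : IsArtinianRing (B ⧸ (IsLocalRing.maximalIdeal A).map (algebraMap A B)) :=
    IsArtinianRing.of_finite (A ⧸ IsLocalRing.maximalIdeal A) _
  apply Groth.Agent.Lib.Helper14.CMPoint.isCM_of_height_eq_zero
  exact Ideal.height_eq_zero_iff.2 (Ideal.mem_minimalPrimes_of_krullDimLE_zero _)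

/-- **quasi-finite and flat over an affine space implies Cohen–Macaulay.** -/
theorem isCMAt_comp_over_of_quasiFiniteAt {U : Scheme.{u}} (g : U ⟶ 𝔸(ULift.{u} (Fin n); Y))
    (u : U) [LocallyOfFiniteType (g ≫ 𝔸(ULift.{u} (Fin n); Y) ↘ Y)]
    (hqf : g.QuasiFiniteAt u) (hfl : (g.stalkMap u).hom.Flat) :
    MoreMor.IsCMAt (g ≫ 𝔸(ULift.{u} (Fin n); Y) ↘ Y) u := by
  haveI : LocallyOfFiniteType ((g ≫ 𝔸(ULift.{u} (Fin n); Y) ↘ Y).fiberToSpecResidueField
      ((𝔸(ULift.{u} (Fin n); Y) ↘ Y) (g u))) := by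
    change LocallyOfFiniteType (pullback.snd (g ≫ 𝔸(ULift.{u} (Fin n); Y) ↘ Y)
      (Y.fromSpecResidueField ((𝔸(ULift.{u} (Fin n); Y) ↘ Y) (g u))))
    infer_instance
  have hN : IsLocallyNoetherian ((g ≫ 𝔸(ULift.{u} (Fin n); Y) ↘ Y).fiber
      ((𝔸(ULift.{u} (Fin n); Y) ↘ Y) (g u))) :=
    LocallyOfFiniteType.isLocallyNoetherian
      ((g ≫ 𝔸(ULift.{u} (Fin n); Y) ↘ Y).fiberToSpecResidueField
        ((𝔸(ULift.{u} (Fin n); Y) ↘ Y) (g u)))
  refine Groth.Agent.S9766.result g (𝔸(ULift.{u} (Fin n); Y) ↘ Y) u hN ?_ (isCMAt_over n Y (g u))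
  rw [Groth.Agent.Lib.Helper4.CMHomSch.isCMAt_iff]
  exact ⟨hfl, isCM_quot_of_quasiFinite (g.stalkMap u).hom hqf⟩

end Groth.Agent.Lib.Helper14.CMAffine
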