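import Mathlib
import Groth.Agent.Lib.Helper14.CMAffine

/-!
# The morphism to affine space defined by a finite family of sections on a basic open
-/

set_option autoImplicit false
universe u

open AlgebraicGeometry CategoryTheory Limits

namespace Groth.Agent.Lib.Helper14.CMAffineMap

variable {X Y : Scheme.{u}} (f : X ⟶ Y) {U₀ : X.Opens} {n : ℕ} (gs : Fin n → Γ(X, U₀))
  (m : Γ(X, U₀))

/-- the sections `gs` restricted to the basic open `D(m)`, as global sections of that scheme. -/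
noncomputable def vec : ULift.{u} (Fin n) → Γ((X.basicOpen m : Scheme.{u}), ⊤) := fun i =>
  (X.basicOpen m).topIso.inv (X.presheaf.map (homOfLE (X.basicOpen_le m)).op (gs i.down))

/-- the morphism `D(m) ⟶ 𝔸ⁿ_Y` given by the sections `gs`. -/
noncomputable def gam : (X.basicOpen m : Scheme.{u}) ⟶ 𝔸(ULift.{u} (Fin n); Y) :=
  AffineSpace.homOfVector ((X.basicOpen m).ι ≫ f) (vec gs m)

theorem gam_over : gam f gs m ≫ 𝔸(ULift.{u} (Fin n); Y) ↘ Y = (X.basicOpen m).ι ≫ f :=
  AffineSpace.homOfVector_over _ _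

theorem mem_basicOpen_vec_iff (u : ↑(X.basicOpen m : Scheme.{u})) (i : ULift.{u} (Fin n)) :
    u ∈ (X.basicOpen m : Scheme.{u}).basicOpen (vec gs m i) ↔
      (X.basicOpen m).ι u ∈ X.basicOpen (gs i.down) := by
  have h1 := Scheme.Opens.ι_image_basicOpen_topIso_inv (X.basicOpen m)
    (X.presheaf.map (homOfLE (X.basicOpen_le m)).op (gs i.down))
  rw [Scheme.basicOpen_res] at h1
  constructor
  · intro hu
    have h2 : (X.basicOpen m).ι u ∈ (X.basicOpen m).ι ''ᵁ
        (X.basicOpen m : Scheme.{u}).basicOpen (vec gs m i) := ⟨u, hu, rfl⟩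
    rw [vec, h1] at h2
    exact h2.2
  · intro hu
    have h2 : (X.basicOpen m).ι u ∈ X.basicOpen m ⊓ X.basicOpen (gs i.down) := ⟨u.2, hu⟩
    rw [← h1] at h2
    obtain ⟨u', hu', he⟩ := h2
    have : u' = u := (X.basicOpen m).ι.isOpenEmbedding.injective he
    rw [← this]
    exact hu'

theorem gam_mem_basicOpen_coord_iff (u : ↑(X.basicOpen m : Scheme.{u})) (i : ULift.{u} (Fin n)) :
    gam f gs m u ∈ (𝔸(ULift.{u} (Fin n); Y)).basicOpen (AffineSpace.coord Y i) ↔
      (X.basicOpen m).ι u ∈ X.basicOpen (gs i.down) := by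
  rw [← mem_basicOpen_vec_iff]
  have h1 := Scheme.preimage_basicOpen_top (gam f gs m) (AffineSpace.coord Y i)
  have h2 : (gam f gs m).appTop (AffineSpace.coord Y i) = vec gs m i :=
    AffineSpace.homOfVector_appTop_coord _ _ i
  rw [h2] at h1
  rw [← h1]
  rfl

theorem quasiFiniteAt_gam [LocallyOfFiniteType f] (x : X) (hxm : x ∈ X.basicOpen m)
    (hx0 : ∀ i, x ∉ X.basicOpen (gs i))
    (hpt : ∀ u : X, u ∈ X.basicOpen m → f u = f x → (∀ i, u ∉ X.basicOpen (gs i)) → u = x) :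
    (gam f gs m).QuasiFiniteAt ⟨x, hxm⟩ := by
  haveI : LocallyOfFiniteType (gam f gs m ≫ 𝔸(ULift.{u} (Fin n); Y) ↘ Y) := by
    rw [gam_over]
    infer_instance
  haveI : LocallyOfFiniteType (gam f gs m) :=
    locallyOfFiniteType_of_comp (gam f gs m) (𝔸(ULift.{u} (Fin n); Y) ↘ Y)
  rw [Scheme.Hom.quasiFiniteAt_iff_isOpen_singleton_asFiber]
  have hsub : Subsingleton ↑((gam f gs m) ⁻¹' {gam f gs m ⟨x, hxm⟩}) := by
    refine ⟨fun a b => ?_⟩
    have key : ∀ u : ↑(X.basicOpen m : Scheme.{u}), gam f gs m u = gam f gs m ⟨x, hxm⟩ →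
        u = ⟨x, hxm⟩ := by
      intro u hu
      have h1 : f ((X.basicOpen m).ι u) = f x := by
        have e1 : f ((X.basicOpen m).ι u) =
            (𝔸(ULift.{u} (Fin n); Y) ↘ Y) (gam f gs m u) := by
          rw [← Scheme.Hom.comp_apply, ← Scheme.Hom.comp_apply, gam_over]
        have e2 : f x = (𝔸(ULift.{u} (Fin n); Y) ↘ Y) (gam f gs m ⟨x, hxm⟩) := by
          rw [← Scheme.Hom.comp_apply, gam_over, Scheme.Hom.comp_apply]
          rfl
        rw [e1, e2, hu]
      have h2 : ∀ i, (X.basicOpen m).ι u ∉ X.basicOpen (gs i) := by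
        intro i hi
        have h3 := (gam_mem_basicOpen_coord_iff f gs m u ⟨i⟩).2 hi
        rw [hu] at h3
        exact hx0 i ((gam_mem_basicOpen_coord_iff f gs m ⟨x, hxm⟩ ⟨i⟩).1 h3)
      have h4 := hpt _ u.2 h1 h2
      exact (X.basicOpen m).ι.isOpenEmbedding.injective h4
    exact Subtype.ext ((key a.1 a.2).trans (key b.1 b.2).symm)
  haveI : Subsingleton ↑((gam f gs m).fiber (gam f gs m ⟨x, hxm⟩)) :=
    ((gam f gs m).fiberHomeo (gam f gs m ⟨x, hxm⟩)).toEquiv.subsingleton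
  exact isOpen_discrete _

end Groth.Agent.Lib.Helper14.CMAffineMap
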