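import Mathlib
import Groth.Agent.S2082

/-!
# Miracle flatness for a sequence which is regular on a Cohen–Macaulay fibre ring
-/

set_option autoImplicit false
set_option linter.style.haveILetI false
universe u

namespace Groth.Agent.Lib.Helper14.CMMiracle

open RingTheory.Sequence

/-- elementwise regularity modulo `ker π` gives weak regularity of the image sequence. -/
theorem isWeaklyRegular_ofFn_of_elementwise {B R : Type u} [CommRing B] [CommRing R]
    (π : B →+* R) (hπ : Function.Surjective π) {n : ℕ} (hs : Fin n → B)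
    (h : ∀ (k : Fin n) (w : B),
      hs k * w ∈ RingHom.ker π ⊔ Ideal.span (hs '' {j : Fin n | j < k}) →
      w ∈ RingHom.ker π ⊔ Ideal.span (hs '' {j : Fin n | j < k})) :
    IsWeaklyRegular R (List.ofFn fun i => π (hs i)) := by
  generalize hrs : (List.ofFn fun i => π (hs i)) = rs
  have hlen : rs.length = n := by rw [← hrs]; exact List.length_ofFn
  have hget : ∀ (i : ℕ) (hi : i < rs.length), rs[i] = π (hs ⟨i, hlen ▸ hi⟩) := by
    intro i hi
    subst hrs
    simp
  have hmap : ∀ k : Fin n, Ideal.map π (Ideal.span (hs '' {j : Fin n | j < k})) =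
      Ideal.ofList (rs.take k) := by
    intro k
    rw [Ideal.map_span, Ideal.ofList]
    congr 1
    ext r
    simp only [Set.mem_image, Set.mem_setOf_eq, List.mem_take_iff_getElem]
    constructor
    · rintro ⟨_, ⟨j, hj, rfl⟩, rfl⟩
      refine ⟨j, ?_, ?_⟩
      · exact lt_min hj (hlen ▸ j.2)
      · rw [hget]
    · rintro ⟨i, hi, rfl⟩
      have hi1 : i < k.val := lt_of_lt_of_le hi (min_le_left _ _)
      have hi2 : i < rs.length := lt_of_lt_of_le hi (min_le_right _ _)
      refine ⟨hs ⟨i, hlen ▸ hi2⟩, ⟨⟨i, hlen ▸ hi2⟩, hi1, rfl⟩, ?_⟩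
      rw [hget]
  have hsup : ∀ (J : Ideal B) (w : B), w ∈ RingHom.ker π ⊔ J ↔ π w ∈ Ideal.map π J := by
    intro J w
    rw [← Ideal.mem_comap, Ideal.comap_map_of_surjective π hπ, ← RingHom.ker_eq_comap_bot,
      sup_comm]
  rw [isWeaklyRegular_iff_Fin]
  intro i
  rw [isSMulRegular_quotient_iff_mem_of_smul_mem]
  intro v hv
  obtain ⟨w, rfl⟩ := hπ v
  set k : Fin n := ⟨i, hlen ▸ i.2⟩ with hk
  have hki : (k : ℕ) = (i : ℕ) := rfl
  rw [smul_eq_mul, Ideal.mul_top] at hv ⊢
  have hgi : rs[i] = π (hs k) := hget i i.2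
  rw [hgi, smul_eq_mul, ← map_mul, ← hki, ← hmap k, ← hsup] at hv
  rw [← hki, ← hmap k, ← hsup]
  exact h k w hv

section main

open IsLocalRing

variable {OA OV : Type u} [CommRing OA] [CommRing OV] [IsLocalRing OA] [IsLocalRing OV]
  [Algebra OA OV] [IsLocalHom (algebraMap OA OV)] (I : Ideal OA)

/-- dimension zero of a quotient of a local ring in which the maximal ideal is the only prime
containing the ideal. -/
theorem ringKrullDim_quot_eq_zero {S : Type u} [CommRing S] [IsLocalRing S] (J : Ideal S)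
    (hJ : J ≠ ⊤)
    (h : ∀ Q : Ideal S, Q.IsPrime → J ≤ Q → Q = maximalIdeal S) :
    ringKrullDim (S ⧸ J) = 0 := by
  haveI : Nontrivial (S ⧸ J) := Ideal.Quotient.nontrivial_iff.mpr hJ
  haveI : IsLocalRing (S ⧸ J) :=
    IsLocalRing.of_surjective' (Ideal.Quotient.mk J) Ideal.Quotient.mk_surjective
  have hmk : ∀ Q' : Ideal (S ⧸ J), Q'.IsPrime → Q' = maximalIdeal (S ⧸ J) := by
    intro Q' hQ'
    have h1 : J ≤ Q'.comap (Ideal.Quotient.mk J) := by
      intro a ha
      rw [Ideal.mem_comap, Ideal.Quotient.eq_zero_iff_mem.2 ha]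
      exact zero_mem _
    have h2 : J ≤ (maximalIdeal (S ⧸ J)).comap (Ideal.Quotient.mk J) := by
      intro a ha
      rw [Ideal.mem_comap, Ideal.Quotient.eq_zero_iff_mem.2 ha]
      exact zero_mem _
    have e1 := h _ (Ideal.IsPrime.comap _) h1
    have e2 := h _ (Ideal.IsPrime.comap _) h2
    exact Ideal.comap_injective_of_surjective _ Ideal.Quotient.mk_surjective (e1.trans e2.symm)
  haveI : Ring.KrullDimLE 0 (S ⧸ J) := by
    rw [Ring.krullDimLE_zero_iff]
    intro Q' hQ'
    rw [hmk Q' hQ']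
    exact maximalIdeal.isMaximal _
  refine le_antisymm ?_ ringKrullDim_nonneg_of_nontrivial
  exact (Ring.krullDimLE_iff (n := 0)).1 inferInstance

/-- **miracle flatness along a fibrewise regular sequence.** -/
theorem flat_quot_of_regular_seq
    [IsRegularLocalRing (OA ⧸ I)] {n : ℕ} (hdimR : ringKrullDim (OA ⧸ I) ≤ (n : WithBot ℕ∞))
    [LocCoh.IsCohenMacaulayLocalRing (OV ⧸ I.map (algebraMap OA OV))]
    (t : Fin n → OA) (hm : ∀ i, algebraMap OA OV (t i) ∈ maximalIdeal OV)
    (hreg : ∀ (k : Fin n) (w : OV),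
      algebraMap OA OV (t k) * w ∈ I.map (algebraMap OA OV) ⊔
        Ideal.span ((fun i => algebraMap OA OV (t i)) '' {j : Fin n | j < k}) →
      w ∈ I.map (algebraMap OA OV) ⊔
        Ideal.span ((fun i => algebraMap OA OV (t i)) '' {j : Fin n | j < k}))
    (hP : ∀ P : Ideal OV, P.IsPrime → I.map (algebraMap OA OV) ≤ P →
      (∀ i, algebraMap OA OV (t i) ∈ P) → P = maximalIdeal OV) :
    Module.Flat (OA ⧸ I) (OV ⧸ I.map (algebraMap OA OV)) := by
  set K := I.map (algebraMap OA OV) with hK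
  set mkV := Ideal.Quotient.mk K with hmkV
  set mkA := Ideal.Quotient.mk I with hmkA
  haveI : IsLocalRing (OV ⧸ K) := inferInstance
  haveI : IsNoetherianRing (OV ⧸ K) := inferInstance
  haveI : IsLocalRing (OA ⧸ I) := inferInstance
  haveI : IsNoetherianRing (OA ⧸ I) := inferInstance
  have hmkVs : Function.Surjective mkV := Ideal.Quotient.mk_surjective
  haveI lmkV : IsLocalHom mkV := IsLocalHom.of_surjective mkV hmkVs
  have hcompat : ∀ a : OA, algebraMap (OA ⧸ I) (OV ⧸ K) (mkA a) = mkV (algebraMap OA OV a) :=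
    fun a => rfl
  haveI lalg : IsLocalHom (algebraMap (OA ⧸ I) (OV ⧸ K)) := by
    refine ⟨fun a' ha' => ?_⟩
    obtain ⟨a, rfl⟩ := Ideal.Quotient.mk_surjective a'
    have h1 : IsUnit (mkV (algebraMap OA OV a)) := ha'
    have h2 : IsUnit (algebraMap OA OV a) := isUnit_of_map_unit mkV _ h1
    have h3 : IsUnit a := isUnit_of_map_unit (algebraMap OA OV) _ h2
    exact h3.map _
  -- the sequence in the quotient
  have hwr : IsWeaklyRegular (OV ⧸ K) (List.ofFn fun i => mkV (algebraMap OA OV (t i))) := by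
    refine isWeaklyRegular_ofFn_of_elementwise mkV hmkVs (fun i => algebraMap OA OV (t i)) ?_
    rw [hmkV, Ideal.mk_ker]
    exact hreg
  have hmemS : ∀ i, mkV (algebraMap OA OV (t i)) ∈ maximalIdeal (OV ⧸ K) := fun i =>
    map_nonunit mkV _ (hm i)
  have hle : Ideal.ofList (List.ofFn fun i => mkV (algebraMap OA OV (t i))) ≤
      maximalIdeal (OV ⧸ K) := by
    rw [Ideal.ofList, Ideal.span_le]
    intro r hr
    obtain ⟨i, rfl⟩ := List.mem_ofFn.1 (show r ∈ List.ofFn _ from hr)
    exact hmemS i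
  have hne : Ideal.ofList (List.ofFn fun i => mkV (algebraMap OA OV (t i))) ≠ ⊤ := fun h =>
    (Ideal.IsPrime.ne_top' (I := maximalIdeal (OV ⧸ K))) (top_le_iff.1 (h ▸ hle))
  have hregS : IsRegular (OV ⧸ K) (List.ofFn fun i => mkV (algebraMap OA OV (t i))) := by
    refine ⟨hwr, ?_⟩
    rw [smul_eq_mul, Ideal.mul_top]
    exact hne.symm
  -- primes containing the sequence
  have key0 : ∀ Q : Ideal (OV ⧸ K), Q.IsPrime → (∀ i, mkV (algebraMap OA OV (t i)) ∈ Q) →
      Q = maximalIdeal (OV ⧸ K) := by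
    intro Q hQ hQi
    have h1 : K ≤ Q.comap mkV := by
      intro a ha
      rw [Ideal.mem_comap, hmkV, Ideal.Quotient.eq_zero_iff_mem.2 ha]
      exact zero_mem _
    have h2 := hP (Q.comap mkV) (Ideal.IsPrime.comap _) h1 (fun i => hQi i)
    refine le_antisymm (le_maximalIdeal hQ.ne_top) ?_
    intro s hs
    obtain ⟨b, rfl⟩ := hmkVs s
    have hb : b ∈ maximalIdeal OV := by
      rw [mem_maximalIdeal]
      intro hu
      exact (mem_maximalIdeal _).1 hs (hu.map mkV)
    rw [← h2] at hb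
    exact hb
  have hdim0 : ringKrullDim ((OV ⧸ K) ⧸
      Ideal.ofList (List.ofFn fun i => mkV (algebraMap OA OV (t i)))) = 0 := by
    refine ringKrullDim_quot_eq_zero _ hne (fun Q hQ hJQ => key0 Q hQ (fun i => hJQ ?_))
    exact Ideal.subset_span (List.mem_ofFn.2 ⟨i, rfl⟩)
  have hdimS : ringKrullDim (OV ⧸ K) = (n : WithBot ℕ∞) := by
    have h := ringKrullDim_add_length_eq_ringKrullDim_of_isRegular _ hregS
    rw [hdim0, List.length_ofFn, zero_add] at h
    exact h.symm
  -- the closed fibre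
  set J := (maximalIdeal (OA ⧸ I)).map (algebraMap (OA ⧸ I) (OV ⧸ K)) with hJ
  have hJne : J ≠ ⊤ := (map_maximalIdeal_lt_top (algebraMap (OA ⧸ I) (OV ⧸ K))).ne
  have htJ : ∀ i, mkV (algebraMap OA OV (t i)) ∈ J := by
    intro i
    rw [← hcompat]
    refine Ideal.mem_map_of_mem _ ?_
    rw [mem_maximalIdeal]
    intro hu
    have := hu.map (algebraMap (OA ⧸ I) (OV ⧸ K))
    rw [hcompat] at this
    exact (mem_maximalIdeal _).1 (hmemS i) this
  have hdimJ : ringKrullDim ((OV ⧸ K) ⧸ J) = 0 :=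
    ringKrullDim_quot_eq_zero J hJne (fun Q hQ hJQ => key0 Q hQ (fun i => hJQ (htJ i)))
  -- the dimension of the base
  haveI : (maximalIdeal (OV ⧸ K)).LiesOver (maximalIdeal (OA ⧸ I)) :=
    ⟨(maximalIdeal_comap (algebraMap (OA ⧸ I) (OV ⧸ K))).symm⟩
  have hht := Ideal.height_le_height_add_of_liesOver (maximalIdeal (OA ⧸ I))
    (maximalIdeal (OV ⧸ K))
  haveI : Nontrivial ((OV ⧸ K) ⧸ J) := Ideal.Quotient.nontrivial_iff.mpr hJne
  haveI : IsLocalRing ((OV ⧸ K) ⧸ J) :=
    IsLocalRing.of_surjective' (Ideal.Quotient.mk J) Ideal.Quotient.mk_surjective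
  have hmapmax : Ideal.map (Ideal.Quotient.mk J) (maximalIdeal (OV ⧸ K)) =
      maximalIdeal ((OV ⧸ K) ⧸ J) :=
    map_maximalIdeal_of_surjective _ Ideal.Quotient.mk_surjective
  have h0 : (maximalIdeal ((OV ⧸ K) ⧸ J)).height = 0 := by
    have := IsLocalRing.maximalIdeal_height_eq_ringKrullDim (R := (OV ⧸ K) ⧸ J)
    rw [hdimJ] at this
    exact_mod_cast this
  rw [← hJ, hmapmax, h0, add_zero] at hht
  have hdimR' : ringKrullDim (OA ⧸ I) = (n : WithBot ℕ∞) := by
    refine le_antisymm hdimR ?_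
    rw [← hdimS, ← IsLocalRing.maximalIdeal_height_eq_ringKrullDim,
      ← IsLocalRing.maximalIdeal_height_eq_ringKrullDim]
    exact_mod_cast hht
  refine Groth.Agent.S2082.result ?_
  rw [hdimS, hdimR', ← hJ, hdimJ, add_zero]

end main

end Groth.Agent.Lib.Helper14.CMMiracle
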