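import Mathlib
import Groth.Agent.Lib.Helper14.CMAffineMap
import Groth.Agent.Lib.Helper14.CMMiracle
import Groth.Agent.Lib.Helper14.LCF.FibreRing

/-!
# Flatness of the morphism to affine space defined by a fibrewise regular sequence
-/

set_option autoImplicit false
set_option linter.style.haveILetI false
universe u

open AlgebraicGeometry CategoryTheory Limits IsLocalRing

namespace Groth.Agent.Lib.Helper14.CMAffineMap

theorem transfer_seq {B B' : Type u} [CommRing B] [CommRing B'] [IsLocalRing B] [IsLocalRing B']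
    (e : B ≃+* B') (K : Ideal B) {n : ℕ} (hs : Fin n → B)
    (hA1 : ∀ i, hs i ∈ maximalIdeal B)
    (hA2 : ∀ (k : Fin n) (w : B), hs k * w ∈ K ⊔ Ideal.span (hs '' {j : Fin n | j < k}) →
      w ∈ K ⊔ Ideal.span (hs '' {j : Fin n | j < k}))
    (hA3 : ∀ P : Ideal B, P.IsPrime → K ≤ P → (∀ i, hs i ∈ P) → P = maximalIdeal B) :
    (∀ i, e (hs i) ∈ maximalIdeal B') ∧
    (∀ (k : Fin n) (w : B'),
      e (hs k) * w ∈ K.map e ⊔
        Ideal.span ((fun i => e (hs i)) '' {j : Fin n | j < k}) →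
      w ∈ K.map e ⊔ Ideal.span ((fun i => e (hs i)) '' {j : Fin n | j < k})) ∧
    (∀ P : Ideal B', P.IsPrime → K.map e ≤ P → (∀ i, e (hs i) ∈ P) →
      P = maximalIdeal B') := by
  have hmem : ∀ (J : Ideal B) (w : B'), w ∈ J.map e ↔ e.symm w ∈ J := by
    intro J w
    exact Ideal.symm_apply_mem_of_equiv_iff.symm
  have hsup : ∀ k : Fin n, K.map e ⊔
      Ideal.span ((fun i => e (hs i)) '' {j : Fin n | j < k}) =
      (K ⊔ Ideal.span (hs '' {j : Fin n | j < k})).map e := by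
    intro k
    rw [Ideal.map_sup, Ideal.map_span, Set.image_image]
  have hnu : ∀ b : B, b ∈ maximalIdeal B → e b ∈ maximalIdeal B' := by
    intro b hb
    rw [mem_maximalIdeal] at hb ⊢
    intro hu
    apply hb
    have := hu.map (e.symm : B' →+* B)
    simpa using this
  refine ⟨fun i => hnu _ (hA1 i), ?_, ?_⟩
  · intro k w hw
    rw [hsup, hmem] at hw ⊢
    rw [map_mul, RingEquiv.symm_apply_apply] at hw
    exact hA2 k _ hw
  · intro P hP hKP hPi
    have h1 := hA3 (P.comap e) (Ideal.IsPrime.comap _)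
      (Ideal.map_le_iff_le_comap.1 hKP) (fun i => hPi i)
    refine le_antisymm (le_maximalIdeal hP.ne_top) ?_
    intro w hw
    have h2 : e.symm w ∈ maximalIdeal B := by
      rw [mem_maximalIdeal] at hw ⊢
      intro hu
      apply hw
      have := hu.map (e : B →+* B')
      simpa using this
    rw [← h1, Ideal.mem_comap] at h2
    simpa using h2

theorem map_maximalIdeal_stalkMap_congr {V Y : Scheme.{u}} {g₁ g₂ : V ⟶ Y} (h : g₁ = g₂) (v : V) :
    Ideal.map (g₁.stalkMap v).hom (maximalIdeal (Y.presheaf.stalk (g₁ v))) =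
      Ideal.map (g₂.stalkMap v).hom (maximalIdeal (Y.presheaf.stalk (g₂ v))) := by
  subst h
  rfl

theorem isCMAt_congr {V Y : Scheme.{u}} {g₁ g₂ : V ⟶ Y} (h : g₁ = g₂) (v : V)
    (hcm : MoreMor.IsCMAt g₁ v) : MoreMor.IsCMAt g₂ v := by
  subst h
  exact hcm

/-- an open immersion is Cohen–Macaulay at every point. -/
theorem isCMAt_of_isOpenImmersion {V X : Scheme.{u}} (j : V ⟶ X) [IsOpenImmersion j] (v : V) :
    MoreMor.IsCMAt j v := by
  rw [Groth.Agent.Lib.Helper4.CMHomSch.isCMAt_iff]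
  refine ⟨Flat.stalkMap j v, ?_⟩
  exact Groth.Agent.Lib.Helper14.CMAffine.isCM_quot_of_quasiFinite (j.stalkMap v).hom
    (j.quasiFiniteAt v)

variable {X Y : Scheme.{u}} (f : X ⟶ Y) {U₀ : X.Opens} {n : ℕ} (gs : Fin n → Γ(X, U₀))
  (m : Γ(X, U₀))

/-- Cohen–Macaulayness passes to the restriction to an open subscheme. -/
theorem isCMAt_ι_comp [LocallyOfFiniteType f] (V : X.Opens) (v : V)
    (hcm : MoreMor.IsCMAt f (V.ι v)) : MoreMor.IsCMAt (V.ι ≫ f) v := by
  haveI : LocallyOfFiniteType ((V.ι ≫ f).fiberToSpecResidueField (f (V.ι v))) := by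
    change LocallyOfFiniteType (pullback.snd (V.ι ≫ f) (Y.fromSpecResidueField (f (V.ι v))))
    infer_instance
  have hN : IsLocallyNoetherian ((V.ι ≫ f).fiber (f (V.ι v))) :=
    LocallyOfFiniteType.isLocallyNoetherian ((V.ι ≫ f).fiberToSpecResidueField (f (V.ι v)))
  exact Groth.Agent.S9766.result V.ι f v hN (isCMAt_of_isOpenImmersion V.ι v) hcm

set_option maxHeartbeats 800000 in
theorem flat_stalkMap_gam [LocallyOfFinitePresentation f] (xt : ↥(X.basicOpen m : Scheme.{u}))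
    (hx : xt.1 ∈ U₀) (hcm : MoreMor.IsCMAt f xt.1)
    (hs : Fin n → X.presheaf.stalk xt.1)
    (hgerm : ∀ i, X.presheaf.germ U₀ xt.1 hx (gs i) = hs i)
    (hA1 : ∀ i, hs i ∈ maximalIdeal (X.presheaf.stalk xt.1))
    (hA2 : ∀ (k : Fin n) (w : X.presheaf.stalk xt.1),
      hs k * w ∈ Ideal.map (f.stalkMap xt.1).hom (maximalIdeal (Y.presheaf.stalk (f xt.1))) ⊔
          Ideal.span (hs '' {j : Fin n | j < k}) →
        w ∈ Ideal.map (f.stalkMap xt.1).hom (maximalIdeal (Y.presheaf.stalk (f xt.1))) ⊔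
          Ideal.span (hs '' {j : Fin n | j < k}))
    (hA3 : ∀ P : Ideal (X.presheaf.stalk xt.1), P.IsPrime →
      Ideal.map (f.stalkMap xt.1).hom (maximalIdeal (Y.presheaf.stalk (f xt.1))) ≤ P →
      (∀ i, hs i ∈ P) → P = maximalIdeal (X.presheaf.stalk xt.1)) :
    ((gam f gs m).stalkMap xt).hom.Flat := by
  set γ := gam f gs m with hγ
  haveI : LocallyOfFinitePresentation (γ ≫ 𝔸(ULift.{u} (Fin n); Y) ↘ Y) := by
    rw [hγ, gam_over]
    infer_instance
  -- the stalk map of the open immersion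
  have hιb : Function.Bijective ((X.basicOpen m).ι.stalkMap xt).hom :=
    ConcreteCategory.bijective_of_isIso ((X.basicOpen m).ι.stalkMap xt)
  have hcmV : MoreMor.IsCMAt ((X.basicOpen m).ι ≫ f) xt := isCMAt_ι_comp f (X.basicOpen m) xt hcm
  have hcmγ : MoreMor.IsCMAt (γ ≫ 𝔸(ULift.{u} (Fin n); Y) ↘ Y) xt :=
    isCMAt_congr (gam_over f gs m).symm xt hcmV
  refine Groth.Agent.Lib.Helper14.LCF.flat_stalkMap_of_flat_fibre γ
    (𝔸(ULift.{u} (Fin n); Y) ↘ Y) xt hcmγ.1 ?_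
  letI aAV : Algebra ((𝔸(ULift.{u} (Fin n); Y)).presheaf.stalk (γ xt))
      ((X.basicOpen m).toScheme.presheaf.stalk xt) := (γ.stalkMap xt).hom.toAlgebra
  set I : Ideal ((𝔸(ULift.{u} (Fin n); Y)).presheaf.stalk (γ xt)) :=
    Ideal.map ((𝔸(ULift.{u} (Fin n); Y) ↘ Y).stalkMap (γ xt)).hom
      (maximalIdeal (Y.presheaf.stalk ((𝔸(ULift.{u} (Fin n); Y) ↘ Y) (γ xt)))) with hI
  change Module.Flat (((𝔸(ULift.{u} (Fin n); Y)).presheaf.stalk (γ xt)) ⧸ I)
    (((X.basicOpen m).toScheme.presheaf.stalk xt) ⧸ (I • (⊤ : Submodule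
      ((𝔸(ULift.{u} (Fin n); Y)).presheaf.stalk (γ xt))
      ((X.basicOpen m).toScheme.presheaf.stalk xt))))
  haveI lAV : IsLocalHom (algebraMap ((𝔸(ULift.{u} (Fin n); Y)).presheaf.stalk (γ xt))
      ((X.basicOpen m).toScheme.presheaf.stalk xt)) :=
    inferInstanceAs (IsLocalHom (γ.stalkMap xt).hom)
  -- the base is a regular local ring of dimension at most `n`
  haveI hregF := Groth.Agent.Lib.Helper14.CMAffine.isRegularLocalRing_stalk_fiber n Y
    ((𝔸(ULift.{u} (Fin n); Y) ↘ Y) (γ xt)) ((𝔸(ULift.{u} (Fin n); Y) ↘ Y).asFiber (γ xt))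
  haveI hregR : IsRegularLocalRing (((𝔸(ULift.{u} (Fin n); Y)).presheaf.stalk (γ xt)) ⧸ I) :=
    IsRegularLocalRing.of_ringEquiv
      (Groth.Agent.Lib.Helper6.fiberStalkEquiv (𝔸(ULift.{u} (Fin n); Y) ↘ Y) (γ xt))
  have hdimR : ringKrullDim (((𝔸(ULift.{u} (Fin n); Y)).presheaf.stalk (γ xt)) ⧸ I) ≤
      (n : WithBot ℕ∞) :=
    (ringKrullDim_eq_of_ringEquiv
      (Groth.Agent.Lib.Helper6.fiberStalkEquiv (𝔸(ULift.{u} (Fin n); Y) ↘ Y) (γ xt))).symm.le.trans
      (Groth.Agent.Lib.Helper14.CMAffine.ringKrullDim_stalk_fiber_le n Y _ _)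
  -- the fibre ring upstairs is Cohen–Macaulay
  have hKeq : I.map (algebraMap ((𝔸(ULift.{u} (Fin n); Y)).presheaf.stalk (γ xt))
      ((X.basicOpen m).toScheme.presheaf.stalk xt)) =
      Ideal.map ((γ ≫ 𝔸(ULift.{u} (Fin n); Y) ↘ Y).stalkMap xt).hom
        (maximalIdeal (Y.presheaf.stalk ((γ ≫ 𝔸(ULift.{u} (Fin n); Y) ↘ Y) xt))) := by
    rw [hI, Ideal.map_map, Groth.Agent.Lib.Helper4.CMHomSch.stalkMap_comp_hom]
    rfl
  haveI hcmS : LocCoh.IsCohenMacaulayLocalRing (((X.basicOpen m).toScheme.presheaf.stalk xt) ⧸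
      I.map (algebraMap ((𝔸(ULift.{u} (Fin n); Y)).presheaf.stalk (γ xt))
        ((X.basicOpen m).toScheme.presheaf.stalk xt))) := by
    have h := ((Groth.Agent.Lib.Helper4.CMHomSch.isCMAt_iff _ _).1 hcmγ).2
    haveI := h
    exact Groth.Agent.Lib.Helper22.CMG.isCMLocalRing_of_ringEquiv (Ideal.quotEquivOfEq hKeq.symm)
  -- the sequence
  set t : Fin n → (𝔸(ULift.{u} (Fin n); Y)).presheaf.stalk (γ xt) := fun i =>
    (𝔸(ULift.{u} (Fin n); Y)).presheaf.germ ⊤ (γ xt) trivial (AffineSpace.coord Y ⟨i⟩) with ht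
  let eV : X.presheaf.stalk xt.1 ≃+* (X.basicOpen m).toScheme.presheaf.stalk xt :=
    RingEquiv.ofBijective ((X.basicOpen m).ι.stalkMap xt).hom hιb
  have hF1 : ∀ i, algebraMap ((𝔸(ULift.{u} (Fin n); Y)).presheaf.stalk (γ xt))
      ((X.basicOpen m).toScheme.presheaf.stalk xt) (t i) = eV (hs i) := by
    intro i
    change (γ.stalkMap xt).hom ((𝔸(ULift.{u} (Fin n); Y)).presheaf.germ ⊤ (γ xt) trivial
      (AffineSpace.coord Y ⟨i⟩)) = ((X.basicOpen m).ι.stalkMap xt).hom (hs i)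
    rw [← hgerm i]
    have e1 := Scheme.Hom.germ_stalkMap_apply γ ⊤ xt trivial (AffineSpace.coord Y ⟨i⟩)
    have e2 : γ.appTop (AffineSpace.coord Y ⟨i⟩) = vec gs m ⟨i⟩ :=
      AffineSpace.homOfVector_appTop_coord _ _ _
    have e3 := Scheme.Opens.germ_stalkIso_inv (X.basicOpen m) ⊤ xt trivial
    rw [Scheme.Opens.stalkIso_inv] at e3
    have e4 := congr($e3 (vec gs m ⟨i⟩))
    refine e1.trans ?_
    have e5 : ((X.basicOpen m).toScheme.presheaf.germ (γ ⁻¹ᵁ ⊤) xt trivial)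
        (γ.app ⊤ (AffineSpace.coord Y ⟨i⟩)) =
        ((X.basicOpen m).toScheme.presheaf.germ ⊤ xt trivial) (vec gs m ⟨i⟩) :=
      congrArg ((X.basicOpen m).toScheme.presheaf.germ ⊤ xt trivial) e2
    refine e5.trans (e4.symm.trans ?_)
    rw [CommRingCat.comp_apply]
    congr 1
    rw [vec, Scheme.Opens.topIso_inv]
    erw [TopCat.Presheaf.germ_res_apply, TopCat.Presheaf.germ_res_apply]
  have hF2 : I.map (algebraMap ((𝔸(ULift.{u} (Fin n); Y)).presheaf.stalk (γ xt))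
      ((X.basicOpen m).toScheme.presheaf.stalk xt)) =
      (Ideal.map (f.stalkMap xt.1).hom (maximalIdeal (Y.presheaf.stalk (f xt.1)))).map eV := by
    rw [hKeq, map_maximalIdeal_stalkMap_congr (gam_over f gs m) xt]
    have h1 := Groth.Agent.Lib.Helper4.CMHomSch.stalkMap_comp_hom (X.basicOpen m).ι xt f
    have h2 := Ideal.map_map (I := maximalIdeal (Y.presheaf.stalk (f xt.1)))
      (f.stalkMap xt.1).hom ((X.basicOpen m).ι.stalkMap xt).hom
    have h3 : Ideal.map (((X.basicOpen m).ι ≫ f).stalkMap xt).hom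
        (maximalIdeal (Y.presheaf.stalk (((X.basicOpen m).ι ≫ f) xt))) =
        Ideal.map (((X.basicOpen m).ι.stalkMap xt).hom.comp (f.stalkMap xt.1).hom)
          (maximalIdeal (Y.presheaf.stalk (f xt.1))) :=
      congrArg (fun φ : Y.presheaf.stalk (f xt.1) →+*
        (X.basicOpen m).toScheme.presheaf.stalk xt =>
        Ideal.map φ (maximalIdeal (Y.presheaf.stalk (f xt.1)))) h1
    exact h3.trans h2.symm
  obtain ⟨t1, t2, t3⟩ := transfer_seq eV
    (Ideal.map (f.stalkMap xt.1).hom (maximalIdeal (Y.presheaf.stalk (f xt.1)))) hs hA1 hA2 hA3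
  have hfun : (fun i => eV (hs i)) = fun i => algebraMap
      ((𝔸(ULift.{u} (Fin n); Y)).presheaf.stalk (γ xt))
      ((X.basicOpen m).toScheme.presheaf.stalk xt) (t i) := funext fun i => (hF1 i).symm
  rw [← hF2] at t2 t3
  have hflat : Module.Flat (((𝔸(ULift.{u} (Fin n); Y)).presheaf.stalk (γ xt)) ⧸ I)
      (((X.basicOpen m).toScheme.presheaf.stalk xt) ⧸
        I.map (algebraMap ((𝔸(ULift.{u} (Fin n); Y)).presheaf.stalk (γ xt))
          ((X.basicOpen m).toScheme.presheaf.stalk xt))) := by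
    refine Groth.Agent.Lib.Helper14.CMMiracle.flat_quot_of_regular_seq I hdimR t ?_ ?_ ?_
    · intro i
      rw [hF1 i]
      exact t1 i
    · intro k w hw
      have h2 := t2 k w
      rw [hfun] at h2
      rw [hF1 k] at hw
      exact h2 hw
    · intro P hP hIP hPi
      exact t3 P hP hIP (fun i => (hF1 i) ▸ hPi i)
  -- transfer to the module quotient
  let e0 : (((X.basicOpen m).toScheme.presheaf.stalk xt) ⧸ (I • (⊤ : Submodule
      ((𝔸(ULift.{u} (Fin n); Y)).presheaf.stalk (γ xt))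
      ((X.basicOpen m).toScheme.presheaf.stalk xt)))) ≃ₗ[(𝔸(ULift.{u} (Fin n); Y)).presheaf.stalk (γ xt)]
      (((X.basicOpen m).toScheme.presheaf.stalk xt) ⧸
        I.map (algebraMap ((𝔸(ULift.{u} (Fin n); Y)).presheaf.stalk (γ xt))
          ((X.basicOpen m).toScheme.presheaf.stalk xt))) :=
    (Submodule.quotEquivOfEq _ _ (Ideal.smul_top_eq_map I)).trans
      (Submodule.Quotient.restrictScalarsEquiv
        ((𝔸(ULift.{u} (Fin n); Y)).presheaf.stalk (γ xt))
        (I.map (algebraMap ((𝔸(ULift.{u} (Fin n); Y)).presheaf.stalk (γ xt))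
          ((X.basicOpen m).toScheme.presheaf.stalk xt))))
  exact Module.Flat.of_linearEquiv
    (LinearEquiv.extendScalarsOfSurjective (S := ((𝔸(ULift.{u} (Fin n); Y)).presheaf.stalk (γ xt)) ⧸ I)
      Ideal.Quotient.mk_surjective e0)

end Groth.Agent.Lib.Helper14.CMAffineMap
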