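import Mathlib
import Groth.Agent.Lib.Helper14.CMAffineFlat
import Groth.Agent.Lib.Helper14.LCF.CMSliceData
import Groth.Agent.Lib.Helper14.FlatOpen.Stalk

/-!
# A Cohen–Macaulay morphism is, near a point closed in its fibre, quasi-finite and flat over an
affine space
-/

set_option autoImplicit false
set_option linter.style.haveILetI false
universe u

open AlgebraicGeometry CategoryTheory Limits IsLocalRing

namespace Groth.Agent.Lib.Helper14.CMAffineMap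

variable {X Y : Scheme.{u}} (f : X ⟶ Y)

theorem exists_quasiFinite_flat_of_closed [LocallyOfFinitePresentation f] (x : X)
    (hcm : MoreMor.IsCMAt f x) (hcl : IsClosed ({f.asFiber x} : Set ↑(f.fiber (f x)))) :
    ∃ (n : ℕ) (U : X.Opens) (_ : x ∈ U) (g : (U : Scheme.{u}) ⟶ 𝔸(ULift.{u} (Fin n); Y)),
      g ≫ (𝔸(ULift.{u} (Fin n); Y) ↘ Y) = U.ι ≫ f ∧ LocallyQuasiFinite g ∧
      ∀ u : U, (g.stalkMap u).hom.Flat := by
  obtain ⟨n, hs, hA1, hA2, hA3, U₀, hU₀, hx, gs, m, hgerm, hxm, hpt⟩ :=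
    Groth.Agent.Lib.Helper14.LCF.slice_cm_data f x hcm.1 hcm.2 hcl
  set γ := gam f gs m with hγ
  have hover : γ ≫ 𝔸(ULift.{u} (Fin n); Y) ↘ Y = (X.basicOpen m).ι ≫ f := gam_over f gs m
  haveI : LocallyOfFinitePresentation (γ ≫ 𝔸(ULift.{u} (Fin n); Y) ↘ Y) := by
    rw [hover]
    infer_instance
  haveI hγfp : LocallyOfFinitePresentation γ :=
    Groth.Agent.Lib.Helper14.LCF.locallyOfFinitePresentation_of_comp γ
      (𝔸(ULift.{u} (Fin n); Y) ↘ Y)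
  have hx0 : ∀ i, x ∉ X.basicOpen (gs i) := by
    intro i hi
    rw [Scheme.mem_basicOpen X (gs i) x hx, hgerm i] at hi
    exact (mem_maximalIdeal _).1 (hA1 i) hi
  have hqf : γ.QuasiFiniteAt ⟨x, hxm⟩ := quasiFiniteAt_gam f gs m x hxm hx0 hpt
  have hfl : (γ.stalkMap ⟨x, hxm⟩).hom.Flat :=
    flat_stalkMap_gam f gs m ⟨x, hxm⟩ hx hcm hs hgerm hA1 hA2 hA3
  -- the open locus where `γ` is quasi-finite and flat
  set W₀ : (X.basicOpen m : Scheme.{u}).Opens := γ.quasiFiniteLocus ⊓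
    ⟨{u | (γ.stalkMap u).hom.Flat}, Groth.Agent.Lib.Helper14.FlatOpen.isOpen_flat_stalkMap γ⟩
    with hW₀
  have hxW₀ : (⟨x, hxm⟩ : ↥(X.basicOpen m : Scheme.{u})) ∈ W₀ := ⟨hqf, hfl⟩
  set j : ((X.basicOpen m).ι ''ᵁ W₀ : Scheme.{u}) ⟶ (X.basicOpen m : Scheme.{u}) :=
    ((X.basicOpen m).ι.isoImage W₀).inv ≫ W₀.ι with hj
  have hjW : ∀ u, j u ∈ W₀ := by
    intro u
    rw [hj, Scheme.Hom.comp_apply]
    exact (((X.basicOpen m).ι.isoImage W₀).inv u).2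
  refine ⟨n, (X.basicOpen m).ι ''ᵁ W₀, ⟨⟨x, hxm⟩, hxW₀, rfl⟩, j ≫ γ, ?_, ?_, ?_⟩
  · rw [Category.assoc, hover, hj, Category.assoc, Scheme.Hom.isoImage_inv_ι_assoc]
  · haveI : LocallyOfFiniteType (j ≫ γ) := inferInstance
    rw [← Scheme.Hom.quasiFiniteLocus_eq_top_iff]
    ext u
    simp only [Scheme.Hom.mem_quasiFiniteLocus, TopologicalSpace.Opens.coe_top, Set.mem_univ,
      iff_true, SetLike.mem_coe]
    rw [Scheme.Hom.quasiFiniteAt_comp_iff_of_isOpenImmersion]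
    exact (hjW u).1
  · intro u
    rw [Groth.Agent.Lib.Helper4.CMHomSch.stalkMap_comp_hom]
    exact RingHom.Flat.comp (hjW u).2 (Flat.stalkMap j u)

end Groth.Agent.Lib.Helper14.CMAffineMap
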