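import Mathlib
import Groth.Agent.Lib.Helper14.CMPoint
import Groth.Agent.Lib.Helper14.FlatOpen.Stalk

/-!
# Specializing a Cohen–Macaulay point of a morphism to a point closed in its fibre
-/

set_option autoImplicit false
set_option linter.style.haveILetI false
universe u

open AlgebraicGeometry CategoryTheory Limits

namespace Groth.Agent.Lib.Helper14.CMPoint

/-- in a finite type algebra over a field, a prime with Cohen–Macaulay localization in an open set
specializes to a maximal ideal in that open set with Cohen–Macaulay localization. -/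
theorem exists_closed_cm_prime_ge (k R : Type u) [Field k] [CommRing R] [Algebra k R]
    [Algebra.FiniteType k R] (P : PrimeSpectrum R) (O : Set (PrimeSpectrum R)) (hO : IsOpen O)
    (hP : P ∈ O) (hcm : LocCoh.IsCohenMacaulayLocalRing (Localization.AtPrime P.asIdeal)) :
    ∃ y : PrimeSpectrum R, IsClosed ({y} : Set (PrimeSpectrum R)) ∧ P.asIdeal ≤ y.asIdeal ∧
      y ∈ O ∧ LocCoh.IsCohenMacaulayLocalRing (Localization.AtPrime y.asIdeal) := by
  obtain ⟨n, f, hf⟩ := (Algebra.FiniteType.iff_quotient_mvPolynomial'' (R := k) (S := R)).1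
    inferInstance
  letI : Algebra (MvPolynomial (Fin n) k) R := f.toRingHom.toAlgebra
  have hsurj : Function.Surjective (algebraMap (MvPolynomial (Fin n) k) R) := hf
  haveI : IsNoetherianRing R := Algebra.FiniteType.isNoetherianRing k R
  haveI : IsJacobsonRing R := isJacobsonRing_of_finiteType (A := k)
  have hn : ringKrullDim (MvPolynomial (Fin n) k) ≤ (n : WithBot ℕ∞) := by
    rw [MvPolynomial.ringKrullDim_of_isNoetherianRing, ringKrullDim_eq_zero_of_field, zero_add]
    simp
  have hopen := Groth.Agent.Lib.Helper4.CMOpen.isOpen_cmLocus (MvPolynomial (Fin n) k) n R hn hsurj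
  set c := PrimeSpectrum.comap (Ideal.Quotient.mk P.asIdeal) with hc
  have hce : Topology.IsClosedEmbedding c :=
    PrimeSpectrum.isClosedEmbedding_comap_of_surjective _ _ Ideal.Quotient.mk_surjective
  have hO' : IsOpen (c ⁻¹' (O ∩ {q : PrimeSpectrum R |
      LocCoh.IsCohenMacaulayLocalRing (Localization.AtPrime q.asIdeal)})) :=
    (hO.inter hopen).preimage hce.continuous
  haveI : IsDomain (R ⧸ P.asIdeal) := Ideal.Quotient.isDomain P.asIdeal
  have hbot : c ⟨⊥, Ideal.isPrime_bot⟩ = P := by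
    apply PrimeSpectrum.ext
    change Ideal.comap (Ideal.Quotient.mk P.asIdeal) ⊥ = P.asIdeal
    rw [← RingHom.ker_eq_comap_bot, Ideal.mk_ker]
  have hne : (c ⁻¹' (O ∩ {q : PrimeSpectrum R |
      LocCoh.IsCohenMacaulayLocalRing (Localization.AtPrime q.asIdeal)})).Nonempty :=
    ⟨⟨⊥, Ideal.isPrime_bot⟩, by rw [Set.mem_preimage, hbot]; exact ⟨hP, hcm⟩⟩
  obtain ⟨y', hy', hcl⟩ := PrimeSpectrum.exists_isClosed_singleton_of_isJacobsonRing _ hO' hne
  refine ⟨c y', ?_, ?_, hy'.1, hy'.2⟩
  · have := hce.isClosedMap _ hcl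
    rwa [Set.image_singleton] at this
  · intro a ha
    change Ideal.Quotient.mk P.asIdeal a ∈ y'.asIdeal
    rw [Ideal.Quotient.eq_zero_iff_mem.2 ha]
    exact zero_mem _

/-- on a scheme locally of finite type over a field, a point with Cohen–Macaulay local ring in
an open set specializes to a closed point in that open set with Cohen–Macaulay local ring. -/
theorem exists_closed_cm_specialization {F : Scheme.{u}} {k : Type u} [Field k]
    (φ : F ⟶ Spec (CommRingCat.of k)) [LocallyOfFiniteType φ] (z : F)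
    (hz : LocCoh.IsCohenMacaulayLocalRing (F.presheaf.stalk z)) (O : F.Opens) (hzO : z ∈ O) :
    ∃ z₀ : F, z₀ ∈ O ∧ z ⤳ z₀ ∧ IsClosed ({z₀} : Set F) ∧
      LocCoh.IsCohenMacaulayLocalRing (F.presheaf.stalk z₀) := by
  obtain ⟨_, ⟨W, hW0, rfl⟩, hzW, hWO⟩ :=
    F.isBasis_affineOpens.exists_subset_of_mem_open hzO O.2
  have hW : IsAffineOpen W := hW0
  set ψ : k →+* Γ(F, W) :=
    (φ.appLE ⊤ W le_top).hom.comp (Scheme.ΓSpecIso (CommRingCat.of k)).inv.hom with hψdef
  have hψ : ψ.FiniteType :=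
    RingHom.FiniteType.comp (φ.finiteType_appLE (isAffineOpen_top _) hW le_top)
      (RingHom.FiniteType.of_surjective _
        (ConcreteCategory.bijective_of_isIso (Scheme.ΓSpecIso (CommRingCat.of k)).inv).2)
  letI := ψ.toAlgebra
  haveI : Algebra.FiniteType k Γ(F, W) := hψ
  set P := hW.primeIdealOf ⟨z, hzW⟩ with hP
  have hPcm : LocCoh.IsCohenMacaulayLocalRing (Localization.AtPrime P.asIdeal) := by
    letI := TopCat.Presheaf.algebra_section_stalk F.presheaf (U := W) ⟨z, hzW⟩
    haveI hloc : IsLocalization.AtPrime (F.presheaf.stalk z) P.asIdeal :=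
      hW.isLocalization_stalk ⟨z, hzW⟩
    haveI : IsLocalization P.asIdeal.primeCompl (F.presheaf.stalk z) := hloc
    haveI := hz
    exact Groth.Agent.Lib.Helper22.CMG.isCMLocalRing_of_ringEquiv
      (IsLocalization.algEquiv P.asIdeal.primeCompl (F.presheaf.stalk z)
        (Localization.AtPrime P.asIdeal)).toRingEquiv
  obtain ⟨y, hycl, hPy, -, hycm⟩ :=
    exists_closed_cm_prime_ge k Γ(F, W) P Set.univ isOpen_univ trivial hPcm
  have hx₀W : hW.fromSpec y ∈ W := by
    have : hW.fromSpec y ∈ Set.range hW.fromSpec := ⟨y, rfl⟩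
    rwa [hW.range_fromSpec] at this
  refine ⟨hW.fromSpec y, hWO hx₀W, ?_, ?_, ?_⟩
  · have h1 : (P : PrimeSpectrum Γ(F, W)) ⤳ (y : PrimeSpectrum Γ(F, W)) :=
      (PrimeSpectrum.le_iff_specializes _ _).1 hPy
    have h2 := h1.map hW.fromSpec.continuous
    rwa [hP, hW.fromSpec_primeIdealOf ⟨z, hzW⟩] at h2
  · haveI : JacobsonSpace F := LocallyOfFiniteType.jacobsonSpace φ
    apply isClosed_singleton_of_isLocallyClosed_singleton
    have h1 := hycl.isLocallyClosed.image hW.fromSpec.isOpenEmbedding.isInducing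
      hW.fromSpec.isOpenEmbedding.isOpen_range.isLocallyClosed
    convert h1 using 1
    exact Set.image_singleton.symm
  · letI := TopCat.Presheaf.algebra_section_stalk F.presheaf (U := W) ⟨hW.fromSpec y, hx₀W⟩
    have hloc : IsLocalization.AtPrime (F.presheaf.stalk (hW.fromSpec y)) y.asIdeal :=
      hW.isLocalization_stalk' y hx₀W
    haveI : IsLocalization y.asIdeal.primeCompl (F.presheaf.stalk (hW.fromSpec y)) := hloc
    haveI := hycm
    exact Groth.Agent.Lib.Helper22.CMG.isCMLocalRing_of_ringEquiv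
      (IsLocalization.algEquiv y.asIdeal.primeCompl (Localization.AtPrime y.asIdeal)
        (F.presheaf.stalk (hW.fromSpec y))).toRingEquiv

open Groth.Agent.Lib.Helper14.CMBaseChange in
/-- a point at which a morphism locally of finite presentation is Cohen–Macaulay specializes to
such a point which is closed in its fibre. -/
theorem exists_closed_cm_specialization_fibre {X Y : Scheme.{u}} (f : X ⟶ Y)
    [LocallyOfFinitePresentation f] (x : X) (hcm : MoreMor.IsCMAt f x) :
    ∃ x₀ : X, x ⤳ x₀ ∧ MoreMor.IsCMAt f x₀ ∧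
      IsClosed ({f.asFiber x₀} : Set ↑(f.fiber (f x₀))) := by
  have hφft : LocallyOfFiniteType (f.fiberToSpecResidueField (f x)) := by
    change LocallyOfFiniteType (pullback.snd f (Y.fromSpecResidueField (f x)))
    infer_instance
  let φ : f.fiber (f x) ⟶ Spec (CommRingCat.of (Y.residueField (f x))) :=
    f.fiberToSpecResidueField (f x)
  haveI : LocallyOfFiniteType φ := hφft
  -- the open set of the fibre where `f` is flat
  set O : (f.fiber (f x)).Opens := (f.fiberι (f x)) ⁻¹ᵁ
    ⟨{u | (f.stalkMap u).hom.Flat}, Groth.Agent.Lib.Helper14.FlatOpen.isOpen_flat_stalkMap f⟩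
    with hO
  have hxO : f.asFiber x ∈ O := by
    change (f.stalkMap (f.fiberι (f x) (f.asFiber x))).hom.Flat
    rw [f.fiberι_asFiber x]
    exact hcm.1
  obtain ⟨z₀, hz₀O, hsp, hcl, hcmz⟩ := exists_closed_cm_specialization φ (f.asFiber x) hcm.2 O hxO
  have hgx : f (f.fiberι (f x) z₀) = f x := by
    have : f.fiberι (f x) z₀ ∈ Set.range (f.fiberι (f x)) := ⟨z₀, rfl⟩
    rw [f.range_fiberι] at this
    exact this
  have key : ∀ (y₁ y₂ : Y) (h : y₁ = y₂) (z₁ : f.fiber y₁) (z₂ : f.fiber y₂)
      (_ : f.fiberι y₁ z₁ = f.fiberι y₂ z₂), IsClosed ({z₁} : Set ↑(f.fiber y₁)) →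
      IsClosed ({z₂} : Set ↑(f.fiber y₂)) := by
    intro y₁ y₂ h z₁ z₂ hz hc
    subst h
    have : z₁ = z₂ := (f.fiberι y₁).isEmbedding.injective hz
    subst this
    exact hc
  refine ⟨f.fiberι (f x) z₀, ?_, ⟨hz₀O, ?_⟩, ?_⟩
  · have h2 := hsp.map (f.fiberι (f x)).continuous
    rwa [f.fiberι_asFiber x] at h2
  · obtain ⟨e⟩ := nonempty_stalk_equiv_of_fiberι_eq f (f x) (f (f.fiberι (f x) z₀)) hgx.symm z₀
      (f.asFiber (f.fiberι (f x) z₀)) (f.fiberι_asFiber _).symm
    haveI := hcmz
    exact Groth.Agent.Lib.Helper22.CMG.isCMLocalRing_of_ringEquiv e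
  · exact key (f x) (f (f.fiberι (f x) z₀)) hgx.symm z₀ (f.asFiber (f.fiberι (f x) z₀))
      (f.fiberι_asFiber _).symm hcl

end Groth.Agent.Lib.Helper14.CMPoint
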