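import Mathlib
import Groth.Agent.Lib.Helper14.CMAffineClosed
import Groth.Agent.Lib.Helper14.CMSpecialize
import Groth.Agent.S9767

/-!
# The Cohen–Macaulay locus of a morphism locally of finite presentation is open
-/

set_option autoImplicit false
set_option linter.style.haveILetI false
universe u

open AlgebraicGeometry CategoryTheory Limits IsLocalRing

namespace Groth.Agent.Lib.Helper14.CMOpenness

variable {X Y : Scheme.{u}} (f : X ⟶ Y)

/-- quasi-finite and flat over an affine space at a point implies Cohen–Macaulay there. -/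
theorem isCMAt_of_quasiFiniteAt_flat [LocallyOfFiniteType f] (n : ℕ) (U : X.Opens)
    (g : (U : Scheme.{u}) ⟶ 𝔸(ULift.{u} (Fin n); Y))
    (hover : g ≫ (𝔸(ULift.{u} (Fin n); Y) ↘ Y) = U.ι ≫ f) (u : U)
    (hqf : g.QuasiFiniteAt u) (hfl : (g.stalkMap u).hom.Flat) : MoreMor.IsCMAt f u.1 := by
  haveI : LocallyOfFiniteType (g ≫ 𝔸(ULift.{u} (Fin n); Y) ↘ Y) := by
    rw [hover]
    infer_instance
  have h1 : MoreMor.IsCMAt (g ≫ 𝔸(ULift.{u} (Fin n); Y) ↘ Y) u :=
    Groth.Agent.Lib.Helper14.CMAffine.isCMAt_comp_over_of_quasiFiniteAt n Y g u hqf hfl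
  have h2 : MoreMor.IsCMAt (U.ι ≫ f) u :=
    Groth.Agent.Lib.Helper14.CMAffineMap.isCMAt_congr hover u h1
  haveI : LocallyOfFiniteType (U.ι.fiberToSpecResidueField (U.ι u)) := by
    change LocallyOfFiniteType (pullback.snd U.ι (X.fromSpecResidueField (U.ι u)))
    infer_instance
  have hNf : IsLocallyNoetherian (U.ι.fiber (U.ι u)) :=
    LocallyOfFiniteType.isLocallyNoetherian (U.ι.fiberToSpecResidueField (U.ι u))
  haveI : LocallyOfFiniteType (f.fiberToSpecResidueField (f (U.ι u))) := by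
    change LocallyOfFiniteType (pullback.snd f (Y.fromSpecResidueField (f (U.ι u))))
    infer_instance
  have hNg : IsLocallyNoetherian (f.fiber (f (U.ι u))) :=
    LocallyOfFiniteType.isLocallyNoetherian (f.fiberToSpecResidueField (f (U.ι u)))
  exact (Groth.Agent.S9767.result U.ι f u hNf hNg h2 (Flat.stalkMap U.ι u)).2

/-- around a point at which a morphism locally of finite presentation is Cohen–Macaulay, the
morphism factors through a locally quasi-finite and flat morphism to an affine space. -/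
theorem exists_quasiFinite_flat [LocallyOfFinitePresentation f] (x : X)
    (hcm : MoreMor.IsCMAt f x) :
    ∃ (n : ℕ) (U : X.Opens) (_ : x ∈ U) (g : (U : Scheme.{u}) ⟶ 𝔸(ULift.{u} (Fin n); Y)),
      g ≫ (𝔸(ULift.{u} (Fin n); Y) ↘ Y) = U.ι ≫ f ∧ LocallyQuasiFinite g ∧
      ∀ u : U, (g.stalkMap u).hom.Flat := by
  obtain ⟨x₀, hsp, hcm₀, hcl⟩ :=
    Groth.Agent.Lib.Helper14.CMPoint.exists_closed_cm_specialization_fibre f x hcm
  obtain ⟨n, U, hx₀U, g, hover, hqf, hfl⟩ :=
    Groth.Agent.Lib.Helper14.CMAffineMap.exists_quasiFinite_flat_of_closed f x₀ hcm₀ hcl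
  exact ⟨n, U, hsp.mem_open U.2 hx₀U, g, hover, hqf, hfl⟩

theorem isOpen_setOf_isCMAt [LocallyOfFinitePresentation f] :
    IsOpen {x : X | MoreMor.IsCMAt f x} := by
  rw [isOpen_iff_forall_mem_open]
  intro x hx
  obtain ⟨n, U, hxU, g, hover, hqf, hfl⟩ := exists_quasiFinite_flat f x hx
  refine ⟨U, ?_, U.2, hxU⟩
  intro u hu
  exact isCMAt_of_quasiFiniteAt_flat f n U g hover ⟨u, hu⟩ (g.quasiFiniteAt _) (hfl ⟨u, hu⟩)

end Groth.Agent.Lib.Helper14.CMOpenness
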