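import Mathlib
import Groth.Agent.Lib.Helper14.CMPoint
import Groth.Agent.Lib.Helper14.CMBaseChange

/-!
# The Cohen–Macaulay points of a scheme locally of finite type over a field are dense
-/

set_option autoImplicit false
set_option linter.style.haveILetI false
universe u

open AlgebraicGeometry CategoryTheory Limits IsLocalRing

namespace Groth.Agent.Lib.Helper14.CMPoint

theorem dense_cm_points {F : Scheme.{u}} {k : Type u} [Field k]
    (φ : F ⟶ Spec (CommRingCat.of k)) [LocallyOfFiniteType φ] :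
    Dense {z : F | LocCoh.IsCohenMacaulayLocalRing (F.presheaf.stalk z)} := by
  rw [dense_iff_inter_open]
  intro W hW hne
  obtain ⟨a, ha⟩ := hne
  let W' : F.Opens := ⟨W, hW⟩
  haveI : Nonempty ↑(W' : Scheme.{u}) := ⟨⟨a, ha⟩⟩
  obtain ⟨x₀, -, hcm⟩ := exists_closed_cm_point (W'.ι ≫ φ)
  refine ⟨x₀.1, x₀.2, ?_⟩
  haveI := hcm
  exact Groth.Agent.Lib.Helper22.CMG.isCMLocalRing_of_ringEquiv
    (W'.stalkIso x₀).commRingCatIsoToRingEquiv

open Groth.Agent.Lib.Helper14.CMBaseChange in
theorem dense_cm_fibre {X S : Scheme.{u}} (f : X ⟶ S) [Flat f] [LocallyOfFiniteType f] (s : S) :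
    Dense ((f.fiberι s) ⁻¹' {x : ↑X | MoreMor.IsCMAt f x}) := by
  have hφft : LocallyOfFiniteType (f.fiberToSpecResidueField s) := by
    change LocallyOfFiniteType (pullback.snd f (S.fromSpecResidueField s))
    infer_instance
  let φ : f.fiber s ⟶ Spec (CommRingCat.of (S.residueField s)) := f.fiberToSpecResidueField s
  haveI : LocallyOfFiniteType φ := hφft
  refine (dense_cm_points φ).mono ?_
  intro z hz
  have hgx : f (f.fiberι s z) = s := by
    have : f.fiberι s z ∈ Set.range (f.fiberι s) := ⟨z, rfl⟩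
    rw [f.range_fiberι] at this
    exact this
  refine ⟨Flat.stalkMap f _, ?_⟩
  obtain ⟨e⟩ := nonempty_stalk_equiv_of_fiberι_eq f s (f (f.fiberι s z)) hgx.symm z
    (f.asFiber (f.fiberι s z)) (f.fiberι_asFiber _).symm
  haveI : LocCoh.IsCohenMacaulayLocalRing ↑((f.fiber s).presheaf.stalk z) := hz
  exact Groth.Agent.Lib.Helper22.CMG.isCMLocalRing_of_ringEquiv e

end Groth.Agent.Lib.Helper14.CMPoint
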