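import Mathlib
import Groth.Agent.Lib.Helper14.CMOpenness
import Groth.Agent.Lib.Helper14.CMDense
import Groth.Agent.Lib.Helper11.GrpdLib
import Groth.Agent.S1342

/-!
# The Cohen–Macaulay locus of the source map of a groupoid scheme is invariant
-/

set_option autoImplicit false
set_option linter.style.haveILetI false
universe u

open AlgebraicGeometry CategoryTheory Limits IsLocalRing

namespace Groth.Agent.Lib.Helper14.GrpdCM

theorem grpd_isCMAt_iff {X Y : Scheme.{u}} (f : X ⟶ Y) (x : X) :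
    Grpd.IsCMAt f x ↔ MoreMor.IsCMAt f x :=
  (Groth.Agent.Lib.Helper4.CMHomSch.isCMAt_iff f x).symm

/-- points of a cartesian square. -/
theorem exists_preimage_of_isPullback {P X Y Z : Scheme.{u}} {fst : P ⟶ X} {snd : P ⟶ Y}
    {f : X ⟶ Z} {g : Y ⟶ Z} (h : IsPullback fst snd f g) (x : X) (y : Y) (hxy : f x = g y) :
    ∃ p : P, fst p = x ∧ snd p = y := by
  obtain ⟨z, hz1, hz2⟩ := Scheme.Pullback.exists_preimage_pullback x y hxy
  refine ⟨h.isoPullback.inv z, ?_, ?_⟩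
  · rw [← Scheme.Hom.comp_apply, h.isoPullback_inv_fst, hz1]
  · rw [← Scheme.Hom.comp_apply, h.isoPullback_inv_snd, hz2]

/-- a nonempty fibre of a flat morphism locally of finite type contains a point at which the
morphism is Cohen–Macaulay. -/
theorem exists_cm_point_fibre {X Y : Scheme.{u}} (f : X ⟶ Y) [Flat f] [LocallyOfFiniteType f]
    (y : Y) (hy : y ∈ Set.range f) : ∃ x : X, f x = y ∧ MoreMor.IsCMAt f x := by
  obtain ⟨x₁, hx₁⟩ := hy
  have hmem : x₁ ∈ Set.range (f.fiberι y) := by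
    rw [f.range_fiberι]
    exact hx₁
  obtain ⟨z₁, -⟩ := hmem
  haveI : Nonempty ↑(f.fiber y) := ⟨z₁⟩
  obtain ⟨z, hz⟩ := (Groth.Agent.Lib.Helper14.CMPoint.dense_cm_fibre f y).nonempty
  refine ⟨f.fiberι y z, ?_, hz⟩
  have : f.fiberι y z ∈ Set.range (f.fiberι y) := ⟨z, rfl⟩
  rw [f.range_fiberι] at this
  exact this

variable {S : Scheme.{u}} (G : Grpd.GroupoidScheme S)

open Groth.Agent.Lib.Helper11.GrpdLib in
theorem exists_open [Flat G.s] [LocallyOfFinitePresentation G.s] [Flat G.t]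
    [LocallyOfFinitePresentation G.t] :
    ∃ U' : G.U.Opens, (G.t ⁻¹ᵁ U' : Set G.R) = {r | MoreMor.IsCMAt G.s r} ∧
      (G.s ⁻¹ᵁ U' : Set G.R) = {r | MoreMor.IsCMAt G.t r} ∧
      ⇑G.t '' (G.s ⁻¹ᵁ U' : Set G.R) = Set.univ ∧ ⇑G.s '' (G.t ⁻¹ᵁ U' : Set G.R) = Set.univ := by
  set W : Set G.R := {r | MoreMor.IsCMAt G.s r} with hW
  have hWopen : IsOpen W := Groth.Agent.Lib.Helper14.CMOpenness.isOpen_setOf_isCMAt G.s
  have h1 : {p | MoreMor.IsCMAt (pullback.snd G.s G.t) p} = (pullback.fst G.s G.t) ⁻¹' W :=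
    Groth.Agent.S1342.result G.s (pullback.snd G.s G.t) (pullback.fst G.s G.t) G.t
      (IsPullback.of_hasPullback G.s G.t)
  have h2 : {p | MoreMor.IsCMAt (pullback.snd G.s G.t) p} = G.c ⁻¹' W :=
    Groth.Agent.S1342.result G.s (pullback.snd G.s G.t) G.c G.s isPullback_c_snd
  have hinv : ∀ r r' : G.R, G.t r = G.t r' → r ∈ W → r' ∈ W := by
    intro r r' h hr
    obtain ⟨p, hp1, hp2⟩ := exists_preimage_of_isPullback (isPullback_c_fst (G := G)) r' r h.symm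
    have : p ∈ (pullback.fst G.s G.t) ⁻¹' W := by
      rw [Set.mem_preimage, hp2]
      exact hr
    rw [← h1, h2, Set.mem_preimage, hp1] at this
    exact this
  have h3 : {r | MoreMor.IsCMAt G.t r} = G.i ⁻¹' W := by
    haveI := isIso_i (G := G)
    exact Groth.Agent.S1342.result G.s G.t G.i (𝟙 G.U)
      (IsPullback.of_horiz_isIso ⟨by rw [G.i_s, Category.comp_id]⟩)
  set U' : G.U.Opens := ⟨G.t '' W, G.t.isOpenMap _ hWopen⟩ with hU'
  have hpre : ∀ r : G.R, r ∈ (G.t ⁻¹ᵁ U' : Set G.R) ↔ r ∈ W := by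
    intro r
    constructor
    · rintro ⟨r', hr', h⟩
      exact hinv r' r h hr'
    · intro hr
      exact ⟨r, hr, rfl⟩
  have hpre2 : ∀ r : G.R, r ∈ (G.s ⁻¹ᵁ U' : Set G.R) ↔ MoreMor.IsCMAt G.t r := by
    intro r
    have h4 : MoreMor.IsCMAt G.t r ↔ G.i r ∈ W := by
      have : r ∈ {r | MoreMor.IsCMAt G.t r} ↔ r ∈ G.i ⁻¹' W := by rw [h3]
      exact this
    rw [h4, ← hpre (G.i r)]
    change G.s r ∈ U' ↔ G.t (G.i r) ∈ U'
    rw [t_i_apply]
  refine ⟨U', Set.ext hpre, Set.ext hpre2, ?_, ?_⟩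
  · rw [Set.eq_univ_iff_forall]
    intro u
    obtain ⟨r, hr, hcm⟩ := exists_cm_point_fibre G.t u ⟨G.e u, t_e_apply u⟩
    exact ⟨r, (hpre2 r).2 hcm, hr⟩
  · rw [Set.eq_univ_iff_forall]
    intro u
    obtain ⟨r, hr, hcm⟩ := exists_cm_point_fibre G.s u ⟨G.e u, s_e_apply u⟩
    exact ⟨r, (hpre r).2 hcm, hr⟩

end Groth.Agent.Lib.Helper14.GrpdCM
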