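import Mathlib
import Groth.Agent.Lib.Helper14.ConsFibre.CM
import Groth.Agent.Lib.Helper14.GrpdCM

/-!
# Group schemes locally of finite type over a field are Cohen–Macaulay
-/

set_option autoImplicit false
set_option linter.style.haveILetI false
universe u v

open CategoryTheory MonoidalCategory CartesianMonoidalCategory MonObj Limits

namespace Groth.Agent.Lib.Helper14.GrpCM

section abstract

variable {C : Type u} [Category.{v} C] [CartesianMonoidalCategory C] (G : C) [GrpObj G]

theorem isPullback_fst_mul : IsPullback (fst G G) μ[G] (toUnit G) (toUnit G) where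
  w := by simp
  isLimit' := Nonempty.intro <| PullbackCone.IsLimit.mk _
    (fun s => lift s.fst (s.fst⁻¹ * s.snd))
    (fun s => by simp)
    (fun s => by
      change s.fst * (s.fst⁻¹ * s.snd) = s.snd
      simp)
    (fun s m hm₁ hm₂ => by
      refine CartesianMonoidalCategory.hom_ext _ _ (by simpa using hm₁) ?_
      simp only [lift_snd]
      have h : (m ≫ fst G G) * (m ≫ snd G G) = s.snd := by
        rw [← hm₂, ← MonObj.comp_mul]
        congr 1
        simp [Hom.mul_def]
      rw [← hm₁, ← h]
      simp)

theorem isPullback_snd_mul : IsPullback (snd G G) μ[G] (toUnit G) (toUnit G) where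
  w := by simp
  isLimit' := Nonempty.intro <| PullbackCone.IsLimit.mk _
    (fun s => lift (s.snd * s.fst⁻¹) s.fst)
    (fun s => by simp)
    (fun s => by
      change (s.snd * s.fst⁻¹) * s.fst = s.snd
      simp)
    (fun s m hm₁ hm₂ => by
      refine CartesianMonoidalCategory.hom_ext _ _ ?_ (by simpa using hm₁)
      simp only [lift_fst]
      have h : (m ≫ fst G G) * (m ≫ snd G G) = s.snd := by
        rw [← hm₂, ← MonObj.comp_mul]
        congr 1
        simp [Hom.mul_def]
      rw [← hm₁, ← h]
      simp)

theorem isPullback_fst_snd : IsPullback (fst G G) (snd G G) (toUnit G) (toUnit G) where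
  w := by simp
  isLimit' := Nonempty.intro <| PullbackCone.IsLimit.mk _
    (fun s => lift s.fst s.snd)
    (fun s => by simp)
    (fun s => by simp)
    (fun s m hm₁ hm₂ => by
      refine CartesianMonoidalCategory.hom_ext _ _ (by simpa using hm₁) (by simpa using hm₂))

end abstract

section scheme

open AlgebraicGeometry

theorem isField_stalk_Spec_field (k : Type u) [Field k] (s : Spec (CommRingCat.of k)) :
    IsField ((Spec (CommRingCat.of k)).presheaf.stalk s) := by
  letI : Algebra k ((Spec (CommRingCat.of k)).presheaf.stalk s) := StructureSheaf.stalkAlgebra k s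
  haveI : (PrimeSpectrum.asIdeal s).IsPrime := PrimeSpectrum.isPrime s
  haveI : IsLocalization.AtPrime ((Spec (CommRingCat.of k)).presheaf.stalk s)
      (PrimeSpectrum.asIdeal s) :=
    StructureSheaf.IsLocalization.to_stalk k s
  have e := IsLocalization.atUnits k (PrimeSpectrum.asIdeal s).primeCompl
    (S := (Spec (CommRingCat.of k)).presheaf.stalk s) (fun x hx => by
      apply IsUnit.mk0
      rintro rfl
      exact hx (Ideal.zero_mem _))
  exact MulEquiv.isField (Field.toIsField k) e.symm.toMulEquiv

/-- over a field, the fibre is Cohen–Macaulay at a point iff the local ring is. -/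
theorem mem_cmSet_iff_of_field {k : Type u} [Field k] {F : Scheme.{u}}
    (φ : F ⟶ Spec (CommRingCat.of k)) (z : F) :
    z ∈ Groth.Agent.Lib.Helper14.ConsFibre.cmSet φ ↔
      LocCoh.IsCohenMacaulayLocalRing (F.presheaf.stalk z) := by
  have h1 : z ∈ Groth.Agent.Lib.Helper14.ConsFibre.cmSet φ ↔ MoreMor.IsCMAt φ z :=
    ⟨fun h => ⟨Flat.stalkMap φ z, h⟩, fun h => h.2⟩
  rw [h1, ← Groth.Agent.Lib.Helper14.GrpdCM.grpd_isCMAt_iff]
  have hbot : IsLocalRing.maximalIdeal ((Spec (CommRingCat.of k)).presheaf.stalk (φ z)) = ⊥ :=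
    (IsLocalRing.isField_iff_maximalIdeal_eq).1 (isField_stalk_Spec_field k _)
  unfold Grpd.IsCMAt
  rw [hbot, Ideal.map_bot]
  constructor
  · rintro ⟨-, h⟩
    haveI := h
    exact Groth.Agent.Lib.Helper22.CMG.isCMLocalRing_of_ringEquiv (RingEquiv.quotientBot _)
  · intro h
    haveI := h
    exact ⟨Flat.stalkMap φ z,
      Groth.Agent.Lib.Helper22.CMG.isCMLocalRing_of_ringEquiv (RingEquiv.quotientBot _).symm⟩

theorem stalk_cm_of_grpObj (k : Type u) [Field k] (G : Over (Spec (CommRingCat.of k))) [GrpObj G]
    [LocallyOfFiniteType G.hom] (x : G.left) :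
    LocCoh.IsCohenMacaulayLocalRing (G.left.presheaf.stalk x) := by
  have hE := Groth.Agent.Lib.Helper14.ConsFibre.cmSet_isFibreCons.{u}
  have hsq1 : IsPullback (fst G G).left (μ[G]).left G.hom G.hom := by
    simpa using (isPullback_fst_mul G).map (Over.forget _)
  have hsq2 : IsPullback (snd G G).left (μ[G]).left G.hom G.hom := by
    simpa using (isPullback_snd_mul G).map (Over.forget _)
  have hsq3 : IsPullback (fst G G).left (snd G G).left G.hom G.hom := by
    simpa using (isPullback_fst_snd G).map (Over.forget _)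
  have e1 := hE.baseChange G.hom (μ[G]).left (fst G G).left G.hom hsq1 inferInstance
  have e2 := hE.baseChange G.hom (μ[G]).left (snd G G).left G.hom hsq2 inferInstance
  haveI : Nonempty G.left := ⟨x⟩
  obtain ⟨y, hy⟩ := (Groth.Agent.Lib.Helper14.CMPoint.dense_cm_points G.hom).nonempty
  rw [Set.mem_setOf_eq, ← mem_cmSet_iff_of_field G.hom] at hy
  obtain ⟨z, hz1, hz2⟩ := Groth.Agent.Lib.Helper14.GrpdCM.exists_preimage_of_isPullback hsq3 x y
    (Subsingleton.elim _ _)
  rw [← mem_cmSet_iff_of_field G.hom, ← hz1]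
  have : z ∈ (fst G G).left ⁻¹' Groth.Agent.Lib.Helper14.ConsFibre.cmSet G.hom := by
    rw [← e1, e2]
    show (snd G G).left z ∈ Groth.Agent.Lib.Helper14.ConsFibre.cmSet G.hom
    rw [hz2]
    exact hy
  exact this

end scheme

end Groth.Agent.Lib.Helper14.GrpCM
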