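import Mathlib
import Groth.Prelude.Def_CohB1

/-!
# The standard charts of projective space are affine spaces
-/

open MvPolynomial HomogeneousLocalization

namespace Groth.Agent.Lib.Helper14.Dehomog

universe u

variable (n : ℕ) (R : Type u) [CommRing R] (i : Fin (n + 1))

/-- The localization of the polynomial ring away from `X i`. -/
abbrev Loc : Type u := Localization.Away (X i : MvPolynomial (Fin (n + 1)) R)

/-- The inverse of `X i`. -/
noncomputable def u : Loc n R i := IsLocalization.Away.invSelf (X i : MvPolynomial (Fin (n + 1)) R)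

/-- The localization map. -/
noncomputable abbrev aM : MvPolynomial (Fin (n + 1)) R →+* Loc n R i :=
  algebraMap (MvPolynomial (Fin (n + 1)) R) (Loc n R i)

theorem X_mul_u : aM n R i (X i) * u n R i = 1 :=
  IsLocalization.Away.mul_invSelf _

/-- Setting `X i = 1`. -/
noncomputable def evalMap :
    MvPolynomial (Fin (n + 1)) R →+* MvPolynomial {j : Fin (n + 1) // j ≠ i} R :=
  eval₂Hom C (fun j => if h : j = i then 1 else X ⟨j, h⟩)

theorem evalMap_X_self : evalMap n R i (X i) = 1 := by
  simp [evalMap]

theorem evalMap_X_ne (j : {j : Fin (n + 1) // j ≠ i}) : evalMap n R i (X j.1) = X j := by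
  simp [evalMap, j.2]

theorem evalMap_C (r : R) : evalMap n R i (C r) = C r := by
  simp [evalMap]

/-- The map of the statement. -/
noncomputable def Φ : MvPolynomial {j : Fin (n + 1) // j ≠ i} R →+*
    Away (CohB1.polyGrading n R) (X i) :=
  eval₂Hom
    ((fromZeroRingHom (CohB1.polyGrading n R) (Submonoid.powers (X i))).comp
      (algebraMap R (CohB1.polyGrading n R 0)))
    (fun j : {j : Fin (n + 1) // j ≠ i} =>
      (HomogeneousLocalization.mk ⟨1, ⟨X j.1, isHomogeneous_X R j.1⟩,
        ⟨X i, isHomogeneous_X R i⟩, ⟨1, pow_one _⟩⟩ :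
        Away (CohB1.polyGrading n R) (X i)))

/-- `val` as a ring homomorphism. -/
noncomputable def valHom : Away (CohB1.polyGrading n R) (X i) →+* Loc n R i :=
  algebraMap _ _

theorem valHom_apply (y : Away (CohB1.polyGrading n R) (X i)) : valHom n R i y = y.val := rfl

theorem valHom_injective : Function.Injective (valHom n R i) :=
  HomogeneousLocalization.val_injective _

theorem mk_eq (a : MvPolynomial (Fin (n + 1)) R) (k : ℕ)
    (hk : (X i : MvPolynomial (Fin (n + 1)) R) ^ k ∈ Submonoid.powers (X i)) :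
    (Localization.mk a ⟨X i ^ k, hk⟩ : Loc n R i) =
      aM n R i a * u n R i ^ k := by
  rw [Localization.mk_eq_mk', IsLocalization.mk'_eq_iff_eq_mul]
  simp only [map_pow]
  rw [mul_assoc, ← mul_pow, mul_comm (u n R i), X_mul_u, one_pow, mul_one]

theorem valHom_Φ_C (r : R) : valHom n R i (Φ n R i (C r)) = aM n R i (C r) := by
  rw [valHom_apply, Φ, coe_eval₂Hom, eval₂_C]
  change (Localization.mk _ _ : Loc n R i) = _
  rw [Localization.mk_eq_mk', IsLocalization.mk'_eq_iff_eq_mul]
  have h1 : ((algebraMap R (CohB1.polyGrading n R 0) r : CohB1.polyGrading n R 0) :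
      MvPolynomial (Fin (n + 1)) R) = C r := rfl
  rw [h1]
  change aM n R i (C r) = aM n R i (C r) * aM n R i 1
  rw [map_one, mul_one]

theorem valHom_Φ_X (j : {j : Fin (n + 1) // j ≠ i}) :
    valHom n R i (Φ n R i (X j)) = aM n R i (X j.1) * u n R i := by
  rw [valHom_apply, Φ, coe_eval₂Hom, eval₂_X, HomogeneousLocalization.val_mk]
  have := mk_eq n R i (X j.1) 1 ⟨1, rfl⟩
  simp only [pow_one] at this
  exact this

/-- The composite `P → Q → Away → Loc` is the substitution `X j ↦ X j / X i`. -/
theorem valHom_Φ_evalMap :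
    ((valHom n R i).comp (Φ n R i)).comp (evalMap n R i) =
      eval₂Hom ((aM n R i).comp C) (fun j => aM n R i (X j) * u n R i) := by
  apply MvPolynomial.ringHom_ext
  · intro r
    simp only [RingHom.comp_apply, evalMap_C, valHom_Φ_C, coe_eval₂Hom, eval₂_C]
  · intro j
    simp only [RingHom.comp_apply, coe_eval₂Hom, eval₂_X]
    by_cases h : j = i
    · subst h
      rw [evalMap_X_self, map_one, map_one, X_mul_u]
    · rw [show (X j : MvPolynomial (Fin (n + 1)) R) = X (⟨j, h⟩ : {j // j ≠ i}).1 from rfl,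
        evalMap_X_ne, valHom_Φ_X]

theorem sum_eq_weight (d : Fin (n + 1) →₀ ℕ) :
    ∑ j, d j = Finsupp.weight (1 : Fin (n + 1) → ℕ) d := by
  simp [Finsupp.weight_apply, Finsupp.sum_fintype]

theorem valHom_Φ_evalMap_of_isHomogeneous {a : MvPolynomial (Fin (n + 1)) R} {k : ℕ}
    (ha : a.IsHomogeneous k) :
    valHom n R i (Φ n R i (evalMap n R i a)) = aM n R i a * u n R i ^ k := by
  have h1 := congrArg (fun f => f a) (valHom_Φ_evalMap n R i)
  simp only [RingHom.comp_apply] at h1
  rw [h1, coe_eval₂Hom, eval₂_eq']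
  conv_rhs => rw [a.as_sum, map_sum, Finset.sum_mul]
  refine Finset.sum_congr rfl fun d hd => ?_
  have hdk : ∑ j, d j = k := by
    rw [sum_eq_weight]
    exact ha (mem_support_iff.mp hd)
  simp only [mul_pow, Finset.prod_mul_distrib, Finset.prod_pow_eq_pow_sum, hdk]
  rw [← mul_assoc]
  congr 1
  rw [monomial_eq, map_mul, RingHom.comp_apply, Finsupp.prod_fintype _ _ (by simp), map_prod]
  simp only [map_pow]

theorem Φ_surjective : Function.Surjective (Φ n R i) := by
  intro y
  obtain ⟨k, a, ha, rfl⟩ := Away.mk_surjective (CohB1.polyGrading n R)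
    (isHomogeneous_X R i : (X i : MvPolynomial (Fin (n + 1)) R) ∈ CohB1.polyGrading n R 1) y
  have ha' : a.IsHomogeneous k := by
    have : a ∈ homogeneousSubmodule (Fin (n + 1)) R (k • 1) := ha
    simpa using this
  refine ⟨evalMap n R i a, valHom_injective n R i ?_⟩
  rw [valHom_Φ_evalMap_of_isHomogeneous n R i ha', valHom_apply, Away.val_mk, mk_eq]

theorem isUnit_evalMap_X : IsUnit (evalMap n R i (X i)) := by
  rw [evalMap_X_self]; exact isUnit_one

/-- The lift of `evalMap` to the localization. -/
noncomputable def liftEval : Loc n R i →+* MvPolynomial {j : Fin (n + 1) // j ≠ i} R :=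
  IsLocalization.Away.lift (X i : MvPolynomial (Fin (n + 1)) R) (g := evalMap n R i)
    (isUnit_evalMap_X n R i)

theorem liftEval_aM (a : MvPolynomial (Fin (n + 1)) R) :
    liftEval n R i (aM n R i a) = evalMap n R i a :=
  IsLocalization.Away.lift_eq _ _ _

/-- The retraction. -/
noncomputable def Ψ : Away (CohB1.polyGrading n R) (X i) →+*
    MvPolynomial {j : Fin (n + 1) // j ≠ i} R :=
  (liftEval n R i).comp (valHom n R i)

theorem lift_u : liftEval n R i (u n R i) = 1 := by
  have h := congrArg (liftEval n R i) (X_mul_u n R i)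
  rwa [map_mul, liftEval_aM, evalMap_X_self, one_mul, map_one] at h

theorem Ψ_comp_Φ : (Ψ n R i).comp (Φ n R i) = RingHom.id _ := by
  apply MvPolynomial.ringHom_ext
  · intro r
    simp only [RingHom.comp_apply, Ψ, valHom_Φ_C, liftEval_aM, evalMap_C,
      RingHom.id_apply]
  · intro j
    simp only [RingHom.comp_apply, Ψ, valHom_Φ_X, map_mul, liftEval_aM,
      evalMap_X_ne, lift_u, mul_one, RingHom.id_apply]

theorem Φ_bijective : Function.Bijective (Φ n R i) := by
  refine ⟨?_, Φ_surjective n R i⟩
  intro x y hxy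
  have := congrArg (Ψ n R i) hxy
  have h := Ψ_comp_Φ n R i
  have hx : Ψ n R i (Φ n R i x) = x := congrArg (fun f => f x) h
  have hy : Ψ n R i (Φ n R i y) = y := congrArg (fun f => f y) h
  rwa [hx, hy] at this

end Groth.Agent.Lib.Helper14.Dehomog
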