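import Mathlib
import Groth.Agent.Lib.Helper14.PerfectGeomRed

/-!
# A finite purely inseparable extension making the reduction geometrically reduced (helper14)
-/

set_option autoImplicit false
universe u

open scoped TensorProduct

namespace Groth.Agent.Lib.Helper14.PerfectDescent

/-- If `Ω ⊗[E] R` is reduced for a perfect field extension `Ω` of `E`, then `R` is geometrically
reduced over `E`. -/
theorem isGeometricallyReduced_of_tensor_perfect (E Ω R : Type u) [Field E] [Field Ω]
    [PerfectField Ω] [Algebra E Ω] [CommRing R] [Algebra E R] (h : IsReduced (Ω ⊗[E] R)) :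
    Algebra.IsGeometricallyReduced E R := by
  haveI : Algebra.IsGeometricallyReduced Ω (Ω ⊗[E] R) :=
    PerfectGeomRed.isGeometricallyReduced_of_perfectField
  let L := AlgebraicClosure Ω
  haveI h1 : IsReduced (L ⊗[Ω] (Ω ⊗[E] R)) := inferInstance
  have h2 : IsReduced (L ⊗[E] R) :=
    isReduced_of_injective (Algebra.TensorProduct.cancelBaseChange E Ω Ω L R).symm.toRingEquiv
      (RingEquiv.injective _)
  rw [Algebra.isGeometricallyReduced_field_iff]
  let σ : AlgebraicClosure E →ₐ[E] L := IsAlgClosed.lift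
  exact isReduced_of_injective (Algebra.TensorProduct.map σ (AlgHom.id E R))
    (Module.Flat.rTensor_preserves_injective_linearMap _ σ.injective)

section Main

variable (k : Type u) [Field k] (B : Type u) [CommRing B] [Algebra k B]

/-- The perfect closure of `k` (inside an algebraic closure), as a field. -/
abbrev Om : Type u := ↥(perfectClosure k (AlgebraicClosure k))

/-- The inclusion `E ⊗ B → Ω ⊗ B`. -/
noncomputable abbrev incl (E : IntermediateField k (Om k)) : E ⊗[k] B →ₐ[k] Om k ⊗[k] B :=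
  Algebra.TensorProduct.map E.val (AlgHom.id k B)

theorem incl_injective (E : IntermediateField k (Om k)) : Function.Injective (incl k B E) :=
  Module.Flat.rTensor_preserves_injective_linearMap _ E.val.injective

theorem exists_support (c : Om k ⊗[k] B) :
    ∃ S : Finset (Om k), ∀ E : IntermediateField k (Om k), (↑S : Set (Om k)) ⊆ E →
      c ∈ Set.range (incl k B E) := by
  classical
  induction c using TensorProduct.induction_on with
  | zero => exact ⟨∅, fun E _ => ⟨0, map_zero _⟩⟩
  | tmul ω b =>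
    refine ⟨{ω}, fun E hE => ?_⟩
    have hω : ω ∈ E := hE (by simp)
    exact ⟨(⟨ω, hω⟩ : E) ⊗ₜ[k] b, by simp⟩
  | add x y hx hy =>
    obtain ⟨S₁, h₁⟩ := hx
    obtain ⟨S₂, h₂⟩ := hy
    refine ⟨S₁ ∪ S₂, fun E hE => ?_⟩
    obtain ⟨a, ha⟩ := h₁ E (fun z hz => hE (by simp [Finset.mem_coe.mp hz]))
    obtain ⟨b, hb⟩ := h₂ E (fun z hz => hE (by simp [Finset.mem_coe.mp hz]))
    exact ⟨a + b, by rw [map_add, ha, hb]⟩

/-- Core of the main lemma, for an abstract subfield `E` of `Ω` over which the generators of the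
nilradical are defined. -/
theorem core (Ω : Type u) [Field Ω] [PerfectField Ω] [Algebra k Ω]
    (E : Type u) [Field E] [Algebra k E] [Algebra E Ω] [IsScalarTower k E Ω]
    (s : Finset (Ω ⊗[k] B)) (hs : Ideal.span (↑s : Set (Ω ⊗[k] B)) = nilradical (Ω ⊗[k] B))
    (hmem : ∀ n ∈ s, n ∈ Set.range
      (Algebra.TensorProduct.map (IsScalarTower.toAlgHom k E Ω) (AlgHom.id k B))) :
    Algebra.IsGeometricallyReduced E ((E ⊗[k] B) ⧸ nilradical (E ⊗[k] B)) := by
  classical
  let ι : E ⊗[k] B →ₐ[k] Ω ⊗[k] B :=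
    Algebra.TensorProduct.map (IsScalarTower.toAlgHom k E Ω) (AlgHom.id k B)
  have hιinj : Function.Injective ι :=
    Module.Flat.rTensor_preserves_injective_linearMap _
      (IsScalarTower.toAlgHom k E Ω).injective
  apply isGeometricallyReduced_of_tensor_perfect E Ω
  -- the isomorphism `Ω ⊗[E] (E ⊗[k] B) ≃ Ω ⊗[k] B`
  let θ : Ω ⊗[E] (E ⊗[k] B) ≃ₐ[E] Ω ⊗[k] B :=
    Algebra.TensorProduct.cancelBaseChange k E E Ω B
  let θs : Ω ⊗[k] B →+* Ω ⊗[E] (E ⊗[k] B) := θ.symm.toAlgHom.toRingHom
  have hθs : ∀ w, θs (θ w) = w := fun w => θ.symm_apply_apply w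
  have hθ : ∀ c : E ⊗[k] B, θ ((1 : Ω) ⊗ₜ[E] c) = ι c := by
    intro c
    induction c using TensorProduct.induction_on with
    | zero => simp
    | tmul e b =>
      show Algebra.TensorProduct.cancelBaseChange k E E Ω B ((1 : Ω) ⊗ₜ[E] (e ⊗ₜ[k] b)) = _
      rw [Algebra.TensorProduct.cancelBaseChange_tmul]
      simp [ι, Algebra.smul_def]
    | add x y hx hy => rw [TensorProduct.tmul_add, map_add, map_add, hx, hy]
  let NE : Ideal (E ⊗[k] B) := nilradical (E ⊗[k] B)
  let Ψ : Ω ⊗[E] (E ⊗[k] B) →ₐ[E] Ω ⊗[E] ((E ⊗[k] B) ⧸ NE) :=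
    Algebra.TensorProduct.map (AlgHom.id E Ω) (Ideal.Quotient.mkₐ E NE)
  have hΨsurj : Function.Surjective Ψ :=
    Algebra.TensorProduct.map_surjective (AlgHom.id E Ω) (Ideal.Quotient.mkₐ E NE)
      Function.surjective_id (Ideal.Quotient.mkₐ_surjective E NE)
  let K₀ : Ideal (Ω ⊗[E] (E ⊗[k] B)) := NE.map
      (Algebra.TensorProduct.includeRight : E ⊗[k] B →ₐ[E] Ω ⊗[E] (E ⊗[k] B))
  have hker : RingHom.ker Ψ = K₀ := by
    have := Algebra.TensorProduct.lTensor_ker (A := Ω) (Ideal.Quotient.mkₐ E NE)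
      (Ideal.Quotient.mkₐ_surjective E NE)
    have h2 : RingHom.ker (Ideal.Quotient.mkₐ E NE) = NE := by
      ext x
      rw [RingHom.mem_ker, Ideal.Quotient.mkₐ_eq_mk, Ideal.Quotient.eq_zero_iff_mem]
    rw [h2] at this
    exact this
  -- `K₀` consists of nilpotent elements
  have hK₀nil : K₀ ≤ nilradical (Ω ⊗[E] (E ⊗[k] B)) := by
    show Ideal.map _ NE ≤ _
    rw [Ideal.map_le_iff_le_comap]
    intro m hm
    rw [Ideal.mem_comap, mem_nilradical]
    exact (mem_nilradical.mp hm).map _
  -- the generators of the nilradical of `C` come from `K₀`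
  have hspan : Ideal.span (↑s : Set (Ω ⊗[k] B)) ≤ Ideal.comap θs K₀ := by
    rw [Ideal.span_le]
    intro n hn
    obtain ⟨m, hm⟩ := hmem n (Finset.mem_coe.mp hn)
    have hmnil : m ∈ NE := by
      show m ∈ nilradical _
      rw [mem_nilradical]
      have hn' : IsNilpotent n := by
        have : n ∈ nilradical (Ω ⊗[k] B) := hs ▸ Ideal.subset_span hn
        exact mem_nilradical.mp this
      rw [← hm] at hn'
      exact (IsNilpotent.map_iff hιinj).mp hn'
    rw [SetLike.mem_coe, Ideal.mem_comap]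
    have : θs n = (1 : Ω) ⊗ₜ[E] m := by
      have h1 : n = θ ((1 : Ω) ⊗ₜ[E] m) := by rw [hθ m]; exact hm.symm
      rw [h1, hθs]
    rw [this]
    exact Ideal.mem_map_of_mem _ hmnil
  refine ⟨fun w hw => ?_⟩
  obtain ⟨w', rfl⟩ := hΨsurj w
  have hw'nil : IsNilpotent w' := by
    obtain ⟨n, hn⟩ := hw
    have h1 : w' ^ n ∈ RingHom.ker Ψ := by
      rw [RingHom.mem_ker, map_pow]; exact hn
    rw [hker] at h1
    have h2 := hK₀nil h1
    rw [mem_nilradical] at h2
    exact IsNilpotent.of_pow h2
  have h3 : θ w' ∈ nilradical (Ω ⊗[k] B) := mem_nilradical.mpr (hw'nil.map θ)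
  rw [← hs] at h3
  have h4 := hspan h3
  rw [Ideal.mem_comap, hθs, ← hker] at h4
  exact h4

/-- The main lemma: a finite purely inseparable extension after which the reduction is
geometrically reduced. -/
theorem exists_finite_purelyInseparable (hN : IsNoetherianRing (Om k ⊗[k] B)) :
    ∃ (k' : Type u) (_ : Field k') (_ : Algebra k k'), FiniteDimensional k k' ∧
      IsPurelyInseparable k k' ∧
      Algebra.IsGeometricallyReduced k' ((k' ⊗[k] B) ⧸ nilradical (k' ⊗[k] B)) := by
  classical
  have hfg : (nilradical (Om k ⊗[k] B)).FG := (isNoetherianRing_iff_ideal_fg _).mp hN _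
  obtain ⟨s, hs⟩ := hfg
  choose S hS using exists_support k B
  let T : Finset (Om k) := s.biUnion S
  let E : IntermediateField k (Om k) := IntermediateField.adjoin k (↑T : Set (Om k))
  have hTE : (↑T : Set (Om k)) ⊆ E := IntermediateField.subset_adjoin k _
  have hmem : ∀ n ∈ s, n ∈ Set.range (incl k B E) := by
    intro n hn
    refine hS n E (fun z hz => hTE ?_)
    exact Finset.mem_coe.mpr (Finset.mem_biUnion.mpr ⟨n, hn, Finset.mem_coe.mp hz⟩)
  haveI : IsPurelyInseparable k (Om k) := inferInstance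
  haveI : Algebra.IsIntegral k (Om k) := inferInstance
  haveI hfin : FiniteDimensional k E :=
    IntermediateField.finiteDimensional_adjoin (fun x _ => Algebra.IsIntegral.isIntegral x)
  haveI hpi : IsPurelyInseparable k E := IsPurelyInseparable.tower_bot k E (Om k)
  exact ⟨E, inferInstance, inferInstance, hfin, hpi, core k B (Om k) E s hs hmem⟩

end Main

end Groth.Agent.Lib.Helper14.PerfectDescent
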