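import Mathlib
import Groth.Agent.Lib.Helper8.SmoothAtFlat
import Groth.Agent.Lib.Helper14.PerfectDescent

/-!
# Generic smoothness after a finite purely inseparable extension (helper14)

Ring-level core of: for `A` of finite type over a field `k` there are a finite purely inseparable
extension `k'/k` and a "dense" element `a ∈ A` such that the reduction of `k' ⊗ A_a` is smooth
over `k'`.
-/

set_option autoImplicit false
universe u

open scoped TensorProduct

namespace Groth.Agent.Lib.Helper14.SmoothInsep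

attribute [local instance] Algebra.TensorProduct.rightAlgebra

/-- Over a perfect field, a reduced algebra of finite type is smooth at its minimal primes. -/
theorem isSmoothAt_of_mem_minimalPrimes_of_perfectField (K D : Type u) [Field K] [PerfectField K]
    [CommRing D] [Algebra K D] [Algebra.FiniteType K D] [IsReduced D] (P : Ideal D) [P.IsPrime]
    (hP : P ∈ minimalPrimes D) : Algebra.IsSmoothAt K P := by
  haveI : Ring.KrullDimLE 0 (Localization.AtPrime P) := .of_isLocalization _ hP _
  letI : Field (Localization.AtPrime P) := Ring.KrullDimLE.isField_of_isReduced.toField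
  haveI : Algebra.EssFiniteType D (Localization.AtPrime P) :=
    Algebra.EssFiniteType.of_isLocalization _ P.primeCompl
  haveI : Algebra.EssFiniteType K (Localization.AtPrime P) :=
    Algebra.EssFiniteType.comp K D _
  exact Algebra.FormallySmooth.of_perfectField

/-- A geometrically reduced algebra of finite type over a field is smooth at its minimal primes. -/
theorem isSmoothAt_of_mem_minimalPrimes (k B : Type u) [Field k] [CommRing B] [Algebra k B]
    [Algebra.FiniteType k B] [Algebra.IsGeometricallyReduced k B] (q : Ideal B) [q.IsPrime]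
    (hq : q ∈ minimalPrimes B) : Algebra.IsSmoothAt k q := by
  let K := AlgebraicClosure k
  haveI : IsReduced (K ⊗[k] B) := (Algebra.isGeometricallyReduced_field_iff k B).mp inferInstance
  haveI : Algebra.FiniteType K (K ⊗[k] B) := inferInstance
  have hinj : Function.Injective (algebraMap B (K ⊗[k] B)) :=
    Algebra.TensorProduct.includeRight_injective (algebraMap k K).injective
  have hq' : q ∈ ((⊥ : Ideal (K ⊗[k] B)).comap (algebraMap B (K ⊗[k] B))).minimalPrimes := by
    have : (⊥ : Ideal (K ⊗[k] B)).comap (algebraMap B (K ⊗[k] B)) = ⊥ := by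
      rw [← RingHom.ker_eq_comap_bot]
      exact (RingHom.injective_iff_ker_eq_bot _).mp hinj
    rw [this]
    exact hq
  obtain ⟨P₁, hP₁, -, hP₁q⟩ := Ideal.exists_comap_eq_of_mem_minimalPrimes
    (algebraMap B (K ⊗[k] B)) q hq'
  obtain ⟨P, hPmin, hPle⟩ := Ideal.exists_minimalPrimes_le (J := P₁) bot_le
  haveI hPprime : P.IsPrime := hPmin.1.1
  have hPq : P.comap (algebraMap B (K ⊗[k] B)) = q := by
    apply le_antisymm
    · rw [← hP₁q]
      exact Ideal.comap_mono hPle
    · exact hq.2 ⟨Ideal.comap_isPrime _ _, bot_le⟩ (by rw [← hP₁q]; exact Ideal.comap_mono hPle)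
  haveI : P.LiesOver q := ⟨hPq.symm⟩
  haveI : Algebra.IsSmoothAt K P :=
    isSmoothAt_of_mem_minimalPrimes_of_perfectField K (K ⊗[k] B) P hPmin
  haveI : Algebra.FinitePresentation k B := Algebra.FinitePresentation.of_finiteType.mp inferInstance
  exact Groth.Agent.Lib.Helper8.SmoothAtFlat.isSmoothAt_of_tensor_flat k K B q P


section Exists

variable (k A : Type u) [Field k] [CommRing A] [Algebra k A] [Algebra.FiniteType k A]
  (k' : Type u) [Field k'] [Algebra k k'] [FiniteDimensional k k'] [IsPurelyInseparable k k']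

/-- The map `A → (k' ⊗ A)_red`. -/
noncomputable abbrev psi : A →+* (k' ⊗[k] A) ⧸ nilradical (k' ⊗[k] A) :=
  (Ideal.Quotient.mk (nilradical (k' ⊗[k] A))).comp
    (Algebra.TensorProduct.includeRight : A →ₐ[k] k' ⊗[k] A).toRingHom

theorem ker_psi_le (p : Ideal A) [p.IsPrime] : RingHom.ker (psi k A k') ≤ p := by
  intro x hx
  rw [RingHom.mem_ker, RingHom.comp_apply, Ideal.Quotient.eq_zero_iff_mem, mem_nilradical] at hx
  obtain ⟨n, hn⟩ := hx
  have h1 : (Algebra.TensorProduct.includeRight : A →ₐ[k] k' ⊗[k] A) (x ^ n) = 0 := by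
    rw [map_pow]; exact hn
  have hinj : Function.Injective (Algebra.TensorProduct.includeRight : A →ₐ[k] k' ⊗[k] A) :=
    Algebra.TensorProduct.includeRight_injective (algebraMap k k').injective
  have h2 : x ^ n = 0 := hinj (by rw [h1, map_zero])
  exact Ideal.IsPrime.mem_of_pow_mem inferInstance n (by rw [h2]; exact p.zero_mem)

/-- Every element of `(k' ⊗ A)_red` has a power coming from `A`. -/
theorem exists_pow_eq_psi (b : (k' ⊗[k] A) ⧸ nilradical (k' ⊗[k] A)) :
    ∃ n > 0, ∃ a : A, b ^ n = psi k A k' a := by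
  obtain ⟨x, rfl⟩ := Ideal.Quotient.mk_surjective b
  obtain ⟨n, hn, a, ha⟩ := IsPurelyInseparable.exists_pow_mem_range_tensorProduct (k := k)
    (K := k') (R := A) (Algebra.TensorProduct.comm k k' A x)
  refine ⟨n, hn, a, ?_⟩
  have h1 : x ^ n = (Algebra.TensorProduct.includeRight : A →ₐ[k] k' ⊗[k] A) a := by
    apply (Algebra.TensorProduct.comm k k' A).injective
    rw [map_pow, ← ha]
    simp [Algebra.TensorProduct.algebraMap_apply]
  rw [← map_pow, h1]
  rfl

/-- **Existence of a dense element over which the reduction becomes smooth.** -/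
theorem exists_dense_smooth
    [hgr : Algebra.IsGeometricallyReduced k' ((k' ⊗[k] A) ⧸ nilradical (k' ⊗[k] A))] :
    ∃ a : A, (∀ p ∈ minimalPrimes A, a ∉ p) ∧
      (↑(PrimeSpectrum.basicOpen (psi k A k' a)) : Set (PrimeSpectrum _)) ⊆
        Algebra.smoothLocus k' ((k' ⊗[k] A) ⧸ nilradical (k' ⊗[k] A)) := by
  classical
  set B := (k' ⊗[k] A) ⧸ nilradical (k' ⊗[k] A) with hB
  haveI : IsNoetherianRing A := Algebra.FiniteType.isNoetherianRing k A
  haveI : Algebra.FiniteType k' (k' ⊗[k] A) := inferInstance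
  haveI : Algebra.FiniteType k' B :=
    Algebra.FiniteType.of_surjective (Ideal.Quotient.mkₐ k' (nilradical (k' ⊗[k] A)))
      (Ideal.Quotient.mkₐ_surjective _ _)
  haveI : Algebra.FinitePresentation k' B := Algebra.FinitePresentation.of_finiteType.mp inferInstance
  set W := Algebra.smoothLocus k' B with hW
  have hWopen : IsOpen W := Algebra.isOpen_smoothLocus
  set J : Ideal B := PrimeSpectrum.vanishingIdeal Wᶜ with hJ
  have hJW : ∀ b ∈ J, (↑(PrimeSpectrum.basicOpen b) : Set (PrimeSpectrum B)) ⊆ W := by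
    intro b hb P hP
    by_contra hPW
    have : b ∈ P.asIdeal := (PrimeSpectrum.mem_vanishingIdeal _ _).mp hb P hPW
    exact hP this
  have hzero : PrimeSpectrum.zeroLocus (J : Set B) = Wᶜ := by
    rw [hJ, PrimeSpectrum.zeroLocus_vanishingIdeal_eq_closure, hWopen.isClosed_compl.closure_eq]
  set I : Ideal A := J.comap (psi k A k') with hI
  -- `I` is contained in no minimal prime of `A`
  have hnot : ∀ p ∈ minimalPrimes A, ¬ I ≤ p := by
    intro p hp hIp
    haveI hpp : p.IsPrime := hp.1.1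
    have hp' : p ∈ ((⊥ : Ideal B).comap (psi k A k')).minimalPrimes := by
      refine ⟨⟨hpp, ?_⟩, fun r hr hrp => hp.2 ⟨hr.1, bot_le⟩ hrp⟩
      rw [← RingHom.ker_eq_comap_bot]
      exact ker_psi_le k A k' p
    obtain ⟨P₁, hP₁, -, hP₁p⟩ := Ideal.exists_comap_eq_of_mem_minimalPrimes (psi k A k') p hp'
    obtain ⟨P, hPmin, hPle⟩ := Ideal.exists_minimalPrimes_le (J := P₁) bot_le
    haveI hPprime : P.IsPrime := hPmin.1.1
    have hPp : P.comap (psi k A k') = p := by
      apply le_antisymm
      · rw [← hP₁p]; exact Ideal.comap_mono hPle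
      · exact hp.2 ⟨Ideal.comap_isPrime _ _, bot_le⟩ (by rw [← hP₁p]; exact Ideal.comap_mono hPle)
    have hPW : (⟨P, hPprime⟩ : PrimeSpectrum B) ∈ W :=
      isSmoothAt_of_mem_minimalPrimes k' B P hPmin
    have hJP : ¬ J ≤ P := by
      intro hle
      have : (⟨P, hPprime⟩ : PrimeSpectrum B) ∈ PrimeSpectrum.zeroLocus (J : Set B) := hle
      rw [hzero] at this
      exact this hPW
    obtain ⟨b, hbJ, hbP⟩ := SetLike.not_le_iff_exists.mp hJP
    obtain ⟨n, hn, a, ha⟩ := exists_pow_eq_psi k A k' b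
    have haI : a ∈ I := by
      rw [hI, Ideal.mem_comap, ← ha]
      exact Ideal.pow_mem_of_mem J hbJ n hn
    have hap : a ∈ p := hIp haI
    rw [← hPp, Ideal.mem_comap, ← ha] at hap
    exact hbP (hPprime.mem_of_pow_mem n hap)
  -- prime avoidance
  have hfin : (minimalPrimes A).Finite := minimalPrimes.finite_of_isNoetherianRing A
  have hav : ¬ ((I : Set A) ⊆ ⋃ p ∈ (↑hfin.toFinset : Set (Ideal A)), (p : Set A)) := by
    intro hsub
    have := (Ideal.subset_union_prime (s := hfin.toFinset) (f := fun p : Ideal A => p) ⊥ ⊥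
      (fun p hp _ _ => (hfin.mem_toFinset.mp hp).1.1)).mp hsub
    obtain ⟨p, hp, hIp⟩ := this
    exact hnot p (hfin.mem_toFinset.mp hp) hIp
  obtain ⟨a, haI, ha⟩ := Set.not_subset.mp hav
  refine ⟨a, fun p hp hap => ha ?_, hJW _ haI⟩
  simp only [Set.mem_iUnion, SetLike.mem_coe]
  exact ⟨p, Finset.mem_coe.mpr (hfin.mem_toFinset.mpr hp), hap⟩

end Exists


section Final

variable (k A : Type u) [Field k] [CommRing A] [Algebra k A] [Algebra.FiniteType k A]
  (k' : Type u) [Field k'] [Algebra k k'] [FiniteDimensional k k'] [IsPurelyInseparable k k']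
  (a : A) (R : Type u) [CommRing R] [Algebra k R] [Algebra A R] [IsScalarTower k A R]
  [IsLocalization.Away a R]

/-- Every element of `k' ⊗ R` becomes, after multiplication by a power of `1 ⊗ a`, the image of an
element of `k' ⊗ A`. -/
theorem exists_pow_mul_eq (t : k' ⊗[k] R) :
    ∃ (n : ℕ) (x : k' ⊗[k] A),
      t * ((1 : k') ⊗ₜ[k] (algebraMap A R a)) ^ n =
        Algebra.TensorProduct.map (AlgHom.id k k') (IsScalarTower.toAlgHom k A R) x := by
  induction t using TensorProduct.induction_on with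
  | zero => exact ⟨0, 0, by simp⟩
  | tmul c r =>
    obtain ⟨n, a', hn⟩ := IsLocalization.Away.surj a r
    refine ⟨n, c ⊗ₜ[k] a', ?_⟩
    rw [Algebra.TensorProduct.tmul_pow, one_pow, Algebra.TensorProduct.tmul_mul_tmul, mul_one, hn]
    simp
  | add t₁ t₂ h₁ h₂ =>
    obtain ⟨n₁, x₁, h₁⟩ := h₁
    obtain ⟨n₂, x₂, h₂⟩ := h₂
    refine ⟨n₁ + n₂, x₁ * ((1 : k') ⊗ₜ[k] a) ^ n₂ + x₂ * ((1 : k') ⊗ₜ[k] a) ^ n₁, ?_⟩
    have hu : Algebra.TensorProduct.map (AlgHom.id k k') (IsScalarTower.toAlgHom k A R)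
        ((1 : k') ⊗ₜ[k] a) = (1 : k') ⊗ₜ[k] (algebraMap A R a) := by simp
    rw [map_add, map_mul, map_mul, map_pow, map_pow, hu, ← h₁, ← h₂, pow_add]
    ring

/-- **The reduction of `k' ⊗ A_a` is smooth over `k'`**, in the form of a surjection with nil
kernel onto a reduced smooth `k'`-algebra. -/
theorem exists_smooth_quotient
    [hgr : Algebra.IsGeometricallyReduced k' ((k' ⊗[k] A) ⧸ nilradical (k' ⊗[k] A))]
    (ha : (↑(PrimeSpectrum.basicOpen (psi k A k' a)) : Set (PrimeSpectrum _)) ⊆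
        Algebra.smoothLocus k' ((k' ⊗[k] A) ⧸ nilradical (k' ⊗[k] A))) :
    ∃ (C : Type u) (_ : CommRing C) (_ : Algebra k' C) (q : k' ⊗[k] R →ₐ[k'] C),
      Function.Surjective q ∧ RingHom.ker q ≤ nilradical (k' ⊗[k] R) ∧ IsReduced C ∧
        Algebra.Smooth k' C := by
  classical
  set B := (k' ⊗[k] A) ⧸ nilradical (k' ⊗[k] A) with hB
  haveI : Algebra.FiniteType k' (k' ⊗[k] A) := inferInstance
  haveI : Algebra.FiniteType k' B :=
    Algebra.FiniteType.of_surjective (Ideal.Quotient.mkₐ k' (nilradical (k' ⊗[k] A)))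
      (Ideal.Quotient.mkₐ_surjective _ _)
  haveI : Algebra.FinitePresentation k' B := Algebra.FinitePresentation.of_finiteType.mp inferInstance
  haveI : IsReduced B := Algebra.isReduced_of_isGeometricallyReduced (k := k') (A := B)
  set C := Localization.Away (psi k A k' a) with hC
  haveI hsm : Algebra.Smooth k' C := (Algebra.basicOpen_subset_smoothLocus_iff_smooth).mp ha
  haveI : IsReduced C := inferInstance
  -- the map `R → C`
  have hunit : IsUnit (((algebraMap B C).comp (psi k A k')) a) :=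
    IsLocalization.Away.algebraMap_isUnit (psi k A k' a)
  let g₀ : R →+* C := IsLocalization.Away.lift a hunit
  have hg₀ : ∀ a' : A, g₀ (algebraMap A R a') = algebraMap B C (psi k A k' a') := fun a' =>
    IsLocalization.Away.lift_eq a hunit a'
  let g : R →ₐ[k] C :=
    { g₀ with
      commutes' := by
        intro c
        show g₀ (algebraMap k R c) = algebraMap k C c
        rw [IsScalarTower.algebraMap_apply k A R, hg₀, IsScalarTower.algebraMap_apply k B C]
        congr 1
        show Ideal.Quotient.mk _ ((1 : k') ⊗ₜ[k] (algebraMap k A c)) = algebraMap k B c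
        rw [IsScalarTower.algebraMap_apply k (k' ⊗[k] A) B, Ideal.Quotient.algebraMap_eq]
        congr 1
        rw [Algebra.TensorProduct.algebraMap_apply, Algebra.algebraMap_eq_smul_one,
          Algebra.algebraMap_eq_smul_one, TensorProduct.tmul_smul, TensorProduct.smul_tmul'] }
  have hg : ∀ r, g r = g₀ r := fun _ => rfl
  let q : k' ⊗[k] R →ₐ[k'] C :=
    Algebra.TensorProduct.lift (Algebra.ofId k' C) g (fun _ _ => Commute.all _ _)
  have hq_tmul : ∀ (c : k') (r : R), q (c ⊗ₜ[k] r) = algebraMap k' C c * g r := fun c r => by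
    show Algebra.TensorProduct.lift (Algebra.ofId k' C) g (fun _ _ => Commute.all _ _) (c ⊗ₜ[k] r) = _
    rw [Algebra.TensorProduct.lift_tmul]
    rfl
  let φA : k' ⊗[k] A →ₐ[k] k' ⊗[k] R :=
    Algebra.TensorProduct.map (AlgHom.id k k') (IsScalarTower.toAlgHom k A R)
  -- compatibility with `k' ⊗ A → B → C`
  have hqφ : ∀ x : k' ⊗[k] A, q (φA x) = algebraMap B C (Ideal.Quotient.mk _ x) := by
    intro x
    induction x using TensorProduct.induction_on with
    | zero => simp
    | tmul c a' =>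
      have h1 : φA (c ⊗ₜ[k] a') = c ⊗ₜ[k] (algebraMap A R a') := by simp [φA]
      rw [h1, hq_tmul, hg, hg₀, IsScalarTower.algebraMap_apply k' B C, ← map_mul]
      congr 1
      show algebraMap k' B c * Ideal.Quotient.mk _ ((1 : k') ⊗ₜ[k] a') = _
      rw [IsScalarTower.algebraMap_apply k' (k' ⊗[k] A) B, Ideal.Quotient.algebraMap_eq, ← map_mul,
        Algebra.TensorProduct.algebraMap_apply, Algebra.TensorProduct.tmul_mul_tmul]
      simp
    | add x y hx hy => rw [map_add, map_add, hx, hy, map_add, map_add]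
  set u : k' ⊗[k] R := (1 : k') ⊗ₜ[k] (algebraMap A R a) with hu
  have hqu : q u = algebraMap B C (psi k A k' a) := by
    rw [hu, hq_tmul, map_one, one_mul, hg, hg₀]
  have huunit : IsUnit u := by
    have h1 : IsUnit (algebraMap A R a) := IsLocalization.Away.algebraMap_isUnit a
    exact h1.map (Algebra.TensorProduct.includeRight : R →ₐ[k] k' ⊗[k] R)
  have hquunit : IsUnit (q u) := huunit.map q
  refine ⟨C, inferInstance, inferInstance, q, ?_, ?_, inferInstance, hsm⟩
  · -- surjectivity
    intro c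
    obtain ⟨n, b, hn⟩ := IsLocalization.Away.surj (psi k A k' a) c
    obtain ⟨x, rfl⟩ := Ideal.Quotient.mk_surjective b
    obtain ⟨v, hv⟩ := huunit
    refine ⟨φA x * ((v⁻¹ : (k' ⊗[k] R)ˣ) : k' ⊗[k] R) ^ n, ?_⟩
    have huw : q u * q ((v⁻¹ : (k' ⊗[k] R)ˣ) : k' ⊗[k] R) = 1 := by
      rw [← map_mul, ← hv, Units.mul_inv, map_one]
    calc q (φA x * ((v⁻¹ : (k' ⊗[k] R)ˣ) : k' ⊗[k] R) ^ n)
        = q (φA x) * (q ((v⁻¹ : (k' ⊗[k] R)ˣ) : k' ⊗[k] R)) ^ n := by rw [map_mul, map_pow]
      _ = c * (q u) ^ n * (q ((v⁻¹ : (k' ⊗[k] R)ˣ) : k' ⊗[k] R)) ^ n := by rw [hqφ, ← hn, hqu]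
      _ = c * (q u * q ((v⁻¹ : (k' ⊗[k] R)ˣ) : k' ⊗[k] R)) ^ n := by rw [mul_pow, mul_assoc]
      _ = c := by rw [huw, one_pow, mul_one]
  · -- nil kernel
    intro t ht
    rw [RingHom.mem_ker] at ht
    obtain ⟨n, x, hx⟩ := exists_pow_mul_eq k A k' a R t
    have h1 : algebraMap B C (Ideal.Quotient.mk _ x) = 0 := by
      rw [← hqφ]
      show q (Algebra.TensorProduct.map (AlgHom.id k k') (IsScalarTower.toAlgHom k A R) x) = 0
      rw [← hx, map_mul]
      have : (q : k' ⊗[k] R → C) t = 0 := ht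
      rw [this, zero_mul]
    obtain ⟨⟨_, m, rfl⟩, hm⟩ := (IsLocalization.map_eq_zero_iff (Submonoid.powers (psi k A k' a)) C
      (Ideal.Quotient.mk _ x)).mp h1
    have h2 : ((1 : k') ⊗ₜ[k] a) ^ m * x ∈ nilradical (k' ⊗[k] A) := by
      rw [← Ideal.Quotient.eq_zero_iff_mem, map_mul, map_pow]
      exact hm
    have h3 : IsNilpotent (φA (((1 : k') ⊗ₜ[k] a) ^ m * x)) := (mem_nilradical.mp h2).map φA
    have h4 : φA (((1 : k') ⊗ₜ[k] a) ^ m * x) = u ^ (m + n) * t := by
      have hφu : φA ((1 : k') ⊗ₜ[k] a) = u := by simp [φA, hu]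
      rw [map_mul, map_pow, hφu]
      show u ^ m * Algebra.TensorProduct.map (AlgHom.id k k') (IsScalarTower.toAlgHom k A R) x = _
      rw [← hx, pow_add]
      ring
    rw [h4] at h3
    rw [mem_nilradical]
    obtain ⟨v, hv⟩ := huunit.pow (m + n)
    have h5 : t = ((v⁻¹ : (k' ⊗[k] R)ˣ) : k' ⊗[k] R) * (u ^ (m + n) * t) := by
      rw [← mul_assoc, ← hv, Units.inv_mul, one_mul]
    rw [h5]
    exact (Commute.all _ _).isNilpotent_mul_left h3

end Final


/-- **Ring-level main theorem.** -/
theorem main (k A : Type u) [Field k] [CommRing A] [Algebra k A] [Algebra.FiniteType k A] :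
    ∃ (a : A) (k' : Type u) (_ : Field k') (_ : Algebra k k') (_ : FiniteDimensional k k')
      (_ : IsPurelyInseparable k k'), (∀ p ∈ minimalPrimes A, a ∉ p) ∧
      ∀ (R : Type u) [CommRing R] [Algebra k R] [Algebra A R] [IsScalarTower k A R]
        [IsLocalization.Away a R],
        ∃ (C : Type u) (_ : CommRing C) (_ : Algebra k' C) (q : k' ⊗[k] R →ₐ[k'] C),
          Function.Surjective q ∧ RingHom.ker q ≤ nilradical (k' ⊗[k] R) ∧ IsReduced C ∧
            Algebra.Smooth k' C := by
  have hN : IsNoetherianRing (PerfectDescent.Om k ⊗[k] A) := by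
    haveI : Algebra.FiniteType (PerfectDescent.Om k) (PerfectDescent.Om k ⊗[k] A) := inferInstance
    exact Algebra.FiniteType.isNoetherianRing (PerfectDescent.Om k) (PerfectDescent.Om k ⊗[k] A)
  obtain ⟨k', hF, hA, hfin, hpi, hgr⟩ := PerfectDescent.exists_finite_purelyInseparable k A hN
  obtain ⟨a, ha1, ha2⟩ := exists_dense_smooth k A k'
  exact ⟨a, k', hF, hA, hfin, hpi, ha1, fun R _ _ _ _ _ =>
    exists_smooth_quotient k A k' a R ha2⟩

end Groth.Agent.Lib.Helper14.SmoothInsep
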