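import Mathlib
import Groth.Agent.Lib.Helper14.SmoothInsep

/-!
# Generic smoothness after a finite purely inseparable extension: scheme level (helper14)
-/

set_option autoImplicit false
universe u

open CategoryTheory CategoryTheory.Limits AlgebraicGeometry TopologicalSpace
open scoped TensorProduct

namespace Groth.Agent.Lib.Helper14.SmoothInsepSch

/-- A Noetherian scheme has a dense affine open subscheme. -/
theorem exists_dense_isAffineOpen (X : Scheme.{u}) [IsNoetherian X] :
    ∃ U : X.Opens, IsAffineOpen U ∧ Dense (U : Set X) := by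
  classical
  have hfin : (irreducibleComponents X).Finite :=
    TopologicalSpace.NoetherianSpace.finite_irreducibleComponents
  let o : Set X → Set X := fun Z => (⋃₀ (irreducibleComponents X \ {Z}))ᶜ
  have ho_open : ∀ Z, IsOpen (o Z) := by
    intro Z
    show IsOpen (⋃₀ (irreducibleComponents X \ {Z}))ᶜ
    rw [Set.sUnion_eq_biUnion, isOpen_compl_iff]
    exact hfin.sdiff.isClosed_biUnion fun W hW ↦ isClosed_of_mem_irreducibleComponents W hW.1
  have ho_sub : ∀ Z ∈ irreducibleComponents X, o Z ⊆ Z := by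
    intro Z hZ
    have := closure_sUnion_irreducibleComponents_sdiff_singleton hfin Z hZ
    exact subset_closure.trans this.le
  have ho_ne : ∀ Z ∈ irreducibleComponents X, (o Z).Nonempty := by
    intro Z hZ
    by_contra hne
    rw [Set.not_nonempty_iff_eq_empty] at hne
    have := closure_sUnion_irreducibleComponents_sdiff_singleton hfin Z hZ
    change closure (o Z) = Z at this
    rw [hne, closure_empty] at this
    exact hZ.1.nonempty.ne_empty this.symm
  have ho_disj : ∀ Z ∈ irreducibleComponents X, ∀ Z' ∈ irreducibleComponents X, Z ≠ Z' →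
      Disjoint (o Z) (o Z') := by
    intro Z hZ Z' hZ' hne
    rw [Set.disjoint_left]
    intro x hx hx'
    apply hx
    exact ⟨Z', ⟨hZ', fun h => hne (Set.mem_singleton_iff.mp h).symm⟩, ho_sub Z' hZ' hx'⟩
  -- choose affine opens
  have hex : ∀ Z : irreducibleComponents X, ∃ V : X.Opens, IsAffineOpen V ∧
      (V : Set X).Nonempty ∧ (V : Set X) ⊆ o Z.1 := by
    intro Z
    obtain ⟨x, hx⟩ := ho_ne Z.1 Z.2
    obtain ⟨_, ⟨V, hV, rfl⟩, hxV, hVo⟩ :=
      X.isBasis_affineOpens.exists_subset_of_mem_open hx (ho_open Z.1)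
    exact ⟨V, hV, ⟨x, hxV⟩, hVo⟩
  choose V hVaff hVne hVsub using hex
  haveI : Finite (irreducibleComponents X) := hfin.to_subtype
  refine ⟨iSup V, ?_, ?_⟩
  · apply IsAffineOpen.iSup_of_disjoint hVaff
    intro Z Z' hne
    show Disjoint (V Z) (V Z')
    rw [← Opens.coe_disjoint]
    exact (ho_disj Z.1 Z.2 Z'.1 Z'.2 (fun h => hne (Subtype.ext h))).mono (hVsub Z) (hVsub Z')
  · intro x
    have hx : x ∈ ⋃₀ irreducibleComponents X := by
      rw [sUnion_irreducibleComponents]; trivial
    obtain ⟨Z, hZ, hxZ⟩ := hx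
    have h1 : Z ⊆ closure (Z ∩ (V ⟨Z, hZ⟩ : Set X)) := by
      apply subset_closure_inter_of_isPreirreducible_of_isOpen hZ.1.2 (V ⟨Z, hZ⟩).2
      obtain ⟨y, hy⟩ := hVne ⟨Z, hZ⟩
      exact ⟨y, ho_sub Z hZ (hVsub ⟨Z, hZ⟩ hy), hy⟩
    have h2 : (Z ∩ (V ⟨Z, hZ⟩ : Set X)) ⊆ ((iSup V : X.Opens) : Set X) := by
      intro y hy
      rw [SetLike.mem_coe, Opens.mem_iSup]
      exact ⟨⟨Z, hZ⟩, hy.2⟩
    exact closure_mono h2 (h1 hxZ)

theorem lemmaB {k R k' C : Type u} [Field k] [CommRing R] [Algebra k R] [Field k'] [Algebra k k']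
    [CommRing C] [Algebra k' C]
    (q : k' ⊗[k] R →ₐ[k'] C) (hq : Function.Surjective q)
    (hker : RingHom.ker q ≤ nilradical (k' ⊗[k] R))
    [IsReduced C] [Algebra.Smooth k' C]
    {Y : Scheme.{u}} (g : Y ⟶ Spec (CommRingCat.of k)) (e : Y ≅ Spec (CommRingCat.of R))
    (he : g = e.hom ≫ Spec.map (CommRingCat.ofHom (algebraMap k R))) :
    ∃ (Z : Scheme.{u}) (_ : IsReduced Z)
      (i : Z ⟶ pullback g (Spec.map (CommRingCat.ofHom (algebraMap k k')))),
      IsClosedImmersion i ∧ Function.Surjective i.base ∧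
        Smooth (i ≫ pullback.snd g (Spec.map (CommRingCat.ofHom (algebraMap k k')))) := by
  subst he
  let h := Spec.map (CommRingCat.ofHom (algebraMap k k'))
  let g₀ := Spec.map (CommRingCat.ofHom (algebraMap k R))
  let α : pullback (e.hom ≫ g₀) h ⟶ pullback g₀ h :=
    pullback.map _ _ _ _ e.hom (𝟙 _) (𝟙 _) (by simp) (by simp)
  haveI : IsIso α := by dsimp only [α]; infer_instance
  have hα : inv α ≫ pullback.snd (e.hom ≫ g₀) h = pullback.snd g₀ h := by
    rw [IsIso.inv_comp_eq]
    simp only [α, pullback.map, pullback.lift_snd, Category.comp_id]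
  let β := pullbackSpecIso k R k'
  let c' : R ⊗[k] k' →+* C := q.toRingHom.comp (Algebra.TensorProduct.comm k R k').toRingHom
  have hc'surj : Function.Surjective c' := by
    intro y
    obtain ⟨x, rfl⟩ := hq y
    exact ⟨(Algebra.TensorProduct.comm k R k').symm x, by simp [c']⟩
  have hc'ker : RingHom.ker c' ≤ nilradical (R ⊗[k] k') := by
    intro x hx
    rw [RingHom.mem_ker] at hx
    have h1 : (Algebra.TensorProduct.comm k R k' x) ∈ RingHom.ker q := by
      rw [RingHom.mem_ker]; exact hx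
    have h2 := mem_nilradical.mp (hker h1)
    rw [mem_nilradical]
    have := h2.map (Algebra.TensorProduct.comm k R k').symm
    simpa using this
  let i : Spec (CommRingCat.of C) ⟶ pullback (e.hom ≫ g₀) h :=
    Spec.map (CommRingCat.ofHom c') ≫ β.inv ≫ inv α
  refine ⟨Spec (CommRingCat.of C), inferInstance, i, ?_, ?_, ?_⟩
  · haveI : IsClosedImmersion (Spec.map (CommRingCat.ofHom c')) :=
      IsClosedImmersion.spec_of_surjective _ hc'surj
    dsimp only [i]
    infer_instance
  · have h1 : Function.Surjective (Spec.map (CommRingCat.ofHom c')).base := by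
      intro p
      have : p ∈ Set.range (PrimeSpectrum.comap c') := by
        rw [range_comap_of_surjective _ c' hc'surj]
        intro x hx
        have := hc'ker hx
        rw [nilradical_eq_sInf, Ideal.mem_sInf] at this
        exact this p.2
      exact this
    have h2 : Function.Surjective (β.inv ≫ inv α).base := by
      exact (β.inv ≫ inv α).surjective
    dsimp only [i]
    rw [Scheme.Hom.comp_base]
    exact h2.comp h1
  · have : i ≫ pullback.snd (e.hom ≫ g₀) h = Spec.map (CommRingCat.ofHom (algebraMap k' C)) := by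
      dsimp only [i]
      rw [Category.assoc, Category.assoc, hα, pullbackSpecIso_inv_snd, ← Spec.map_comp]
      congr 1
      ext x
      simp only [c', CommRingCat.hom_comp, CommRingCat.hom_ofHom, RingHom.comp_apply]
      show q (Algebra.TensorProduct.comm k R k' ((1 : R) ⊗ₜ[k] x)) = algebraMap k' C x
      rw [Algebra.TensorProduct.comm_tmul, ← q.commutes]
      rfl
    rw [this, HasRingHomProperty.Spec_iff (P := @Smooth)]
    exact RingHom.smooth_algebraMap.mpr inferInstance

theorem isNoetherian_of_lft_qc (k : Type u) [Field k] {X : Scheme.{u}}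
    (f : X ⟶ Spec (CommRingCat.of k)) [LocallyOfFiniteType f] [QuasiCompact f] :
    IsNoetherian X := by
  haveI : CompactSpace X := QuasiCompact.compactSpace_of_compactSpace f
  haveI : IsLocallyNoetherian X := LocallyOfFiniteType.isLocallyNoetherian f
  exact {}

section
variable {k : Type u} [Field k] {X : Scheme.{u}} (f : X ⟶ Spec (CommRingCat.of k))

noncomputable def secMap {V : X.Opens} (hV : IsAffineOpen V) : CommRingCat.of k ⟶ Γ(X, V) :=
  Spec.preimage (hV.fromSpec ≫ f)

lemma Spec_map_secMap {V : X.Opens} (hV : IsAffineOpen V) :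
    Spec.map (secMap f hV) = hV.fromSpec ≫ f := Spec.map_preimage _

lemma secMap_comp_res {V V' : X.Opens} (hV : IsAffineOpen V) (hV' : IsAffineOpen V')
    (h : V' ≤ V) :
    secMap f hV ≫ X.presheaf.map (homOfLE h).op = secMap f hV' := by
  apply Spec.map_injective
  rw [Spec.map_comp, Spec_map_secMap, Spec_map_secMap, ← Category.assoc,
    IsAffineOpen.map_fromSpec]

end

theorem dense_basicOpen_of_forall_minimalPrimes {A : Type u} [CommRing A] (a : A)
    (ha : ∀ p ∈ minimalPrimes A, a ∉ p) :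
    Dense ((PrimeSpectrum.basicOpen a : Opens (PrimeSpectrum A)) : Set (PrimeSpectrum A)) := by
  intro p
  obtain ⟨p₀, hp₀, hle⟩ := Ideal.exists_minimalPrimes_le (bot_le : ⊥ ≤ p.asIdeal)
  have hsp : (⟨p₀, hp₀.1.1⟩ : PrimeSpectrum A) ⤳ p :=
    (PrimeSpectrum.le_iff_specializes _ _).mp hle
  have hmem : (⟨p₀, hp₀.1.1⟩ : PrimeSpectrum A) ∈
      ((PrimeSpectrum.basicOpen a : Opens (PrimeSpectrum A)) : Set (PrimeSpectrum A)) :=
    ha p₀ hp₀
  exact closure_mono (Set.singleton_subset_iff.mpr hmem) hsp.mem_closure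

theorem dense_basicOpen {X : Scheme.{u}} {U₁ : X.Opens} (hU₁ : IsAffineOpen U₁)
    (hd : Dense (U₁ : Set X)) (a : Γ(X, U₁)) (ha : ∀ p ∈ minimalPrimes Γ(X, U₁), a ∉ p) :
    Dense ((X.basicOpen a : X.Opens) : Set X) := by
  have h1 := dense_basicOpen_of_forall_minimalPrimes a ha
  have h2 : DenseRange hU₁.fromSpec := by
    rw [DenseRange, hU₁.range_fromSpec]; exact hd
  have h3 := h2.dense_image hU₁.fromSpec.continuous h1
  have h4 := hU₁.fromSpec_image_basicOpen a
  rw [← h4]
  exact h3


theorem main_sch (k : Type u) [Field k] {X : Scheme.{u}}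
    (f : X ⟶ Spec (CommRingCat.of k)) [LocallyOfFiniteType f] [QuasiCompact f] :
    ∃ (U : X.Opens) (_ : Dense (U : Set X)) (k' : Type u) (_ : Field k') (_ : Algebra k k')
      (_ : Module.Finite k k')
      (_ : IsPurelyInseparable k k') (Z : Scheme.{u}) (_ : IsReduced Z)
      (i : Z ⟶ pullback (U.ι ≫ f) (Spec.map (CommRingCat.ofHom (algebraMap k k')))),
      IsClosedImmersion i ∧ Function.Surjective i.base ∧
      Smooth (i ≫ pullback.snd (U.ι ≫ f) (Spec.map (CommRingCat.ofHom (algebraMap k k')))) := by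
  haveI : IsNoetherian X := isNoetherian_of_lft_qc k f
  obtain ⟨U₁, hU₁, hd₁⟩ := exists_dense_isAffineOpen X
  letI algA : Algebra k Γ(X, U₁) := (secMap f hU₁).hom.toAlgebra
  haveI : Algebra.FiniteType k Γ(X, U₁) := by
    have : LocallyOfFiniteType (hU₁.fromSpec ≫ f) := inferInstance
    rw [← Spec_map_secMap, HasRingHomProperty.Spec_iff (P := @LocallyOfFiniteType)] at this
    exact this
  obtain ⟨a, k', hF, hA, hfin, hpi, ha, H⟩ := SmoothInsep.main k Γ(X, U₁)
  have hU := hU₁.basicOpen a
  letI algR : Algebra k Γ(X, X.basicOpen a) := (secMap f hU).hom.toAlgebra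
  haveI : IsScalarTower k Γ(X, U₁) Γ(X, X.basicOpen a) := IsScalarTower.of_algebraMap_eq' (by
    show (secMap f hU).hom = (X.presheaf.map _).hom.comp (secMap f hU₁).hom
    rw [← secMap_comp_res f hU₁ hU (X.basicOpen_le a)]; rfl)
  haveI := hU₁.isLocalization_basicOpen a
  obtain ⟨C, hC, hAC, q, hq, hker, hred, hsm⟩ := H Γ(X, X.basicOpen a)
  obtain ⟨Z, hZ, i, h1, h2, h3⟩ := lemmaB q hq hker ((X.basicOpen a).ι ≫ f) hU.isoSpec (by
    have : Spec.map (CommRingCat.ofHom (algebraMap k Γ(X, X.basicOpen a))) =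
        hU.fromSpec ≫ f := Spec_map_secMap f hU
    rw [this, ← Category.assoc, hU.isoSpec_hom_fromSpec])
  exact ⟨X.basicOpen a, dense_basicOpen hU₁ hd₁ a ha, k', hF, hA, hfin, hpi, Z, hZ, i, h1, h2, h3⟩

end Groth.Agent.Lib.Helper14.SmoothInsepSch
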