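import Groth.Prelude.Def_EGA4b
import Mathlib

/-!
# Basic permanence of `EGA4.IsNormalRing`

* `isNormalRing_of_ringEquiv`: normality is invariant under ring isomorphism.
* `isNormalRing_of_isLocalization`: a localization of a normal ring is normal.
-/

set_option autoImplicit false
universe u

namespace Groth.Agent.Lib.Helper14

theorem isNormalRing_of_isLocalization {R : Type u} [CommRing R] (M : Submonoid R)
    (R' : Type u) [CommRing R'] [Algebra R R'] [IsLocalization M R']
    (h : EGA4.IsNormalRing R) : EGA4.IsNormalRing R' := by
  intro p' hp'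
  obtain ⟨hd, hic⟩ := h (p'.comap (algebraMap R R'))
  haveI : IsLocalization.AtPrime (Localization.AtPrime p') (p'.comap (algebraMap R R')) :=
    IsLocalization.isLocalization_isLocalization_atPrime_isLocalization M _ p'
  let e : Localization.AtPrime (p'.comap (algebraMap R R')) ≃ₐ[R] Localization.AtPrime p' :=
    IsLocalization.algEquiv (p'.comap (algebraMap R R')).primeCompl _ _
  exact ⟨e.symm.toRingEquiv.toMulEquiv.isDomain _, IsIntegrallyClosed.of_equiv e.toRingEquiv⟩

theorem isNormalRing_of_ringEquiv {R R' : Type u} [CommRing R] [CommRing R'] (e : R ≃+* R')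
    (h : EGA4.IsNormalRing R) : EGA4.IsNormalRing R' := by
  letI : Algebra R R' := e.toRingHom.toAlgebra
  haveI : IsLocalization (⊥ : Submonoid R) R' := by
    apply IsLocalization.of_le_isUnit_of_bijective
    · rintro _ ⟨x, hx, rfl⟩
      rw [SetLike.mem_coe, Submonoid.mem_bot] at hx
      rw [hx, map_one]
      exact isUnit_one
    · exact e.bijective
  exact isNormalRing_of_isLocalization (⊥ : Submonoid R) R' h

end Groth.Agent.Lib.Helper14
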