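import Mathlib
import Groth.Prelude.Def_EGA4b
import Groth.Agent.Lib.Helper8.NormalSmooth
import Groth.Agent.Lib.Helper14.NormalRing

/-!
# Normality ascends along smooth ring maps and descends along faithfully flat ring maps

* `mvPolynomial_fin_isIntegrallyClosed`: `R[x₁..xₙ]` is integrally closed if `R` is.
* `isNormalRing_of_smooth_of_isIntegrallyClosed`: smooth over a normal domain is normal.
* `isNormalRing_of_smooth`: smooth over a normal ring is normal.
* `isDomain_isIntegrallyClosed_of_faithfullyFlat`, `isNormalRing_of_faithfullyFlat`: descent.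
-/

set_option autoImplicit false
universe u
open TensorProduct
namespace Groth.Agent.Lib.Helper14.NormalSmoothAsc

theorem mvPolynomial_fin_isIntegrallyClosed (R : Type u) [CommRing R] [IsDomain R]
    [IsIntegrallyClosed R] : ∀ n : ℕ, IsIntegrallyClosed (MvPolynomial (Fin n) R)
  | 0 => IsIntegrallyClosed.of_equiv (MvPolynomial.isEmptyAlgEquiv R (Fin 0)).symm.toRingEquiv
  | n + 1 => by
    haveI := mvPolynomial_fin_isIntegrallyClosed R n
    exact IsIntegrallyClosed.of_equiv (MvPolynomial.finSuccEquiv R n).symm.toRingEquiv

/-- normality at a prime: the local ring is an integrally closed domain. -/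
def NormalAt {E : Type u} [CommRing E] (q : Ideal E) [q.IsPrime] : Prop :=
  IsDomain (Localization.AtPrime q) ∧ IsIntegrallyClosed (Localization.AtPrime q)

theorem normalAt_congr {E : Type u} [CommRing E] {q₁ q₂ : Ideal E} [h1 : q₁.IsPrime]
    [h2 : q₂.IsPrime] (h : q₁ = q₂) (H : NormalAt q₁) : NormalAt q₂ := by
  subst h; exact H

/-- Normality at a prime of a localization descends to the contracted prime. -/
theorem normalAt_comap_of_isLocalization {E : Type u} [CommRing E] (M : Submonoid E)
    (S : Type u) [CommRing S] [Algebra E S] [IsLocalization M S] (q' : Ideal S) [q'.IsPrime]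
    (H : NormalAt q') : NormalAt (q'.comap (algebraMap E S)) := by
  obtain ⟨hd, hic⟩ := H
  haveI : IsLocalization.AtPrime (Localization.AtPrime q') (q'.comap (algebraMap E S)) :=
    IsLocalization.isLocalization_isLocalization_atPrime_isLocalization M _ q'
  let e : Localization.AtPrime (q'.comap (algebraMap E S)) ≃ₐ[E] Localization.AtPrime q' :=
    IsLocalization.algEquiv (q'.comap (algebraMap E S)).primeCompl _ _
  exact ⟨e.toRingEquiv.toMulEquiv.isDomain _, IsIntegrallyClosed.of_equiv e.symm.toRingEquiv⟩

/-- Claim 1: a smooth algebra over a normal domain is a normal ring. -/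
theorem isNormalRing_of_smooth_of_isIntegrallyClosed (R : Type u) [CommRing R] [IsDomain R]
    [IsIntegrallyClosed R] (E : Type u) [CommRing E] [Algebra R E] [Algebra.Smooth R E] :
    EGA4.IsNormalRing E := by
  intro q hq
  obtain ⟨f, hfq, n, alg, tower, hse⟩ :=
    Algebra.IsSmoothAt.exists_isStandardEtale_mvPolynomial (R := R) (S := E) (p := q)
  haveI := mvPolynomial_fin_isIntegrallyClosed R n
  have hdisj : Disjoint (Submonoid.powers f : Set E) (q : Set E) :=
    (Ideal.disjoint_powers_iff_notMem_of_isPrime _).mpr hfq
  haveI hq' : (Ideal.map (algebraMap E (Localization.Away f)) q).IsPrime :=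
    IsLocalization.isPrime_of_isPrime_disjoint (.powers f) _ _ hq hdisj
  have hcomap : (Ideal.map (algebraMap E (Localization.Away f)) q).comap
      (algebraMap E (Localization.Away f)) = q :=
    IsLocalization.comap_map_of_isPrime_disjoint (.powers f) _ hq hdisj
  have H : NormalAt (Ideal.map (algebraMap E (Localization.Away f)) q) :=
    Groth.Agent.Lib.Helper8.NormalSmooth.isDomain_isIntegrallyClosed_of_etale
      (MvPolynomial (Fin n) R) (Localization.Away f)
      (Ideal.map (algebraMap E (Localization.Away f)) q)
  exact normalAt_congr hcomap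
    (normalAt_comap_of_isLocalization (Submonoid.powers f) (Localization.Away f) _ H)

/-- Claim 2: a smooth algebra over a normal ring is a normal ring. -/
theorem isNormalRing_of_smooth (A B : Type u) [CommRing A] [CommRing B] [Algebra A B]
    [Algebra.Smooth A B] (hA : EGA4.IsNormalRing A) : EGA4.IsNormalRing B := by
  intro q hq
  haveI hp : (q.comap (algebraMap A B)).IsPrime := Ideal.comap_isPrime _ _
  obtain ⟨hd, hic⟩ := hA (q.comap (algebraMap A B))
  have hE : EGA4.IsNormalRing (Localization.AtPrime (q.comap (algebraMap A B)) ⊗[A] B) :=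
    isNormalRing_of_smooth_of_isIntegrallyClosed (Localization.AtPrime (q.comap (algebraMap A B))) _
  letI : Algebra B (Localization.AtPrime (q.comap (algebraMap A B)) ⊗[A] B) :=
    Algebra.TensorProduct.rightAlgebra
  haveI : IsLocalization (Algebra.algebraMapSubmonoid B (q.comap (algebraMap A B)).primeCompl)
      (Localization.AtPrime (q.comap (algebraMap A B)) ⊗[A] B) :=
    IsLocalization.tensorRight _ (q.comap (algebraMap A B)).primeCompl
  have hdisj : Disjoint
      (Algebra.algebraMapSubmonoid B (q.comap (algebraMap A B)).primeCompl : Set B) (q : Set B) := by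
    rw [Set.disjoint_left]
    rintro _ ⟨a, ha, rfl⟩ hx
    exact ha hx
  haveI hq' : (q.map (algebraMap B
      (Localization.AtPrime (q.comap (algebraMap A B)) ⊗[A] B))).IsPrime :=
    IsLocalization.isPrime_of_isPrime_disjoint _ _ _ hq hdisj
  have hcomap := IsLocalization.comap_map_of_isPrime_disjoint
    (Algebra.algebraMapSubmonoid B (q.comap (algebraMap A B)).primeCompl)
    (Localization.AtPrime (q.comap (algebraMap A B)) ⊗[A] B) hq hdisj
  exact normalAt_congr hcomap (normalAt_comap_of_isLocalization
    (Algebra.algebraMapSubmonoid B (q.comap (algebraMap A B)).primeCompl)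
    (Localization.AtPrime (q.comap (algebraMap A B)) ⊗[A] B) _ (hE _))

/-- Faithfully flat descent of "integrally closed domain". -/
theorem isDomain_isIntegrallyClosed_of_faithfullyFlat (R S : Type u) [CommRing R] [CommRing S]
    [Algebra R S] [Module.FaithfullyFlat R S] [IsDomain S] [IsIntegrallyClosed S] :
    IsDomain R ∧ IsIntegrallyClosed R := by
  have hinj : Function.Injective (algebraMap R S) := FaithfulSMul.algebraMap_injective R S
  haveI hdom : IsDomain R := hinj.isDomain (algebraMap R S)
  refine ⟨hdom, ?_⟩
  rw [isIntegrallyClosed_iff (FractionRing R)]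
  intro x hx
  have hinjL : Function.Injective (algebraMap R (FractionRing S)) := by
    rw [IsScalarTower.algebraMap_eq R S (FractionRing S)]
    exact (IsFractionRing.injective S (FractionRing S)).comp hinj
  have hinjL' : Function.Injective (Algebra.ofId R (FractionRing S)) := hinjL
  let ψ : FractionRing R →ₐ[R] FractionRing S := IsFractionRing.liftAlgHom hinjL'
  have h1 : IsIntegral S (ψ x) := (hx.map ψ).tower_top
  obtain ⟨c, hc⟩ := (isIntegrallyClosed_iff (FractionRing S)).mp inferInstance h1
  obtain ⟨a, b, hb, rfl⟩ := IsFractionRing.div_surjective (A := R) x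
  have hb0 : b ≠ 0 := nonZeroDivisors.ne_zero hb
  have hbL : algebraMap R (FractionRing S) b ≠ 0 := fun h => hb0 (hinjL (by rw [h, map_zero]))
  have h2 : algebraMap R S a = algebraMap R S b * c := by
    apply IsFractionRing.injective S (FractionRing S)
    rw [map_mul, hc, map_div₀, AlgHom.commutes, AlgHom.commutes,
      ← IsScalarTower.algebraMap_apply, ← IsScalarTower.algebraMap_apply]
    field_simp
  have h3 : a ∈ (Ideal.span {b} : Ideal R) := by
    rw [← Ideal.comap_map_eq_self_of_faithfullyFlat (B := S) (Ideal.span {b}), Ideal.mem_comap,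
      Ideal.map_span, Set.image_singleton, h2]
    exact Ideal.mul_mem_right _ _ (Ideal.subset_span rfl)
  obtain ⟨y, rfl⟩ := Ideal.mem_span_singleton'.mp h3
  refine ⟨y, ?_⟩
  have hbK : algebraMap R (FractionRing R) b ≠ 0 :=
    fun h => hb0 (IsFractionRing.injective R (FractionRing R) (by rw [h, map_zero]))
  rw [map_mul]
  field_simp

/-- Faithfully flat descent of normality. -/
theorem isNormalRing_of_faithfullyFlat (A B : Type u) [CommRing A] [CommRing B] [Algebra A B]
    [Module.FaithfullyFlat A B] (hB : EGA4.IsNormalRing B) : EGA4.IsNormalRing A := by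
  intro p hp
  obtain ⟨q, hq, hqp⟩ := Ideal.exists_isPrime_liesOver_of_faithfullyFlat (B := B) p
  obtain ⟨hd, hic⟩ := hB q
  have hpq : p = q.comap (algebraMap A B) := hqp.over
  have hflat : (Localization.localRingHom p q (algebraMap A B) hpq).Flat :=
    RingHom.Flat.localRingHom (f := algebraMap A B)
      ((RingHom.flat_algebraMap_iff).mpr inferInstance) q p hpq
  letI : Algebra (Localization.AtPrime p) (Localization.AtPrime q) :=
    (Localization.localRingHom p q (algebraMap A B) hpq).toAlgebra
  haveI : Module.Flat (Localization.AtPrime p) (Localization.AtPrime q) := hflat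
  haveI : IsLocalHom (algebraMap (Localization.AtPrime p) (Localization.AtPrime q)) :=
    Localization.isLocalHom_localRingHom p q (algebraMap A B) hpq
  haveI : Module.FaithfullyFlat (Localization.AtPrime p) (Localization.AtPrime q) :=
    Module.FaithfullyFlat.of_flat_of_isLocalHom
  exact isDomain_isIntegrallyClosed_of_faithfullyFlat (Localization.AtPrime p)
    (Localization.AtPrime q)

end Groth.Agent.Lib.Helper14.NormalSmoothAsc
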