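import Mathlib

/-!
# Locally nilpotent ideals: lifting surjectivity

Helper lemmas (helper14).
-/

set_option autoImplicit false
universe u

namespace Groth.Agent.Lib.Helper14

/-- An element of the extension `I S'` of an ideal `I` lies in the extension of a finitely generated
subideal of `I`. -/
theorem exists_fg_le_mem_map {R S' : Type*} [CommRing R] [CommRing S'] [Algebra R S']
    (I : Ideal R) (x : S') (hx : x ∈ I.map (algebraMap R S')) :
    ∃ I' : Ideal R, I' ≤ I ∧ I'.FG ∧ x ∈ I'.map (algebraMap R S') := by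
  unfold Ideal.map at hx
  induction hx using Submodule.span_induction with
  | mem x hx =>
    obtain ⟨a, ha, rfl⟩ := hx
    refine ⟨Ideal.span {a}, (Ideal.span_singleton_le_iff_mem I).mpr ha, ⟨{a}, by simp⟩, ?_⟩
    exact Ideal.mem_map_of_mem _ (Ideal.subset_span (Set.mem_singleton a))
  | zero => exact ⟨⊥, bot_le, Submodule.fg_bot, zero_mem _⟩
  | add x y _ _ hx hy =>
    obtain ⟨I₁, h₁, f₁, m₁⟩ := hx
    obtain ⟨I₂, h₂, f₂, m₂⟩ := hy
    exact ⟨I₁ ⊔ I₂, sup_le h₁ h₂, Submodule.FG.sup f₁ f₂,
      add_mem (Ideal.map_mono le_sup_left m₁) (Ideal.map_mono le_sup_right m₂)⟩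
  | smul a x _ hx =>
    obtain ⟨I₁, h₁, f₁, m₁⟩ := hx
    exact ⟨I₁, h₁, f₁, Ideal.mul_mem_left _ _ m₁⟩

/-- Finitely many elements of `I S'` lie in the extension of a single finitely generated subideal. -/
theorem exists_fg_le_forall_mem_map {R S' : Type*} [CommRing R] [CommRing S'] [Algebra R S']
    (I : Ideal R) (G : Finset S') (hG : ∀ x ∈ G, x ∈ I.map (algebraMap R S')) :
    ∃ I' : Ideal R, I' ≤ I ∧ I'.FG ∧ ∀ x ∈ G, x ∈ I'.map (algebraMap R S') := by
  classical
  induction G using Finset.induction_on with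
  | empty => exact ⟨⊥, bot_le, Submodule.fg_bot, by simp⟩
  | insert a s ha ih =>
    obtain ⟨I₁, h₁, f₁, m₁⟩ := ih (fun x hx => hG x (Finset.mem_insert_of_mem hx))
    obtain ⟨I₂, h₂, f₂, m₂⟩ := exists_fg_le_mem_map I a (hG a (Finset.mem_insert_self a s))
    refine ⟨I₁ ⊔ I₂, sup_le h₁ h₂, Submodule.FG.sup f₁ f₂, ?_⟩
    intro x hx
    rcases Finset.mem_insert.mp hx with rfl | hx
    · exact Ideal.map_mono le_sup_right m₂
    · exact Ideal.map_mono le_sup_left (m₁ x hx)

/-- Let `I` be a locally nilpotent ideal of `R` and `f : S → S'` a map of `R`-algebras with `S'` of finite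
type. If `S → S'/IS'` is surjective then so is `f`. -/
theorem surjective_of_surjective_mod_locally_nilpotent (R S S' : Type*) [CommRing R] [CommRing S]
    [CommRing S'] [Algebra R S] [Algebra R S'] [Algebra.FiniteType R S'] (I : Ideal R)
    (hI : ∀ x ∈ I, IsNilpotent x) (f : S →ₐ[R] S')
    (hf : Function.Surjective ((Ideal.Quotient.mk (I.map (algebraMap R S'))).comp f.toRingHom)) :
    Function.Surjective f := by
  classical
  obtain ⟨G, hG⟩ := (Algebra.FiniteType.out : (⊤ : Subalgebra R S').FG)
  -- choose preimages of the generators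
  have h1 : ∀ g : S', ∃ s : S, g - f s ∈ I.map (algebraMap R S') := by
    intro g
    obtain ⟨s, hs⟩ := hf (Ideal.Quotient.mk _ g)
    refine ⟨s, ?_⟩
    rw [← Ideal.Quotient.eq]
    exact hs.symm
  choose σ hσ using h1
  obtain ⟨I', hI'I, hI'fg, hI'⟩ := exists_fg_le_forall_mem_map I (G.image fun g => g - f (σ g))
    (by
      intro x hx
      obtain ⟨g, -, rfl⟩ := Finset.mem_image.mp hx
      exact hσ g)
  have hnil : IsNilpotent I' :=
    hI'fg.isNilpotent_iff_le_nilradical.mpr (fun x hx => hI x (hI'I hx))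
  obtain ⟨n, hn⟩ := hnil
  -- the subalgebra `f.range + I' S'`
  let π : S' →ₐ[R] S' ⧸ I'.map (algebraMap R S') := Ideal.Quotient.mkₐ R _
  let U : Subalgebra R S' := (f.range.map π).comap π
  have hU : U = ⊤ := by
    rw [eq_top_iff, ← hG, Algebra.adjoin_le_iff]
    intro g hg
    change π g ∈ f.range.map π
    refine ⟨f (σ g), ⟨σ g, rfl⟩, ?_⟩
    change Ideal.Quotient.mk _ (f (σ g)) = Ideal.Quotient.mk _ g
    rw [eq_comm, Ideal.Quotient.eq]
    exact hI' _ (Finset.mem_image_of_mem _ hg)
  let N : Submodule R S' := Subalgebra.toSubmodule f.range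
  have hstep1 : (⊤ : Submodule R S') ≤ N ⊔ I' • ⊤ := by
    intro x _
    have hx : x ∈ U := hU ▸ Algebra.mem_top
    obtain ⟨t, ht, htx⟩ := hx
    have : x - t ∈ I'.map (algebraMap R S') := by
      rw [← Ideal.Quotient.eq]
      exact htx.symm
    have h2 : x - t ∈ I' • (⊤ : Submodule R S') := by
      rw [Ideal.smul_top_eq_map]
      exact this
    have : x = t + (x - t) := by ring
    rw [this]
    exact Submodule.add_mem_sup ht h2
  have hstep : ∀ k : ℕ, (⊤ : Submodule R S') ≤ N ⊔ (I' ^ k) • ⊤ := by
    intro k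
    induction k with
    | zero => rw [pow_zero, Ideal.one_eq_top, Submodule.top_smul]; exact le_sup_right
    | succ k ih =>
      calc (⊤ : Submodule R S') ≤ N ⊔ (I' ^ k) • ⊤ := ih
        _ ≤ N ⊔ (I' ^ k) • (N ⊔ I' • ⊤) := by
            gcongr
        _ = N ⊔ ((I' ^ k) • N ⊔ (I' ^ k) • I' • ⊤) := by rw [Submodule.smul_sup]
        _ ≤ N ⊔ (N ⊔ (I' ^ (k + 1)) • ⊤) := by
            gcongr
            · exact Submodule.smul_le_right
            · rw [← Submodule.smul_assoc, smul_eq_mul, ← pow_succ]
        _ = N ⊔ (I' ^ (k + 1)) • ⊤ := by rw [← sup_assoc, sup_idem]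
  have hN : (⊤ : Submodule R S') ≤ N := by
    have := hstep n
    rw [hn, Ideal.zero_eq_bot, Submodule.bot_smul, sup_bot_eq] at this
    exact this
  intro x
  have hx : x ∈ N := hN Submodule.mem_top
  exact hx


/-- If `f : M → N` is a surjective linear map onto a flat module, then `I M ∩ ker f ≤ I (ker f)`
(vanishing of `Tor₁(R/I, N)`, proved via the equational criterion of flatness). -/
theorem smul_top_inf_ker_le_smul_ker_of_flat {R M N : Type*} [CommRing R] [AddCommGroup M]
    [Module R M] [AddCommGroup N] [Module R N] [Module.Flat R N] (f : M →ₗ[R] N)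
    (hf : Function.Surjective f) (I : Ideal R) :
    I • (⊤ : Submodule R M) ⊓ LinearMap.ker f ≤ I • LinearMap.ker f := by
  classical
  rintro x ⟨hx1, hx2⟩
  have hx1' : x ∈ I • Submodule.span R (Set.range (id : M → M)) := by
    simpa using hx1
  obtain ⟨a, ha, rfl⟩ := (Submodule.mem_ideal_smul_span_iff_exists_sum I id x).mp hx1'
  have hx2' : ∑ m : a.support, a m • f m = 0 := by
    have : f (a.sum fun i c => c • id i) = 0 := hx2
    rw [Finsupp.sum, map_sum] at this
    rw [← this, ← Finset.sum_coe_sort a.support]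
    simp
  obtain ⟨k, b, y, hy, hb⟩ := Module.Flat.isTrivialRelation_of_sum_smul_eq_zero hx2'
  choose t ht using fun j => hf (y j)
  have key : (a.sum fun i c => c • id i) =
      ∑ m : a.support, a m • ((m : M) - ∑ j, b m j • t j) := by
    rw [Finsupp.sum, ← Finset.sum_coe_sort a.support]
    simp only [id, smul_sub, Finset.sum_sub_distrib]
    have : ∑ m : a.support, a m • ∑ j, b m j • t j = 0 := by
      simp only [Finset.smul_sum, smul_smul]
      rw [Finset.sum_comm]
      refine Finset.sum_eq_zero fun j _ => ?_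
      rw [← Finset.sum_smul, hb j, zero_smul]
    rw [this, sub_zero]
  rw [key]
  refine Submodule.sum_mem _ fun m _ => Submodule.smul_mem_smul (ha m) ?_
  have hym : f (m : M) = ∑ j, b m j • y j := hy m
  rw [LinearMap.mem_ker, map_sub, map_sum, hym, sub_eq_zero]
  simp [ht]

/-- Let `I` be a locally nilpotent ideal of `R` and `f : S → S'` a map of `R`-algebras with `S` of finite
type and `S'` flat of finite presentation. If `S/IS → S'/IS'` is bijective, then `f` is bijective. -/
theorem bijective_of_bijective_mod_locally_nilpotent_of_flat (R S S' : Type*)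
    [CommRing R] [CommRing S] [CommRing S'] [Algebra R S] [Algebra R S'] [Algebra.FiniteType R S]
    [Algebra.FinitePresentation R S'] [Module.Flat R S'] (I : Ideal R) (hI : ∀ x ∈ I, IsNilpotent x)
    (f : S →ₐ[R] S')
    (hsurj : Function.Surjective ((Ideal.Quotient.mk (I.map (algebraMap R S'))).comp f.toRingHom))
    (hker : ∀ s : S, f s ∈ I.map (algebraMap R S') → s ∈ I.map (algebraMap R S)) :
    Function.Bijective f := by
  have hf : Function.Surjective f :=
    surjective_of_surjective_mod_locally_nilpotent R S S' I hI f hsurj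
  refine ⟨?_, hf⟩
  -- the kernel is finitely generated
  have hKfg : (RingHom.ker f.toRingHom).FG := by
    obtain ⟨n, g, hg⟩ := Algebra.FiniteType.iff_quotient_mvPolynomial''.mp
      (inferInstance : Algebra.FiniteType R S)
    have := (Algebra.FinitePresentation.ker_fg_of_mvPolynomial (f.comp g) (hf.comp hg)).map
      g.toRingHom
    convert this
    simp_rw [RingHom.ker_eq_comap_bot, AlgHom.toRingHom_eq_coe, AlgHom.comp_toRingHom]
    rw [← Ideal.comap_comap, Ideal.map_comap_of_surjective (g : MvPolynomial (Fin n) R →+* S) hg]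
  set K : Ideal S := RingHom.ker f.toRingHom with hK
  -- `K ≤ (I S) K`
  have h1 : K ≤ (I.map (algebraMap R S)) • K := by
    have h2 := smul_top_inf_ker_le_smul_ker_of_flat f.toLinearMap hf I
    intro x hx
    have hx0 : f x = 0 := hx
    have hx1 : x ∈ I • (⊤ : Submodule R S) := by
      rw [Ideal.smul_top_eq_map]
      exact hker x (by rw [hx0]; exact zero_mem _)
    have hx2 : x ∈ I • LinearMap.ker f.toLinearMap := h2 ⟨hx1, hx0⟩
    have hKr : LinearMap.ker f.toLinearMap = K.restrictScalars R := by
      ext y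
      simp [hK, RingHom.mem_ker]
    rw [hKr, ← Ideal.smul_restrictScalars] at hx2
    exact hx2
  have h3 : I.map (algebraMap R S) ≤ (⊥ : Ideal S).jacobson := by
    rw [Ideal.jacobson_bot]
    refine le_trans ?_ (nilradical_le_jacobson S)
    rw [Ideal.map_le_iff_le_comap]
    intro x hx
    exact (hI x hx).map (algebraMap R S)
  have hK0 : K = ⊥ := Submodule.eq_bot_of_le_smul_of_le_jacobson_bot _ K hKfg h1 h3
  rw [injective_iff_map_eq_zero]
  intro x hx
  have : x ∈ K := hx
  rw [hK0] at this
  exact this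

end Groth.Agent.Lib.Helper14
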