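import Mathlib

/-!
# Long exact homology sequence of a mapping cone (extracted from the triangulated API)
-/

set_option autoImplicit false

universe u v

open CategoryTheory CategoryTheory.Limits CochainComplex HomComplex Pretriangulated

namespace Groth.Agent.Lib.Helper14.ConeLES

variable {C : Type u} [Category.{v} C] [Abelian C]

variable {K L : CochainComplex C ℤ} (φ : K ⟶ L)

lemma homologyMap_comp_inr (n : ℤ) :
    HomologicalComplex.homologyMap φ n ≫ HomologicalComplex.homologyMap (mappingCone.inr φ) n =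
      0 := by
  rw [← HomologicalComplex.homologyMap_comp]
  have h : Homotopy (φ ≫ mappingCone.inr φ) 0 :=
    HomologicalComplex.homotopyCofiber.inrCompHomotopy φ (fun j => ⟨j - 1, by simp⟩)
  rw [h.homologyMap_eq, HomologicalComplex.homologyMap_zero]

/-- Exactness of `H^n(K) ⟶ H^n(L) ⟶ H^n(cone φ)`. -/
theorem exact₂ (n : ℤ) :
    (ShortComplex.mk (HomologicalComplex.homologyMap φ n)
      (HomologicalComplex.homologyMap (mappingCone.inr φ) n) (homologyMap_comp_inr φ n)).Exact := by
  have hT := HomotopyCategory.mappingCone_triangleh_distinguished φ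
  have h := (HomotopyCategory.homologyFunctor C (ComplexShape.up ℤ) n).map_distinguished_exact _ hT
  refine ShortComplex.exact_of_iso ?_ h
  exact ShortComplex.isoMk
    ((HomotopyCategory.homologyFunctorFactors C (ComplexShape.up ℤ) n).app K)
    ((HomotopyCategory.homologyFunctorFactors C (ComplexShape.up ℤ) n).app L)
    ((HomotopyCategory.homologyFunctorFactors C (ComplexShape.up ℤ) n).app (mappingCone φ))
    ((HomotopyCategory.homologyFunctorFactors C (ComplexShape.up ℤ) n).hom.naturality φ).symm
    ((HomotopyCategory.homologyFunctorFactors C (ComplexShape.up ℤ) n).hom.naturality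
      (mappingCone.inr φ)).symm

/-- If `H^{n+1}(K) = 0` then `H^n(L) ⟶ H^n(cone φ)` is an epimorphism. -/
theorem epi_homologyMap_inr (n₀ n₁ : ℤ) (h : n₀ + 1 = n₁) (hK : IsZero (K.homology n₁)) :
    Epi (HomologicalComplex.homologyMap (mappingCone.inr φ) n₀) := by
  have hT := HomotopyCategory.mappingCone_triangleh_distinguished φ
  set F := HomotopyCategory.homologyFunctor C (ComplexShape.up ℤ) 0 with hF
  have h1 : Epi ((F.shift n₀).map (mappingCone.triangleh φ).mor₂) := by
    rw [F.homologySequence_epi_shift_map_mor₂_iff _ hT n₀ n₁ h]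
    apply IsZero.eq_of_tgt
    exact IsZero.of_iso hK
      ((HomotopyCategory.homologyFunctorFactors C (ComplexShape.up ℤ) n₁).app K)
  let eL := (HomotopyCategory.homologyFunctorFactors C (ComplexShape.up ℤ) n₀).app L
  let eC := (HomotopyCategory.homologyFunctorFactors C (ComplexShape.up ℤ) n₀).app (mappingCone φ)
  have h3 : (F.shift n₀).map (mappingCone.triangleh φ).mor₂ ≫ eC.hom =
      eL.hom ≫ HomologicalComplex.homologyMap (mappingCone.inr φ) n₀ :=
    (HomotopyCategory.homologyFunctorFactors C (ComplexShape.up ℤ) n₀).hom.naturality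
      (mappingCone.inr φ)
  have h4 : Epi (eL.hom ≫ HomologicalComplex.homologyMap (mappingCone.inr φ) n₀) := by
    rw [← h3]
    exact @epi_comp _ _ _ _ _ _ h1 _ inferInstance
  exact (epi_comp_iff_of_epi eL.hom _).mp h4

/-- If `φ` induces zero on `H^{n+1}` and `H^{n+1}(K) ≠ 0`, then `H^n(cone φ) ≠ 0`. -/
theorem not_isZero_cone_of_homologyMap_eq_zero (n₀ n₁ : ℤ) (h : n₀ + 1 = n₁)
    (hφ : HomologicalComplex.homologyMap φ n₁ = 0) (hK : ¬ IsZero (K.homology n₁)) :
    ¬ IsZero ((mappingCone φ).homology n₀) := by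
  have hT := HomotopyCategory.mappingCone_triangleh_distinguished φ
  set F := HomotopyCategory.homologyFunctor C (ComplexShape.up ℤ) 0 with hF
  let eK := (HomotopyCategory.homologyFunctorFactors C (ComplexShape.up ℤ) n₁).app K
  let eL := (HomotopyCategory.homologyFunctorFactors C (ComplexShape.up ℤ) n₁).app L
  let eC := (HomotopyCategory.homologyFunctorFactors C (ComplexShape.up ℤ) n₀).app (mappingCone φ)
  have h3 : (F.shift n₁).map (mappingCone.triangleh φ).mor₁ ≫ eL.hom =
      eK.hom ≫ HomologicalComplex.homologyMap φ n₁ :=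
    (HomotopyCategory.homologyFunctorFactors C (ComplexShape.up ℤ) n₁).hom.naturality φ
  have h5 : (F.shift n₁).map (mappingCone.triangleh φ).mor₁ ≫ eL.hom = 0 :=
    h3.trans (by rw [hφ]; exact comp_zero)
  have h4 : (F.shift n₁).map (mappingCone.triangleh φ).mor₁ = 0 := by
    have h6 := congrArg (· ≫ eL.inv) h5
    simpa using h6
  have ex1 := F.homologySequence_exact₁ _ hT n₀ n₁ h
  have hepi : Epi (F.homologySequenceδ (mappingCone.triangleh φ) n₀ n₁ h) :=
    ex1.epi_f_iff.mpr h4
  intro hz
  apply hK
  have hz' : IsZero ((F.shift n₀).obj (mappingCone.triangleh φ).obj₃) := IsZero.of_iso hz eC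
  have hz'' : IsZero ((F.shift n₁).obj (mappingCone.triangleh φ).obj₁) :=
    @IsZero.of_epi _ _ _ _ _ (F.homologySequenceδ (mappingCone.triangleh φ) n₀ n₁ h) hepi hz'
  exact IsZero.of_iso hz'' eK.symm

end Groth.Agent.Lib.Helper14.ConeLES
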