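import Groth.Agent.Lib.Helper14.KoszulFun
import Groth.Agent.Lib.Helper14.ConeLES

/-!
# Top Koszul cohomology is `M / I M`
-/

set_option autoImplicit false

universe u

open CategoryTheory CategoryTheory.Limits CochainComplex HomComplex

namespace Groth.Agent.Lib.Helper14.KoszulFun

variable {A : Type u} [CommRing A]

open CohIII RingTheory.Sequence Pointwise

set_option backward.isDefEq.respectTransparency false in
lemma homologyMap_smul {K L : CochainComplex (ModuleCat.{u} A) ℤ} (a : A) (φ : K ⟶ L) (i : ℤ) :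
    HomologicalComplex.homologyMap (a • φ) i = a • HomologicalComplex.homologyMap φ i := by
  dsimp [HomologicalComplex.homologyMap]
  rw [← ShortComplex.homologyMap_smul]
  rfl

/-- The Koszul complex vanishes in positive degrees. -/
lemma isZero_koszulCx_X_pos (M : ModuleCat.{u} A) :
    ∀ (xs : List A) (n : ℤ), 0 < n → IsZero ((koszulCx M xs).X n)
  | [], n, hn => HomologicalComplex.isZero_single_obj_X _ _ _ _ (ne_of_gt hn)
  | x :: xs, n, hn => by
    rw [show koszulCx M (x :: xs) = mappingCone (x • 𝟙 (koszulCx M xs)) from rfl,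
      mappingCone.isZero_X_iff]
    exact ⟨isZero_koszulCx_X_pos M xs (n + 1) (by omega), isZero_koszulCx_X_pos M xs n hn⟩

lemma isZero_homology_of_isZero_X (K : CochainComplex (ModuleCat.{u} A) ℤ) (n : ℤ)
    (h : IsZero (K.X n)) : IsZero (K.homology n) := by
  rw [← HomologicalComplex.exactAt_iff_isZero_homology]
  exact ShortComplex.exact_of_isZero_X₂ _ h

/-- Cokernel description: if `X --x•--> X --g--> Y` is exact with `g` surjective then
`Y ≃ X / xX`. -/
noncomputable def quotSMulTopEquivOfExact {X Y : Type u} [AddCommGroup X] [Module A X]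
    [AddCommGroup Y] [Module A Y] (x : A) (g : X →ₗ[A] Y) (hg : Function.Surjective g)
    (hex : ∀ z, g z = 0 ↔ ∃ w, x • w = z) : Y ≃ₗ[A] QuotSMulTop x X :=
  (g.quotKerEquivOfSurjective hg).symm ≪≫ₗ Submodule.quotEquivOfEq _ _ (by
    ext z
    rw [LinearMap.mem_ker, hex, Submodule.mem_smul_pointwise_iff_exists]
    simp)

/-- **Top Koszul cohomology.** -/
theorem nonempty_homology_zero_equiv (M : Type u) [AddCommGroup M] [Module A M] :
    ∀ xs : List A, Nonempty (((koszulCx (ModuleCat.of A M) xs).homology 0 : ModuleCat.{u} A) ≃ₗ[A]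
      (M ⧸ (Ideal.ofList xs • (⊤ : Submodule A M))))
  | [] => by
    have e1 := (HomologicalComplex.singleObjHomologySelfIso (ComplexShape.up ℤ) (0 : ℤ)
      (ModuleCat.of A M)).toLinearEquiv
    have h0 : (Ideal.ofList ([] : List A) • (⊤ : Submodule A M)) = ⊥ := by
      rw [Ideal.ofList_nil, Submodule.bot_smul]
    exact ⟨e1 ≪≫ₗ (Submodule.quotEquivOfEqBot _ h0).symm⟩
  | x :: xs => by
    obtain ⟨e⟩ := nonempty_homology_zero_equiv M xs
    set K := koszulCx (ModuleCat.of A M) xs with hK
    have hH1 : IsZero (K.homology 1) :=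
      isZero_homology_of_isZero_X K 1 (isZero_koszulCx_X_pos _ xs 1 one_pos)
    have hex := Groth.Agent.Lib.Helper14.ConeLES.exact₂ (x • 𝟙 K) 0
    have hepi := Groth.Agent.Lib.Helper14.ConeLES.epi_homologyMap_inr (x • 𝟙 K) 0 1 rfl hH1
    rw [ShortComplex.moduleCat_exact_iff] at hex
    rw [ModuleCat.epi_iff_surjective] at hepi
    have hsmul : ∀ w : K.homology 0,
        (HomologicalComplex.homologyMap (x • 𝟙 K) 0) w = x • w := by
      intro w
      rw [homologyMap_smul, HomologicalComplex.homologyMap_id]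
      rfl
    have e2 : ((mappingCone (x • 𝟙 K)).homology 0 : ModuleCat.{u} A) ≃ₗ[A]
        QuotSMulTop x (K.homology 0 : ModuleCat.{u} A) := by
      refine quotSMulTopEquivOfExact x
        (HomologicalComplex.homologyMap (mappingCone.inr (x • 𝟙 K)) 0).hom hepi ?_
      intro z
      constructor
      · intro hz
        obtain ⟨w, hw⟩ := hex z hz
        exact ⟨w, by rw [← hsmul]; exact hw⟩
      · rintro ⟨w, rfl⟩
        have := ConcreteCategory.congr_hom
          (Groth.Agent.Lib.Helper14.ConeLES.homologyMap_comp_inr (x • 𝟙 K) 0) w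
        rw [← hsmul]
        simpa using this
    exact ⟨e2 ≪≫ₗ QuotSMulTop.congr x e ≪≫ₗ
      (Submodule.quotOfListConsSMulTopEquivQuotSMulTopOuter M x xs).symm⟩

end Groth.Agent.Lib.Helper14.KoszulFun
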