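import Mathlib

set_option autoImplicit false
universe u

namespace Groth.Agent.Lib.Helper14.FiniteDomain

open TensorProduct


theorem exists_finite_domain (A : Type u) [CommRing A] (p : Ideal A) [p.IsPrime] (K : Type u)
    [Field K] [Algebra p.ResidueField K] [Module.Finite p.ResidueField K] [Algebra A K]
    [IsScalarTower A p.ResidueField K] :
    ∃ (B : Subalgebra A K), Module.Finite A B ∧ IsFractionRing B K := by
  classical
  letI : Algebra (A ⧸ p) K :=
    ((algebraMap p.ResidueField K).comp (algebraMap (A ⧸ p) p.ResidueField)).toAlgebra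
  haveI : IsScalarTower (A ⧸ p) p.ResidueField K := IsScalarTower.of_algebraMap_eq (fun _ => rfl)
  haveI : IsScalarTower A (A ⧸ p) K := IsScalarTower.of_algebraMap_eq (fun a => by
    rw [IsScalarTower.algebraMap_apply A p.ResidueField K,
      IsScalarTower.algebraMap_apply (A ⧸ p) p.ResidueField K,
      ← IsScalarTower.algebraMap_apply A (A ⧸ p) p.ResidueField])
  haveI : Algebra.IsAlgebraic (A ⧸ p) p.ResidueField :=
    IsLocalization.isAlgebraic p.ResidueField (nonZeroDivisors (A ⧸ p))
  haveI : Algebra.IsAlgebraic (A ⧸ p) K := Algebra.IsAlgebraic.trans (A ⧸ p) p.ResidueField K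
  let b := Module.finBasis p.ResidueField K
  obtain ⟨y, hy, hint⟩ := Algebra.IsAlgebraic.exists_integral_multiples (A ⧸ p)
    (Finset.univ.image b)
  obtain ⟨y0, rfl⟩ := Ideal.Quotient.mk_surjective y
  have hint' : ∀ i, IsIntegral A ((Ideal.Quotient.mk p y0) • b i) := by
    intro i
    have h1 := hint (b i) (Finset.mem_image_of_mem _ (Finset.mem_univ i))
    exact isIntegral_trans (R := A) (A := A ⧸ p) _ h1
  refine ⟨Algebra.adjoin A (Set.range (fun i => (Ideal.Quotient.mk p y0) • b i)), ?_, ?_⟩
  · have hfg := fg_adjoin_of_finite (R := A) (Set.finite_range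
      (fun i => (Ideal.Quotient.mk p y0) • b i)) (by
        rintro _ ⟨i, rfl⟩
        exact hint' i)
    exact Module.Finite.iff_fg.mpr hfg
  · set B := Algebra.adjoin A (Set.range (fun i => (Ideal.Quotient.mk p y0) • b i)) with hB
    haveI : FaithfulSMul B K := (faithfulSMul_iff_algebraMap_injective B K).mpr
      Subtype.val_injective
    haveI : FaithfulSMul (A ⧸ p) K := (faithfulSMul_iff_algebraMap_injective _ _).mpr
      ((algebraMap p.ResidueField K).injective.comp
        (IsFractionRing.injective (A ⧸ p) p.ResidueField))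
    apply IsFractionRing.of_field
    intro z
    obtain ⟨d, hd⟩ := IsLocalization.exist_integer_multiples (nonZeroDivisors (A ⧸ p))
      (Finset.univ : Finset (Fin (Module.finrank p.ResidueField K))) (fun i => b.repr z i)
    choose n hn using fun i => hd i (Finset.mem_univ i)
    choose a ha using fun i => Ideal.Quotient.mk_surjective (n i)
    obtain ⟨d0, hd0⟩ := Ideal.Quotient.mk_surjective (d : A ⧸ p)
    have hmem : ∀ i, (Ideal.Quotient.mk p y0) • b i ∈ B := fun i =>
      Algebra.subset_adjoin ⟨i, rfl⟩
    refine ⟨∑ i, a i • (⟨(Ideal.Quotient.mk p y0) • b i, hmem i⟩ : B),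
      algebraMap A B (d0 * y0), ?_⟩
    have hden : algebraMap B K (algebraMap A B (d0 * y0)) =
        algebraMap (A ⧸ p) K ((d : A ⧸ p) * Ideal.Quotient.mk p y0) := by
      rw [← IsScalarTower.algebraMap_apply A B K, IsScalarTower.algebraMap_apply A (A ⧸ p) K,
        Ideal.Quotient.algebraMap_eq, map_mul, hd0]
    have hne : algebraMap (A ⧸ p) K ((d : A ⧸ p) * Ideal.Quotient.mk p y0) ≠ 0 := by
      rw [Ne, FaithfulSMul.algebraMap_eq_zero_iff]
      exact mul_ne_zero (nonZeroDivisors.ne_zero d.2) hy
    rw [hden, eq_div_iff hne]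
    have hz : z = ∑ i, b.repr z i • b i := (b.sum_repr z).symm
    have hsum : algebraMap B K (∑ i, a i • (⟨(Ideal.Quotient.mk p y0) • b i, hmem i⟩ : B)) =
        ∑ i, a i • ((Ideal.Quotient.mk p y0) • b i) := by
      rw [map_sum]
      refine Finset.sum_congr rfl fun i _ => ?_
      rfl
    rw [hsum]
    conv_lhs => rw [hz]
    rw [Finset.sum_mul]
    refine Finset.sum_congr rfl fun i _ => ?_
    have h1 : a i • ((Ideal.Quotient.mk p y0) • b i) = n i • ((Ideal.Quotient.mk p y0) • b i) := by
      rw [← ha i]
      rw [← algebraMap_smul (A ⧸ p) (a i) ((Ideal.Quotient.mk p y0) • b i)]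
      rfl
    rw [h1]
    have h2 : algebraMap (A ⧸ p) p.ResidueField (n i) = (d : A ⧸ p) • b.repr z i := hn i
    rw [← algebraMap_smul p.ResidueField (n i) ((Ideal.Quotient.mk p y0) • b i), h2]
    simp only [Algebra.smul_def, map_mul]
    rw [IsScalarTower.algebraMap_apply (A ⧸ p) p.ResidueField K (d : A ⧸ p),
      IsScalarTower.algebraMap_apply (A ⧸ p) p.ResidueField K (Ideal.Quotient.mk p y0)]
    ring

lemma isLocalization_atPrime_congr {T T'' : Type*} [CommSemiring T] [CommSemiring T'']
    [Algebra T T'']
    (Q P : Ideal T) [Q.IsPrime] [P.IsPrime] (h : Q = P) [IsLocalization.AtPrime T'' Q] :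
    IsLocalization.AtPrime T'' P := by
  subst h
  assumption

/-- Local rings of a localization. -/
theorem forall_localization_iff {R : Type u} [CommRing R] (M : Submonoid R) (S : Type u)
    [CommRing S] [Algebra R S] [IsLocalization M S]
    (P : ∀ (X : Type u) [CommRing X], Prop)
    (hP : ∀ (X Y : Type u) [CommRing X] [CommRing Y], (X ≃+* Y) → P X → P Y) :
    (∀ (Q : Ideal S) [Q.IsPrime], P (Localization.AtPrime Q)) ↔
      ∀ (q : Ideal R) [q.IsPrime], Disjoint (M : Set R) (q : Set R) →
        P (Localization.AtPrime q) := by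
  constructor
  · intro h q hq hdisj
    haveI hQ : (q.map (algebraMap R S)).IsPrime :=
      IsLocalization.isPrime_of_isPrime_disjoint M _ q hq hdisj
    have hcomap : (q.map (algebraMap R S)).comap (algebraMap R S) = q :=
      IsLocalization.comap_map_of_isPrime_disjoint M _ hq hdisj
    haveI h1 : IsLocalization.AtPrime (Localization.AtPrime (q.map (algebraMap R S)))
        ((q.map (algebraMap R S)).comap (algebraMap R S)) :=
      IsLocalization.isLocalization_isLocalization_atPrime_isLocalization M _ _
    haveI h2 : IsLocalization.AtPrime (Localization.AtPrime (q.map (algebraMap R S))) q :=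
      isLocalization_atPrime_congr _ q hcomap
    exact hP _ _ (IsLocalization.algEquiv q.primeCompl
      (Localization.AtPrime (q.map (algebraMap R S))) (Localization.AtPrime q)).toRingEquiv
      (h _)
  · intro h Q hQ
    haveI : (Q.comap (algebraMap R S)).IsPrime := Ideal.comap_isPrime _ _
    have hdisj : Disjoint (M : Set R) (Q.comap (algebraMap R S) : Set R) :=
      ((IsLocalization.isPrime_iff_isPrime_disjoint M S Q).mp hQ).2
    haveI h1 : IsLocalization.AtPrime (Localization.AtPrime Q) (Q.comap (algebraMap R S)) :=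
      IsLocalization.isLocalization_isLocalization_atPrime_isLocalization M _ _
    exact hP _ _ (IsLocalization.algEquiv (Q.comap (algebraMap R S)).primeCompl
      (Localization.AtPrime (Q.comap (algebraMap R S))) (Localization.AtPrime Q)).toRingEquiv
      (h _ hdisj)

/-- `K ⊗[κ(p)] (κ(p) ⊗[A] C) ≃ (B ⊗[A] C) ⊗[B] K`. -/
noncomputable def fiberEquiv (A C B K : Type u) [CommRing A] [CommRing C] [Algebra A C]
    [CommRing B] [Algebra A B] [Field K] [Algebra B K] [Algebra A K] [IsScalarTower A B K]
    (p : Ideal A) [p.IsPrime] [Algebra p.ResidueField K] [IsScalarTower A p.ResidueField K] :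
    K ⊗[p.ResidueField] p.Fiber C ≃+* (B ⊗[A] C) ⊗[B] K :=
  ((Algebra.TensorProduct.cancelBaseChange A p.ResidueField p.ResidueField K C).toRingEquiv.trans
    (Algebra.TensorProduct.cancelBaseChange A B B K C).symm.toRingEquiv).trans
    (Algebra.TensorProduct.comm B K (B ⊗[A] C)).toRingEquiv

/-- disjointness from the nonzero elements of `B` versus contraction zero. -/
theorem disjoint_iff_comap_eq_bot (B R : Type u) [CommRing B] [IsDomain B] [CommRing R]
    [Algebra B R] (q : Ideal R) [q.IsPrime] :
    Disjoint ((Algebra.algebraMapSubmonoid R (nonZeroDivisors B) : Submonoid R) : Set R)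
      (q : Set R) ↔ q.comap (algebraMap B R) = ⊥ := by
  constructor
  · intro h
    rw [eq_bot_iff]
    intro b hb
    rw [Ideal.mem_bot]
    by_contra hne
    exact Set.disjoint_left.mp h ⟨b, mem_nonZeroDivisors_of_ne_zero hne, rfl⟩ hb
  · intro h
    rw [Set.disjoint_left]
    rintro _ ⟨b, hb, rfl⟩ hx
    have : b ∈ q.comap (algebraMap B R) := hx
    rw [h, Ideal.mem_bot] at this
    exact nonZeroDivisors.ne_zero hb this

theorem isReduced_of_ringEquiv {X Y : Type*} [CommRing X] [CommRing Y] (e : X ≃+* Y)
    [IsReduced X] : IsReduced Y :=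
  isReduced_of_injective e.symm.toRingHom e.symm.injective

theorem isReduced_of_forall_localization (R : Type*) [CommRing R]
    (h : ∀ (Q : Ideal R) [Q.IsPrime], IsReduced (Localization.AtPrime Q)) : IsReduced R := by
  apply isReduced_ofLocalizationMaximal
  intro m hm
  exact h m

theorem finite_residueField_fractionRing (A B : Type u) [CommRing A] [CommRing B] [IsDomain B]
    [Algebra A B] [Module.Finite A B]
    (K : Type u) [Field K] [Algebra B K] [IsFractionRing B K] [Algebra A K] [IsScalarTower A B K]
    (p : Ideal A) [p.IsPrime] (hp : p = RingHom.ker (algebraMap A B))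
    [Algebra p.ResidueField K] [IsScalarTower A p.ResidueField K] :
    Module.Finite p.ResidueField K := by
  letI : Algebra (A ⧸ p) B := (Ideal.Quotient.lift p (algebraMap A B)
    (fun a ha => by rw [hp] at ha; exact ha)).toAlgebra
  haveI : IsScalarTower A (A ⧸ p) B := IsScalarTower.of_algebraMap_eq (fun a => rfl)
  haveI : Module.Finite (A ⧸ p) B := Module.Finite.of_restrictScalars_finite A (A ⧸ p) B
  haveI : FaithfulSMul (A ⧸ p) B := (faithfulSMul_iff_algebraMap_injective _ _).mpr
    (RingHom.lift_injective_of_ker_le_ideal p _ (le_of_eq hp.symm))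
  haveI : Algebra.IsAlgebraic (A ⧸ p) B := Algebra.IsIntegral.isAlgebraic
  letI : Algebra (A ⧸ p) K := ((algebraMap B K).comp (algebraMap (A ⧸ p) B)).toAlgebra
  haveI : IsScalarTower (A ⧸ p) B K := IsScalarTower.of_algebraMap_eq (fun _ => rfl)
  haveI : IsScalarTower (A ⧸ p) p.ResidueField K := IsScalarTower.of_algebraMap_eq (fun x => by
    obtain ⟨a, rfl⟩ := Ideal.Quotient.mk_surjective x
    change algebraMap B K (algebraMap A B a) = _
    rw [← IsScalarTower.algebraMap_apply A B K, IsScalarTower.algebraMap_apply A p.ResidueField K,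
      IsScalarTower.algebraMap_apply A (A ⧸ p) p.ResidueField]
    rfl)
  haveI : IsLocalization (Algebra.algebraMapSubmonoid B (nonZeroDivisors (A ⧸ p))) K :=
    inferInstance
  exact Module.Finite.of_isLocalization (A ⧸ p) B (nonZeroDivisors (A ⧸ p))

theorem isNoetherianRing_tensor_of_finite (A B C : Type u) [CommRing A] [CommRing B] [CommRing C]
    [Algebra A B] [Algebra A C] [Module.Finite A B] [IsNoetherianRing C] :
    IsNoetherianRing (B ⊗[A] C) := by
  haveI : Module.Finite C (C ⊗[A] B) := inferInstance
  haveI : IsNoetherianRing (C ⊗[A] B) := IsNoetherianRing.of_finite C _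
  exact isNoetherianRing_of_ringEquiv _ (Algebra.TensorProduct.comm A C B).toRingEquiv


end Groth.Agent.Lib.Helper14.FiniteDomain
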