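import Groth.Prelude.Def_EGA4b
import Mathlib
import Groth.Agent.Lib.Helper14.NormalSmoothAsc

/-!
# Base change of normal homomorphisms along maps with finite residue field extensions
-/

set_option autoImplicit false
universe u

namespace Groth.Agent.Lib.Helper14.NormalHomBC

open TensorProduct
open Groth.Agent.Lib.Helper14 Groth.Agent.Lib.Helper14.NormalSmoothAsc

/-- Base change of geometric normality of fibres along a ring map `A → A'` all of whose residue
field extensions are finite. -/
theorem isGeomNormal_fiber_baseChange (A B A' B' : Type u) [CommRing A] [CommRing B]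
    [CommRing A'] [CommRing B'] [Algebra A B] [Algebra A A'] [Algebra A' B'] [Algebra B B']
    [Algebra A B'] [IsScalarTower A A' B'] [IsScalarTower A B B'] [Algebra.IsPushout A A' B B']
    (h : ∀ (p : Ideal A) [p.IsPrime], EGA4.IsGeomNormal p.ResidueField (p.Fiber B))
    (p' : Ideal A') [p'.IsPrime]
    (hfin : (Ideal.ResidueField.map (p'.comap (algebraMap A A')) p' (algebraMap A A') rfl).Finite) :
    EGA4.IsGeomNormal p'.ResidueField (p'.Fiber B') := by
  intro K' _ _ hK'
  haveI hq : (p'.comap (algebraMap A A')).IsPrime := Ideal.comap_isPrime _ _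
  letI : Algebra (p'.comap (algebraMap A A')).ResidueField p'.ResidueField :=
    (Ideal.ResidueField.map (p'.comap (algebraMap A A')) p' (algebraMap A A') rfl).toAlgebra
  haveI : Module.Finite (p'.comap (algebraMap A A')).ResidueField p'.ResidueField := hfin
  letI : Algebra (p'.comap (algebraMap A A')).ResidueField K' :=
    ((algebraMap p'.ResidueField K').comp
      (algebraMap (p'.comap (algebraMap A A')).ResidueField p'.ResidueField)).toAlgebra
  haveI : IsScalarTower (p'.comap (algebraMap A A')).ResidueField p'.ResidueField K' :=
    IsScalarTower.of_algebraMap_eq (fun _ => rfl)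
  haveI : Module.Finite (p'.comap (algebraMap A A')).ResidueField K' :=
    Module.Finite.trans p'.ResidueField K'
  letI : Algebra A' K' :=
    ((algebraMap p'.ResidueField K').comp (algebraMap A' p'.ResidueField)).toAlgebra
  haveI : IsScalarTower A' p'.ResidueField K' := IsScalarTower.of_algebraMap_eq (fun _ => rfl)
  letI : Algebra A K' := ((algebraMap A' K').comp (algebraMap A A')).toAlgebra
  haveI : IsScalarTower A A' K' := IsScalarTower.of_algebraMap_eq (fun _ => rfl)
  haveI : IsScalarTower A (p'.comap (algebraMap A A')).ResidueField K' :=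
    IsScalarTower.of_algebraMap_eq (fun a => by
      change algebraMap p'.ResidueField K' (algebraMap A' p'.ResidueField (algebraMap A A' a)) =
        algebraMap p'.ResidueField K' (Ideal.ResidueField.map (p'.comap (algebraMap A A')) p'
          (algebraMap A A') rfl (algebraMap A _ a))
      rw [Ideal.ResidueField.map_algebraMap])
  have h1 : EGA4.IsNormalRing (K' ⊗[(p'.comap (algebraMap A A')).ResidueField]
      ((p'.comap (algebraMap A A')).Fiber B)) := h _ K' inferInstance
  refine isNormalRing_of_ringEquiv ?_ h1
  -- K' ⊗[κ] (κ ⊗[A] B) ≃ K' ⊗[A] B ≃ K' ⊗[A'] (A' ⊗[A] B) ≃ K' ⊗[A'] B' ≃ K' ⊗[κ'] (κ' ⊗[A'] B')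
  exact (Algebra.TensorProduct.cancelBaseChange A (p'.comap (algebraMap A A')).ResidueField
      (p'.comap (algebraMap A A')).ResidueField K' B).toRingEquiv.trans
    ((Algebra.TensorProduct.cancelBaseChange A A' A' K' B).symm.toRingEquiv.trans
      ((Algebra.TensorProduct.congr (AlgEquiv.refl (R := A') (A₁ := K'))
        (Algebra.IsPushout.equiv A A' B B')).toRingEquiv.trans
        (Algebra.TensorProduct.cancelBaseChange A' p'.ResidueField p'.ResidueField K'
          B').symm.toRingEquiv))

theorem residueField_map_finite_of_quasiFinite (A A' : Type u) [CommRing A] [CommRing A']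
    [Algebra A A'] [Algebra.QuasiFinite A A'] (P : Ideal A') [P.IsPrime] :
    (Ideal.ResidueField.map (P.comap (algebraMap A A')) P (algebraMap A A') rfl).Finite := by
  letI := Localization.AtPrime.algebraOfLiesOver (P.under A) P
  have hfin : Module.Finite (P.under A).ResidueField P.ResidueField := inferInstance
  have heq : algebraMap (P.under A).ResidueField P.ResidueField =
      Ideal.ResidueField.map (P.comap (algebraMap A A')) P (algebraMap A A') rfl := by
    ext x
    simp only [RingHom.comp_apply, Ideal.ResidueField.map_algebraMap]
    rw [← IsScalarTower.algebraMap_apply, ← IsScalarTower.algebraMap_apply]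
  rw [← heq]
  exact RingHom.finite_algebraMap.mpr hfin

end Groth.Agent.Lib.Helper14.NormalHomBC
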