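import Groth.Prelude.Def_EGA4b
import Mathlib
import Groth.Agent.Lib.Helper14.NormalHomBC
import Groth.Agent.Lib.Helper14.GeomReduced
import Groth.Agent.Lib.Helper4.FlatFibre
import Groth.Agent.S2611

/-!
# Normal homomorphisms: quasi-finite base change, ascent of normality, composition

* `isNormalHom_baseChange_of_quasiFinite`, `isNormalHom_tensor_of_quasiFinite`
* `isNormalRing_of_flat_of_fibers`, `isNormalRing_of_isNormalHom` (Noetherian; via S2611)
* `isNormalHom_comp`
-/

set_option autoImplicit false
universe u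

namespace Groth.Agent.Lib.Helper14.NormalHomComp

open TensorProduct
open Groth.Agent.Lib.Helper14 Groth.Agent.Lib.Helper14.NormalSmoothAsc
open Groth.Agent.Lib.Helper14.NormalHomBC

/-- Base change of a normal homomorphism along a quasi-finite map is normal. -/
theorem isNormalHom_baseChange_of_quasiFinite (A B A' B' : Type u) [CommRing A] [CommRing B]
    [CommRing A'] [CommRing B'] [Algebra A B] [Algebra A A'] [Algebra A' B'] [Algebra B B']
    [Algebra A B'] [IsScalarTower A A' B'] [IsScalarTower A B B'] [Algebra.IsPushout A A' B B']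
    [Algebra.QuasiFinite A A'] (h : EGA4.IsNormalHom A B) : EGA4.IsNormalHom A' B' := by
  obtain ⟨hflat, hfib⟩ := h
  haveI := hflat
  refine ⟨?_, ?_⟩
  · exact Module.Flat.of_linearEquiv (R := A') (M := A' ⊗[A] B)
      (Algebra.IsPushout.equiv A A' B B').symm.toLinearEquiv
  · intro p' hp'
    exact isGeomNormal_fiber_baseChange A B A' B' (fun p _ => hfib p) p'
      (residueField_map_finite_of_quasiFinite A A' p')

/-- The fibre rings of a normal homomorphism are normal rings. -/
theorem isNormalRing_fiber_of_isNormalHom (R S : Type u) [CommRing R] [CommRing S] [Algebra R S]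
    (h : EGA4.IsNormalHom R S) (p : Ideal R) [p.IsPrime] : EGA4.IsNormalRing (p.Fiber S) := by
  have h1 : EGA4.IsNormalRing (p.ResidueField ⊗[p.ResidueField] p.Fiber S) :=
    h.2 p p.ResidueField inferInstance
  exact isNormalRing_of_ringEquiv
    (Algebra.TensorProduct.lid p.ResidueField (p.Fiber S)).toRingEquiv h1

/-- Flat, normal base and normal fibres imply normal (Noetherian case; via S2611). -/
theorem isNormalRing_of_flat_of_fibers (R S : Type u) [CommRing R] [CommRing S]
    [IsNoetherianRing R] [IsNoetherianRing S] [Algebra R S] [Module.Flat R S]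
    (hfib : ∀ (p : Ideal R) [p.IsPrime], EGA4.IsNormalRing (p.Fiber S))
    (hR : EGA4.IsNormalRing R) : EGA4.IsNormalRing S := by
  intro q hq
  haveI hp : (q.comap (algebraMap R S)).IsPrime := Ideal.comap_isPrime _ _
  obtain ⟨hd, hic⟩ := hR (q.comap (algebraMap R S))
  haveI := hd
  haveI := hic
  refine Groth.Agent.S2611.result R S ?_ q
  intro r hr
  haveI : (r.comap (algebraMap R S)).IsPrime := Ideal.comap_isPrime _ _
  exact (Groth.Agent.Lib.Helper4.FlatFibre.forall_fiber_localization_iff R S
    (r.comap (algebraMap R S)) (fun X _ => IsDomain X ∧ IsIntegrallyClosed X)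
    (fun X Y _ _ e hX => by
      obtain ⟨h1, h2⟩ := hX
      exact ⟨e.symm.toMulEquiv.isDomain _, IsIntegrallyClosed.of_equiv e⟩)).mp
    (fun 𝔮 _ => hfib _ 𝔮) r rfl

theorem isNormalRing_of_isNormalHom (R S : Type u) [CommRing R] [CommRing S]
    [IsNoetherianRing R] [IsNoetherianRing S] [Algebra R S] (h : EGA4.IsNormalHom R S)
    (hR : EGA4.IsNormalRing R) : EGA4.IsNormalRing S := by
  haveI := h.1
  exact isNormalRing_of_flat_of_fibers R S (fun p _ => isNormalRing_fiber_of_isNormalHom R S h p) hR

section
attribute [local instance] Algebra.TensorProduct.rightAlgebra in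
theorem isNormalHom_tensor_of_quasiFinite (A B A' : Type u) [CommRing A] [CommRing B]
    [CommRing A'] [Algebra A B] [Algebra A A'] [Algebra.QuasiFinite A A']
    (h : EGA4.IsNormalHom A B) : EGA4.IsNormalHom A' (A' ⊗[A] B) :=
  isNormalHom_baseChange_of_quasiFinite A B A' (A' ⊗[A] B) h
end

/-- `B ⊗[A] K` is Noetherian for `K` finite over the residue field `κ(p)`. -/
theorem isNoetherianRing_tensor_finite (A B : Type u) [CommRing A] [CommRing B]
    [IsNoetherianRing B] [Algebra A B] (p : Ideal A) [p.IsPrime]
    (K : Type u) [Field K] [Algebra p.ResidueField K] [Module.Finite p.ResidueField K]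
    [Algebra A K] [IsScalarTower A p.ResidueField K] : IsNoetherianRing (B ⊗[A] K) := by
  haveI := Groth.Agent.Lib.Helper14.GeomReduced.isNoetherianRing_fiber A B p
  haveI : IsNoetherianRing (p.Fiber B ⊗[p.ResidueField] K) :=
    Algebra.FiniteType.isNoetherianRing (p.Fiber B) (p.Fiber B ⊗[p.ResidueField] K)
  exact isNoetherianRing_of_ringEquiv _
    ((Algebra.TensorProduct.comm p.ResidueField (p.Fiber B) K).toRingEquiv.trans
      ((Algebra.TensorProduct.cancelBaseChange A p.ResidueField p.ResidueField K
        B).toRingEquiv.trans (Algebra.TensorProduct.comm A K B).toRingEquiv))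

/-- the comparison `K ⊗[κ] (κ ⊗[A] C) ≃ (B ⊗[A] K) ⊗[B] C`. -/
noncomputable def fiberCompEquiv (A B C : Type u) [CommRing A] [CommRing B] [CommRing C]
    [Algebra A B] [Algebra B C] [Algebra A C] [IsScalarTower A B C] (p : Ideal A) [p.IsPrime]
    (K : Type u) [Field K] [Algebra p.ResidueField K]
    [Algebra A K] [IsScalarTower A p.ResidueField K] :
    (K ⊗[p.ResidueField] (p.Fiber C)) ≃+* ((B ⊗[A] K) ⊗[B] C) :=
  (Algebra.TensorProduct.cancelBaseChange A p.ResidueField p.ResidueField K C).toRingEquiv.trans
    ((Algebra.TensorProduct.comm A K C).toRingEquiv.trans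
      ((Algebra.TensorProduct.cancelBaseChange A B B C K).symm.toRingEquiv.trans
        (Algebra.TensorProduct.comm B C (B ⊗[A] K)).toRingEquiv))

/-- Composition of normal homomorphisms of Noetherian rings is normal. -/
theorem isNormalHom_comp (A B C : Type u) [CommRing A] [CommRing B] [CommRing C]
    [IsNoetherianRing B] [IsNoetherianRing C] [Algebra A B] [Algebra B C]
    [Algebra A C] [IsScalarTower A B C]
    (hAB : EGA4.IsNormalHom A B) (hBC : EGA4.IsNormalHom B C) : EGA4.IsNormalHom A C := by
  haveI := hAB.1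
  haveI := hBC.1
  refine ⟨Module.Flat.trans A B C, ?_⟩
  intro p hp K _ _ hfin
  letI : Algebra A K := ((algebraMap p.ResidueField K).comp (algebraMap A p.ResidueField)).toAlgebra
  haveI : IsScalarTower A p.ResidueField K := IsScalarTower.of_algebraMap_eq (fun _ => rfl)
  have hRn : EGA4.IsNormalRing (B ⊗[A] K) :=
    isNormalRing_of_ringEquiv
      ((Algebra.TensorProduct.cancelBaseChange A p.ResidueField p.ResidueField K
        B).toRingEquiv.trans (Algebra.TensorProduct.comm A K B).toRingEquiv)
      (hAB.2 p K hfin)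
  haveI : IsNoetherianRing (B ⊗[A] K) := isNoetherianRing_tensor_finite A B p K
  haveI : Algebra.QuasiFinite A p.ResidueField := inferInstance
  haveI : Algebra.QuasiFinite p.ResidueField K := inferInstance
  haveI : Algebra.QuasiFinite A K := Algebra.QuasiFinite.trans A p.ResidueField K
  haveI : Algebra.QuasiFinite B (B ⊗[A] K) := inferInstance
  have hNH : EGA4.IsNormalHom (B ⊗[A] K) ((B ⊗[A] K) ⊗[B] C) :=
    isNormalHom_tensor_of_quasiFinite B C (B ⊗[A] K) hBC
  haveI : IsNoetherianRing ((B ⊗[A] K) ⊗[B] C) := by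
    haveI := isNoetherianRing_tensor_finite A C p K
    exact isNoetherianRing_of_ringEquiv _
      ((Algebra.TensorProduct.cancelBaseChange A B B C K).symm.toRingEquiv.trans
        (Algebra.TensorProduct.comm B C (B ⊗[A] K)).toRingEquiv)
  have hS : EGA4.IsNormalRing ((B ⊗[A] K) ⊗[B] C) := isNormalRing_of_isNormalHom _ _ hNH hRn
  exact isNormalRing_of_ringEquiv (fiberCompEquiv A B C p K).symm hS

end Groth.Agent.Lib.Helper14.NormalHomComp
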