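import Mathlib.RingTheory.Localization.Integral
import Mathlib.RingTheory.Localization.LocalizationLocalization
import Mathlib.RingTheory.Localization.FractionRing
import Mathlib.RingTheory.Localization.Away.Basic
import Mathlib.RingTheory.IntegralClosure.IsIntegralClosure.Basic
import Mathlib.RingTheory.Finiteness.Basic
import Mathlib.RingTheory.Localization.Finiteness
import Mathlib.RingTheory.Ideal.Operations

/-!
# Finiteness of integral closures and localization

* `finite_integralClosure_of_isLocalization`: if the integral closure of `R` in `L` is a finite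
  `R`-module and `S = M⁻¹R` maps to `L`, the integral closure of `S` in `L` is a finite `S`-module.
* `finite_integralClosure_of_span_eq_top`: conversely, finiteness can be checked on a finite cover by
  principal opens.
-/

set_option autoImplicit false

namespace Groth.Agent.Lib.Helper14

theorem finite_integralClosure_of_isLocalization {R S L : Type*} [CommRing R] [CommRing S]
    [CommRing L] [Algebra R S] [Algebra R L] [Algebra S L] [IsScalarTower R S L]
    (M : Submonoid R) [IsLocalization M S]
    (h : Module.Finite R (integralClosure R L)) : Module.Finite S (integralClosure S L) := by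
  classical
  change Module.Finite R ↥(Subalgebra.toSubmodule (integralClosure R L)) at h
  change Module.Finite S ↥(Subalgebra.toSubmodule (integralClosure S L))
  rw [Module.Finite.iff_fg] at h ⊢
  obtain ⟨s, hs⟩ := h
  refine ⟨s, ?_⟩
  apply le_antisymm
  · rw [Submodule.span_le]
    intro y hy
    have hy' : y ∈ Subalgebra.toSubmodule (integralClosure R L) := hs ▸ Submodule.subset_span hy
    exact IsIntegral.tower_top (A := S) hy'
  · intro y hy
    have hy' : IsIntegral S y := hy
    obtain ⟨m, hm⟩ := IsIntegral.exists_multiple_integral_of_isLocalization M y hy'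
    have hm' : m • y ∈ Subalgebra.toSubmodule (integralClosure R L) := hm
    rw [← hs] at hm'
    have h1 : m • y ∈ Submodule.span S (↑s : Set L) :=
      Submodule.span_le_restrictScalars R S (↑s : Set L) hm'
    have h2 : y = (IsLocalization.mk' S (1 : R) m) • (m • y) := by
      rw [Submonoid.smul_def, algebra_compatible_smul S (m : R) y, smul_smul,
        IsLocalization.mk'_spec, map_one, one_smul]
    rw [h2]
    exact Submodule.smul_mem _ _ h1


theorem finite_integralClosure_of_span_eq_top {R L : Type*} [CommRing R] [CommRing L] [Algebra R L]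
    {ι : Type*} [Finite ι] (f : ι → R) (hf : Ideal.span (Set.range f) = ⊤)
    (Rf : ι → Type*) [∀ i, CommRing (Rf i)] [∀ i, Algebra R (Rf i)]
    [∀ i, IsLocalization.Away (f i) (Rf i)] [∀ i, Algebra (Rf i) L] [∀ i, IsScalarTower R (Rf i) L]
    (h : ∀ i, Module.Finite (Rf i) (integralClosure (Rf i) L)) :
    Module.Finite R (integralClosure R L) := by
  classical
  cases nonempty_fintype ι
  change Module.Finite R ↥(Subalgebra.toSubmodule (integralClosure R L))
  rw [Module.Finite.iff_fg]
  -- generators of the integral closures over the localizations, made integral over `R`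
  have key : ∀ i, ∃ t : Finset L, (∀ y ∈ t, IsIntegral R y) ∧
      Subalgebra.toSubmodule (integralClosure (Rf i) L) ≤ Submodule.span (Rf i) (↑t : Set L) := by
    intro i
    have hi : Module.Finite (Rf i) ↥(Subalgebra.toSubmodule (integralClosure (Rf i) L)) := h i
    rw [Module.Finite.iff_fg] at hi
    obtain ⟨s, hs⟩ := hi
    have hmul : ∀ y : L, y ∈ s → ∃ m : Submonoid.powers (f i), IsIntegral R (m • y) := by
      intro y hy
      have hy' : y ∈ Subalgebra.toSubmodule (integralClosure (Rf i) L) :=
        hs ▸ Submodule.subset_span hy
      exact IsIntegral.exists_multiple_integral_of_isLocalization (Submonoid.powers (f i)) y hy'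
    choose! m hm using hmul
    refine ⟨s.image fun y => m y • y, ?_, ?_⟩
    · intro z hz
      obtain ⟨y, hy, rfl⟩ := Finset.mem_image.mp hz
      exact hm y hy
    · rw [← hs, Submodule.span_le]
      intro y hy
      have h1 : m y • y ∈ Submodule.span (Rf i) (↑(s.image fun y => m y • y) : Set L) :=
        Submodule.subset_span (Finset.mem_coe.mpr (Finset.mem_image_of_mem _ hy))
      have h2 : y = (IsLocalization.mk' (Rf i) (1 : R) (m y)) • (m y • y) := by
        rw [Submonoid.smul_def, algebra_compatible_smul (Rf i) ((m y : R)) y, smul_smul,
          IsLocalization.mk'_spec, map_one, one_smul]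
      rw [SetLike.mem_coe, h2]
      exact Submodule.smul_mem _ _ h1
  choose t ht1 ht2 using key
  refine ⟨Finset.univ.biUnion t, ?_⟩
  apply le_antisymm
  · rw [Submodule.span_le]
    intro y hy
    obtain ⟨i, -, hyi⟩ := Finset.mem_biUnion.mp (Finset.mem_coe.mp hy)
    exact ht1 i y hyi
  · intro y hy
    have hy' : IsIntegral R y := hy
    apply Submodule.mem_of_span_eq_top_of_smul_pow_mem _ (Set.range f) hf
    rintro ⟨_, i, rfl⟩
    have hyi : y ∈ Subalgebra.toSubmodule (integralClosure (Rf i) L) :=
      IsIntegral.tower_top (A := Rf i) hy'
    obtain ⟨⟨_, n, rfl⟩, hn⟩ := multiple_mem_span_of_mem_localization_span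
      (Submonoid.powers (f i)) (Rf i) (↑(t i) : Set L) y (ht2 i hyi)
    refine ⟨n, Submodule.span_mono ?_ hn⟩
    intro z hz
    exact Finset.mem_coe.mpr (Finset.mem_biUnion.mpr ⟨i, Finset.mem_univ i, hz⟩)

end Groth.Agent.Lib.Helper14
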