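import Mathlib
import Groth.Agent.Lib.Helper15.AdicLimit

/-!
# Unramified local homomorphisms and completions
-/

open IsLocalRing

namespace Groth.Agent.Lib.Helper14.ComplUnram

universe u

variable (A B : Type u) [CommRing A] [CommRing B]
    [IsLocalRing A] [IsLocalRing B] [IsNoetherianRing A] [IsNoetherianRing B] [Algebra A B]
    [IsLocalHom (algebraMap A B)]


variable (ψ : (AdicCompletion (maximalIdeal A) A) →+* (AdicCompletion (maximalIdeal B) B))
    (hψ : ψ.comp (algebraMap A (AdicCompletion (maximalIdeal A) A)) = (algebraMap B (AdicCompletion (maximalIdeal B) B)).comp (algebraMap A B))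

include hψ in
theorem map_maximalIdeal :
    (maximalIdeal (AdicCompletion (maximalIdeal A) A)).map ψ = ((maximalIdeal A).map (algebraMap A B)).map (algebraMap B (AdicCompletion (maximalIdeal B) B)) := by
  rw [AdicCompletion.maximalIdeal_eq_map (R := A), Ideal.map_map, hψ, ← Ideal.map_map]

include hψ in
theorem isLocalHom : IsLocalHom ψ := by
  have h : (maximalIdeal (AdicCompletion (maximalIdeal A) A)).map ψ ≤ maximalIdeal (AdicCompletion (maximalIdeal B) B) := by
    rw [map_maximalIdeal A B ψ hψ, AdicCompletion.maximalIdeal_eq_map (R := B)]
    exact Ideal.map_mono (((local_hom_TFAE (algebraMap A B)).out 0 2 rfl rfl).mp inferInstance)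
  exact ((local_hom_TFAE ψ).out 0 2 rfl rfl).mpr h

/-- The residue field of the completion. -/
noncomputable def resEquiv (R : Type u) [CommRing R] [IsLocalRing R] [IsNoetherianRing R] :
    ResidueField R ≃+* ResidueField (AdicCompletion (maximalIdeal R) R) :=
  RingEquiv.ofBijective _ (AdicCompletion.residueField_map_bijective R)

theorem resEquiv_residue (R : Type u) [CommRing R] [IsLocalRing R] [IsNoetherianRing R] (r : R) :
    resEquiv R (residue R r) =
      residue _ (algebraMap R (AdicCompletion (maximalIdeal R) R) r) := rfl

include hψ in
theorem square [hl : IsLocalHom ψ] :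
    (ResidueField.map ψ).comp (resEquiv A : ResidueField A →+* ResidueField (AdicCompletion (maximalIdeal A) A)) =
      (resEquiv B : ResidueField B →+* ResidueField (AdicCompletion (maximalIdeal B) B)).comp
        (ResidueField.map (algebraMap A B)) := by
  refine RingHom.ext fun x => ?_
  obtain ⟨a, rfl⟩ := residue_surjective x
  simp only [RingHom.comp_apply, RingHom.coe_coe, resEquiv_residue, ResidueField.map_residue]
  exact congrArg (residue (AdicCompletion (maximalIdeal B) B)) (congrFun (congrArg DFunLike.coe hψ) a)

include hψ in
theorem map_eq_of_completion (h : (maximalIdeal (AdicCompletion (maximalIdeal A) A)).map ψ = maximalIdeal (AdicCompletion (maximalIdeal B) B)) :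
    (maximalIdeal A).map (algebraMap A B) = maximalIdeal B := by
  have : Module.FaithfullyFlat B (AdicCompletion (maximalIdeal B) B) := Module.FaithfullyFlat.of_flat_of_isLocalHom
  apply Ideal.map_injective_of_faithfullyFlat (A := B) (B := (AdicCompletion (maximalIdeal B) B))
  rw [← map_maximalIdeal A B ψ hψ, h, AdicCompletion.maximalIdeal_eq_map (R := B)]


include hψ in
theorem completion_finite_of_unramified
    (hm : (maximalIdeal A).map (algebraMap A B) = maximalIdeal B)
    [Module.Finite (ResidueField A) (ResidueField B)] :
    let := ψ.toAlgebra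
    Module.Finite (AdicCompletion (maximalIdeal A) A) (AdicCompletion (maximalIdeal B) B) := by
  letI := ψ.toAlgebra
  have hloc : IsLocalHom (algebraMap (AdicCompletion (maximalIdeal A) A)
      (AdicCompletion (maximalIdeal B) B)) := isLocalHom A B ψ hψ
  have hmax : (maximalIdeal (AdicCompletion (maximalIdeal A) A)).map
      (algebraMap (AdicCompletion (maximalIdeal A) A) (AdicCompletion (maximalIdeal B) B)) =
      maximalIdeal (AdicCompletion (maximalIdeal B) B) := by
    change (maximalIdeal (AdicCompletion (maximalIdeal A) A)).map ψ = _
    rw [map_maximalIdeal A B ψ hψ, hm, AdicCompletion.maximalIdeal_eq_map (R := B)]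
  have hsq := square A B ψ hψ (hl := isLocalHom A B ψ hψ)
  have hfin : Module.Finite (ResidueField (AdicCompletion (maximalIdeal A) A))
      (ResidueField (AdicCompletion (maximalIdeal B) B)) :=
    Module.Finite.of_equiv_equiv (resEquiv A) (resEquiv B) hsq
  obtain ⟨r, g, hg⟩ := Module.Finite.exists_fin
    (R := ResidueField (AdicCompletion (maximalIdeal A) A))
    (M := ResidueField (AdicCompletion (maximalIdeal B) B))
  choose b hb using fun i => residue_surjective (g i)
  let f : (Fin r → AdicCompletion (maximalIdeal A) A) →ₗ[AdicCompletion (maximalIdeal A) A]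
      AdicCompletion (maximalIdeal B) B := Fintype.linearCombination _ b
  haveI : IsPrecomplete (maximalIdeal (AdicCompletion (maximalIdeal A) A))
      (Fin r → AdicCompletion (maximalIdeal A) A) :=
    Groth.Agent.Lib.Helper15.AL.isPrecomplete_pi _
  haveI : IsHausdorff (maximalIdeal (AdicCompletion (maximalIdeal A) A))
      (AdicCompletion (maximalIdeal B) B) := by
    rw [← IsHausdorff.map_algebraMap_iff (S := AdicCompletion (maximalIdeal B) B), hmax]
    infer_instance
  have hsurj : Function.Surjective
      (Submodule.mkQ ((maximalIdeal (AdicCompletion (maximalIdeal A) A)) •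
        (⊤ : Submodule (AdicCompletion (maximalIdeal A) A)
          (AdicCompletion (maximalIdeal B) B))) ∘ₗ f) := by
    intro q
    obtain ⟨y, rfl⟩ := Submodule.mkQ_surjective _ q
    have hy : residue _ y ∈ Submodule.span (ResidueField (AdicCompletion (maximalIdeal A) A))
        (Set.range g) := by rw [hg]; trivial
    obtain ⟨κ, hκ⟩ := (Submodule.mem_span_range_iff_exists_fun _).mp hy
    choose c hc using fun i => residue_surjective (κ i)
    refine ⟨c, ?_⟩
    rw [LinearMap.comp_apply, Submodule.mkQ_apply, Submodule.mkQ_apply, Submodule.Quotient.eq]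
    have h1 : residue (AdicCompletion (maximalIdeal B) B) (f c) = ∑ i, κ i • g i := by
      simp only [f, Fintype.linearCombination_apply, map_sum]
      refine Finset.sum_congr rfl fun i _ => ?_
      rw [Algebra.smul_def (c i) (b i), map_mul, hb, ← hc i, Algebra.smul_def]
      rfl
    have h2 : f c - y ∈ maximalIdeal (AdicCompletion (maximalIdeal B) B) := by
      rw [← residue_eq_zero_iff, map_sub, sub_eq_zero, h1, hκ]
    rw [Ideal.smul_top_eq_map, Submodule.restrictScalars_mem, hmax]
    exact h2
  exact Module.Finite.of_surjective f (surjective_of_mkQ_comp_surjective hsurj)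

include hψ in
theorem unramified_iff :
    ((maximalIdeal A).map (algebraMap A B) = maximalIdeal B ∧
        Module.Finite (ResidueField A) (ResidueField B) ∧
        Algebra.IsSeparable (ResidueField A) (ResidueField B)) ↔
      (ψ.FiniteType ∧ ψ.FormallyUnramified) := by
  have hlψ : IsLocalHom ψ := isLocalHom A B ψ hψ
  have hsq := square A B ψ hψ
  constructor
  · rintro ⟨hm, hfin, hsep⟩
    have hF := completion_finite_of_unramified A B ψ hψ hm
    let := ψ.toAlgebra
    have hloc : IsLocalHom (algebraMap (AdicCompletion (maximalIdeal A) A)
        (AdicCompletion (maximalIdeal B) B)) := hlψ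
    have hmax : (maximalIdeal (AdicCompletion (maximalIdeal A) A)).map
        (algebraMap (AdicCompletion (maximalIdeal A) A) (AdicCompletion (maximalIdeal B) B)) =
        maximalIdeal (AdicCompletion (maximalIdeal B) B) := by
      change (maximalIdeal (AdicCompletion (maximalIdeal A) A)).map ψ = _
      rw [map_maximalIdeal A B ψ hψ, hm, AdicCompletion.maximalIdeal_eq_map (R := B)]
    have hsep' : Algebra.IsSeparable (ResidueField (AdicCompletion (maximalIdeal A) A))
        (ResidueField (AdicCompletion (maximalIdeal B) B)) :=
      Algebra.IsSeparable.of_equiv_equiv (resEquiv A) (resEquiv B) hsq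
    have hfin' : ψ.Finite := hF
    refine ⟨hfin'.finiteType, ?_⟩
    have : Algebra.FormallyUnramified (AdicCompletion (maximalIdeal A) A)
        (AdicCompletion (maximalIdeal B) B) := Algebra.FormallyUnramified.of_map_maximalIdeal hmax
    exact this
  · rintro ⟨hft, hunr⟩
    let := ψ.toAlgebra
    have hloc : IsLocalHom (algebraMap (AdicCompletion (maximalIdeal A) A)
        (AdicCompletion (maximalIdeal B) B)) := hlψ
    have hft' : Algebra.FiniteType (AdicCompletion (maximalIdeal A) A)
        (AdicCompletion (maximalIdeal B) B) := hft
    have hunr' : Algebra.FormallyUnramified (AdicCompletion (maximalIdeal A) A)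
        (AdicCompletion (maximalIdeal B) B) := hunr
    obtain ⟨hsep', hmax⟩ := Algebra.FormallyUnramified.iff_map_maximalIdeal_eq.mp hunr'
    have hfin' : Module.Finite (ResidueField (AdicCompletion (maximalIdeal A) A))
        (ResidueField (AdicCompletion (maximalIdeal B) B)) := inferInstance
    have hsq' : (algebraMap (ResidueField A) (ResidueField B)).comp
          ((resEquiv A).symm : ResidueField (AdicCompletion (maximalIdeal A) A) →+* ResidueField A) =
        ((resEquiv B).symm : ResidueField (AdicCompletion (maximalIdeal B) B) →+* ResidueField B).comp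
          (algebraMap (ResidueField (AdicCompletion (maximalIdeal A) A))
            (ResidueField (AdicCompletion (maximalIdeal B) B))) := by
      refine RingHom.ext fun x => ?_
      obtain ⟨y, rfl⟩ := (resEquiv A).surjective x
      apply (resEquiv B).injective
      have := congrArg (fun h => h y) hsq
      simp only [RingHom.comp_apply, RingHom.coe_coe, RingEquiv.symm_apply_apply,
        RingEquiv.apply_symm_apply] at this ⊢
      exact this.symm
    refine ⟨map_eq_of_completion A B ψ hψ hmax,
      Module.Finite.of_equiv_equiv (resEquiv A).symm (resEquiv B).symm hsq',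
      Algebra.IsSeparable.of_equiv_equiv (resEquiv A).symm (resEquiv B).symm hsq'⟩

end Groth.Agent.Lib.Helper14.ComplUnram
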