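import Mathlib
import Groth.Agent.Lib.Helper14.ComplUnram
import Groth.Agent.S0542

/-!
# Etale local homomorphisms and completions
-/

open IsLocalRing TensorProduct

namespace Groth.Agent.Lib.Helper14.ComplEtale

universe u

/-- The completion of a Noetherian local ring is Noetherian. -/
theorem isNoetherianRing_completion (A : Type u) [CommRing A] [IsLocalRing A]
    [IsNoetherianRing A] : IsNoetherianRing (AdicCompletion (maximalIdeal A) A) :=
  Groth.Agent.S0542.result A (maximalIdeal A) (IsNoetherian.noetherian _)

/-- Flatness descends along a faithfully flat extension of the target. -/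
theorem flat_of_faithfullyFlat_of_flat (A B C : Type*) [CommRing A] [CommRing B] [CommRing C]
    [Algebra A B] [Algebra B C] [Algebra A C] [IsScalarTower A B C]
    [Module.FaithfullyFlat B C] [Module.Flat A C] : Module.Flat A B := by
  rw [Module.Flat.iff_lTensor_preserves_injective_linearMap]
  intro N P _ _ _ _ f hf
  have h1 : Function.Injective (f.lTensor C) :=
    Module.Flat.lTensor_preserves_injective_linearMap f hf
  have hcomm : ∀ x : C ⊗[B] (B ⊗[A] N),
      TensorProduct.AlgebraTensorModule.cancelBaseChange A B B C P
        ((f.baseChange B).lTensor C x) =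
      f.lTensor C (TensorProduct.AlgebraTensorModule.cancelBaseChange A B B C N x) := by
    intro x
    induction x with
    | zero => simp
    | add x y hx hy => simp only [map_add, hx, hy]
    | tmul c y =>
      induction y with
      | zero => simp
      | add x y hx hy => simp only [tmul_add, map_add, hx, hy]
      | tmul b n => simp
  have h2 : Function.Injective ((f.baseChange B).lTensor C) := by
    rw [injective_iff_map_eq_zero]
    intro x hx
    have := hcomm x
    rw [hx, map_zero] at this
    have h3 : TensorProduct.AlgebraTensorModule.cancelBaseChange A B B C N x = 0 :=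
      h1 (by rw [map_zero]; exact this.symm)
    exact (TensorProduct.AlgebraTensorModule.cancelBaseChange A B B C N).injective
      (by rw [h3, map_zero])
  have h4 := (Module.FaithfullyFlat.lTensor_injective_iff_injective B C (f.baseChange B)).mp h2
  intro x y hxy
  exact h4 hxy

/-- If `M` is an `S`-module flat over `R`, then `IS ⊗[S] M → M` is injective. -/
theorem rTensor_map_injective {R S M : Type*} [CommRing R] [CommRing S] [Algebra R S]
    [AddCommGroup M] [Module R M] [Module S M] [IsScalarTower R S M] [Module.Flat R M]
    (I : Ideal R) :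
    Function.Injective ((I.map (algebraMap R S)).subtype.rTensor M) := by
  set J := I.map (algebraMap R S) with hJ
  let j : I →ₗ[R] J :=
    { toFun := fun a => ⟨algebraMap R S a, Ideal.mem_map_of_mem _ a.2⟩
      map_add' := fun a b => Subtype.ext (map_add _ _ _)
      map_smul' := fun r a => Subtype.ext (by simp [Algebra.smul_def]) }
  let f : I ⊗[R] M →ₗ[R] J ⊗[S] M :=
    (TensorProduct.mapOfCompatibleSMul S R R J M) ∘ₗ (j.rTensor M)
  have hf : ∀ (a : I) (m : M), f (a ⊗ₜ m) = (j a) ⊗ₜ m := fun a m => rfl
  have hfs : Function.Surjective f := by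
    intro x
    induction x with
    | zero => exact ⟨0, map_zero _⟩
    | add x y hx hy =>
      obtain ⟨x', rfl⟩ := hx
      obtain ⟨y', rfl⟩ := hy
      exact ⟨x' + y', map_add _ _ _⟩
    | tmul x m =>
      obtain ⟨x, hx⟩ := x
      revert m
      induction hx using Submodule.span_induction with
      | mem x hx =>
        obtain ⟨a, ha, rfl⟩ := hx
        intro m
        exact ⟨(⟨a, ha⟩ : I) ⊗ₜ m, rfl⟩
      | zero =>
        intro m
        refine ⟨0, ?_⟩
        rw [map_zero]
        exact (zero_tmul _ m).symm
      | add x y hx hy ihx ihy =>
        intro m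
        obtain ⟨x', hx'⟩ := ihx m
        obtain ⟨y', hy'⟩ := ihy m
        refine ⟨x' + y', ?_⟩
        rw [map_add, hx', hy', ← add_tmul]
        rfl
      | smul s x hx ih =>
        intro m
        obtain ⟨x', hx'⟩ := ih (s • m)
        refine ⟨x', ?_⟩
        rw [hx', ← smul_tmul]
        rfl
  have hcomp : ∀ y, TensorProduct.lid S M (J.subtype.rTensor M (f y)) =
      TensorProduct.lid R M (I.subtype.rTensor M y) := by
    intro y
    induction y with
    | zero => simp
    | add x y hx hy => simp only [map_add, hx, hy]
    | tmul a m =>
      simp only [hf, LinearMap.rTensor_tmul, Submodule.subtype_apply, TensorProduct.lid_tmul]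
      exact algebraMap_smul S (a : R) m
  have hinj : Function.Injective (I.subtype.rTensor M) :=
    Module.Flat.rTensor_preserves_injective_linearMap _ Subtype.val_injective
  rw [injective_iff_map_eq_zero]
  intro x hx
  obtain ⟨y, rfl⟩ := hfs x
  have := hcomp y
  rw [hx, map_zero] at this
  have hy : y = 0 := hinj (by
    rw [map_zero]
    exact (TensorProduct.lid R M).injective (by rw [map_zero]; exact this.symm))
  rw [hy, map_zero]

section

open Groth.Agent.Lib.Helper14.ComplUnram

variable (A B : Type u) [CommRing A] [CommRing B]
    [IsLocalRing A] [IsLocalRing B] [IsNoetherianRing A] [IsNoetherianRing B] [Algebra A B]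
    [IsLocalHom (algebraMap A B)]

variable (ψ : (AdicCompletion (maximalIdeal A) A) →+* (AdicCompletion (maximalIdeal B) B))
    (hψ : ψ.comp (algebraMap A (AdicCompletion (maximalIdeal A) A)) =
      (algebraMap B (AdicCompletion (maximalIdeal B) B)).comp (algebraMap A B))

include hψ in
theorem free_completion (hflat : Module.Flat A B)
    (hm : (maximalIdeal A).map (algebraMap A B) = maximalIdeal B)
    [Module.Finite (ResidueField A) (ResidueField B)] :
    letI := ψ.toAlgebra
    Module.Free (AdicCompletion (maximalIdeal A) A) (AdicCompletion (maximalIdeal B) B) := by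
  letI := ψ.toAlgebra
  have hfin : Module.Finite (AdicCompletion (maximalIdeal A) A)
      (AdicCompletion (maximalIdeal B) B) := completion_finite_of_unramified A B ψ hψ hm
  haveI : IsNoetherianRing (AdicCompletion (maximalIdeal A) A) := isNoetherianRing_completion A
  haveI : Module.FinitePresentation (AdicCompletion (maximalIdeal A) A)
      (AdicCompletion (maximalIdeal B) B) := Module.finitePresentation_of_finite _ _
  haveI : IsScalarTower A (AdicCompletion (maximalIdeal A) A)
      (AdicCompletion (maximalIdeal B) B) :=
    IsScalarTower.of_algebraMap_eq' (R := A) (S := AdicCompletion (maximalIdeal A) A)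
      (A := AdicCompletion (maximalIdeal B) B) (by
        rw [IsScalarTower.algebraMap_eq A B (AdicCompletion (maximalIdeal B) B)]
        exact hψ.symm)
  haveI : Module.Flat A (AdicCompletion (maximalIdeal B) B) := Module.Flat.trans A B _
  apply Module.free_of_maximalIdeal_rTensor_injective
  have := rTensor_map_injective (R := A) (S := AdicCompletion (maximalIdeal A) A)
    (M := AdicCompletion (maximalIdeal B) B) (maximalIdeal A)
  rwa [← AdicCompletion.maximalIdeal_eq_map (R := A)] at this

include hψ in
theorem flat_of_flat_completion (h : ψ.Flat) : Module.Flat A B := by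
  letI := ψ.toAlgebra
  have hflat : Module.Flat (AdicCompletion (maximalIdeal A) A)
      (AdicCompletion (maximalIdeal B) B) := h
  haveI : IsScalarTower A (AdicCompletion (maximalIdeal A) A)
      (AdicCompletion (maximalIdeal B) B) :=
    IsScalarTower.of_algebraMap_eq' (R := A) (S := AdicCompletion (maximalIdeal A) A)
      (A := AdicCompletion (maximalIdeal B) B) (by
        rw [IsScalarTower.algebraMap_eq A B (AdicCompletion (maximalIdeal B) B)]
        exact hψ.symm)
  haveI : Module.Flat A (AdicCompletion (maximalIdeal B) B) :=
    Module.Flat.trans A (AdicCompletion (maximalIdeal A) A) _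
  haveI : Module.FaithfullyFlat B (AdicCompletion (maximalIdeal B) B) :=
    Module.FaithfullyFlat.of_flat_of_isLocalHom
  exact flat_of_faithfullyFlat_of_flat A B (AdicCompletion (maximalIdeal B) B)

include hψ in
theorem etale_iff :
    (Module.Flat A B ∧ (maximalIdeal A).map (algebraMap A B) = maximalIdeal B ∧
        Module.Finite (ResidueField A) (ResidueField B) ∧
        Algebra.IsSeparable (ResidueField A) (ResidueField B)) ↔ ψ.Etale := by
  rw [RingHom.Etale.iff_flat_and_formallyUnramified]
  constructor
  · rintro ⟨hflat, hm, hfin, hsep⟩
    obtain ⟨hft, hunr⟩ := (unramified_iff A B ψ hψ).mp ⟨hm, hfin, hsep⟩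
    have hfree := free_completion A B ψ hψ hflat hm
    have hF := completion_finite_of_unramified A B ψ hψ hm
    letI := ψ.toAlgebra
    haveI : IsNoetherianRing (AdicCompletion (maximalIdeal A) A) := isNoetherianRing_completion A
    haveI : Module.Free (AdicCompletion (maximalIdeal A) A)
      (AdicCompletion (maximalIdeal B) B) := hfree
    haveI : Module.Finite (AdicCompletion (maximalIdeal A) A)
      (AdicCompletion (maximalIdeal B) B) := hF
    haveI : Module.FinitePresentation (AdicCompletion (maximalIdeal A) A)
      (AdicCompletion (maximalIdeal B) B) := Module.finitePresentation_of_finite _ _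
    refine ⟨?_, hunr, ?_⟩
    · change Module.Flat (AdicCompletion (maximalIdeal A) A) (AdicCompletion (maximalIdeal B) B)
      infer_instance
    · change Algebra.FinitePresentation (AdicCompletion (maximalIdeal A) A)
        (AdicCompletion (maximalIdeal B) B)
      infer_instance
  · rintro ⟨hflat, hunr, hfp⟩
    obtain ⟨hm, hfin, hsep⟩ := (unramified_iff A B ψ hψ).mpr ⟨RingHom.FiniteType.of_finitePresentation hfp, hunr⟩
    exact ⟨flat_of_flat_completion A B ψ hψ hflat, hm, hfin, hsep⟩

include hψ in
theorem free_of_etale (h : ψ.Etale) :
    letI := ψ.toAlgebra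
    ∃ n : ℕ, 0 < n ∧
      Nonempty ((Fin n → AdicCompletion (maximalIdeal A) A) ≃ₗ[AdicCompletion (maximalIdeal A) A]
        AdicCompletion (maximalIdeal B) B) := by
  obtain ⟨hflat, hm, hfin, hsep⟩ := (etale_iff A B ψ hψ).mpr h
  have hfree := free_completion A B ψ hψ hflat hm
  have hF := completion_finite_of_unramified A B ψ hψ hm
  letI := ψ.toAlgebra
  haveI : Module.Free (AdicCompletion (maximalIdeal A) A)
    (AdicCompletion (maximalIdeal B) B) := hfree
  haveI : Module.Finite (AdicCompletion (maximalIdeal A) A)
    (AdicCompletion (maximalIdeal B) B) := hF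
  refine ⟨Module.finrank (AdicCompletion (maximalIdeal A) A)
    (AdicCompletion (maximalIdeal B) B), (Module.finrank_pos_iff_of_free _ _).mpr inferInstance, ?_⟩
  exact ⟨(Module.finBasis (AdicCompletion (maximalIdeal A) A)
    (AdicCompletion (maximalIdeal B) B)).equivFun.symm⟩

end

end Groth.Agent.Lib.Helper14.ComplEtale
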