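import Mathlib
import Groth.Agent.Lib.Helper14.ComplEtale
import Groth.Agent.Lib.Helper8.LocalCriterion3

set_option autoImplicit false
universe u

namespace Groth.Agent.Lib.Helper14.ComplFlat

open IsLocalRing TensorProduct

theorem factorPow_evalₐ {R : Type*} [CommRing R] (I : Ideal R) {m n : ℕ} (hle : m ≤ n)
    (x : AdicCompletion I R) :
    Ideal.Quotient.factorPow I hle (AdicCompletion.evalₐ I n x) = AdicCompletion.evalₐ I m x := by
  obtain ⟨c, rfl⟩ := AdicCompletion.mk_surjective I R x
  rw [AdicCompletion.evalₐ_mk, AdicCompletion.evalₐ_mk]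
  simp only [Ideal.Quotient.factorPow, Ideal.Quotient.factor_mk]
  rw [Ideal.Quotient.eq]
  have := c.property hle
  rw [SModEq, Submodule.Quotient.eq] at this
  simpa using (Submodule.neg_mem_iff _).mpr this |> fun h => by simpa using h

section
variable (A A' : Type u) [CommRing A] [CommRing A'] [IsLocalRing A] [IsLocalRing A']
  [Algebra A A'] [IsLocalHom (algebraMap A A')]

theorem pow_le_comap (n : ℕ) :
    maximalIdeal A ^ n ≤ (maximalIdeal A' ^ n).comap (algebraMap A A') := by
  have h1 : maximalIdeal A ≤ (maximalIdeal A').comap (algebraMap A A') := by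
    intro a ha
    rw [Ideal.mem_comap, mem_maximalIdeal, mem_nonunits_iff]
    intro hu
    exact ha (isUnit_of_map_unit _ _ hu)
  calc maximalIdeal A ^ n ≤ ((maximalIdeal A').comap (algebraMap A A')) ^ n := Ideal.pow_right_mono h1 n
    _ ≤ (maximalIdeal A' ^ n).comap (algebraMap A A') := Ideal.le_comap_pow _ n

/-- the maps `Â → A'/m'^n`. -/
noncomputable def cplMapAux (n : ℕ) :
    AdicCompletion (maximalIdeal A) A →+* A' ⧸ maximalIdeal A' ^ n :=
  (Ideal.quotientMap (maximalIdeal A' ^ n) (algebraMap A A') (pow_le_comap A A' n)).comp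
    (AdicCompletion.evalₐ (maximalIdeal A) n : _ →+* _)

theorem cplMapAux_compat {m n : ℕ} (hle : m ≤ n) :
    (Ideal.Quotient.factorPow (maximalIdeal A') hle).comp (cplMapAux A A' n) = cplMapAux A A' m := by
  ext x
  simp only [cplMapAux, RingHom.comp_apply, RingHom.coe_coe]
  rw [← factorPow_evalₐ (maximalIdeal A) hle x]
  obtain ⟨a, ha⟩ := Ideal.Quotient.mk_surjective (AdicCompletion.evalₐ (maximalIdeal A) n x)
  rw [← ha]
  simp only [Ideal.Quotient.factorPow, Ideal.Quotient.factor_mk, Ideal.quotientMap_mk]

/-- The map induced on completions by a local homomorphism. -/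
noncomputable def cplMap :
    AdicCompletion (maximalIdeal A) A →+* AdicCompletion (maximalIdeal A') A' :=
  AdicCompletion.liftRingHom (maximalIdeal A') (cplMapAux A A') (cplMapAux_compat A A')

theorem evalₐ_cplMap (n : ℕ) (x : AdicCompletion (maximalIdeal A) A) :
    AdicCompletion.evalₐ (maximalIdeal A') n (cplMap A A' x) =
      Ideal.quotientMap (maximalIdeal A' ^ n) (algebraMap A A') (pow_le_comap A A' n)
        (AdicCompletion.evalₐ (maximalIdeal A) n x) := by
  rw [cplMap, AdicCompletion.evalₐ_liftRingHom]
  rfl

theorem cplMap_comp :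
    (cplMap A A').comp (algebraMap A (AdicCompletion (maximalIdeal A) A)) =
      (algebraMap A' (AdicCompletion (maximalIdeal A') A')).comp (algebraMap A A') := by
  refine RingHom.ext fun a => ?_
  apply AdicCompletion.ext_evalₐ
  intro n
  simp only [RingHom.comp_apply]
  rw [evalₐ_cplMap]
  change Ideal.quotientMap _ _ _ (AdicCompletion.evalₐ _ n (AdicCompletion.of _ A a)) =
    AdicCompletion.evalₐ _ n (AdicCompletion.of _ A' (algebraMap A A' a))
  rw [AdicCompletion.evalₐ_of, AdicCompletion.evalₐ_of, Ideal.quotientMap_mk]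

end


theorem flat_of_isField (R M : Type*) [CommRing R] [AddCommGroup M] [Module R M] (h : IsField R) :
    Module.Flat R M := by
  letI := h.toField
  infer_instance

section
variable (A B : Type u) [CommRing A] [CommRing B]
    [IsLocalRing A] [IsLocalRing B] [IsNoetherianRing A] [IsNoetherianRing B] [Algebra A B]
    [IsLocalHom (algebraMap A B)]

variable (ψ : (AdicCompletion (maximalIdeal A) A) →+* (AdicCompletion (maximalIdeal B) B))
    (hψ : ψ.comp (algebraMap A (AdicCompletion (maximalIdeal A) A)) =
      (algebraMap B (AdicCompletion (maximalIdeal B) B)).comp (algebraMap A B))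

include hψ in
theorem map_maximalIdeal_le :
    (maximalIdeal (AdicCompletion (maximalIdeal A) A)).map ψ ≤
      maximalIdeal (AdicCompletion (maximalIdeal B) B) := by
  rw [AdicCompletion.maximalIdeal_eq_map (R := A), Ideal.map_map, hψ, ← Ideal.map_map,
    AdicCompletion.maximalIdeal_eq_map (R := B)]
  apply Ideal.map_mono
  rw [Ideal.map_le_iff_le_comap]
  intro a ha
  rw [Ideal.mem_comap, mem_maximalIdeal, mem_nonunits_iff]
  intro hu
  exact ha (isUnit_of_map_unit _ _ hu)

include hψ in
theorem isLocalHom_of_comp : IsLocalHom ψ := by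
  have h := map_maximalIdeal_le A B ψ hψ
  refine ⟨fun x hx => ?_⟩
  by_contra hx'
  have : x ∈ maximalIdeal (AdicCompletion (maximalIdeal A) A) := hx'
  have h2 : ψ x ∈ maximalIdeal (AdicCompletion (maximalIdeal B) B) :=
    h (Ideal.mem_map_of_mem _ this)
  exact h2 hx

include hψ in
theorem flat_completion [Module.Flat A B] : ψ.Flat := by
  letI := ψ.toAlgebra
  change Module.Flat (AdicCompletion (maximalIdeal A) A) (AdicCompletion (maximalIdeal B) B)
  haveI : IsNoetherianRing (AdicCompletion (maximalIdeal A) A) :=
    ComplEtale.isNoetherianRing_completion A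
  haveI : IsNoetherianRing (AdicCompletion (maximalIdeal B) B) :=
    ComplEtale.isNoetherianRing_completion B
  haveI : IsScalarTower A (AdicCompletion (maximalIdeal A) A)
      (AdicCompletion (maximalIdeal B) B) :=
    IsScalarTower.of_algebraMap_eq' (R := A) (S := AdicCompletion (maximalIdeal A) A)
      (A := AdicCompletion (maximalIdeal B) B) (by
        rw [IsScalarTower.algebraMap_eq A B (AdicCompletion (maximalIdeal B) B)]
        exact hψ.symm)
  haveI : Module.Flat A (AdicCompletion (maximalIdeal B) B) := Module.Flat.trans A B _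
  refine Groth.Agent.Lib.Helper8.flat_of_local_criterion_of_finite
    (A := AdicCompletion (maximalIdeal A) A) (B := AdicCompletion (maximalIdeal B) B)
    (maximalIdeal (AdicCompletion (maximalIdeal A) A)) ?_ (AdicCompletion (maximalIdeal B) B) ?_ ?_
  · rw [IsLocalRing.jacobson_eq_maximalIdeal ⊥ bot_ne_top]
    exact map_maximalIdeal_le A B ψ hψ
  · exact flat_of_isField _ _ ((Ideal.Quotient.maximal_ideal_iff_isField_quotient _).mp
      inferInstance)
  · have := ComplEtale.rTensor_map_injective (R := A) (S := AdicCompletion (maximalIdeal A) A)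
      (M := AdicCompletion (maximalIdeal B) B) (maximalIdeal A)
    rwa [← AdicCompletion.maximalIdeal_eq_map (R := A)] at this

include hψ in
theorem faithfullyFlat_completion [Module.Flat A B] :
    letI := ψ.toAlgebra
    Module.FaithfullyFlat (AdicCompletion (maximalIdeal A) A) (AdicCompletion (maximalIdeal B) B) := by
  letI := ψ.toAlgebra
  haveI : Module.Flat (AdicCompletion (maximalIdeal A) A) (AdicCompletion (maximalIdeal B) B) :=
    flat_completion A B ψ hψ
  haveI : IsLocalHom (algebraMap (AdicCompletion (maximalIdeal A) A)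
      (AdicCompletion (maximalIdeal B) B)) := isLocalHom_of_comp A B ψ hψ
  exact Module.FaithfullyFlat.of_flat_of_isLocalHom

end


section
variable (A A' : Type u) [CommRing A] [CommRing A'] [IsLocalRing A] [IsLocalRing A']
  [IsNoetherianRing A] [IsNoetherianRing A'] [Algebra A A'] [IsLocalHom (algebraMap A A')]

theorem cplMap_flat [Module.Flat A A'] : (cplMap A A').Flat :=
  flat_completion A A' (cplMap A A') (cplMap_comp A A')

theorem cplMap_faithfullyFlat [Module.Flat A A'] :
    letI := (cplMap A A').toAlgebra
    Module.FaithfullyFlat (AdicCompletion (maximalIdeal A) A)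
      (AdicCompletion (maximalIdeal A') A') :=
  faithfullyFlat_completion A A' (cplMap A A') (cplMap_comp A A')

theorem cplMap_isScalarTower :
    letI := (cplMap A A').toAlgebra
    IsScalarTower A (AdicCompletion (maximalIdeal A) A) (AdicCompletion (maximalIdeal A') A') := by
  letI := (cplMap A A').toAlgebra
  exact IsScalarTower.of_algebraMap_eq' (R := A) (S := AdicCompletion (maximalIdeal A) A)
      (A := AdicCompletion (maximalIdeal A') A') (by
        rw [IsScalarTower.algebraMap_eq A A' (AdicCompletion (maximalIdeal A') A')]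
        exact (cplMap_comp A A').symm)

end

end Groth.Agent.Lib.Helper14.ComplFlat
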