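import Mathlib
import Groth.Prelude.Def_EGA4b
import Groth.Agent.Lib.Helper14.ComplFlat

set_option autoImplicit false
universe u

namespace Groth.Agent.Lib.Helper14.ComplQuot

open IsLocalRing TensorProduct EGA4 Groth.Agent.Lib.Helper14.ComplFlat

section
variable (A : Type u) [CommRing A] [IsLocalRing A] (I : Ideal A) [Nontrivial (A ⧸ I)]

instance isLocalHom_quotient : IsLocalHom (algebraMap A (A ⧸ I)) := by
  refine ⟨fun a ha => ?_⟩
  by_contra hna
  have h1 : a ∈ maximalIdeal A := hna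
  have h2 : I ≤ maximalIdeal A := by
    apply IsLocalRing.le_maximalIdeal
    intro h
    have : (1 : A ⧸ I) = 0 := by
      rw [← map_one (Ideal.Quotient.mk I), Ideal.Quotient.eq_zero_iff_mem, h]
      trivial
    exact one_ne_zero this
  obtain ⟨b, hb⟩ := ha.exists_right_inv
  obtain ⟨c, rfl⟩ := Ideal.Quotient.mk_surjective b
  have h3 : a * c - 1 ∈ I := by
    rw [← Ideal.Quotient.eq_zero_iff_mem, map_sub, map_mul, map_one]
    exact sub_eq_zero.mpr hb
  have h4 : (1 : A) ∈ maximalIdeal A := by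
    have : (1 : A) = a * c - (a * c - 1) := by ring
    rw [this]
    exact Ideal.sub_mem _ (Ideal.mul_mem_right _ _ h1) (h2 h3)
  exact (Ideal.ne_top_iff_one _).mp (maximalIdeal.isMaximal A).ne_top h4

theorem map_maximalIdeal_quotient :
    (maximalIdeal A).map (algebraMap A (A ⧸ I)) = maximalIdeal (A ⧸ I) := by
  apply le_antisymm
  · rw [Ideal.map_le_iff_le_comap]
    intro a ha
    rw [Ideal.mem_comap, mem_maximalIdeal, mem_nonunits_iff]
    intro hu
    exact ha (isUnit_of_map_unit _ _ hu)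
  · intro x hx
    obtain ⟨a, rfl⟩ := Ideal.Quotient.mk_surjective x
    refine Ideal.mem_map_of_mem _ ?_
    rw [mem_maximalIdeal, mem_nonunits_iff]
    intro hu
    exact hx (hu.map (algebraMap A (A ⧸ I)))

end

section
variable (A : Type u) [CommRing A] [IsNoetherianRing A] [IsLocalRing A] (I : Ideal A)
  [Nontrivial (A ⧸ I)]

theorem map_maximalIdeal_cplMap :
    (maximalIdeal (Cpl A)).map (cplMap A (A ⧸ I)) = maximalIdeal (Cpl (A ⧸ I)) := by
  rw [AdicCompletion.maximalIdeal_eq_map (R := A), Ideal.map_map, cplMap_comp, ← Ideal.map_map,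
    map_maximalIdeal_quotient, ← AdicCompletion.maximalIdeal_eq_map (R := A ⧸ I)]

theorem exists_sub_mem_maximalIdeal (R : Type u) [CommRing R] [IsNoetherianRing R] [IsLocalRing R]
    (y : Cpl R) : ∃ a : R, y - algebraMap R (Cpl R) a ∈ maximalIdeal (Cpl R) := by
  obtain ⟨a, ha⟩ := Ideal.Quotient.mk_surjective (AdicCompletion.evalOneₐ (maximalIdeal R) y)
  refine ⟨a, ?_⟩
  rw [AdicCompletion.maximalIdeal_eq_map (R := R),
    ← AdicCompletion.ker_evalOneₐ_eq_map _ (IsNoetherian.noetherian _), RingHom.mem_ker, map_sub]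
  rw [sub_eq_zero]
  change AdicCompletion.evalOneₐ (maximalIdeal R) y =
    AdicCompletion.evalOneₐ (maximalIdeal R) (algebraMap R (Cpl R) a)
  rw [← ha]
  have := AdicCompletion.evalOneₐ_comp_algebraMap_eq_mk (maximalIdeal R)
  exact (DFunLike.congr_fun this a).symm

theorem cplMap_surjective : Function.Surjective (cplMap A (A ⧸ I)) := by
  haveI h1 : IsPrecomplete (maximalIdeal (Cpl A)) (Cpl A) := by
    have := AdicCompletion.isAdicComplete_self (maximalIdeal A) (IsNoetherian.noetherian _)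
    rw [← AdicCompletion.maximalIdeal_eq_map (R := A)] at this
    exact this.toIsPrecomplete
  haveI h2 : IsHausdorff ((maximalIdeal (Cpl A)).map (cplMap A (A ⧸ I))) (Cpl (A ⧸ I)) := by
    rw [map_maximalIdeal_cplMap]
    have := AdicCompletion.isAdicComplete_self (maximalIdeal (A ⧸ I)) (IsNoetherian.noetherian _)
    rw [← AdicCompletion.maximalIdeal_eq_map (R := A ⧸ I)] at this
    exact this.toIsHausdorff
  apply surjective_of_mk_map_comp_surjective (I := maximalIdeal (Cpl A)) (cplMap A (A ⧸ I))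
  intro y
  obtain ⟨y0, rfl⟩ := Ideal.Quotient.mk_surjective y
  obtain ⟨a', ha'⟩ := exists_sub_mem_maximalIdeal (A ⧸ I) y0
  obtain ⟨a, rfl⟩ := Ideal.Quotient.mk_surjective a'
  refine ⟨algebraMap A (Cpl A) a, ?_⟩
  rw [RingHom.comp_apply]
  have h3 := DFunLike.congr_fun (cplMap_comp A (A ⧸ I)) a
  simp only [RingHom.comp_apply] at h3
  rw [h3, Ideal.Quotient.eq, map_maximalIdeal_cplMap]
  have : algebraMap (A ⧸ I) (Cpl (A ⧸ I)) (algebraMap A (A ⧸ I) a) - y0 =
      -(y0 - algebraMap (A ⧸ I) (Cpl (A ⧸ I)) (Ideal.Quotient.mk I a)) := by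
    rw [neg_sub]; rfl
  rw [this]
  exact neg_mem ha'

end

section
variable {R : Type u} [CommRing R] (I : Ideal R)

lemma mem_map_of_evalₐ_eq_zero (hI : I.FG) (n : ℕ) (x : AdicCompletion I R)
    (hx : AdicCompletion.evalₐ I n x = 0) :
    x ∈ (I ^ n).map (algebraMap R (AdicCompletion I R)) := by
  have h1 : x ∈ LinearMap.ker (AdicCompletion.eval I R n) := by
    rw [LinearMap.mem_ker, ← AdicCompletion.factor_evalₐ_eq_eval I x
      (le_of_eq (by simp only [smul_eq_mul, Ideal.mul_top])), hx, map_zero]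
  rw [← AdicCompletion.pow_smul_top_eq_ker_eval hI] at h1
  have h2 := Ideal.smul_top_eq_map (R := R) (S := AdicCompletion I R) (I ^ n)
  rw [h2] at h1
  exact h1

end

section
variable (A : Type u) [CommRing A] [IsNoetherianRing A] [IsLocalRing A] (I : Ideal A)
  [Nontrivial (A ⧸ I)]

theorem ker_cplMap : RingHom.ker (cplMap A (A ⧸ I)) = I.map (algebraMap A (Cpl A)) := by
  apply le_antisymm
  · intro x hx
    rw [RingHom.mem_ker] at hx
    haveI : IsNoetherianRing (Cpl A) := ComplEtale.isNoetherianRing_completion A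
    haveI : IsHausdorff (maximalIdeal (Cpl A)) (Cpl A ⧸ I.map (algebraMap A (Cpl A))) :=
      IsHausdorff.of_le_jacobson _ _
        (by rw [IsLocalRing.jacobson_eq_maximalIdeal ⊥ bot_ne_top])
    rw [← Ideal.Quotient.eq_zero_iff_mem]
    apply IsHausdorff.haus' (I := maximalIdeal (Cpl A))
    intro n
    obtain ⟨a, ha⟩ := Ideal.Quotient.mk_surjective (AdicCompletion.evalₐ (maximalIdeal A) n x)
    have h1 : x - algebraMap A (Cpl A) a ∈ (maximalIdeal (Cpl A)) ^ n := by
      rw [AdicCompletion.maximalIdeal_eq_map (R := A), ← Ideal.map_pow]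
      apply mem_map_of_evalₐ_eq_zero _ (IsNoetherian.noetherian _)
      rw [map_sub, sub_eq_zero, ← ha]
      change _ = AdicCompletion.evalₐ _ n (AdicCompletion.of _ A a)
      rw [AdicCompletion.evalₐ_of]
    have h2 : a ∈ (maximalIdeal A) ^ n ⊔ I := by
      have h3 := evalₐ_cplMap A (A ⧸ I) n x
      rw [hx, map_zero, ← ha, Ideal.quotientMap_mk, eq_comm, Ideal.Quotient.eq_zero_iff_mem,
        ← map_maximalIdeal_quotient, ← Ideal.map_pow] at h3
      obtain ⟨b, hb, hab⟩ := (Ideal.mem_map_iff_of_surjective _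
        Ideal.Quotient.mk_surjective).mp h3
      have h4 : a - b ∈ I := by
        rw [← Ideal.Quotient.eq_zero_iff_mem, map_sub, sub_eq_zero]
        exact hab.symm
      have : a = b + (a - b) := by ring
      rw [this]
      exact Ideal.add_mem _ (Ideal.mem_sup_left hb) (Ideal.mem_sup_right h4)
    obtain ⟨b, hb, c, hc, rfl⟩ := Submodule.mem_sup.mp h2
    rw [SModEq.zero]
    have h5 : x - algebraMap A (Cpl A) c ∈ (maximalIdeal (Cpl A)) ^ n := by
      have : x - algebraMap A (Cpl A) c = (x - algebraMap A (Cpl A) (b + c)) +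
          algebraMap A (Cpl A) b := by rw [map_add]; ring
      rw [this]
      refine Ideal.add_mem _ h1 ?_
      rw [AdicCompletion.maximalIdeal_eq_map (R := A), ← Ideal.map_pow]
      exact Ideal.mem_map_of_mem _ hb
    have h6 : Ideal.Quotient.mk (I.map (algebraMap A (Cpl A))) x =
        Ideal.Quotient.mk (I.map (algebraMap A (Cpl A))) (x - algebraMap A (Cpl A) c) := by
      rw [map_sub, (Ideal.Quotient.eq_zero_iff_mem).mpr (Ideal.mem_map_of_mem _ hc), sub_zero]
    rw [h6]
    have h8 : Ideal.Quotient.mk (I.map (algebraMap A (Cpl A))) (x - algebraMap A (Cpl A) c) =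
        (x - algebraMap A (Cpl A) c) • (1 : Cpl A ⧸ I.map (algebraMap A (Cpl A))) := by
      rw [Algebra.smul_def, mul_one]; rfl
    rw [h8]
    exact Submodule.smul_mem_smul h5 Submodule.mem_top
  · rw [Ideal.map_le_iff_le_comap]
    intro a ha
    rw [Ideal.mem_comap, RingHom.mem_ker]
    have h3 := DFunLike.congr_fun (cplMap_comp A (A ⧸ I)) a
    simp only [RingHom.comp_apply] at h3
    rw [h3]
    have : algebraMap A (A ⧸ I) a = 0 := Ideal.Quotient.eq_zero_iff_mem.mpr ha
    rw [this, map_zero]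

end

section
variable (A : Type u) [CommRing A] [IsNoetherianRing A] [IsLocalRing A] (I : Ideal A)
  [Nontrivial (A ⧸ I)]

theorem isPushout_quotient' :
    letI := (cplMap A (A ⧸ I)).toAlgebra
    haveI := cplMap_isScalarTower A (A ⧸ I)
    Algebra.IsPushout A (Cpl A) (A ⧸ I) (Cpl (A ⧸ I)) := by
  letI := (cplMap A (A ⧸ I)).toAlgebra
  haveI : IsScalarTower A (Cpl A) (Cpl (A ⧸ I)) := cplMap_isScalarTower A (A ⧸ I)
  constructor
  let e1 : (Cpl A ⧸ I.map (algebraMap A (Cpl A))) ≃ₐ[Cpl A] Cpl A ⊗[A] (A ⧸ I) :=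
    Algebra.TensorProduct.quotIdealMapEquivTensorQuot (Cpl A) I
  have hker : I.map (algebraMap A (Cpl A)) =
      RingHom.ker (Algebra.ofId (Cpl A) (Cpl (A ⧸ I))) := (ker_cplMap A I).symm
  have hsurj : Function.Surjective (Algebra.ofId (Cpl A) (Cpl (A ⧸ I))) := cplMap_surjective A I
  let e2 : (Cpl A ⧸ I.map (algebraMap A (Cpl A))) ≃ₐ[Cpl A] Cpl (A ⧸ I) :=
    (Ideal.quotientEquivAlgOfEq (Cpl A) hker).trans
      (Ideal.quotientKerAlgEquivOfSurjective hsurj)
  refine IsBaseChange.of_equiv (e1.symm.trans e2).toLinearEquiv ?_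
  intro x
  obtain ⟨a, rfl⟩ := Ideal.Quotient.mk_surjective x
  change e2 (e1.symm ((1 : Cpl A) ⊗ₜ[A] (Ideal.Quotient.mk I a))) = _
  have h1 : e1.symm ((1 : Cpl A) ⊗ₜ[A] (Ideal.Quotient.mk I a)) =
      Ideal.Quotient.mk _ (algebraMap A (Cpl A) a) := by
    rw [AlgEquiv.symm_apply_eq]
    change _ = (algebraMap A (Cpl A) a) ⊗ₜ[A] (1 : A ⧸ I)
    rw [Algebra.algebraMap_eq_smul_one, TensorProduct.smul_tmul]
    congr 1
    rw [Algebra.smul_def, mul_one]; rfl
  rw [h1]
  change cplMap A (A ⧸ I) (algebraMap A (Cpl A) a) = _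
  have h3 := DFunLike.congr_fun (cplMap_comp A (A ⧸ I)) a
  simp only [RingHom.comp_apply] at h3
  rw [h3]
  rfl

theorem isPushout_quotient :
    letI := (cplMap A (A ⧸ I)).toAlgebra
    haveI := cplMap_isScalarTower A (A ⧸ I)
    Algebra.IsPushout A (A ⧸ I) (Cpl A) (Cpl (A ⧸ I)) := by
  letI := (cplMap A (A ⧸ I)).toAlgebra
  haveI : IsScalarTower A (Cpl A) (Cpl (A ⧸ I)) := cplMap_isScalarTower A (A ⧸ I)
  haveI := isPushout_quotient' A I
  exact Algebra.IsPushout.symm inferInstance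

end

end Groth.Agent.Lib.Helper14.ComplQuot
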