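import Mathlib

/-!
# A local-global finiteness criterion for torsion-free-at-`f` modules
-/

set_option autoImplicit false

namespace Groth.Agent.Lib.Helper14.LocFinite

variable {A : Type*} [CommRing A] {M : Type*} [AddCommGroup M] [Module A M]

/-- If the localization of `M` at `S` is finite, some f.g. submodule absorbs every element after
multiplication by an element of `S`. -/
lemma exists_fg_of_finite_localized (S : Submonoid A)
    (h : Module.Finite (Localization S) (LocalizedModule S M)) :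
    ∃ B : Submodule A M, B.FG ∧ ∀ x : M, ∃ s ∈ S, s • x ∈ B := by
  classical
  obtain ⟨T, hT⟩ := h.fg_top
  have hrep : ∀ g : LocalizedModule S M, ∃ m : M, ∃ s : S, LocalizedModule.mk m s = g := by
    intro g
    induction g using LocalizedModule.induction_on with
    | _ m s => exact ⟨m, s, rfl⟩
  choose num den hnd using hrep
  refine ⟨Submodule.span A (num '' (T : Set (LocalizedModule S M))),
    Submodule.fg_span ((Finset.finite_toSet T).image _), ?_⟩
  set B := Submodule.span A (num '' (T : Set (LocalizedModule S M))) with hB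
  have key : ∀ y : LocalizedModule S M, ∃ m ∈ B, ∃ s : S, y = LocalizedModule.mk m s := by
    intro y
    have hy : y ∈ Submodule.span (Localization S) (T : Set (LocalizedModule S M)) := by
      rw [hT]; trivial
    induction hy using Submodule.span_induction with
    | mem g hg =>
      exact ⟨num g, Submodule.subset_span ⟨g, hg, rfl⟩, den g, (hnd g).symm⟩
    | zero => exact ⟨0, B.zero_mem, 1, (LocalizedModule.zero_mk 1).symm⟩
    | add y z _ _ hy hz =>
      obtain ⟨m, hm, s, rfl⟩ := hy
      obtain ⟨m', hm', s', rfl⟩ := hz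
      refine ⟨s' • m + s • m', B.add_mem (B.smul_mem _ hm) (B.smul_mem _ hm'), s * s', ?_⟩
      rw [LocalizedModule.mk_add_mk]
    | smul r y _ hy =>
      obtain ⟨m, hm, s, rfl⟩ := hy
      induction r using Localization.induction_on with
      | _ as =>
        obtain ⟨a, t⟩ := as
        exact ⟨a • m, B.smul_mem _ hm, t * s, LocalizedModule.mk_smul_mk a m t s⟩
  intro x
  obtain ⟨m, hm, s, hs⟩ := key (LocalizedModule.mk x 1)
  rw [LocalizedModule.mk_eq] at hs
  obtain ⟨u, hu⟩ := hs
  refine ⟨(u * s : S), (u * s).2, ?_⟩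
  have : ((u * s : S) : A) • x = (u : A) • m := by
    have h1 : (u : A) • (s : A) • x = (u : A) • ((1 : S) : A) • m := hu
    rw [Submonoid.coe_mul, mul_smul, h1, Submonoid.coe_one, one_smul]
  rw [this]
  exact B.smul_mem _ hm

/-- Uniform multiplier for a finitely generated submodule. -/
lemma exists_common (S : Submonoid A) (P : Submodule A M) (N : Submodule A M) (hN : N.FG)
    (h : ∀ x ∈ N, ∃ s ∈ S, s • x ∈ P) : ∃ s ∈ S, ∀ x ∈ N, s • x ∈ P := by
  revert h
  refine Submodule.fg_induction (motive := fun N _ => (∀ x ∈ N, ∃ s ∈ S, s • x ∈ P) →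
    ∃ s ∈ S, ∀ x ∈ N, s • x ∈ P) ?_ ?_ N hN
  · intro x h
    obtain ⟨s, hs, hsx⟩ := h x (Submodule.mem_span_singleton_self x)
    refine ⟨s, hs, ?_⟩
    intro y hy
    obtain ⟨a, rfl⟩ := Submodule.mem_span_singleton.1 hy
    rw [smul_comm]
    exact P.smul_mem _ hsx
  · intro N₁ N₂ _ _ ih₁ ih₂ h
    obtain ⟨s₁, hs₁, h₁⟩ := ih₁ fun x hx => h x (Submodule.mem_sup_left hx)
    obtain ⟨s₂, hs₂, h₂⟩ := ih₂ fun x hx => h x (Submodule.mem_sup_right hx)
    refine ⟨s₁ * s₂, S.mul_mem hs₁ hs₂, ?_⟩
    intro y hy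
    obtain ⟨y₁, hy₁, y₂, hy₂, rfl⟩ := Submodule.mem_sup.1 hy
    rw [smul_add]
    refine P.add_mem ?_ ?_
    · rw [mul_comm, mul_smul]; exact P.smul_mem _ (h₁ y₁ hy₁)
    · rw [mul_smul]; exact P.smul_mem _ (h₂ y₂ hy₂)

/-- A f.g. submodule lies in one member of an exhaustive increasing chain. -/
lemma exists_le_of_fg (C : ℕ → Submodule A M) (hC : Monotone C) (hU : ∀ x, ∃ n, x ∈ C n)
    (N : Submodule A M) (hN : N.FG) : ∃ n, N ≤ C n := by
  refine Submodule.fg_induction (motive := fun N _ => ∃ n, N ≤ C n) ?_ ?_ N hN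
  · intro x
    obtain ⟨n, hn⟩ := hU x
    exact ⟨n, (Submodule.span_singleton_le_iff_mem _ _).2 hn⟩
  · rintro N₁ N₂ _ _ ⟨n₁, h₁⟩ ⟨n₂, h₂⟩
    exact ⟨max n₁ n₂, sup_le (h₁.trans (hC (le_max_left _ _))) (h₂.trans (hC (le_max_right _ _)))⟩

theorem finite_of_localized [IsNoetherianRing A] (f : A) (hf : ∀ x : M, f • x = 0 → x = 0)
    (h1 : Module.Finite (Localization.Away f) (LocalizedModule (Submonoid.powers f) M))
    (h2 : ∀ (p : Ideal A) [p.IsPrime],
      Module.Finite (Localization.AtPrime p) (LocalizedModule p.primeCompl M)) :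
    Module.Finite A M := by
  classical
  obtain ⟨B, hBfg, hB⟩ := exists_fg_of_finite_localized (Submonoid.powers f) h1
  let Cn : ℕ → Submodule A M := fun n => B.comap ((f ^ n) • (LinearMap.id : M →ₗ[A] M))
  have hCmem : ∀ n x, x ∈ Cn n ↔ f ^ n • x ∈ B := fun n x => Iff.rfl
  have hCmono : Monotone Cn := by
    refine monotone_nat_of_le_succ fun n x hx => ?_
    rw [hCmem] at hx ⊢
    rw [pow_succ', mul_smul]
    exact B.smul_mem _ hx
  have hCunion : ∀ x, ∃ n, x ∈ Cn n := by
    intro x
    obtain ⟨s, ⟨n, rfl⟩, hs⟩ := hB x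
    exact ⟨n, hs⟩
  have hfpow : ∀ n (x : M), f ^ n • x = 0 → x = 0 := by
    intro n
    induction n with
    | zero => intro x hx; simpa using hx
    | succ n ih =>
      intro x hx
      rw [pow_succ', mul_smul] at hx
      exact ih x (hf _ hx)
  haveI : IsNoetherian A B := isNoetherian_of_fg_of_noetherian B hBfg
  have hCfg : ∀ n, (Cn n).FG := by
    intro n
    let g : Cn n →ₗ[A] B :=
      LinearMap.codRestrict B (((f ^ n) • (LinearMap.id : M →ₗ[A] M)).comp (Cn n).subtype)
        (fun x => x.2)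
    have hg : Function.Injective g := by
      rw [← LinearMap.ker_eq_bot, LinearMap.ker_eq_bot']
      intro x hx
      have h3 : f ^ n • (x : M) = 0 := congrArg Subtype.val hx
      exact Subtype.ext (hfpow n _ h3)
    haveI : Module.Finite A (Cn n) := Module.Finite.of_injective g hg
    exact Module.Finite.iff_fg.1 inferInstance
  let I : ℕ → Ideal A := fun n => (Cn n).colon (Cn (n + 1) : Set M)
  have hImono : Monotone I := by
    refine monotone_nat_of_le_succ fun n a ha => ?_
    rw [Submodule.mem_colon] at ha ⊢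
    intro x hx
    have h3 : f • x ∈ Cn (n + 1) := by
      have hx' : f ^ (n + 1 + 1) • x ∈ B := hx
      rw [hCmem, smul_smul, ← pow_succ]
      exact hx'
    have h4 := ha _ h3
    rw [hCmem] at h4 ⊢
    rw [pow_succ, mul_smul, smul_comm f a x]
    exact h4
  obtain ⟨n0, hn0⟩ := monotone_stabilizes_iff_noetherian.2 (inferInstance : IsNoetherian A A)
    ⟨I, hImono⟩
  have hItop : I n0 = ⊤ := by
    by_contra hne
    obtain ⟨p, hpmax, hIp⟩ := Ideal.exists_le_maximal _ hne
    haveI := hpmax.isPrime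
    obtain ⟨B', hB'fg, hB'⟩ := exists_fg_of_finite_localized p.primeCompl (h2 p)
    obtain ⟨n1, hn1⟩ := exists_le_of_fg Cn hCmono hCunion B' hB'fg
    have hx : ∀ x ∈ Cn (max n0 n1 + 1), ∃ s ∈ p.primeCompl, s • x ∈ Cn (max n0 n1) := by
      intro x _
      obtain ⟨s, hs, h⟩ := hB' x
      exact ⟨s, hs, hCmono (le_max_right _ _) (hn1 h)⟩
    obtain ⟨s, hs, hsC⟩ := exists_common p.primeCompl _ _ (hCfg _) hx
    have h5 : s ∈ I (max n0 n1) := Submodule.mem_colon.2 hsC
    have h6 : I n0 = I (max n0 n1) := hn0 _ (le_max_left _ _)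
    rw [← h6] at h5
    exact hs (hIp h5)
  have hstab : Cn (n0 + 1) ≤ Cn n0 := by
    intro x hx
    have h3 : (1 : A) ∈ I n0 := by rw [hItop]; trivial
    have h4 := Submodule.mem_colon.1 h3 x hx
    rwa [one_smul] at h4
  have hall : ∀ m, Cn (n0 + m) ≤ Cn n0 := by
    intro m
    induction m with
    | zero => exact le_rfl
    | succ m ih =>
      intro x hx
      have h3 : f ^ m • x ∈ Cn (n0 + 1) := by
        rw [hCmem, smul_smul, ← pow_add]
        have hx' : f ^ (n0 + (m + 1)) • x ∈ B := hx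
        rw [show n0 + 1 + m = n0 + (m + 1) by ring]
        exact hx'
      have h4 := hstab h3
      apply ih
      rw [hCmem] at h4 ⊢
      rwa [smul_smul, ← pow_add] at h4
  have htop : Cn n0 = ⊤ := by
    refine eq_top_iff.2 fun x _ => ?_
    obtain ⟨n, hn⟩ := hCunion x
    exact hall n (hCmono (Nat.le_add_left n n0) hn)
  refine Module.finite_def.2 ?_
  have := hCfg n0
  rw [htop] at this
  exact this

end Groth.Agent.Lib.Helper14.LocFinite
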