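import Mathlib
import Groth.Prelude.Def_EGA4b
import Groth.Agent.Lib.Helper14.ComplQuot
import Groth.Agent.Lib.Helper14.LocFinite
import Groth.Agent.Lib.Helper9.RegLocal

/-!
# A criterion for a flat local extension (e.g. the completion) to be reduced (helper14)

`R` Noetherian, `x` a nonzerodivisor, `B` a flat Noetherian local `R`-algebra with `x ∈ 𝔪_B`.
If for every associated prime `p` of `R/xR` the ring `R_p` is a DVR and `B/pB` is reduced,
then `B` is reduced.
-/

set_option autoImplicit false
universe u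
open IsLocalRing TensorProduct

namespace Groth.Agent.Lib.Helper14.CplReducedCrit

section core
variable {R : Type u} [CommRing R] (B : Type u) [CommRing B] [Algebra R B]

lemma mem_smul_top_iff (x : R) (b : B) :
    b ∈ (Ideal.span {x} • ⊤ : Submodule R B) ↔ ∃ c : B, b = algebraMap R B x * c := by
  rw [Submodule.ideal_span_singleton_smul, Submodule.mem_smul_pointwise_iff_exists]
  constructor
  · rintro ⟨c, -, rfl⟩
    exact ⟨c, Algebra.smul_def x c⟩
  · rintro ⟨c, rfl⟩
    exact ⟨c, trivial, Algebra.smul_def x c⟩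

variable [IsNoetherianRing R] [Module.Flat R B]

/-- Global step: membership in `xB` can be tested at the associated primes of `R/xR`. -/
theorem mem_of_forall_ass (x : R) (n : B)
    (h : ∀ p ∈ associatedPrimes R (R ⧸ Ideal.span {x}), ∃ s : R, s ∉ p ∧
      s • n ∈ (Ideal.span {x} • ⊤ : Submodule R B)) :
    n ∈ (Ideal.span {x} • ⊤ : Submodule R B) := by
  by_contra hn
  have h𝔞 : (((Ideal.span {x} • ⊤ : Submodule R B).colon ({n} : Set B) : Ideal R) : Set R) ⊆
      ⋃ p ∈ associatedPrimes R (R ⧸ Ideal.span {x}), (p : Set R) := by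
    intro r hr
    rw [biUnion_associatedPrimes_eq_compl_regular]
    intro hreg
    have h1 : IsSMulRegular (B ⊗[R] (R ⧸ Ideal.span {x})) r := IsSMulRegular.lTensor B hreg
    have h2 : IsSMulRegular (B ⧸ (Ideal.span {x} • ⊤ : Submodule R B)) r :=
      (LinearEquiv.isSMulRegular_congr (TensorProduct.tensorQuotEquivQuotSMul B (Ideal.span {x}))
        r).mp h1
    exact hn (mem_of_isSMulRegular_quotient_of_smul_mem h2
      (Submodule.mem_colon_singleton.mp hr))
  have hfin : (associatedPrimes R (R ⧸ Ideal.span {x})).Finite := associatedPrimes.finite R _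
  have h2 : ((((Ideal.span {x} • ⊤ : Submodule R B).colon ({n} : Set B) : Ideal R) : Set R) ⊆
      ⋃ p ∈ ((hfin.toFinset : Finset (Ideal R)) : Set (Ideal R)), ((fun q : Ideal R => q) p : Set R)) := by
    simpa using h𝔞
  obtain ⟨p, hp, hle⟩ := (Ideal.subset_union_prime (f := fun q : Ideal R => q) ⊥ ⊥
    (fun i hi _ _ => (hfin.mem_toFinset.mp hi).isPrime)).mp h2
  obtain ⟨s, hs, hsn⟩ := h p (hfin.mem_toFinset.mp hp)
  exact hs (hle (Submodule.mem_colon_singleton.mpr hsn))

/-- Local step at a prime `p` with `R_p` a DVR and `B/pB` reduced. -/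
theorem exists_smul_mem_of_isNilpotent (x : R) (hx : x ∈ nonZeroDivisors R) (p : Ideal R)
    [p.IsPrime] (hxp : x ∈ p) [IsDomain (Localization.AtPrime p)]
    [IsDiscreteValuationRing (Localization.AtPrime p)]
    (hred : IsReduced (B ⧸ p.map (algebraMap R B))) (n : B) (hn : IsNilpotent n) :
    ∃ s : R, s ∉ p ∧ s • n ∈ (Ideal.span {x} • ⊤ : Submodule R B) := by
  classical
  -- step 1: a uniformizer coming from `R`
  obtain ⟨ϖ, hϖ⟩ := IsDiscreteValuationRing.exists_irreducible (Localization.AtPrime p)
  obtain ⟨⟨π, s⟩, hπs⟩ := IsLocalization.surj p.primeCompl ϖ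
  have hsu : IsUnit (algebraMap R (Localization.AtPrime p) s) :=
    IsLocalization.map_units (Localization.AtPrime p) s
  have hirr : Irreducible (algebraMap R (Localization.AtPrime p) π) := by
    rw [← hπs]
    exact (irreducible_mul_isUnit hsu).mpr hϖ
  have hmax : maximalIdeal (Localization.AtPrime p) =
      Ideal.span {algebraMap R (Localization.AtPrime p) π} :=
    (IsDiscreteValuationRing.irreducible_iff_uniformizer _).mp hirr
  have hπne : algebraMap R (Localization.AtPrime p) π ≠ 0 := hirr.ne_zero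
  -- step 2: a common multiplier sending `p` into `(π)`
  have h2 : ∀ a ∈ p, ∃ t ∈ p.primeCompl, t • a ∈ (Ideal.span {π} : Ideal R) := by
    intro a ha
    have ha' : algebraMap R (Localization.AtPrime p) a ∈ maximalIdeal (Localization.AtPrime p) :=
      (IsLocalization.AtPrime.to_map_mem_maximal_iff _ p a).mpr ha
    rw [hmax, Ideal.mem_span_singleton'] at ha'
    obtain ⟨c, hc⟩ := ha'
    obtain ⟨⟨r, t⟩, hrt⟩ := IsLocalization.surj p.primeCompl c
    have h3 : algebraMap R (Localization.AtPrime p) (t * a) =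
        algebraMap R (Localization.AtPrime p) (r * π) := by
      rw [map_mul, map_mul, ← hc, ← hrt]; ring
    obtain ⟨u, hu⟩ := (IsLocalization.eq_iff_exists p.primeCompl _).mp h3
    refine ⟨u * t, mul_mem u.2 t.2, ?_⟩
    rw [Ideal.mem_span_singleton']
    refine ⟨u * r, ?_⟩
    simp only [Submonoid.coe_mul, smul_eq_mul]
    rw [mul_assoc, mul_assoc, ← hu]
  obtain ⟨s₀, hs₀, hs₀p⟩ := Groth.Agent.Lib.Helper14.LocFinite.exists_common p.primeCompl
    (Ideal.span {π} : Ideal R) p (IsNoetherian.noetherian p) h2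
  -- `s₀ • (pB) ⊆ πB`
  have h2' : ∀ y ∈ p.map (algebraMap R B), ∃ c : B, s₀ • y = algebraMap R B π * c := by
    intro y hy
    refine Submodule.span_induction (p := fun y _ => ∃ c : B, s₀ • y = algebraMap R B π * c)
      ?_ ?_ ?_ ?_ hy
    · rintro _ ⟨a, ha, rfl⟩
      obtain ⟨r, hr⟩ := Ideal.mem_span_singleton'.mp (hs₀p a ha)
      refine ⟨algebraMap R B r, ?_⟩
      rw [Algebra.smul_def, ← map_mul, ← map_mul]
      congr 1
      rw [← smul_eq_mul s₀ a, ← hr, mul_comm]
    · exact ⟨0, by simp⟩
    · rintro y z _ _ ⟨c, hc⟩ ⟨d, hd⟩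
      exact ⟨c + d, by rw [smul_add, hc, hd, mul_add]⟩
    · rintro b y _ ⟨c, hc⟩
      refine ⟨b * c, ?_⟩
      rw [smul_eq_mul, ← mul_smul_comm, hc]; ring
  -- step 3: powers of `π` are regular on `B` up to `p`-localization
  have h3 : ∀ (m : ℕ) (b : B), algebraMap R B (π ^ m) * b = 0 → ∃ u : R, u ∉ p ∧ u • b = 0 := by
    intro m b hb
    have hne : algebraMap R (Localization.AtPrime p) (π ^ m) ∈
        nonZeroDivisors (Localization.AtPrime p) := by
      rw [map_pow]
      exact mem_nonZeroDivisors_of_ne_zero (pow_ne_zero _ hπne)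
    have hreg : IsSMulRegular (LocalizedModule p.primeCompl B)
        (algebraMap R (Localization.AtPrime p) (π ^ m)) :=
      Module.Flat.isSMulRegular_of_nonZeroDivisors hne
    have hz : (algebraMap R (Localization.AtPrime p) (π ^ m)) •
        (LocalizedModule.mkLinearMap p.primeCompl B b) = 0 := by
      rw [algebraMap_smul, ← map_smul, Algebra.smul_def, hb, map_zero]
    have hz' : LocalizedModule.mkLinearMap p.primeCompl B b = 0 := by
      apply hreg
      simpa using hz
    obtain ⟨u, hu⟩ := (IsLocalizedModule.eq_zero_iff p.primeCompl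
      (LocalizedModule.mkLinearMap p.primeCompl B)).mp hz'
    exact ⟨u, u.2, hu⟩
  -- step 4: induction
  obtain ⟨N, hN⟩ := hn
  have hN1 : n ^ (N + 1) = 0 := by rw [pow_succ, hN, zero_mul]
  have h4 : ∀ k : ℕ, ∃ t : R, t ∉ p ∧ ∃ b : B, t • n = algebraMap R B (π ^ k) * b := by
    intro k
    induction k with
    | zero => exact ⟨1, (Ideal.ne_top_iff_one p).mp (Ideal.IsPrime.ne_top inferInstance),
        n, by simp⟩
    | succ k ih =>
      obtain ⟨t, ht, b, hb⟩ := ih
      have h5 : algebraMap R B (π ^ (k * (N + 1))) * b ^ (N + 1) = 0 := by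
        have : (t • n) ^ (N + 1) = 0 := by rw [smul_pow, hN1, smul_zero]
        rw [hb, mul_pow, ← map_pow, ← pow_mul] at this
        exact this
      obtain ⟨u, hu, hub⟩ := h3 _ _ h5
      have h6 : (u • b) ^ (N + 1) = 0 := by
        rw [smul_pow, pow_succ u N, mul_smul, hub, smul_zero]
      have h7 : u • b ∈ p.map (algebraMap R B) := by
        rw [← Ideal.Quotient.eq_zero_iff_mem]
        have h8 : IsNilpotent (Ideal.Quotient.mk (p.map (algebraMap R B)) (u • b)) :=
          ⟨N + 1, by rw [← map_pow, h6, map_zero]⟩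
        exact h8.eq_zero
      obtain ⟨c, hc⟩ := h2' _ h7
      refine ⟨s₀ * (u * t), ?_, c, ?_⟩
      · exact fun hmem => ((Ideal.IsPrime.mem_or_mem inferInstance hmem).elim hs₀
          (fun h9 => (Ideal.IsPrime.mem_or_mem inferInstance h9).elim hu ht))
      · rw [mul_smul, mul_smul, hb, pow_succ, map_mul, mul_assoc, ← hc]
        rw [mul_smul_comm, mul_smul_comm]
  -- step 5: `π ^ e` is a multiple of `x` up to a unit of `R_p`
  have hxne : algebraMap R (Localization.AtPrime p) x ≠ 0 := by
    intro h0
    obtain ⟨u, hu⟩ := (IsLocalization.map_eq_zero_iff p.primeCompl _ x).mp h0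
    have : (u : R) = 0 := by
      have := (mem_nonZeroDivisors_iff.mp hx).1 (u : R) (by rw [mul_comm]; exact hu)
      exact this
    exact u.2 (this ▸ p.zero_mem)
  obtain ⟨e, v, hv⟩ := IsDiscreteValuationRing.eq_unit_mul_pow_irreducible hxne hirr
  obtain ⟨⟨r₂, s₂⟩, hr₂⟩ := IsLocalization.surj p.primeCompl ((v⁻¹ : (Localization.AtPrime p)ˣ) :
    Localization.AtPrime p)
  have h5 : algebraMap R (Localization.AtPrime p) (s₂ * π ^ e) =
      algebraMap R (Localization.AtPrime p) (r₂ * x) := by
    rw [map_mul, map_mul, map_pow, hv, ← hr₂]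
    have : ((v⁻¹ : (Localization.AtPrime p)ˣ) : Localization.AtPrime p) * (v : Localization.AtPrime p)
      = 1 := by simp
    calc algebraMap R (Localization.AtPrime p) s₂ * algebraMap R (Localization.AtPrime p) π ^ e
        = (((v⁻¹ : (Localization.AtPrime p)ˣ) : Localization.AtPrime p) * v) *
          (algebraMap R (Localization.AtPrime p) s₂ *
            algebraMap R (Localization.AtPrime p) π ^ e) := by rw [this, one_mul]
      _ = _ := by ring
  obtain ⟨w, hw⟩ := (IsLocalization.eq_iff_exists p.primeCompl _).mp h5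
  -- step 6
  obtain ⟨t, ht, b, hb⟩ := h4 e
  refine ⟨w * (s₂ * t), ?_, ?_⟩
  · exact fun hmem => ((Ideal.IsPrime.mem_or_mem inferInstance hmem).elim w.2
      (fun h9 => (Ideal.IsPrime.mem_or_mem inferInstance h9).elim s₂.2 ht))
  · rw [mem_smul_top_iff]
    refine ⟨algebraMap R B (w * r₂) * b, ?_⟩
    calc ((w : R) * ((s₂ : R) * t)) • n = ((w : R) * (s₂ : R)) • (t • n) := by
          rw [← mul_smul, mul_assoc]
      _ = algebraMap R B ((w : R) * ((s₂ : R) * π ^ e)) * b := by
          rw [hb, Algebra.smul_def, ← mul_assoc, ← map_mul, mul_assoc]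
      _ = algebraMap R B x * (algebraMap R B ((w : R) * r₂) * b) := by
          rw [hw, ← mul_assoc (algebraMap R B x), ← map_mul]
          congr 2
          ring

end core

section main
variable {R : Type u} [CommRing R] [IsNoetherianRing R] (B : Type u) [CommRing B] [Algebra R B]
  [Module.Flat R B] [IsNoetherianRing B] [IsLocalRing B]

theorem isReduced_of_ass (x : R) (hx : x ∈ nonZeroDivisors R)
    (hxm : algebraMap R B x ∈ maximalIdeal B)
    (h : ∀ p ∈ associatedPrimes R (R ⧸ Ideal.span {x}), ∀ (_ : p.IsPrime),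
      (∃ (_ : IsDomain (Localization.AtPrime p)),
        IsDiscreteValuationRing (Localization.AtPrime p)) ∧
      IsReduced (B ⧸ p.map (algebraMap R B))) : IsReduced B := by
  have hxreg : IsSMulRegular B (algebraMap R B x) :=
    IsSMulRegular.of_flat (by
      intro a b hab
      simp only [smul_eq_mul] at hab
      have h0 : x * (a - b) = 0 := by rw [mul_sub, hab, sub_self]
      have h0' : (a - b) * x = 0 := by rw [mul_comm]; exact h0
      rcases mem_nonZeroDivisors_iff.mp hx with ⟨h1, h2⟩
      first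
        | exact sub_eq_zero.mp (h1 _ h0)
        | exact sub_eq_zero.mp (h1 _ h0'))
  have key : ∀ n : B, IsNilpotent n → ∃ c : B, n = algebraMap R B x * c := by
    intro n hn
    rw [← mem_smul_top_iff]
    apply mem_of_forall_ass B x n
    intro p hp
    haveI hpp : p.IsPrime := IsAssociatedPrime.isPrime hp
    obtain ⟨⟨hdom, hdvr⟩, hred⟩ := h p hp hpp
    have hxp : x ∈ p := by
      have h1 := IsAssociatedPrime.annihilator_le hp
      rw [Submodule.annihilator_top, Ideal.annihilator_quotient] at h1
      exact h1 (Ideal.mem_span_singleton_self x)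
    exact exists_smul_mem_of_isNilpotent B x hx p hxp hred n hn
  rw [← nilradical_eq_bot_iff]
  have hle : nilradical B ≤ Ideal.span {algebraMap R B x} • nilradical B := by
    intro n hn
    obtain ⟨c, hc⟩ := key n hn
    have hcn : c ∈ nilradical B := by
      obtain ⟨k, hk⟩ := (mem_nilradical.mp hn)
      rw [mem_nilradical]
      refine ⟨k, ?_⟩
      rw [hc, mul_pow] at hk
      have : IsSMulRegular B ((algebraMap R B x) ^ k) := hxreg.pow k
      exact this (by simpa using hk)
    rw [hc, smul_eq_mul]
    exact Ideal.mul_mem_mul (Ideal.mem_span_singleton_self _) hcn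
  refine Submodule.eq_bot_of_le_smul_of_le_jacobson_bot (Ideal.span {algebraMap R B x})
    (nilradical B) (IsNoetherian.noetherian _) hle ?_
  rw [IsLocalRing.jacobson_eq_maximalIdeal ⊥ bot_ne_top, Ideal.span_singleton_le_iff_mem]
  exact hxm

end main

section applications
open EGA4

theorem isReduced_quotient_map (A : Type u) [CommRing A] [IsNoetherianRing A] [IsLocalRing A]
    (p : Ideal A) [Nontrivial (A ⧸ p)] [IsReduced (Cpl (A ⧸ p))] :
    IsReduced (Cpl A ⧸ p.map (algebraMap A (Cpl A))) := by
  have e := RingHom.quotientKerEquivOfSurjective (ComplQuot.cplMap_surjective A p)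
  have e2 : (Cpl A ⧸ p.map (algebraMap A (Cpl A))) ≃+*
      (Cpl A ⧸ RingHom.ker (ComplFlat.cplMap A (A ⧸ p))) :=
    Ideal.quotEquivOfEq (ComplQuot.ker_cplMap A p).symm
  exact isReduced_of_injective (e2.trans e).toRingHom (e2.trans e).injective

theorem isDiscreteValuationRing_of_isRegularLocalRing (A : Type u) [CommRing A] [IsDomain A]
    [IsRegularLocalRing A] (h : ringKrullDim A = 1) : IsDiscreteValuationRing A := by
  rw [← IsLocalRing.finrank_CotangentSpace_eq_one_iff]
  have h1 := (IsRegularLocalRing.iff_finrank_cotangentSpace A).mp inferInstance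
  rw [h] at h1
  exact_mod_cast h1

end applications

end Groth.Agent.Lib.Helper14.CplReducedCrit
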