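import Mathlib
import Groth.Prelude.Def_EGA4b
import Groth.Agent.Lib.Helper14.CMFlat
import Groth.Agent.Lib.Helper14.Catenary
import Groth.Agent.Lib.Helper4.CMChain
import Groth.Agent.Lib.Helper12.DimFunRing

/-!
# Cohen–Macaulay rings are universally catenary (helper14)
-/

set_option autoImplicit false
universe u
open IsLocalRing Groth.Agent.Lib.Helper4

namespace Groth.Agent.Lib.Helper14.CMUnivCat

variable (R : Type u) [CommRing R] [hR : LocCoh.IsCohenMacaulayRing R]

theorem height_eq_add_one_of_covBy {p q : PrimeSpectrum R} (hpq : p ⋖ q) :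
    q.asIdeal.height = p.asIdeal.height + 1 := by
  haveI hcm := hR.isCohenMacaulayLocalRing_localization q.asIdeal
  have hM : LocCoh.IsCohenMacaulayModule (Localization.AtPrime q.asIdeal)
      (Localization.AtPrime q.asIdeal) := hcm.supportDim_eq_depth
  have hsupp : Module.support (Localization.AtPrime q.asIdeal)
      (Localization.AtPrime q.asIdeal) = Set.univ := by
    rw [Module.support_eq_zeroLocus, Module.annihilator_eq_bot.mpr inferInstance]
    simp
  have hdisjq : Disjoint (q.asIdeal.primeCompl : Set R) (q.asIdeal : Set R) := by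
    rw [Set.disjoint_left]
    intro x hx hxq
    exact hx hxq
  have hdisjp : Disjoint (q.asIdeal.primeCompl : Set R) (p.asIdeal : Set R) := by
    rw [Set.disjoint_left]
    intro x hx hxp
    exact hx (hpq.lt.le hxp)
  have hpp : (p.asIdeal.map (algebraMap R (Localization.AtPrime q.asIdeal))).IsPrime :=
    IsLocalization.isPrime_of_isPrime_disjoint q.asIdeal.primeCompl _ _ p.2 hdisjp
  have hqp : (q.asIdeal.map (algebraMap R (Localization.AtPrime q.asIdeal))).IsPrime :=
    IsLocalization.isPrime_of_isPrime_disjoint q.asIdeal.primeCompl _ _ q.2 hdisjq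
  let p' : PrimeSpectrum (Localization.AtPrime q.asIdeal) := ⟨_, hpp⟩
  let q' : PrimeSpectrum (Localization.AtPrime q.asIdeal) := ⟨_, hqp⟩
  let e := Groth.Agent.Lib.Helper14.primeSpectrumEmbeddingOfIsLocalization q.asIdeal.primeCompl
    (Localization.AtPrime q.asIdeal)
  have hep : e p' = p := by
    apply PrimeSpectrum.ext
    exact IsLocalization.under_map_of_isPrime_disjoint q.asIdeal.primeCompl
      (Localization.AtPrime q.asIdeal) p.2 hdisjp
  have heq : e q' = q := by
    apply PrimeSpectrum.ext
    exact IsLocalization.under_map_of_isPrime_disjoint q.asIdeal.primeCompl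
      (Localization.AtPrime q.asIdeal) q.2 hdisjq
  have hcov : p' ⋖ q' := by
    apply CovBy.of_image e
    rw [hep, heq]
    exact hpq
  have key := cm_height_eq_add_one_of_covBy hM hsupp hcov
  have h1 : q'.asIdeal.height = q.asIdeal.height :=
    IsLocalization.height_map_of_disjoint q.asIdeal.primeCompl q.asIdeal hdisjq
  have h2 : p'.asIdeal.height = p.asIdeal.height :=
    IsLocalization.height_map_of_disjoint q.asIdeal.primeCompl p.asIdeal hdisjp
  rw [h1, h2] at key
  exact key

theorem isCatenary : CAlg.IsCatenary R := by
  haveI : IsNoetherianRing R := inferInstance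
  have hfin : ∀ p : PrimeSpectrum R, p.asIdeal.height ≠ ⊤ := fun p =>
    Ideal.height_ne_top_of_isPrime
  have hδ : Groth.Agent.Lib.Helper12.DimFunRing.IsDimFun
      (fun p : PrimeSpectrum R => -((p.asIdeal.height.toNat : ℕ) : ℤ)) := by
    constructor
    · intro x y hxy
      have h1 : x.asIdeal.height < y.asIdeal.height :=
        Ideal.height_strict_mono_of_isPrime hxy
      have hx := hfin x
      have hy := hfin y
      lift x.asIdeal.height to ℕ using hx with a ha
      lift y.asIdeal.height to ℕ using hy with b hb
      have : a < b := by exact_mod_cast h1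
      simp only [ENat.toNat_natCast]
      omega
    · intro x y hxy
      have h1 := height_eq_add_one_of_covBy R hxy
      have hx := hfin x
      have hy := hfin y
      lift x.asIdeal.height to ℕ using hx with a ha
      lift y.asIdeal.height to ℕ using hy with b hb
      have : b = a + 1 := by exact_mod_cast h1
      simp only [ENat.toNat_natCast]
      omega
  exact hδ.isCatenary

theorem isUniversallyCatenary : CAlg.IsUniversallyCatenary R := by
  haveI : IsNoetherianRing R := inferInstance
  refine ⟨inferInstance, ?_⟩
  intro C _ _ hft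
  obtain ⟨n, f, hf⟩ := Algebra.FiniteType.iff_quotient_mvPolynomial''.mp hft
  haveI := CMFlat.cm_mvPolynomial (R := R) n
  exact Groth.Agent.Lib.Helper14.isCatenary_of_surjective f.toRingHom hf
    (isCatenary (MvPolynomial (Fin n) R))

end Groth.Agent.Lib.Helper14.CMUnivCat
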