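import Mathlib
import Groth.Prelude.Def_EGA4b
import Groth.Agent.Lib.Helper14.ComplQuot
import Groth.Agent.Lib.Helper26.RegularCompletion

set_option autoImplicit false
universe u

namespace Groth.Agent.Lib.Helper14.ComplIadic

open IsLocalRing TensorProduct EGA4 Groth.Agent.Lib.Helper14.ComplFlat

section general
variable (R S : Type u) [CommRing R] [CommRing S] [IsLocalRing R] [IsLocalRing S]
  [IsNoetherianRing R] [IsNoetherianRing S] [Algebra R S] [IsLocalHom (algebraMap R S)]

theorem cplMap_surjective_of
    (hmax : (maximalIdeal R).map (algebraMap R S) = maximalIdeal S)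
    (hres : ∀ y : S, ∃ a : R, y - algebraMap R S a ∈ maximalIdeal S) :
    Function.Surjective (cplMap R S) := by
  haveI h1 : IsPrecomplete (maximalIdeal (Cpl R)) (Cpl R) := by
    have := AdicCompletion.isAdicComplete_self (maximalIdeal R) (IsNoetherian.noetherian _)
    rw [← AdicCompletion.maximalIdeal_eq_map (R := R)] at this
    exact this.toIsPrecomplete
  have hmap : (maximalIdeal (Cpl R)).map (cplMap R S) = maximalIdeal (Cpl S) := by
    rw [AdicCompletion.maximalIdeal_eq_map (R := R), Ideal.map_map, cplMap_comp, ← Ideal.map_map,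
      hmax, ← AdicCompletion.maximalIdeal_eq_map (R := S)]
  haveI h2 : IsHausdorff ((maximalIdeal (Cpl R)).map (cplMap R S)) (Cpl S) := by
    rw [hmap]
    have := AdicCompletion.isAdicComplete_self (maximalIdeal S) (IsNoetherian.noetherian _)
    rw [← AdicCompletion.maximalIdeal_eq_map (R := S)] at this
    exact this.toIsHausdorff
  apply surjective_of_mk_map_comp_surjective (I := maximalIdeal (Cpl R)) (cplMap R S)
  intro y
  obtain ⟨y0, rfl⟩ := Ideal.Quotient.mk_surjective y
  obtain ⟨s, hs⟩ := ComplQuot.exists_sub_mem_maximalIdeal S y0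
  obtain ⟨a, ha⟩ := hres s
  refine ⟨algebraMap R (Cpl R) a, ?_⟩
  rw [RingHom.comp_apply]
  have h3 := DFunLike.congr_fun (cplMap_comp R S) a
  simp only [RingHom.comp_apply] at h3
  rw [h3, Ideal.Quotient.eq, hmap]
  have h4 : algebraMap S (Cpl S) (s - algebraMap R S a) ∈ maximalIdeal (Cpl S) := by
    rw [AdicCompletion.maximalIdeal_eq_map (R := S)]
    exact Ideal.mem_map_of_mem _ ha
  have : algebraMap S (Cpl S) (algebraMap R S a) - y0 =
      -(y0 - algebraMap S (Cpl S) s) - algebraMap S (Cpl S) (s - algebraMap R S a) := by
    rw [map_sub]; ring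
  rw [this]
  exact Ideal.sub_mem _ (neg_mem hs) h4

theorem cplMap_bijective_of [Module.Flat R S]
    (hmax : (maximalIdeal R).map (algebraMap R S) = maximalIdeal S)
    (hres : ∀ y : S, ∃ a : R, y - algebraMap R S a ∈ maximalIdeal S) :
    Function.Bijective (cplMap R S) := by
  refine ⟨?_, cplMap_surjective_of R S hmax hres⟩
  letI := (cplMap R S).toAlgebra
  haveI : Module.FaithfullyFlat (Cpl R) (Cpl S) := cplMap_faithfullyFlat R S
  exact FaithfulSMul.algebraMap_injective (Cpl R) (Cpl S)

end general

section iadic
variable (A : Type u) [CommRing A] [IsNoetherianRing A] (I : Ideal A)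
  (n : Ideal (AdicCompletion I A)) [hn : n.IsMaximal]

theorem comap_isMaximal : (n.comap (algebraMap A (AdicCompletion I A))).IsMaximal :=
  (Groth.Agent.Lib.Helper26.RegularCompletion.adicCompletion_maximal A I
    (IsNoetherian.noetherian _) n).1

theorem map_comap_eq :
    (n.comap (algebraMap A (AdicCompletion I A))).map (algebraMap A (AdicCompletion I A)) = n :=
  (Groth.Agent.Lib.Helper26.RegularCompletion.adicCompletion_maximal A I
    (IsNoetherian.noetherian _) n).2.2

theorem exists_sub_mem (x : AdicCompletion I A) :
    ∃ a : A, x - algebraMap A (AdicCompletion I A) a ∈ n := by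
  have hIm := (Groth.Agent.Lib.Helper26.RegularCompletion.adicCompletion_maximal A I
    (IsNoetherian.noetherian _) n).2.1
  have hJn : I.map (algebraMap A (AdicCompletion I A)) ≤ n := Ideal.map_le_iff_le_comap.mpr hIm
  obtain ⟨a, ha⟩ := Ideal.Quotient.mk_surjective (AdicCompletion.evalOneₐ I x)
  refine ⟨a, hJn ?_⟩
  rw [← AdicCompletion.ker_evalOneₐ_eq_map _ (IsNoetherian.noetherian _), RingHom.mem_ker, map_sub,
    sub_eq_zero]
  change AdicCompletion.evalOneₐ I x =
    AdicCompletion.evalOneₐ I (algebraMap A (AdicCompletion I A) a)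
  rw [← ha]
  have := AdicCompletion.evalOneₐ_comp_algebraMap_eq_mk I
  exact (DFunLike.congr_fun this a).symm

end iadic

section iadic2
variable (A : Type u) [CommRing A] [IsNoetherianRing A] (I : Ideal A)
  (n : Ideal (AdicCompletion I A)) [hn : n.IsMaximal]
  (m : Ideal A) [m.IsPrime] [n.LiesOver m]
  [Algebra (Localization.AtPrime m) (Localization.AtPrime n)]
  [Localization.AtPrime.IsLiesOverAlgebra m n]

include hn in
theorem localization_hmax :
    (maximalIdeal (Localization.AtPrime m)).map
      (algebraMap (Localization.AtPrime m) (Localization.AtPrime n)) =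
      maximalIdeal (Localization.AtPrime n) := by
  have hm : m = n.comap (algebraMap A (AdicCompletion I A)) := Ideal.LiesOver.over
  rw [← Localization.AtPrime.map_eq_maximalIdeal (I := m), Ideal.map_map,
    ← IsScalarTower.algebraMap_eq A (Localization.AtPrime m) (Localization.AtPrime n),
    IsScalarTower.algebraMap_eq A (AdicCompletion I A) (Localization.AtPrime n), ← Ideal.map_map,
    hm, map_comap_eq, Localization.AtPrime.map_eq_maximalIdeal]

include hn in
theorem localization_hres (y : Localization.AtPrime n) :
    ∃ a : Localization.AtPrime m,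
      y - algebraMap (Localization.AtPrime m) (Localization.AtPrime n) a ∈
        maximalIdeal (Localization.AtPrime n) := by
  obtain ⟨xbar, hx⟩ := (Ideal.bijective_algebraMap_quotient_residueField n).2
    (IsLocalRing.residue (Localization.AtPrime n) y)
  obtain ⟨x, rfl⟩ := Ideal.Quotient.mk_surjective xbar
  obtain ⟨a0, ha0⟩ := exists_sub_mem A I n x
  refine ⟨algebraMap A (Localization.AtPrime m) a0, ?_⟩
  rw [← IsLocalRing.residue_eq_zero_iff, map_sub, sub_eq_zero, ← hx]
  have h1 : algebraMap (AdicCompletion I A ⧸ n) n.ResidueField (Ideal.Quotient.mk n x) =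
      algebraMap (AdicCompletion I A) n.ResidueField x := by
    rw [← Ideal.Quotient.algebraMap_eq, ← IsScalarTower.algebraMap_apply]
  have h2 : algebraMap (AdicCompletion I A) n.ResidueField x =
      algebraMap (AdicCompletion I A) n.ResidueField (algebraMap A (AdicCompletion I A) a0) := by
    rw [← sub_eq_zero, ← map_sub, Ideal.algebraMap_residueField_eq_zero]
    exact ha0
  rw [h1, h2, ← IsScalarTower.algebraMap_apply A (Localization.AtPrime m) (Localization.AtPrime n),
    IsScalarTower.algebraMap_apply A (AdicCompletion I A) (Localization.AtPrime n)]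
  rfl

include hn in
theorem cplMap_localization_bijective :
    Function.Bijective (cplMap (Localization.AtPrime m) (Localization.AtPrime n)) := by
  haveI : IsNoetherianRing (AdicCompletion I A) :=
    Groth.Agent.S0542.result A I (IsNoetherian.noetherian _)
  exact cplMap_bijective_of _ _ (localization_hmax A I n m) (localization_hres A I n m)

end iadic2

end Groth.Agent.Lib.Helper14.ComplIadic
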