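import Mathlib
import Groth.Prelude.Def_EGA4b
import Groth.Agent.Lib.Helper14.ComplIadic

/-!
# Transfer of (strict) equidimensionality; completion of isomorphic local rings
-/

set_option autoImplicit false
universe u

namespace Groth.Agent.Lib.Helper14.EquidimTransfer

open IsLocalRing EGA4 Groth.Agent.Lib.Helper14.ComplFlat

theorem isEquidim_of_isStrictlyEquidim (R : Type u) [CommRing R] [IsNoetherianRing R]
    (h : EGA4.IsStrictlyEquidim R) : EGA4.IsEquidim R := by
  intro P hP
  apply h
  apply Module.associatedPrimes.minimalPrimes_annihilator_subset_associatedPrimes R R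
  have : Module.annihilator R R = ⊥ := Module.annihilator_eq_bot.mpr inferInstance
  rw [this]
  exact hP

theorem isEquidim_of_ringEquiv {R S : Type u} [CommRing R] [CommRing S] (e : R ≃+* S)
    (h : EGA4.IsEquidim R) : EGA4.IsEquidim S := by
  intro P hP
  haveI : P.IsPrime := hP.1.1
  have h1 : P.comap (e : R →+* S) ∈ minimalPrimes R := by
    have := Ideal.minimalPrimes_comap_of_surjective (f := (e : R →+* S)) e.surjective hP
    have h2 : (⊥ : Ideal S).comap (e : R →+* S) = ⊥ := by
      ext x
      simp
    rw [h2] at this
    exact this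
  have h3 := h _ h1
  have e' : (R ⧸ P.comap (e : R →+* S)) ≃+* (S ⧸ P) :=
    Ideal.quotientEquiv _ _ e
      (Ideal.map_comap_of_surjective (e : R →+* S) e.surjective P).symm
  rw [← ringKrullDim_eq_of_ringEquiv e', h3, ringKrullDim_eq_of_ringEquiv e]

section cpl

variable (R S : Type u) [CommRing R] [CommRing S] [IsLocalRing R] [IsLocalRing S]
  [IsNoetherianRing R] [IsNoetherianRing S]

/-- Isomorphic Noetherian local rings have isomorphic completions. -/
theorem nonempty_cpl_equiv (e : R ≃+* S) : Nonempty (Cpl R ≃+* Cpl S) := by
  letI : Algebra R S := (e : R →+* S).toAlgebra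
  have halg : ∀ x, algebraMap R S x = e x := fun _ => rfl
  haveI : IsLocalHom (algebraMap R S) := by
    change IsLocalHom ((e : R →+* S))
    exact ⟨fun a ha => by
      have : IsUnit (e a) := ha
      simpa using this⟩
  haveI : Module.Flat R S := by
    let l : S ≃ₗ[R] R :=
      { toFun := e.symm
        map_add' := map_add _
        map_smul' := by
          intro r x
          rw [Algebra.smul_def, map_mul, halg, RingEquiv.symm_apply_apply]
          rfl
        invFun := e
        left_inv := e.apply_symm_apply
        right_inv := e.symm_apply_apply }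
    exact Module.Flat.of_linearEquiv l
  have hmax : (maximalIdeal R).map (algebraMap R S) = maximalIdeal S := by
    apply le_antisymm
    · exact IsLocalRing.map_maximalIdeal_le (algebraMap R S)
    · intro y hy
      obtain ⟨x, rfl⟩ := e.surjective y
      apply Ideal.mem_map_of_mem
      rw [IsLocalRing.mem_maximalIdeal, mem_nonunits_iff] at hy ⊢
      intro hx
      exact hy (hx.map e)
  have hres : ∀ y : S, ∃ a : R, y - algebraMap R S a ∈ maximalIdeal S := by
    intro y
    obtain ⟨x, rfl⟩ := e.surjective y
    exact ⟨x, by rw [halg, sub_self]; exact Ideal.zero_mem _⟩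
  exact ⟨RingEquiv.ofBijective _ (ComplIadic.cplMap_bijective_of R S hmax hres)⟩

end cpl

end Groth.Agent.Lib.Helper14.EquidimTransfer
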