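import Mathlib
import Groth.Prelude.Def_EGA4b
import Groth.Agent.Lib.Helper4.FlatFibre
import Groth.Agent.Lib.Helper4.RkLift
import Groth.Agent.Lib.Helper22.EquidimFlat
import Groth.Agent.Lib.Helper14.Catenary
import Groth.Agent.Lib.Helper14.CatenaryDim
import Groth.Agent.S9297
import Groth.Agent.S9128

/-!
# Descent of "equidimensional and catenary" along flat local homomorphisms (helper14)
-/

set_option autoImplicit false
set_option linter.style.haveILetI false
set_option linter.unusedSectionVars false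
universe u
open IsLocalRing

namespace Groth.Agent.Lib.Helper14.FEChain1

open Groth.Agent.Lib.Helper4 Groth.Agent.Lib.Helper4.FlatRing Groth.Agent.Lib.Helper4.FlatFibre

section
variable (A A' : Type u) [CommRing A] [CommRing A'] [IsNoetherianRing A] [IsNoetherianRing A']
  [IsLocalRing A] [IsLocalRing A'] [Algebra A A'] [IsLocalHom (algebraMap A A')] [Module.Flat A A']

theorem map_ne_top (I : Ideal A) (hI : I ≠ ⊤) : I.map (algebraMap A A') ≠ ⊤ := by
  have h1 : I ≤ maximalIdeal A := IsLocalRing.le_maximalIdeal hI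
  have h2 : I.map (algebraMap A A') ≤ maximalIdeal A' :=
    (Ideal.map_mono h1).trans (IsLocalRing.map_maximalIdeal_le (algebraMap A A'))
  exact ne_top_of_le_ne_top (IsLocalRing.maximalIdeal.isMaximal _).ne_top h2

/-- `dim A'/IA' = dim A/I + dim A'/mA'`. -/
theorem dim_quotient_map (I : Ideal A) (hI : I ≠ ⊤) :
    ringKrullDim (A' ⧸ I.map (algebraMap A A')) =
      ringKrullDim (A ⧸ I) + ringKrullDim (A' ⧸ (maximalIdeal A).map (algebraMap A A')) := by
  haveI : Nontrivial (A ⧸ I) := Ideal.Quotient.nontrivial_iff.mpr hI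
  haveI : Nontrivial (A' ⧸ I.map (algebraMap A A')) :=
    Ideal.Quotient.nontrivial_iff.mpr (map_ne_top A A' I hI)
  haveI : Nontrivial (A' ⧸ (maximalIdeal A).map (algebraMap A A')) :=
    Ideal.Quotient.nontrivial_iff.mpr
      (map_ne_top A A' _ (IsLocalRing.maximalIdeal.isMaximal _).ne_top)
  haveI : IsLocalRing (A ⧸ I) :=
    IsLocalRing.of_surjective' (Ideal.Quotient.mk _) Ideal.Quotient.mk_surjective
  haveI : IsLocalRing (A' ⧸ I.map (algebraMap A A')) :=
    IsLocalRing.of_surjective' (Ideal.Quotient.mk _) Ideal.Quotient.mk_surjective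
  haveI : IsLocalRing (A' ⧸ (maximalIdeal A).map (algebraMap A A')) :=
    IsLocalRing.of_surjective' (Ideal.Quotient.mk _) Ideal.Quotient.mk_surjective
  have h := (trans_local (B' := A) (C' := A') I _ _ rfl rfl).2
  rw [← IsLocalRing.maximalIdeal_height_eq_ringKrullDim,
    ← IsLocalRing.maximalIdeal_height_eq_ringKrullDim,
    ← IsLocalRing.maximalIdeal_height_eq_ringKrullDim, h]
  rfl

/-- The dimension formula descends along a flat local homomorphism. -/
theorem height_add_coheight_eq (heq : EGA4.IsEquidim A') (hcat : CAlg.IsCatenary A')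
    (p : PrimeSpectrum A) :
    ((p.asIdeal.height + Order.coheight p : ℕ∞) : WithBot ℕ∞) = ringKrullDim A := by
  haveI := p.2
  have hpne : p.asIdeal ≠ ⊤ := p.2.ne_top
  have hne : p.asIdeal.map (algebraMap A A') ≠ ⊤ := map_ne_top A A' _ hpne
  obtain ⟨⟨P, hP⟩⟩ := Ideal.nonempty_minimalPrimes hne
  haveI hPp : P.IsPrime := hP.1.1
  have hht : P.height = p.asIdeal.height :=
    Groth.Agent.Lib.Helper22.EquidimFlat.height_eq_of_mem_minimalPrimes p.asIdeal P hP
  have h1 := RkLift.height_add_coheight_eq hcat heq ⟨P, hPp⟩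
  have heq' := Groth.Agent.S9297.result A A' hcat heq p.asIdeal
  -- `dim A'/P = dim A'/pA'`
  have hPle : p.asIdeal.map (algebraMap A A') ≤ P := hP.1.2
  have hmin : P.map (Ideal.Quotient.mk (p.asIdeal.map (algebraMap A A'))) ∈
      minimalPrimes (A' ⧸ p.asIdeal.map (algebraMap A A')) := by
    have h1 := Ideal.minimalPrimes_eq_comap (I := p.asIdeal.map (algebraMap A A'))
    rw [h1] at hP
    obtain ⟨P', hP', rfl⟩ := hP
    rw [Ideal.map_comap_of_surjective _ Ideal.Quotient.mk_surjective]
    exact hP'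
  have h2 := heq' _ hmin
  rw [ringKrullDim_eq_of_ringEquiv (DoubleQuot.quotQuotEquivQuotOfLE hPle),
    Groth.Agent.Lib.Helper14.ringKrullDim_quotient_eq_coheight ⟨P, hPp⟩,
    dim_quotient_map A A' _ hpne,
    Groth.Agent.Lib.Helper14.ringKrullDim_quotient_eq_coheight p] at h2
  have h3 := dim_quotient_map A A' ⊥ bot_ne_top
  rw [Ideal.map_bot, ringKrullDim_eq_of_ringEquiv (RingEquiv.quotientBot A'),
    ringKrullDim_eq_of_ringEquiv (RingEquiv.quotientBot A)] at h3
  simp only [] at h1
  rw [hht, h3] at h1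
  -- now cancel the fibre dimension
  have hfin : ringKrullDim (A' ⧸ (maximalIdeal A).map (algebraMap A A')) ≠ ⊤ :=
    ringKrullDim_ne_top
  have hbot : ringKrullDim (A' ⧸ (maximalIdeal A).map (algebraMap A A')) ≠ ⊥ := by
    haveI : Nontrivial (A' ⧸ (maximalIdeal A).map (algebraMap A A')) :=
      Ideal.Quotient.nontrivial_iff.mpr
        (map_ne_top A A' _ (IsLocalRing.maximalIdeal.isMaximal _).ne_top)
    exact ringKrullDim_ne_bot
  obtain ⟨f, hf⟩ : ∃ f : ℕ, ringKrullDim (A' ⧸ (maximalIdeal A).map (algebraMap A A')) =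
      ((f : ℕ∞) : WithBot ℕ∞) := by
    obtain ⟨g, hg⟩ := WithBot.ne_bot_iff_exists.mp hbot
    have hg' : g ≠ ⊤ := by
      rintro rfl
      exact hfin hg.symm
    obtain ⟨f, rfl⟩ := ENat.ne_top_iff_exists.mp hg'
    exact ⟨f, hg.symm⟩
  obtain ⟨d, hd⟩ : ∃ d : ℕ∞, ringKrullDim A = (d : WithBot ℕ∞) := by
    obtain ⟨g, hg⟩ := WithBot.ne_bot_iff_exists.mp (ringKrullDim_ne_bot (R := A))
    exact ⟨g, hg.symm⟩
  rw [hf] at h1 h2
  rw [hd] at h1 ⊢
  have h2' : Order.coheight (⟨P, hPp⟩ : PrimeSpectrum A') = Order.coheight p + (f : ℕ∞) := by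
    exact_mod_cast h2
  have h1' : p.asIdeal.height + Order.coheight (⟨P, hPp⟩ : PrimeSpectrum A') = d + (f : ℕ∞) := by
    exact_mod_cast h1
  rw [h2', ← add_assoc] at h1'
  have := (ENat.add_left_injective_of_ne_top (ENat.natCast_ne_top f)) h1'
  exact_mod_cast this

/-- The induced map `A/I → A'/IA'` is again a flat local homomorphism of Noetherian local rings:
the dimension formula for `A/I`. -/
theorem quotient_height_add_coheight_eq (heq : EGA4.IsEquidim A') (hcat : CAlg.IsCatenary A')
    (p : Ideal A) [p.IsPrime] (q : PrimeSpectrum (A ⧸ p)) :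
    ((q.asIdeal.height + Order.coheight q : ℕ∞) : WithBot ℕ∞) = ringKrullDim (A ⧸ p) := by
  have hpne : p ≠ ⊤ := Ideal.IsPrime.ne_top inferInstance
  have hIle : p ≤ maximalIdeal A := IsLocalRing.le_maximalIdeal hpne
  haveI : Nontrivial (A ⧸ p) := Ideal.Quotient.nontrivial_iff.mpr hpne
  haveI : Nontrivial (A' ⧸ p.map (algebraMap A A')) :=
    Ideal.Quotient.nontrivial_iff.mpr (map_ne_top A A' p hpne)
  haveI : IsLocalRing (A ⧸ p) :=
    IsLocalRing.of_surjective' (Ideal.Quotient.mk _) Ideal.Quotient.mk_surjective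
  haveI : IsLocalRing (A' ⧸ p.map (algebraMap A A')) :=
    IsLocalRing.of_surjective' (Ideal.Quotient.mk _) Ideal.Quotient.mk_surjective
  haveI hflat : Module.Flat (A ⧸ p) (A' ⧸ p.map (algebraMap A A')) :=
    Module.Flat.of_linearEquiv
      (Algebra.TensorProduct.quotIdealMapEquivQuotTensor A' p).toLinearEquiv
  have hcomp : (algebraMap (A ⧸ p) (A' ⧸ p.map (algebraMap A A'))).comp (Ideal.Quotient.mk p) =
      (Ideal.Quotient.mk (p.map (algebraMap A A'))).comp (algebraMap A A') :=
    RingHom.ext fun x => rfl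
  have hmap : (maximalIdeal (A ⧸ p)).map (algebraMap (A ⧸ p) (A' ⧸ p.map (algebraMap A A'))) =
      ((maximalIdeal A).map (algebraMap A A')).map
        (Ideal.Quotient.mk (p.map (algebraMap A A'))) := by
    rw [← IsLocalRing.map_maximalIdeal_of_surjective (Ideal.Quotient.mk p)
      Ideal.Quotient.mk_surjective, Ideal.map_map, Ideal.map_map, hcomp]
  haveI hloc : IsLocalHom (algebraMap (A ⧸ p) (A' ⧸ p.map (algebraMap A A'))) := by
    refine ((IsLocalRing.local_hom_TFAE _).out 0 2 rfl rfl).mpr ?_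
    rw [hmap, ← IsLocalRing.map_maximalIdeal_of_surjective
      (Ideal.Quotient.mk (p.map (algebraMap A A'))) Ideal.Quotient.mk_surjective]
    exact Ideal.map_mono (IsLocalRing.map_maximalIdeal_le (algebraMap A A'))
  have heq' := Groth.Agent.S9297.result A A' hcat heq p
  have hcat' : CAlg.IsCatenary (A' ⧸ p.map (algebraMap A A')) :=
    Groth.Agent.Lib.Helper14.isCatenary_of_surjective (Ideal.Quotient.mk _)
      Ideal.Quotient.mk_surjective hcat
  exact height_add_coheight_eq (A ⧸ p) (A' ⧸ p.map (algebraMap A A')) heq' hcat' q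

/-- `S2630`. -/
theorem isEquidim_and_isCatenary (heq : EGA4.IsEquidim A') (hcat : CAlg.IsCatenary A') :
    EGA4.IsEquidim A ∧ CAlg.IsCatenary A := by
  constructor
  · intro p hp
    haveI hpp : p.IsPrime := hp.1.1
    have h := height_add_coheight_eq A A' heq hcat ⟨p, hpp⟩
    have h0 : p.height = 0 := Ideal.height_eq_zero_iff.mpr hp
    simp only [] at h
    rw [h0, zero_add] at h
    rw [Groth.Agent.Lib.Helper14.ringKrullDim_quotient_eq_coheight ⟨p, hpp⟩]
    exact h
  · rw [Groth.Agent.S9128.result]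
    intro p q hpq
    haveI := p.2
    haveI := q.2
    refine ⟨?_, fun hcov => ?_⟩
    · rw [Groth.Agent.Lib.Helper14.ringKrullDim_quotient_eq_coheight,
        Groth.Agent.Lib.Helper14.ringKrullDim_quotient_eq_coheight]
      haveI hfd : FiniteDimensionalOrder (PrimeSpectrum A) :=
        (inferInstance : FiniteRingKrullDim A)
      exact_mod_cast Order.coheight_strictAnti hpq (Order.coheight_lt_top q)
    · have hle : p.asIdeal ≤ q.asIdeal := hpq.le
      set qb : Ideal (A ⧸ p.asIdeal) := q.asIdeal.map (Ideal.Quotient.mk p.asIdeal) with hqb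
      haveI hqbp : qb.IsPrime := by
        apply Ideal.map_isPrime_of_surjective Ideal.Quotient.mk_surjective
        rw [Ideal.mk_ker]
        exact hle
      have hcomap : qb.comap (Ideal.Quotient.mk p.asIdeal) = q.asIdeal := by
        rw [hqb, Ideal.comap_map_of_surjective _ Ideal.Quotient.mk_surjective,
          ← RingHom.ker_eq_comap_bot, Ideal.mk_ker]
        exact sup_eq_left.mpr hle
      have h := quotient_height_add_coheight_eq A A' heq hcat p.asIdeal ⟨qb, hqbp⟩
      have hht : qb.height = 1 := by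
        apply le_antisymm
        · rw [show (1 : ℕ∞) = ((1 : ℕ) : ℕ∞) from rfl, Ideal.height_le_iff]
          intro r hr hrq
          haveI := hr
          have h1 : p.asIdeal ≤ r.comap (Ideal.Quotient.mk p.asIdeal) := by
            intro x hx
            rw [Ideal.mem_comap, Ideal.Quotient.eq_zero_iff_mem.mpr hx]
            exact r.zero_mem
          have h2 : r.comap (Ideal.Quotient.mk p.asIdeal) < q.asIdeal := by
            rw [← hcomap]
            refine lt_of_le_of_ne (Ideal.comap_mono hrq.le) ?_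
            intro he
            have := congrArg (Ideal.map (Ideal.Quotient.mk p.asIdeal)) he
            rw [Ideal.map_comap_of_surjective _ Ideal.Quotient.mk_surjective,
              Ideal.map_comap_of_surjective _ Ideal.Quotient.mk_surjective] at this
            exact hrq.ne this
          have h3 : r.comap (Ideal.Quotient.mk p.asIdeal) = p.asIdeal := by
            by_contra hne
            have hlt : p < (⟨r.comap (Ideal.Quotient.mk p.asIdeal), Ideal.comap_isPrime _ _⟩ :
                PrimeSpectrum A) := lt_of_le_of_ne h1 (fun h => hne (congrArg (·.asIdeal) h).symm)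
            exact hcov.2 hlt h2
          have h4 : r = ⊥ := by
            rw [← Ideal.map_comap_of_surjective _ Ideal.Quotient.mk_surjective r, h3,
              Ideal.map_quotient_self]
          rw [h4, Ideal.height_bot]
          exact zero_lt_one
        · rw [Order.one_le_iff_pos, pos_iff_ne_zero]
          intro h0
          rw [Ideal.height_eq_zero_iff_eq_bot] at h0
          have : q.asIdeal = p.asIdeal := by
            rw [← hcomap, h0, ← RingHom.ker_eq_comap_bot, Ideal.mk_ker]
          exact hpq.ne (PrimeSpectrum.ext this).symm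
      simp only [] at h
      have hco := Groth.Agent.Lib.Helper14.ringKrullDim_quotient_eq_coheight
        (⟨qb, hqbp⟩ : PrimeSpectrum (A ⧸ p.asIdeal))
      simp only [] at hco
      rw [ringKrullDim_eq_of_ringEquiv (DoubleQuot.quotQuotEquivQuotOfLE hle)] at hco
      rw [hht] at h
      rw [← h, hco, add_comm]
      push_cast
      rfl

end

theorem withBot_add_right_cancel {x y F : WithBot ℕ∞} (hb : F ≠ ⊥) (ht : F ≠ ⊤)
    (h : x + F = y + F) : x = y := by
  obtain ⟨g, rfl⟩ := WithBot.ne_bot_iff_exists.mp hb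
  have hg' : g ≠ ⊤ := by
    rintro rfl
    exact ht rfl
  obtain ⟨f, rfl⟩ := ENat.ne_top_iff_exists.mp hg'
  induction x using WithBot.recBotCoe with
  | bot =>
    induction y using WithBot.recBotCoe with
    | bot => rfl
    | coe y =>
      exfalso
      have h2 : ((y + (f : ℕ∞) : ℕ∞) : WithBot ℕ∞) = ⊥ := by
        rw [WithBot.bot_add] at h
        exact_mod_cast h.symm
      exact WithBot.coe_ne_bot h2
  | coe x =>
    induction y using WithBot.recBotCoe with
    | bot =>
      exfalso
      have h2 : ((x + (f : ℕ∞) : ℕ∞) : WithBot ℕ∞) = ⊥ := by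
        rw [WithBot.bot_add] at h
        exact_mod_cast h
      exact WithBot.coe_ne_bot h2
    | coe y =>
      have h' : x + (f : ℕ∞) = y + (f : ℕ∞) := by exact_mod_cast h
      have := (ENat.add_left_injective_of_ne_top (ENat.natCast_ne_top f)) h'
      exact_mod_cast this

section quotEquidim
variable {R : Type u} [CommRing R]

theorem isEquidim_quotient_iff (I : Ideal R) :
    EGA4.IsEquidim (R ⧸ I) ↔
      ∀ p ∈ I.minimalPrimes, ringKrullDim (R ⧸ p) = ringKrullDim (R ⧸ I) := by
  constructor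
  · intro h p hp
    have hle : I ≤ p := hp.1.2
    rw [Ideal.minimalPrimes_eq_comap] at hp
    obtain ⟨P, hP, rfl⟩ := hp
    have h1 := h P hP
    have h2 : P = (P.comap (Ideal.Quotient.mk I)).map (Ideal.Quotient.mk I) :=
      (Ideal.map_comap_of_surjective _ Ideal.Quotient.mk_surjective P).symm
    rw [← h1, ← ringKrullDim_eq_of_ringEquiv (DoubleQuot.quotQuotEquivQuotOfLE hle)]
    exact ringKrullDim_eq_of_ringEquiv (Ideal.quotEquivOfEq h2.symm)
  · intro h P hP
    have hp : P.comap (Ideal.Quotient.mk I) ∈ I.minimalPrimes := by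
      rw [Ideal.minimalPrimes_eq_comap]
      exact ⟨P, hP, rfl⟩
    have hle : I ≤ P.comap (Ideal.Quotient.mk I) := hp.1.2
    have h1 := h _ hp
    have h2 : P = (P.comap (Ideal.Quotient.mk I)).map (Ideal.Quotient.mk I) :=
      (Ideal.map_comap_of_surjective _ Ideal.Quotient.mk_surjective P).symm
    rw [← h1, ← ringKrullDim_eq_of_ringEquiv (DoubleQuot.quotQuotEquivQuotOfLE hle)]
    exact ringKrullDim_eq_of_ringEquiv (Ideal.quotEquivOfEq h2)

end quotEquidim

section L2
variable (A A' : Type u) [CommRing A] [CommRing A'] [IsNoetherianRing A] [IsNoetherianRing A']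
  [IsLocalRing A] [IsLocalRing A'] [Algebra A A'] [IsLocalHom (algebraMap A A')] [Module.Flat A A']

/-- for a prime `p` of `A` and `Q` minimal over `pA'`: `dim A'/Q = dim A/p + dim A'/mA'`. -/
theorem dim_quotient_minimal (heq : EGA4.IsEquidim A') (hcat : CAlg.IsCatenary A')
    (p : Ideal A) [p.IsPrime] (Q : Ideal A') (hQ : Q ∈ (p.map (algebraMap A A')).minimalPrimes) :
    ringKrullDim (A' ⧸ Q) =
      ringKrullDim (A ⧸ p) + ringKrullDim (A' ⧸ (maximalIdeal A).map (algebraMap A A')) := by
  have heq' := Groth.Agent.S9297.result A A' hcat heq p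
  rw [isEquidim_quotient_iff] at heq'
  rw [heq' Q hQ, dim_quotient_map A A' p (Ideal.IsPrime.ne_top inferInstance)]

/-- `S2631`. -/
theorem isEquidim_quotient_map_iff (heq : EGA4.IsEquidim A') (hcat : CAlg.IsCatenary A')
    (a : Ideal A) :
    EGA4.IsEquidim (A' ⧸ a.map (algebraMap A A')) ↔ EGA4.IsEquidim (A ⧸ a) := by
  by_cases ha : a = ⊤
  · subst ha
    rw [Ideal.map_top]
    constructor
    · intro _ P hP
      haveI := hP.1.1
      exact absurd (Subsingleton.elim _ _) (Ideal.IsPrime.ne_top (I := P) inferInstance)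
    · intro _ P hP
      haveI := hP.1.1
      exact absurd (Subsingleton.elim _ _) (Ideal.IsPrime.ne_top (I := P) inferInstance)
  rw [isEquidim_quotient_iff, isEquidim_quotient_iff, dim_quotient_map A A' a ha]
  constructor
  · intro h p hp
    haveI hpp : p.IsPrime := hp.1.1
    have hpne : p.map (algebraMap A A') ≠ ⊤ := map_ne_top A A' p hpp.ne_top
    obtain ⟨⟨Q, hQ⟩⟩ := Ideal.nonempty_minimalPrimes hpne
    haveI hQp : Q.IsPrime := hQ.1.1
    have hQover : Q.comap (algebraMap A A') = p :=
      Groth.Agent.Lib.Helper22.EquidimFlat.comap_eq_of_mem_minimalPrimes p Q hQ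
    have hQmin : Q ∈ (a.map (algebraMap A A')).minimalPrimes := by
      have haQ : a.map (algebraMap A A') ≤ Q := (Ideal.map_mono hp.1.2).trans hQ.1.2
      obtain ⟨Q0, hQ0, hQ0le⟩ := Ideal.exists_minimalPrimes_le haQ
      haveI hQ0p : Q0.IsPrime := hQ0.1.1
      have h1 : a ≤ Q0.comap (algebraMap A A') := Ideal.map_le_iff_le_comap.mp hQ0.1.2
      have h2 : Q0.comap (algebraMap A A') ≤ p := hQover ▸ Ideal.comap_mono hQ0le
      have h3 : p ≤ Q0.comap (algebraMap A A') := hp.2 ⟨Ideal.comap_isPrime _ _, h1⟩ h2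
      have h4 : p.map (algebraMap A A') ≤ Q0 := Ideal.map_le_iff_le_comap.mpr h3
      have h5 : Q ≤ Q0 := hQ.2 ⟨hQ0p, h4⟩ hQ0le
      rwa [le_antisymm h5 hQ0le]
    have h1 := h Q hQmin
    rw [dim_quotient_minimal A A' heq hcat p Q hQ] at h1
    haveI : Nontrivial (A' ⧸ (maximalIdeal A).map (algebraMap A A')) :=
      Ideal.Quotient.nontrivial_iff.mpr
        (map_ne_top A A' _ (IsLocalRing.maximalIdeal.isMaximal _).ne_top)
    exact withBot_add_right_cancel ringKrullDim_ne_bot ringKrullDim_ne_top h1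
  · intro h Q hQ
    haveI hQp : Q.IsPrime := hQ.1.1
    set p := Q.comap (algebraMap A A') with hp
    haveI hpp : p.IsPrime := Ideal.comap_isPrime _ _
    have hap : a ≤ p := Ideal.map_le_iff_le_comap.mp hQ.1.2
    have hpQ : p.map (algebraMap A A') ≤ Q := Ideal.map_comap_le
    have hQmin : Q ∈ (p.map (algebraMap A A')).minimalPrimes :=
      ⟨⟨hQp, hpQ⟩, fun Q' hQ' hle => hQ.2 ⟨hQ'.1, (Ideal.map_mono hap).trans hQ'.2⟩ hle⟩
    have hpmin : p ∈ a.minimalPrimes := by
      refine ⟨⟨hpp, hap⟩, ?_⟩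
      rintro r ⟨hr, har⟩ hrp
      haveI := hr
      haveI : Q.LiesOver p := ⟨rfl⟩
      obtain ⟨Q', hQ'Q, hQ'prime, hQ'lo⟩ :=
        Ideal.exists_ideal_le_liesOver_of_le (p := r) (q := p) Q hrp
      have h3 : a.map (algebraMap A A') ≤ Q' := by
        rw [Ideal.map_le_iff_le_comap, ← Ideal.under_def, ← hQ'lo.over]
        exact har
      have h4 : Q ≤ Q' := hQ.2 ⟨hQ'prime, h3⟩ hQ'Q
      have h5 : Q' = Q := le_antisymm hQ'Q h4
      rw [hQ'lo.over, h5]
    rw [dim_quotient_minimal A A' heq hcat p Q hQmin, h p hpmin]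

end L2

end Groth.Agent.Lib.Helper14.FEChain1
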