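import Mathlib
import Groth.Prelude.Def_EGA4b
import Groth.Agent.S0580
import Groth.Agent.Lib.Helper26.RegularCompletion
import Groth.Agent.Lib.Helper26.RegularRing
import Groth.Agent.Lib.Helper14.CMUnivCat
import Groth.Agent.Lib.Helper14.FEChain1
import Groth.Agent.Lib.Helper14.ComplQuot
import Groth.Agent.Lib.Helper14.ComplEtale
import Groth.Agent.Lib.Helper14.EquidimTransfer

set_option autoImplicit false
universe u
open IsLocalRing

namespace Groth.Agent.Lib.Helper14.FEChain2

theorem isRegularRing_of_isField_or_isCohenRing (Λ : Type u) [CommRing Λ]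
    (h : IsField Λ ∨ CAlg.IsCohenRing Λ) : IsRegularRing Λ := by
  rcases h with h | h
  · haveI : IsDomain Λ := h.isDomain
    haveI : IsPrincipalIdealRing Λ := by
      letI := h.toField
      infer_instance
    haveI : IsLocalRing Λ := by
      letI := h.toField
      infer_instance
    exact Groth.Agent.Lib.Helper26.RegularRing.isRegularRing_of_isRegularLocalRing Λ
  · obtain ⟨hd, hdvr, -, -⟩ := h
    exact Groth.Agent.Lib.Helper26.RegularRing.isRegularRing_of_isRegularLocalRing Λ

/-- A complete Noetherian local ring is a quotient of a regular ring. -/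
theorem exists_regular_surjective (C : Type u) [CommRing C] [IsLocalRing C] [IsNoetherianRing C]
    [IsAdicComplete (maximalIdeal C) C] :
    ∃ (R : Type u) (_ : CommRing R) (_ : IsRegularRing R) (_ : IsLocalRing R) (f : R →+* C),
      Function.Surjective f := by
  obtain ⟨Λ, hring, n, f, hΛ, hf⟩ := Groth.Agent.S0580.result C (IsNoetherian.noetherian _)
  haveI := isRegularRing_of_isField_or_isCohenRing Λ hΛ
  haveI : IsLocalRing Λ := by
    rcases hΛ with h | h
    · letI := h.toField
      infer_instance
    · obtain ⟨hd, hdvr, -, -⟩ := h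
      infer_instance
  exact ⟨MvPowerSeries (Fin n) Λ, inferInstance,
    Groth.Agent.Lib.Helper26.RegularCompletion.isRegularRing_mvPowerSeries Λ n, inferInstance, f, hf⟩

theorem isUniversallyCatenary_of_complete (C : Type u) [CommRing C] [IsLocalRing C]
    [IsNoetherianRing C] [IsAdicComplete (maximalIdeal C) C] : CAlg.IsUniversallyCatenary C := by
  obtain ⟨R, hR, hreg, hloc, f, hf⟩ := exists_regular_surjective C
  haveI : LocCoh.IsCohenMacaulayRing R := Groth.Agent.Lib.Helper14.CMFlat.cm_of_isRegularRing R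
  have hU := Groth.Agent.Lib.Helper14.CMUnivCat.isUniversallyCatenary R
  refine ⟨inferInstance, ?_⟩
  intro S _ _ hft
  letI := f.toAlgebra
  letI : Algebra R S := ((algebraMap C S).comp f).toAlgebra
  haveI : IsScalarTower R C S := IsScalarTower.of_algebraMap_eq (fun _ => rfl)
  haveI : Algebra.FiniteType R C := Algebra.FiniteType.of_surjective (Algebra.ofId R C) hf
  haveI : Algebra.FiniteType C S := hft
  exact hU.2 S (Algebra.FiniteType.trans (S := C) inferInstance inferInstance)



section cpl
open EGA4
variable (A : Type u) [CommRing A] [IsNoetherianRing A] [IsLocalRing A]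

instance isAdicComplete_cpl : IsAdicComplete (maximalIdeal (Cpl A)) (Cpl A) := by
  have := AdicCompletion.isAdicComplete_self (maximalIdeal A) (IsNoetherian.noetherian _)
  rw [← AdicCompletion.maximalIdeal_eq_map (R := A)] at this
  exact this

theorem isCatenary_cpl : CAlg.IsCatenary (Cpl A) := by
  haveI : IsNoetherianRing (Cpl A) := ComplEtale.isNoetherianRing_completion A
  exact (isUniversallyCatenary_of_complete (Cpl A)).2 (Cpl A) inferInstance

/-- `Â / aÂ ≃ (A/a)^`. -/
theorem nonempty_quotient_map_equiv (a : Ideal A) [Nontrivial (A ⧸ a)] :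
    Nonempty ((Cpl A ⧸ a.map (algebraMap A (Cpl A))) ≃+* Cpl (A ⧸ a)) := by
  have e := RingHom.quotientKerEquivOfSurjective (ComplQuot.cplMap_surjective A a)
  have e2 : (Cpl A ⧸ a.map (algebraMap A (Cpl A))) ≃+*
      (Cpl A ⧸ RingHom.ker (ComplFlat.cplMap A (A ⧸ a))) :=
    Ideal.quotEquivOfEq (ComplQuot.ker_cplMap A a).symm
  exact ⟨e2.trans e⟩

/-- `S2632`. -/
theorem main (h : EGA4.IsFormallyEquidim A) :
    (EGA4.IsEquidim A ∧ CAlg.IsCatenary A) ∧
      ∀ (a : Ideal A) [Nontrivial (A ⧸ a)],
        (EGA4.IsEquidim (A ⧸ a) ↔ EGA4.IsFormallyEquidim (A ⧸ a)) := by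
  haveI : IsNoetherianRing (Cpl A) := ComplEtale.isNoetherianRing_completion A
  have hcat := isCatenary_cpl A
  refine ⟨FEChain1.isEquidim_and_isCatenary A (Cpl A) h hcat, ?_⟩
  intro a _
  obtain ⟨e⟩ := nonempty_quotient_map_equiv A a
  rw [← FEChain1.isEquidim_quotient_map_iff A (Cpl A) h hcat a]
  exact ⟨fun h1 => EquidimTransfer.isEquidim_of_ringEquiv e h1,
    fun h1 => EquidimTransfer.isEquidim_of_ringEquiv e.symm h1⟩

end cpl

end Groth.Agent.Lib.Helper14.FEChain2
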