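import Mathlib
import Groth.Prelude.Def_EGA4b
import Groth.Agent.Lib.Helper14.ComplQuot
import Groth.Agent.Lib.Helper8.ComplDim

/-!
# Formal equidimensionality and minimal primes
-/

set_option autoImplicit false
universe u

namespace Groth.Agent.Lib.Helper14.FormalEquidim

open IsLocalRing EGA4 Groth.Agent.Lib.Helper14.ComplFlat Groth.Agent.Lib.Helper14.ComplQuot

/-- quotient by a contracted ideal along a surjection -/
noncomputable def quotComapEquiv {R S : Type u} [CommRing R] [CommRing S] (ψ : R →+* S)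
    (hψ : Function.Surjective ψ) (P' : Ideal S) : (R ⧸ P'.comap ψ) ≃+* (S ⧸ P') :=
  have hsurj : Function.Surjective ((Ideal.Quotient.mk P').comp ψ) :=
    Ideal.Quotient.mk_surjective.comp hψ
  have hker : RingHom.ker ((Ideal.Quotient.mk P').comp ψ) = P'.comap ψ := by
    rw [← RingHom.comap_ker, Ideal.mk_ker]
  (Ideal.quotEquivOfEq hker.symm).trans (RingHom.quotientKerEquivOfSurjective hsurj)

section

variable {R S : Type u} [CommRing R] [CommRing S] [Algebra R S] [Module.Flat R S]

/-- contraction of a minimal prime along a flat map is a minimal prime -/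
theorem comap_mem_minimalPrimes {P : Ideal S} (hP : P ∈ minimalPrimes S) :
    P.comap (algebraMap R S) ∈ minimalPrimes R := by
  haveI : P.IsPrime := hP.1.1
  refine ⟨⟨Ideal.comap_isPrime _ _, bot_le⟩, ?_⟩
  rintro q ⟨hq, -⟩ hqp
  haveI := hq
  haveI : P.LiesOver (P.comap (algebraMap R S)) := ⟨rfl⟩
  obtain ⟨P', hP'P, hP'prime, hP'lo⟩ :=
    Ideal.exists_ideal_le_liesOver_of_le (p := q) (q := P.comap (algebraMap R S)) P hqp
  have : P ≤ P' := hP.2 ⟨hP'prime, bot_le⟩ hP'P
  have heq : P' = P := le_antisymm hP'P this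
  rw [hP'lo.over, heq]

/-- a prime minimal over the extension of a minimal prime is a minimal prime, lying over it -/
theorem mem_minimalPrimes_of_mem_minimalPrimes_map {p : Ideal R} (hp : p ∈ minimalPrimes R)
    {P : Ideal S} (hP : P ∈ (p.map (algebraMap R S)).minimalPrimes) :
    P ∈ minimalPrimes S := by
  haveI : P.IsPrime := hP.1.1
  haveI : p.IsPrime := hp.1.1
  refine ⟨⟨inferInstance, bot_le⟩, ?_⟩
  rintro P'' ⟨hP''prime, -⟩ hle
  haveI := hP''prime
  have h1 : P''.comap (algebraMap R S) ≤ p := by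
    have h2 : p ≤ P.comap (algebraMap R S) := Ideal.map_le_iff_le_comap.mp hP.1.2
    -- going down to `p` from `P`
    haveI : P.LiesOver (P.comap (algebraMap R S)) := ⟨rfl⟩
    obtain ⟨P', hP'P, hP'prime, hP'lo⟩ :=
      Ideal.exists_ideal_le_liesOver_of_le (p := p) (q := P.comap (algebraMap R S)) P h2
    have h3 : p.map (algebraMap R S) ≤ P' := by
      rw [Ideal.map_le_iff_le_comap, hP'lo.over]
    have h4 : P ≤ P' := hP.2 ⟨hP'prime, h3⟩ hP'P
    have h5 : P.comap (algebraMap R S) = p := by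
      have : P' = P := le_antisymm hP'P h4
      rw [← this, hP'lo.over]
    rw [← h5]
    exact Ideal.comap_mono hle
  have h6 : p ≤ P''.comap (algebraMap R S) :=
    hp.2 ⟨Ideal.comap_isPrime _ _, bot_le⟩ h1
  exact hP.2 ⟨hP''prime, Ideal.map_le_iff_le_comap.mpr h6⟩ hle

end

section main

variable (A : Type u) [CommRing A] [IsNoetherianRing A] [IsLocalRing A]

theorem ringKrullDim_cpl_quotient (p : Ideal A) [p.IsPrime] :
    ringKrullDim (Cpl (A ⧸ p)) = ringKrullDim (A ⧸ p) :=
  Groth.Agent.Lib.Helper8.ringKrullDim_adicCompletion (A ⧸ p)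

theorem ringKrullDim_cpl : ringKrullDim (Cpl A) = ringKrullDim A :=
  Groth.Agent.Lib.Helper8.ringKrullDim_adicCompletion A

/-- minimal primes of `Cpl (A/p)` correspond to primes minimal over `p Â`. -/
theorem minimalPrimes_map_eq (p : Ideal A) [p.IsPrime] :
    (p.map (algebraMap A (Cpl A))).minimalPrimes =
      Ideal.comap (cplMap A (A ⧸ p)) '' minimalPrimes (Cpl (A ⧸ p)) := by
  rw [← ker_cplMap A p]
  have := Ideal.comap_minimalPrimes_eq_of_surjective (cplMap_surjective A p) (⊥ : Ideal (Cpl (A ⧸ p)))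
  rw [← RingHom.ker_eq_comap_bot] at this
  exact this

theorem result_iff :
    EGA4.IsFormallyEquidim A ↔
      (EGA4.IsEquidim A ∧ ∀ (p : Ideal A) [p.IsPrime], p ∈ minimalPrimes A →
        EGA4.IsFormallyEquidim (A ⧸ p)) := by
  constructor
  · intro h
    have hA : EGA4.IsEquidim A := by
      intro p hp
      haveI : p.IsPrime := hp.1.1
      apply le_antisymm (ringKrullDim_quotient_le p)
      have hne : p.map (algebraMap A (Cpl A)) ≠ ⊤ := by
        rw [← ker_cplMap A p]
        exact RingHom.ker_ne_top _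
      obtain ⟨⟨P, hP⟩⟩ := Ideal.nonempty_minimalPrimes hne
      have hPmin := mem_minimalPrimes_of_mem_minimalPrimes_map hp hP
      have h1 := h P hPmin
      rw [minimalPrimes_map_eq] at hP
      obtain ⟨P', hP', rfl⟩ := hP
      have e := quotComapEquiv (cplMap A (A ⧸ p)) (cplMap_surjective A p) P'
      rw [ringKrullDim_eq_of_ringEquiv e, ringKrullDim_cpl] at h1
      rw [← h1, ← ringKrullDim_cpl_quotient A p]
      exact ringKrullDim_quotient_le P'
    refine ⟨hA, ?_⟩
    intro p _ hp P' hP'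
    have hP : P'.comap (cplMap A (A ⧸ p)) ∈ (p.map (algebraMap A (Cpl A))).minimalPrimes := by
      rw [minimalPrimes_map_eq]
      exact ⟨P', hP', rfl⟩
    have hPmin := mem_minimalPrimes_of_mem_minimalPrimes_map hp hP
    have h1 := h _ hPmin
    have e := quotComapEquiv (cplMap A (A ⧸ p)) (cplMap_surjective A p) P'
    rw [ringKrullDim_eq_of_ringEquiv e, ringKrullDim_cpl] at h1
    rw [h1, ringKrullDim_cpl_quotient A p, hA p hp]
  · rintro ⟨hA, h⟩ P hP
    haveI : P.IsPrime := hP.1.1
    set p := P.comap (algebraMap A (Cpl A)) with hp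
    have hpmin : p ∈ minimalPrimes A := comap_mem_minimalPrimes hP
    haveI : p.IsPrime := hpmin.1.1
    have hPmin' : P ∈ (p.map (algebraMap A (Cpl A))).minimalPrimes := by
      refine ⟨⟨inferInstance, Ideal.map_comap_le⟩, ?_⟩
      rintro Q ⟨hQ, -⟩ hQP
      exact hP.2 ⟨hQ, bot_le⟩ hQP
    rw [minimalPrimes_map_eq] at hPmin'
    obtain ⟨P', hP', hPeq⟩ := hPmin'
    have h1 := h p hpmin P' hP'
    have e := quotComapEquiv (cplMap A (A ⧸ p)) (cplMap_surjective A p) P'
    rw [hPeq] at e
    rw [ringKrullDim_eq_of_ringEquiv e, h1, ringKrullDim_cpl_quotient A p, hA p hpmin,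
      ringKrullDim_cpl]

end main

end Groth.Agent.Lib.Helper14.FormalEquidim
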