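import Mathlib

set_option autoImplicit false
universe u

namespace Groth.Agent.Lib.Helper14.GeomReducedFin

open TensorProduct

/-- An algebra over a field all of whose finite field base changes are reduced is geometrically
reduced. -/
theorem isGeometricallyReduced_of_forall_finite {k F : Type u} [Field k] [CommRing F] [Algebra k F]
    (h : ∀ (k' : Type u) [Field k'] [Algebra k k'], Module.Finite k k' → IsReduced (k' ⊗[k] F)) :
    Algebra.IsGeometricallyReduced k F := by
  rw [Algebra.isGeometricallyReduced_field_iff]
  have h' : IsReduced (F ⊗[k] AlgebraicClosure k) := by
    apply IsReduced.tensorProduct_of_flat_of_forall_fg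
    intro B hB
    have h1 : Algebra.FiniteType k B := (Subalgebra.fg_iff_finiteType B).mp hB
    have h2 : Algebra.IsIntegral k B :=
      Algebra.IsIntegral.of_injective B.val Subtype.val_injective
    have h3 : Module.Finite k B := Algebra.IsIntegral.finite
    have hBf : IsField B := Subalgebra.isField_of_algebraic B
    letI := hBf.toField
    haveI := h B h3
    exact isReduced_of_injective (Algebra.TensorProduct.comm k F B).toAlgHom
      (AlgEquiv.injective _)
  exact isReduced_of_injective (Algebra.TensorProduct.comm k (AlgebraicClosure k) F).toAlgHom
    (AlgEquiv.injective _)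

/-- A ring whose localizations at primes are domains is reduced. -/
theorem isReduced_of_forall_isDomain (R : Type*) [CommRing R]
    (h : ∀ (p : Ideal R) [p.IsPrime], IsDomain (Localization.AtPrime p)) : IsReduced R := by
  apply isReduced_ofLocalizationMaximal
  intro m hm
  haveI := h m
  infer_instance

/-- Descent of geometric reducedness of fibres along a faithfully flat map of the targets. -/
theorem isGeometricallyReduced_fiber_descend (A B C : Type u) [CommRing A] [CommRing B] [CommRing C]
    [Algebra A B] [Algebra B C] [Algebra A C]
    [IsScalarTower A B C] [Module.FaithfullyFlat B C]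
    (hAC : ∀ (p : Ideal A) [p.IsPrime], Algebra.IsGeometricallyReduced p.ResidueField (p.Fiber C))
    (p : Ideal A) [p.IsPrime] : Algebra.IsGeometricallyReduced p.ResidueField (p.Fiber B) := by
  haveI := hAC p
  let φ : p.Fiber B →ₐ[p.ResidueField] p.Fiber C :=
    Algebra.TensorProduct.map (AlgHom.id _ _) (IsScalarTower.toAlgHom A B C)
  refine Algebra.IsGeometricallyReduced.of_injective φ ?_
  have hφ : ∀ x : p.Fiber B, φ x =
      TensorProduct.comm A C p.ResidueField
        (TensorProduct.AlgebraTensorModule.cancelBaseChange A B B C p.ResidueField
          (TensorProduct.mk B C (TensorProduct A B p.ResidueField) 1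
            (TensorProduct.comm A p.ResidueField B x))) := by
    intro x
    induction x using TensorProduct.induction_on with
    | zero => simp
    | add x y hx hy => simp only [map_add, hx, hy]
    | tmul a b =>
      simp [φ, Algebra.algebraMap_eq_smul_one]
  intro x y hxy
  rw [hφ, hφ] at hxy
  have h1 := (TensorProduct.comm A C p.ResidueField).injective hxy
  have h2 := (TensorProduct.AlgebraTensorModule.cancelBaseChange A B B C p.ResidueField).injective h1
  have h3 := Module.FaithfullyFlat.tensorProduct_mk_injective (A := B) (B := C)
    (TensorProduct A B p.ResidueField) h2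
  exact (TensorProduct.comm A p.ResidueField B).injective h3

end Groth.Agent.Lib.Helper14.GeomReducedFin
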