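import Mathlib
import Groth.Prelude.Def_Found
import Groth.Agent.Lib.Helper26.RegularRing

/-!
# Descent of geometric regularity along faithfully flat algebra maps (helper14)
-/

set_option autoImplicit false
universe u

open scoped TensorProduct

namespace Groth.Agent.Lib.Helper14.GeomRegularFlat

open Groth.Agent.Lib.Helper26.RegularRing

section
variable (k S A B : Type u) [CommRing k] [CommRing S] [CommRing A] [CommRing B]
  [Algebra k S] [Algebra k A] [Algebra k B] [Algebra A B] [IsScalarTower k A B]

/-- The `A ⊗ S`-algebra structure on `B ⊗ S`. -/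
noncomputable abbrev tensorAlg : Algebra (A ⊗[k] S) (B ⊗[k] S) :=
  (Algebra.TensorProduct.map (IsScalarTower.toAlgHom k A B) (AlgHom.id k S)).toRingHom.toAlgebra

theorem faithfullyFlat_tensor [Module.FaithfullyFlat A B] :
    letI := tensorAlg k S A B
    Module.FaithfullyFlat (A ⊗[k] S) (B ⊗[k] S) := by
  letI := tensorAlg k S A B
  have halg : ∀ x : A ⊗[k] S, algebraMap (A ⊗[k] S) (B ⊗[k] S) x =
      Algebra.TensorProduct.map (IsScalarTower.toAlgHom k A B) (AlgHom.id k S) x := fun _ => rfl
  haveI : IsScalarTower A (A ⊗[k] S) (B ⊗[k] S) :=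
    IsScalarTower.of_algebraMap_eq (R := A) (S := A ⊗[k] S) (A := B ⊗[k] S) fun a => by
      rw [halg, Algebra.TensorProduct.algebraMap_apply, Algebra.TensorProduct.algebraMap_apply]
      simp
  have hpush : Algebra.IsPushout A B (A ⊗[k] S) (B ⊗[k] S) :=
    Algebra.IsPushout.tensorProduct_tensorProduct k S A B (by
      ext x
      simp [halg])
  haveI hpush' : Algebra.IsPushout A (A ⊗[k] S) B (B ⊗[k] S) := hpush.symm
  exact Module.FaithfullyFlat.of_linearEquiv (R := A ⊗[k] S) (M := (A ⊗[k] S) ⊗[A] B)
    (Algebra.IsPushout.equiv A (A ⊗[k] S) B (B ⊗[k] S)).symm.toLinearEquiv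

end

/-- Geometric regularity descends along a faithfully flat map of `k`-algebras. -/
theorem isGeometricallyRegular_of_faithfullyFlat (k A B : Type u) [Field k] [CommRing A]
    [CommRing B] [Algebra k A] [Algebra k B] [Algebra A B] [IsScalarTower k A B]
    [Module.FaithfullyFlat A B] (h : CAlg.IsGeometricallyRegular k B) :
    CAlg.IsGeometricallyRegular k A := by
  intro k' _ _ hfin
  haveI h1 : IsRegularRing (k' ⊗[k] B) := h k' hfin
  haveI h2 : IsRegularRing (B ⊗[k] k') :=
    IsRegularRing.of_ringEquiv (Algebra.TensorProduct.comm k k' B).toRingEquiv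
  letI := tensorAlg k k' A B
  haveI := faithfullyFlat_tensor k k' A B
  haveI h3 : IsRegularRing (A ⊗[k] k') := isRegularRing_of_faithfullyFlat (A ⊗[k] k') (B ⊗[k] k')
  exact IsRegularRing.of_ringEquiv (Algebra.TensorProduct.comm k A k').toRingEquiv

end Groth.Agent.Lib.Helper14.GeomRegularFlat
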