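import Groth.Agent.Lib.Helper14.FtPtsAlg
import Groth.Agent.Lib.Helper3.AffinePoints

/-!
# Finite type points of schemes

* `exists_affine_isClosed_of_lft_from_field`: the image point of a morphism `Spec k ⟶ S` locally of
  finite type is closed in some affine open.
* `lft_fromSpecResidueField_of_isClosed`: a point closed in an open subscheme is a finite type point.
-/

set_option autoImplicit false
universe u
open AlgebraicGeometry CategoryTheory

namespace Groth.Agent.Lib.Helper14

theorem exists_affine_isClosed_of_lft_from_field {S : Scheme.{u}} {k : Type u} [Field k]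
    (f : Spec (CommRingCat.of k) ⟶ S) [LocallyOfFiniteType f] (x : Spec (CommRingCat.of k)) :
    ∃ U : S.Opens, IsAffineOpen U ∧ ∃ hu : f x ∈ U, IsClosed ({⟨f x, hu⟩} : Set ↥U) := by
  obtain ⟨_, ⟨(U₀ : S.Opens), hU₀ : IsAffineOpen U₀, rfl⟩, hxU₀, -⟩ :=
    S.isBasis_affineOpens.exists_subset_of_mem_open (Set.mem_univ (f x)) isOpen_univ
  have hsub : ∀ y : Spec (CommRingCat.of k), y = x := fun y =>
    (inferInstance : Subsingleton (PrimeSpectrum k)).elim y x
  have hrange : Set.range f ⊆ U₀ := by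
    rintro _ ⟨y, rfl⟩
    rw [hsub y]; exact hxU₀
  let f' : Spec (CommRingCat.of k) ⟶ U₀ := IsOpenImmersion.lift U₀.ι f (by simpa using hrange)
  have hf' : f' ≫ U₀.ι = f := IsOpenImmersion.lift_fac _ _ _
  obtain ⟨φ, hφ⟩ := Spec.map_surjective (f' ≫ hU₀.isoSpec.hom)
  have hf : f = Spec.map φ ≫ hU₀.fromSpec := by
    rw [hφ, Category.assoc, hU₀.isoSpec_hom_fromSpec, hf']
  have hφft : φ.hom.FiniteType := by
    have : LocallyOfFiniteType (Spec.map φ ≫ hU₀.fromSpec) := by rw [← hf]; infer_instance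
    have h1 : LocallyOfFiniteType (Spec.map φ) := locallyOfFiniteType_of_comp _ hU₀.fromSpec
    exact (HasRingHomProperty.Spec_iff (P := @LocallyOfFiniteType)).mp h1
  set p : Spec Γ(S, U₀) := Spec.map φ x with hp
  have hpker : p.asIdeal = RingHom.ker φ.hom := by
    have hx0 : x.asIdeal = ⊥ := by
      have := x.2
      exact (Ideal.eq_bot_or_top x.asIdeal).resolve_right this.ne_top
    change Ideal.comap φ.hom x.asIdeal = _
    rw [hx0, RingHom.ker_eq_comap_bot]
  obtain ⟨g, hgp, hg⟩ := exists_notMem_forall_prime_eq_of_finiteType φ.hom hφft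
  have hfx : f x = hU₀.fromSpec p := by rw [hf]; rfl
  have hprime : ∀ (y : S) (hy : y ∈ U₀), hU₀.fromSpec (hU₀.primeIdealOf ⟨y, hy⟩) = y :=
    fun y hy => hU₀.fromSpec_primeIdealOf ⟨y, hy⟩
  have hpx : hU₀.primeIdealOf ⟨f x, hxU₀⟩ = p := by
    apply hU₀.fromSpec.isOpenEmbedding.injective
    rw [hprime, hfx]
  have hu : f x ∈ S.basicOpen g := by
    rw [Groth.Agent.Lib.Helper3.mem_basicOpen_iff_notMem_primeIdealOf hU₀ (f x) hxU₀, hpx, hpker]
    exact hgp
  refine ⟨S.basicOpen g, hU₀.basicOpen g, hu, ?_⟩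
  · rw [← closure_subset_iff_isClosed]
    rintro ⟨y, hyU⟩ hy
    have hyU₀ : y ∈ U₀ := S.basicOpen_le g hyU
    have hsp : f x ⤳ y := by
      rw [specializes_iff_mem_closure]
      have := (closure_subtype (x := (⟨y, hyU⟩ : ↥(S.basicOpen g)))
        (s := ({⟨f x, hu⟩} : Set ↥(S.basicOpen g)))).mp hy
      simpa using this
    have hle := (Groth.Agent.Lib.Helper3.primeIdealOf_le_iff_specializes hU₀ (f x) y hxU₀ hyU₀).mpr hsp
    rw [hpx, hpker] at hle
    have hgy : g ∉ (hU₀.primeIdealOf ⟨y, hyU₀⟩).asIdeal :=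
      (Groth.Agent.Lib.Helper3.mem_basicOpen_iff_notMem_primeIdealOf hU₀ y hyU₀ g).mp hyU
    have heq := hg _ (hU₀.primeIdealOf ⟨y, hyU₀⟩).2 hle hgy
    have hpy : hU₀.primeIdealOf ⟨y, hyU₀⟩ = p := by
      apply PrimeSpectrum.ext
      rw [hpker]; exact heq
    have : y = f x := by
      rw [← hprime y hyU₀, hpy, hfx]
    subst this
    rfl

theorem lft_fromSpecResidueField_of_isClosed {S : Scheme.{u}} (U : S.Opens) (s : S) (hs : s ∈ U)
    (hcl : IsClosed ({⟨s, hs⟩} : Set ↥U)) : LocallyOfFiniteType (S.fromSpecResidueField s) := by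
  have h1 : IsClosedImmersion ((U : Scheme.{u}).fromSpecResidueField ⟨s, hs⟩) :=
    isClosed_singleton_iff_isClosedImmersion.mp hcl
  have h2 := U.ι.SpecMap_residueFieldMap_fromSpecResidueField ⟨s, hs⟩
  have h3 : S.fromSpecResidueField s =
      inv (Spec.map (U.ι.residueFieldMap ⟨s, hs⟩)) ≫
        (U : Scheme.{u}).fromSpecResidueField ⟨s, hs⟩ ≫ U.ι := by
    rw [← h2, IsIso.inv_hom_id_assoc]
    rfl
  rw [h3]
  have h4 : LocallyOfFiniteType ((U : Scheme.{u}).fromSpecResidueField ⟨s, hs⟩) := inferInstance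
  have h5 : LocallyOfFiniteType ((U : Scheme.{u}).fromSpecResidueField ⟨s, hs⟩ ≫ U.ι) :=
    inferInstance
  have h6 : LocallyOfFiniteType (inv (Spec.map (U.ι.residueFieldMap ⟨s, hs⟩))) := inferInstance
  exact MorphismProperty.comp_mem _ _ _ h6 h5

end Groth.Agent.Lib.Helper14

namespace Groth.Agent.Lib.Helper14

/-- For a field `k`, the canonical morphism `Spec κ(x) ⟶ Spec k` is an isomorphism. -/
theorem isIso_fromSpecResidueField_of_field (k : Type u) [Field k] (x : Spec (CommRingCat.of k)) :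
    IsIso ((Spec (CommRingCat.of k)).fromSpecResidueField x) := by
  have hsub : Subsingleton (Spec (CommRingCat.of k)) :=
    (inferInstance : Subsingleton (PrimeSpectrum k))
  have hcl : IsClosed ({x} : Set (Spec (CommRingCat.of k))) := by
    have : ({x} : Set (Spec (CommRingCat.of k))) = Set.univ := by
      ext y; simp [Subsingleton.elim y x]
    rw [this]; exact isClosed_univ
  have h1 : IsClosedImmersion ((Spec (CommRingCat.of k)).fromSpecResidueField x) :=
    isClosed_singleton_iff_isClosedImmersion.mp hcl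
  have h2 : Surjective ((Spec (CommRingCat.of k)).fromSpecResidueField x) := by
    constructor
    intro y
    exact ⟨default, Subsingleton.elim _ _⟩
  exact isIso_of_isClosedImmersion_of_surjective _

end Groth.Agent.Lib.Helper14

namespace Groth.Agent.Lib.Helper14

/-- Every nonempty locally closed subset of a scheme contains a finite type point. -/
theorem exists_ftPoint_of_isLocallyClosed (S : Scheme.{u}) (Z : Set S) (hZ : IsLocallyClosed Z)
    (hne : Z.Nonempty) : ∃ s ∈ Z, LocallyOfFiniteType (S.fromSpecResidueField s) := by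
  obtain ⟨U, C, hU, hC, rfl⟩ := hZ
  obtain ⟨z, hzU, hzC⟩ := hne
  obtain ⟨_, ⟨(W : S.Opens), hW : IsAffineOpen W, rfl⟩, hzW, hWU⟩ :=
    S.isBasis_affineOpens.exists_subset_of_mem_open hzU hU
  have : CompactSpace ↥W := isCompact_iff_compactSpace.mp hW.isCompact
  have hcl : IsClosed ((↑) ⁻¹' C : Set ↥W) := hC.preimage continuous_subtype_val
  obtain ⟨w, hwC, hw⟩ := hcl.exists_closed_singleton ⟨⟨z, hzW⟩, hzC⟩
  exact ⟨w.1, ⟨hWU w.2, hwC⟩, lft_fromSpecResidueField_of_isClosed W w.1 w.2 hw⟩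

end Groth.Agent.Lib.Helper14
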