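import Mathlib

/-!
# Étale at a prime from local flatness and unramifiedness

`isEtaleAt_of_flat_of_isUnramifiedAt`: if `S` is a finitely presented `R`-algebra, `q` a prime of `S`
over `p`, `S_q` is flat over `R_p` and `S` is unramified at `q`, then `S` is étale at `q`.
(Mathlib's `Algebra.IsEtaleAt.of_isUnramifiedAt_of_flat` needs global flatness.)
-/

open TensorProduct IsLocalRing

namespace Groth.Agent.Lib.Helper14

universe u

attribute [local instance] Algebra.FormallyEtale.of_formallyUnramified_of_field in
theorem isEtaleAt_of_flat_of_isUnramifiedAt {R S : Type u} [CommRing R] [CommRing S] [Algebra R S]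
    [Algebra.FinitePresentation R S] (p : Ideal R) (q : Ideal S)
    [p.IsPrime] [q.IsPrime] [q.LiesOver p]
    [Algebra (Localization.AtPrime p) (Localization.AtPrime q)]
    [Localization.AtPrime.IsLiesOverAlgebra p q]
    [Module.Flat (Localization.AtPrime p) (Localization.AtPrime q)]
    [Algebra.IsUnramifiedAt R q] : Algebra.IsEtaleAt R q := by
  let Rp := Localization.AtPrime p
  let Sp := Localization (Algebra.algebraMapSubmonoid S p.primeCompl)
  let Sq := Localization.AtPrime q
  let f : Sp →ₐ[S] Sq := IsLocalization.liftAlgHom (M := Algebra.algebraMapSubmonoid S p.primeCompl)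
        (f := Algebra.ofId _ _) (by
      rintro ⟨_, x, hx, rfl⟩
      simpa using! IsLocalization.map_units (M := q.primeCompl) Sq ⟨algebraMap _ _ x,
        by simp_all [q.over_def p]⟩)
  algebraize [f.toRingHom]
  have : IsScalarTower R Sp Sq := .to₁₃₄ _ S _ _
  have : IsScalarTower Rp Sp Sq := .of_algebraMap_eq' <| by
    apply IsLocalization.ringHom_ext p.primeCompl
    simp only [RingHom.comp_assoc, ← IsScalarTower.algebraMap_eq]
  have : IsLocalization (Algebra.algebraMapSubmonoid Sp q.primeCompl) Sq :=
    .isLocalization_of_submonoid_le _ _ (Algebra.algebraMapSubmonoid S p.primeCompl) _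
    (by rintro _ ⟨x, hx, rfl⟩; simp_all [q.over_def p])
  have : Algebra.FinitePresentation Rp Sp := by
    have : Algebra.IsPushout R Rp S Sp :=
      .symm <| Algebra.isPushout_of_isLocalization p.primeCompl _ _ _
    exact .equiv (Algebra.IsPushout.equiv R Rp S Sp)
  have hU : Algebra.FormallyUnramified Rp Sq := .of_restrictScalars R _ _
  have : Algebra.EssFiniteType R Sq := .comp R S Sq
  have : Algebra.EssFiniteType Rp Sq := .of_comp R _ _
  have : Algebra.FormallySmooth (ResidueField Rp) ((ResidueField Rp) ⊗[Rp] Sq) := by
    have : Algebra.FormallyEtale (ResidueField Rp) ((ResidueField Rp) ⊗[Rp] Sq) := inferInstance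
    infer_instance
  have : IsLocalHom (algebraMap Rp Sq) := by
    rw [Localization.AtPrime.IsLiesOverAlgebra.algebraMap_eq]
    infer_instance
  have := Algebra.FormallySmooth.of_formallySmooth_residueField_tensor
    (R := Rp) (S := Sq) (P := Sp) (Algebra.algebraMapSubmonoid _ q.primeCompl)
  have hS : Algebra.FormallySmooth R Sq := .comp R Rp Sq
  exact Algebra.FormallyEtale.iff_formallyUnramified_and_formallySmooth.mpr ⟨inferInstance, hS⟩

end Groth.Agent.Lib.Helper14
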