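import Mathlib
import Groth.Agent.Lib.Helper14.EtaleAtFlat

/-!
# Stalkwise criteria for unramified / étale morphisms near a point
-/

open CategoryTheory AlgebraicGeometry

namespace Groth.Agent.Lib.Helper14

universe u

variable {X Y : Scheme.{u}}

lemma formallyUnramified_stalkMap_iff {f : X ⟶ Y} {x : X} (U : Y.Opens)
      (hU : IsAffineOpen U) (V : X.Opens) (hV : IsAffineOpen V) (hVU : V ≤ f ⁻¹ᵁ U)
      (hx : x ∈ V) :
    letI := (f.appLE U V hVU).hom.toAlgebra
    (f.stalkMap x).hom.FormallyUnramified ↔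
      Algebra.IsUnramifiedAt Γ(Y, U) (hV.primeIdealOf ⟨x, hx⟩).asIdeal := by
  let := (f.appLE U V hVU).hom.toAlgebra
  let p := (hU.primeIdealOf ⟨f x, hVU hx⟩).asIdeal
  let q := (hV.primeIdealOf ⟨x, hx⟩).asIdeal
  have : q.LiesOver p :=
    ⟨congr($(IsAffineOpen.comap_primeIdealOf_appLE U hU V hV hVU hx).1).symm⟩
  let := Localization.AtPrime.algebraOfLiesOver p q
  trans Algebra.FormallyUnramified (Localization.AtPrime p) (Localization.AtPrime q)
  · rw [← RingHom.formallyUnramified_algebraMap]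
    exact RingHom.FormallyUnramified.respectsIso.arrow_mk_iso_iff
      (IsAffineOpen.arrowStalkMapIso f U hU V hV hVU hx)
  · exact ⟨fun _ ↦ Algebra.FormallyUnramified.comp _ (Localization.AtPrime p) _,
      fun _ ↦ .of_restrictScalars Γ(Y, U) _ _⟩

lemma flat_stalkMap_iff {f : X ⟶ Y} {x : X} (U : Y.Opens)
      (hU : IsAffineOpen U) (V : X.Opens) (hV : IsAffineOpen V) (hVU : V ≤ f ⁻¹ᵁ U)
      (hx : x ∈ V) :
    letI := (f.appLE U V hVU).hom.toAlgebra
    (f.stalkMap x).hom.Flat ↔
      Module.Flat Γ(Y, U) (Localization.AtPrime (hV.primeIdealOf ⟨x, hx⟩).asIdeal) := by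
  let := (f.appLE U V hVU).hom.toAlgebra
  let p := (hU.primeIdealOf ⟨f x, hVU hx⟩).asIdeal
  let q := (hV.primeIdealOf ⟨x, hx⟩).asIdeal
  have : q.LiesOver p :=
    ⟨congr($(IsAffineOpen.comap_primeIdealOf_appLE U hU V hV hVU hx).1).symm⟩
  let := Localization.AtPrime.algebraOfLiesOver p q
  trans Module.Flat (Localization.AtPrime p) (Localization.AtPrime q)
  · rw [← RingHom.flat_algebraMap_iff]
    exact RingHom.Flat.respectsIso.arrow_mk_iso_iff
      (IsAffineOpen.arrowStalkMapIso f U hU V hV hVU hx)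
  · exact Module.flat_iff_of_isLocalization (Localization.AtPrime p) p.primeCompl _


set_option backward.defeqAttrib.useBackward true in
set_option backward.isDefEq.respectTransparency false in
lemma exists_formallyUnramified_of_stalk
    (f : X ⟶ Y) [LocallyOfFiniteType f]
    (x : X) (H : (f.stalkMap x).hom.FormallyUnramified) :
    ∃ (U : Y.Opens) (_ : IsAffineOpen U) (V : X.Opens) (_ : IsAffineOpen V) (hVU : V ≤ f ⁻¹ᵁ U),
      x ∈ V ∧ (f.appLE U V hVU).hom.FormallyUnramified := by
  obtain ⟨_, ⟨U, hU, rfl⟩, hxU, -⟩ :=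
    Y.isBasis_affineOpens.exists_subset_of_mem_open (Set.mem_univ (f x)) isOpen_univ
  obtain ⟨_, ⟨V, hV, rfl⟩, hxV, hVU⟩ :=
    X.isBasis_affineOpens.exists_subset_of_mem_open hxU (U.2.preimage f.continuous)
  have := f.finiteType_appLE hU hV hVU
  algebraize [(f.appLE U V hVU).hom]
  have : Algebra.IsUnramifiedAt _ _ := (formallyUnramified_stalkMap_iff U hU V hV hVU hxV).mp H
  obtain ⟨r, hrx, hr⟩ := Algebra.exists_formallyUnramified_of_isUnramifiedAt (R := Γ(Y, U))
    (hV.primeIdealOf ⟨x, hxV⟩).asIdeal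
  refine ⟨_, hU, _, hV.basicOpen r, (X.basicOpen_le r).trans hVU, ?_, ?_⟩
  · rwa [← PrimeSpectrum.mem_basicOpen, IsAffineOpen.primeIdealOf,
      ← hV.fromSpec_preimage_basicOpen, Scheme.Hom.mem_preimage, ← Scheme.Hom.comp_apply,
      IsAffineOpen.isoSpec_hom, IsAffineOpen.toSpecΓ_fromSpec] at hrx
  · have := hV.isLocalization_basicOpen r
    rw [← RingHom.formallyUnramified_algebraMap] at hr
    convert!
      RingHom.FormallyUnramified.respectsIso.1 _
        (IsLocalization.algEquiv (.powers r) _ Γ(X, X.basicOpen r)).toRingEquiv hr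
    ext
    dsimp
    simp only [IsScalarTower.algebraMap_apply Γ(Y, U) Γ(X, V) (Localization _),
      IsLocalization.map_eq]
    simp only [RingHom.algebraMap_toAlgebra, RingHomCompTriple.comp_apply, ← ConcreteCategory.comp_apply,
      Scheme.Hom.appLE_map]


set_option backward.defeqAttrib.useBackward true in
set_option backward.isDefEq.respectTransparency false in
lemma exists_etale_of_stalk
    (f : X ⟶ Y) [LocallyOfFiniteType f] [IsLocallyNoetherian Y]
    (x : X) (H : (f.stalkMap x).hom.FormallyUnramified) (Hf : (f.stalkMap x).hom.Flat) :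
    ∃ (U : Y.Opens) (_ : IsAffineOpen U) (V : X.Opens) (_ : IsAffineOpen V) (hVU : V ≤ f ⁻¹ᵁ U),
      x ∈ V ∧ (f.appLE U V hVU).hom.Etale := by
  obtain ⟨_, ⟨U, hU, rfl⟩, hxU, -⟩ :=
    Y.isBasis_affineOpens.exists_subset_of_mem_open (Set.mem_univ (f x)) isOpen_univ
  obtain ⟨_, ⟨V, hV, rfl⟩, hxV, hVU⟩ :=
    X.isBasis_affineOpens.exists_subset_of_mem_open hxU (U.2.preimage f.continuous)
  have := f.finiteType_appLE hU hV hVU
  have : IsNoetherianRing Γ(Y, U) := IsLocallyNoetherian.component_noetherian ⟨U, hU⟩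
  algebraize [(f.appLE U V hVU).hom]
  have : Algebra.FinitePresentation Γ(Y, U) Γ(X, V) :=
    Algebra.FinitePresentation.of_finiteType.mp inferInstance
  have : Algebra.IsUnramifiedAt _ _ := (formallyUnramified_stalkMap_iff U hU V hV hVU hxV).mp H
  have hfl : Module.Flat Γ(Y, U) (Localization.AtPrime (hV.primeIdealOf ⟨x, hxV⟩).asIdeal) :=
    (flat_stalkMap_iff U hU V hV hVU hxV).mp Hf
  let q := (hV.primeIdealOf ⟨x, hxV⟩).asIdeal
  let p := q.under Γ(Y, U)
  let := Localization.AtPrime.algebraOfLiesOver p q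
  have : Module.Flat (Localization.AtPrime p) (Localization.AtPrime q) :=
    (Module.flat_iff_of_isLocalization (Localization.AtPrime p) p.primeCompl _).mpr hfl
  have : Algebra.IsEtaleAt Γ(Y, U) q := isEtaleAt_of_flat_of_isUnramifiedAt p q
  obtain ⟨r, hrx, hr⟩ := Algebra.exists_etale_of_isEtaleAt (R := Γ(Y, U)) q
  refine ⟨_, hU, _, hV.basicOpen r, (X.basicOpen_le r).trans hVU, ?_, ?_⟩
  · rwa [← PrimeSpectrum.mem_basicOpen, IsAffineOpen.primeIdealOf,
      ← hV.fromSpec_preimage_basicOpen, Scheme.Hom.mem_preimage, ← Scheme.Hom.comp_apply,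
      IsAffineOpen.isoSpec_hom, IsAffineOpen.toSpecΓ_fromSpec] at hrx
  · have := hV.isLocalization_basicOpen r
    rw [← RingHom.etale_algebraMap] at hr
    convert!
      RingHom.Etale.respectsIso.1 _
        (IsLocalization.algEquiv (.powers r) _ Γ(X, X.basicOpen r)).toRingEquiv hr
    ext
    dsimp
    simp only [IsScalarTower.algebraMap_apply Γ(Y, U) Γ(X, V) (Localization _),
      IsLocalization.map_eq]
    simp only [RingHom.algebraMap_toAlgebra, RingHomCompTriple.comp_apply,
      ← ConcreteCategory.comp_apply, Scheme.Hom.appLE_map]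

lemma formallyUnramified_ι_comp_of_appLE (f : X ⟶ Y) (U : Y.Opens) (hU : IsAffineOpen U)
    (V : X.Opens) (hV : IsAffineOpen V) (hVU : V ≤ f ⁻¹ᵁ U)
    (H : (f.appLE U V hVU).hom.FormallyUnramified) : FormallyUnramified (V.ι ≫ f) := by
  have : IsAffine U.toScheme := hU
  have : IsAffine V.toScheme := hV
  have h1 : FormallyUnramified (f.resLE U V hVU) := by
    rw [HasRingHomProperty.iff_of_isAffine (P := @FormallyUnramified)]
    exact (RingHom.FormallyUnramified.respectsIso.arrow_mk_iso_iff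
      (arrowResLEAppIso f U V hVU)).mpr H
  have h2 : FormallyUnramified U.ι := inferInstance
  rw [← Scheme.Hom.resLE_comp_ι f hVU]
  exact MorphismProperty.comp_mem _ _ _ h1 h2

lemma etale_ι_comp_of_appLE (f : X ⟶ Y) (U : Y.Opens) (hU : IsAffineOpen U)
    (V : X.Opens) (hV : IsAffineOpen V) (hVU : V ≤ f ⁻¹ᵁ U)
    (H : (f.appLE U V hVU).hom.Etale) : Etale (V.ι ≫ f) := by
  have : IsAffine U.toScheme := hU
  have : IsAffine V.toScheme := hV
  have h1 : Etale (f.resLE U V hVU) := by
    rw [HasRingHomProperty.iff_of_isAffine (P := @Etale)]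
    exact (RingHom.Etale.respectsIso.arrow_mk_iso_iff
      (arrowResLEAppIso f U V hVU)).mpr H
  rw [← Scheme.Hom.resLE_comp_ι f hVU]
  infer_instance

/-- Stalk maps of the restriction to an open subscheme. -/
lemma stalkMap_ι_comp_iff {Q : ∀ {R S : Type u} [CommRing R] [CommRing S], (R →+* S) → Prop}
    (hQ : RingHom.RespectsIso Q) (f : X ⟶ Y) (U : X.Opens) (x : U.toScheme) :
    Q ((U.ι ≫ f).stalkMap x).hom ↔ Q (f.stalkMap (U.ι x)).hom := by
  refine Iff.trans ?_ (hQ.cancel_right_isIso (f.stalkMap (U.ι x)) (U.ι.stalkMap x))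
  rw [← CommRingCat.hom_comp, ← Scheme.Hom.stalkMap_comp]
  exact Iff.rfl


lemma stalkMap_formallyUnramified_iff (f : X ⟶ Y) [LocallyOfFiniteType f] (x : X) :
    (f.stalkMap x).hom.FormallyUnramified ↔
      ((IsLocalRing.maximalIdeal (Y.presheaf.stalk (f.base x))).map (f.stalkMap x).hom =
          IsLocalRing.maximalIdeal (X.presheaf.stalk x) ∧
        letI := (f.residueFieldMap x).hom.toAlgebra
        Module.Finite (Y.residueField (f.base x)) (X.residueField x) ∧
          Algebra.IsSeparable (Y.residueField (f.base x)) (X.residueField x)) := by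
  algebraize [(f.stalkMap x).hom]
  have : IsLocalHom (algebraMap (Y.presheaf.stalk (f x)) (X.presheaf.stalk x)) :=
    inferInstanceAs <| IsLocalHom (f.stalkMap x).hom
  have : Algebra.EssFiniteType (Y.presheaf.stalk (f x)) (X.presheaf.stalk x) := by
    rw [← RingHom.essFiniteType_algebraMap, RingHom.algebraMap_toAlgebra]
    exact LocallyOfFiniteType.stalkMap f x
  have halg : (f.residueFieldMap x).hom.toAlgebra =
      (inferInstance : Algebra (IsLocalRing.ResidueField (Y.presheaf.stalk (f x)))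
        (IsLocalRing.ResidueField (X.presheaf.stalk x))) := by
    refine Algebra.algebra_ext _ _ fun x ↦ ?_
    obtain ⟨x, rfl⟩ := IsLocalRing.residue_surjective x
    rfl
  have key : Algebra.FormallyUnramified (Y.presheaf.stalk (f x)) (X.presheaf.stalk x) ↔
      ((IsLocalRing.maximalIdeal (Y.presheaf.stalk (f x))).map
          (algebraMap (Y.presheaf.stalk (f x)) (X.presheaf.stalk x)) =
          IsLocalRing.maximalIdeal (X.presheaf.stalk x) ∧
        Module.Finite (IsLocalRing.ResidueField (Y.presheaf.stalk (f x)))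
          (IsLocalRing.ResidueField (X.presheaf.stalk x)) ∧
        Algebra.IsSeparable (IsLocalRing.ResidueField (Y.presheaf.stalk (f x)))
          (IsLocalRing.ResidueField (X.presheaf.stalk x))) := by
    constructor
    · intro h
      exact ⟨Algebra.FormallyUnramified.map_maximalIdeal, inferInstance, inferInstance⟩
    · rintro ⟨h1, _, h3⟩
      exact Algebra.FormallyUnramified.of_map_maximalIdeal h1
  rw [← RingHom.algebraMap_toAlgebra (f.stalkMap x).hom, RingHom.formallyUnramified_algebraMap, key]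
  change _ ↔ (_ ∧ @Module.Finite _ _ _ _ (f.residueFieldMap x).hom.toAlgebra.toModule ∧
    @Algebra.IsSeparable _ _ _ _ (f.residueFieldMap x).hom.toAlgebra)
  rw [halg]
  rfl

end Groth.Agent.Lib.Helper14
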