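import Mathlib
import Groth.Prelude.Def_AlgGrp
import Groth.Agent.Lib.Helper11.ActA
import Groth.Agent.Lib.Helper4.ConnSch
import Groth.Agent.Lib.Helper12.ChevalleyCor
import Groth.Agent.Lib.Helper12.SchemeDimFT
import Groth.Agent.Lib.Helper14.GrpdCM
import Groth.Agent.S9358

/-!
# Homogeneous spaces: the local dimension is constant
-/

set_option autoImplicit false
set_option linter.style.haveILetI false
universe u v

open CategoryTheory MonoidalCategory CartesianMonoidalCategory MonObj Limits AlgebraicGeometry

namespace Groth.Agent.Lib.Helper14.HomogDim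

section abstract

variable {C : Type u} [Category.{v} C] [CartesianMonoidalCategory C] (G X : C)

theorem isPullback_fst_snd : IsPullback (fst G X) (snd G X) (toUnit G) (toUnit X) where
  w := by simp
  isLimit' := Nonempty.intro <| PullbackCone.IsLimit.mk _
    (fun s => lift s.fst s.snd)
    (fun s => by simp)
    (fun s => by simp)
    (fun s m hm₁ hm₂ => by
      refine CartesianMonoidalCategory.hom_ext _ _ (by simpa using hm₁) (by simpa using hm₂))

end abstract

variable {S : Scheme.{u}} {G X : Over S} [GrpObj G] (a : AlgGrp.Action G X)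

open Groth.Agent.Lib.Helper11.ActA

theorem isPullback_fst_act : IsPullback (fst G X) a.act (toUnit G) (toUnit X) := by
  refine IsPullback.of_iso (isPullback_fst_snd G X) (shearX a).symm (Iso.refl _) (Iso.refl _)
    (Iso.refl _) ?_ ?_ (by simp) (by simp)
  · simp only [Iso.symm_hom, Iso.refl_hom, Category.comp_id]
    rw [Iso.eq_inv_comp, shearX_hom_fst]
  · simp only [Iso.symm_hom, Iso.refl_hom, Category.comp_id]
    rw [Iso.eq_inv_comp, shearX_hom_snd]

theorem isPullback_snd_left : IsPullback (snd G X).left (fst G X).left X.hom G.hom := by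
  simpa using ((isPullback_fst_snd G X).map (Over.forget _)).flip

theorem isPullback_act_left : IsPullback a.act.left (fst G X).left X.hom G.hom := by
  simpa using ((isPullback_fst_act a).map (Over.forget _)).flip

theorem isPullback_fst_snd_left : IsPullback (fst X X).left (snd X X).left X.hom X.hom := by
  simpa using (isPullback_fst_snd X X).map (Over.forget _)

theorem fibreDimAt_act_eq [LocallyOfFiniteType X.hom] (z : (G ⊗ X).left) :
    FlatMor.fibreDimAt X.hom (a.act.left z) = FlatMor.fibreDimAt X.hom ((snd G X).left z) := by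
  have e1 := (Groth.Agent.S9358.result X.hom G.hom a.act.left (fst G X).left
    (isPullback_act_left a) 0).1 z
  have e2 := (Groth.Agent.S9358.result X.hom G.hom (snd G X).left (fst G X).left
    (isPullback_snd_left) 0).1 z
  exact e1.symm.trans e2

/-- on a homogeneous space, the local dimension of the fibres is constant along the fibres -/
theorem fibreDimAt_eq_of_hom_eq [LocallyOfFiniteType X.hom]
    (hΦ : Surjective (lift a.act (snd G X)).left) (x y : X.left) (hxy : X.hom x = X.hom y) :
    FlatMor.fibreDimAt X.hom x = FlatMor.fibreDimAt X.hom y := by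
  obtain ⟨w, hw1, hw2⟩ := Groth.Agent.Lib.Helper14.GrpdCM.exists_preimage_of_isPullback
    (isPullback_fst_snd_left (X := X)) x y hxy
  obtain ⟨z, rfl⟩ := hΦ.surj w
  have h1 : a.act.left z = x := by
    rw [← hw1, ← Scheme.Hom.comp_apply, ← Over.comp_left, lift_fst]
  have h2 : (snd G X).left z = y := by
    rw [← hw2, ← Scheme.Hom.comp_apply, ← Over.comp_left, lift_snd]
  rw [← h1, ← h2]
  exact fibreDimAt_act_eq a z

end Groth.Agent.Lib.Helper14.HomogDim

namespace Groth.Agent.Lib.Helper14.HomogDim

open CategoryTheory MonoidalCategory CartesianMonoidalCategory MonObj Limits AlgebraicGeometry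

theorem subsingleton_Spec_of_artinian_local (A : Type u) [CommRing A] [IsArtinianRing A]
    [IsLocalRing A] : Subsingleton ↥(Spec (CommRingCat.of A)) := by
  refine ⟨fun p q => ?_⟩
  have hp : (PrimeSpectrum.asIdeal p).IsMaximal :=
    Ideal.IsPrime.isMaximal' (hI := PrimeSpectrum.isPrime p)
  have hq : (PrimeSpectrum.asIdeal q).IsMaximal :=
    Ideal.IsPrime.isMaximal' (hI := PrimeSpectrum.isPrime q)
  apply PrimeSpectrum.ext
  rw [IsLocalRing.eq_maximalIdeal hp, IsLocalRing.eq_maximalIdeal hq]

/-- when the base is a point, the local dimension of the fibre is the local dimension. -/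
theorem fibreDimAt_eq_localDim_of_subsingleton {X S : Scheme.{u}} (f : X ⟶ S) [Subsingleton S]
    (x : X) : FlatMor.fibreDimAt f x = FlatMor.localDim X x := by
  have hrange : Set.range (f.fiberι (f x)) = Set.univ := by
    rw [Scheme.Hom.range_fiberι]
    ext y
    simp only [Set.mem_preimage, Set.mem_singleton_iff, Set.mem_univ, iff_true]
    exact Subsingleton.elim _ _
  have hopen : Topology.IsOpenEmbedding (f.fiberι (f x)) :=
    ⟨(f.fiberι (f x)).isEmbedding, by rw [hrange]; exact isOpen_univ⟩
  unfold FlatMor.fibreDimAt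
  rw [Groth.Agent.Lib.Helper12.SchemeDimFT.localDim_eq_of_isOpenEmbedding _ hopen,
    f.fiberι_asFiber]

theorem dim_connectedComponent_eq {X S : Scheme.{u}} (f : X ⟶ S) [Subsingleton S]
    [IsLocallyNoetherian X] (δ : WithBot ℕ∞) (hδ : ∀ x : X, FlatMor.fibreDimAt f x = δ) (x : X) :
    topologicalKrullDim ↥(connectedComponent x) = δ := by
  haveI : LocallyConnectedSpace X := Groth.Agent.Lib.Helper4.ConnSch.locallyConnectedSpace
  have hopen : IsOpen (connectedComponent x) := isOpen_connectedComponent
  rw [Groth.Agent.Lib.Helper9.topologicalKrullDim_eq_iSup_localDim]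
  have hconst : ∀ c : ↥(connectedComponent x), FlatMor.localDim ↥(connectedComponent x) c = δ := by
    intro c
    rw [Groth.Agent.Lib.Helper12.SchemeDimFT.localDim_eq_of_isOpenEmbedding Subtype.val
      hopen.isOpenEmbedding_subtypeVal, ← fibreDimAt_eq_localDim_of_subsingleton f, hδ]
  haveI : Nonempty ↥(connectedComponent x) := ⟨⟨x, mem_connectedComponent⟩⟩
  simp_rw [hconst]
  exact ciSup_const

theorem dim_connectedComponent_eq_of_homogeneous (A : Type u) [CommRing A] [IsArtinianRing A]
    [IsLocalRing A] (G X : Over (Spec (CommRingCat.of A))) [GrpObj G]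
    [LocallyOfFiniteType X.hom]
    (a : AlgGrp.Action G X) (hΦ : Surjective (lift a.act (snd G X)).left) (x y : X.left) :
    topologicalKrullDim ↥(connectedComponent x) = topologicalKrullDim ↥(connectedComponent y) := by
  haveI : Subsingleton ↥(Spec (CommRingCat.of A)) := subsingleton_Spec_of_artinian_local A
  haveI : IsLocallyNoetherian X.left := LocallyOfFiniteType.isLocallyNoetherian X.hom
  have hδ : ∀ z : X.left, FlatMor.fibreDimAt X.hom z = FlatMor.fibreDimAt X.hom x :=
    fun z => fibreDimAt_eq_of_hom_eq a hΦ z x (Subsingleton.elim _ _)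
  rw [dim_connectedComponent_eq X.hom _ hδ x, dim_connectedComponent_eq X.hom _ hδ y]

end Groth.Agent.Lib.Helper14.HomogDim
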