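import Mathlib
import Groth.Prelude.Def_EGA4b
import Groth.Agent.Lib.Helper14.CMFieldBC

/-!
# `(S_n)` for tensor products over a field (helper14)
-/

set_option autoImplicit false
universe u
open IsLocalRing TensorProduct Groth.Agent.Lib.Helper4 Groth.Agent.Lib.Helper4.FlatRing
  Groth.Agent.Lib.Helper4.FlatFibre

namespace Groth.Agent.Lib.Helper14.SkTensor

open Groth.Agent.Lib.Helper14.CMFieldBC

theorem hasSk_self_of_ringEquiv {X Y : Type u} [CommRing X] [CommRing Y] [IsNoetherianRing X]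
    [IsNoetherianRing Y] (e : X ≃+* Y) (n : ℕ) (h : LocCoh.HasSk n X X) : LocCoh.HasSk n Y Y := by
  rw [hasSk_self_iff_closedSk] at h ⊢
  intro q' _
  set q := q'.comap (e : X →+* Y) with hq
  haveI : q.IsPrime := Ideal.IsPrime.comap _
  have H : Submonoid.map (e : X →* Y) q.primeCompl = q'.primeCompl := by
    ext y
    constructor
    · rintro ⟨z, hz, rfl⟩
      exact hz
    · intro hy
      refine ⟨e.symm y, ?_, by simp⟩
      show e.symm y ∉ q
      rw [hq, Ideal.mem_comap]
      simpa using hy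
  intro _
  exact closedSk_of_ringEquiv n _ _
    (IsLocalization.ringEquivOfRingEquiv (Localization.AtPrime q) (Localization.AtPrime q') e H)
    (h q)

theorem hasSk_iff_forall_hasSkAt {R : Type u} [CommRing R] [IsNoetherianRing R] (n : ℕ) :
    LocCoh.HasSk n R R ↔ ∀ (q : Ideal R) [q.IsPrime], EGA4.HasSkAt n R R q := by
  constructor
  · intro h q _
    rw [hasSkAt_self_iff_hasSk]
    exact SerreNormal.hasSk_self_atPrime n h q
  · intro h
    rw [hasSk_self_iff']
    intro q _
    have h1 := h q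
    rw [hasSkAt_self_iff_hasSk, hasSk_atPrime_iff] at h1
    exact h1 q le_rfl

theorem hasSk_fiber_tensor (n : ℕ) (k S T : Type u) [Field k] [CommRing S] [CommRing T]
    [Algebra k S] [Algebra k T] [IsNoetherianRing S] [IsNoetherianRing T]
    (hft : Algebra.FiniteType k S ∨ Algebra.FiniteType k T) [IsNoetherianRing (S ⊗[k] T)]
    (hT : LocCoh.HasSk n T T) (P : Ideal S) [P.IsPrime] :
    LocCoh.HasSk n (P.Fiber (S ⊗[k] T)) (P.Fiber (S ⊗[k] T)) := by
  haveI := isNoetherianRing_fiber S (S ⊗[k] T) P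
  let e : P.Fiber (S ⊗[k] T) ≃+* T ⊗[k] P.ResidueField :=
    (Algebra.TensorProduct.cancelBaseChange k S S P.ResidueField T).toRingEquiv.trans
      (Algebra.TensorProduct.comm k P.ResidueField T).toRingEquiv
  haveI : IsNoetherianRing (T ⊗[k] P.ResidueField) := isNoetherianRing_of_ringEquiv _ e
  have hft' : Algebra.FiniteType k T ∨ Algebra.EssFiniteType k P.ResidueField := by
    rcases hft with h | h
    · right
      haveI := h
      exact Algebra.EssFiniteType.comp k S P.ResidueField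
    · left; exact h
  have hTκ : LocCoh.HasSk n (T ⊗[k] P.ResidueField) (T ⊗[k] P.ResidueField) := by
    rw [hasSk_iff_forall_hasSkAt]
    intro q' _
    have hfib' := cm_fiber_tensor' k T P.ResidueField hft'
    rw [← hasSkAt_iff T (T ⊗[k] P.ResidueField) (fun P' _ => hfib' P') n q']
    exact (hasSk_iff_forall_hasSkAt n).mp hT _
  exact hasSk_self_of_ringEquiv e.symm n hTκ

theorem hasSk_tensor (n : ℕ) (k S T : Type u) [Field k] [CommRing S] [CommRing T] [Algebra k S]
    [Algebra k T] [IsNoetherianRing S] [IsNoetherianRing T]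
    (hft : Algebra.FiniteType k S ∨ Algebra.FiniteType k T) [IsNoetherianRing (S ⊗[k] T)]
    (hS : LocCoh.HasSk n S S) (hT : LocCoh.HasSk n T T) :
    LocCoh.HasSk n (S ⊗[k] T) (S ⊗[k] T) := by
  rw [hasSk_self_iff']
  intro Q _
  obtain ⟨h1, h2, -⟩ := exists_local_data S (S ⊗[k] T) Q
  have hfibSk := hasSk_fiber_tensor n k S T hft hT (Q.comap (algebraMap S (S ⊗[k] T)))
  have hF := (hasSk_fiber_iff S (S ⊗[k] T) (Q.comap (algebraMap S (S ⊗[k] T))) n).mp hfibSk Q rfl
  have hF' : min (n : ℕ∞) (maximalIdeal (EGA4.FibLocRing S (S ⊗[k] T) Q)).height ≤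
      LocCoh.depth (EGA4.FibLocRing S (S ⊗[k] T) Q) (EGA4.FibLocRing S (S ⊗[k] T) Q) := hF
  have hP := (hasSk_self_iff' n).mp hS (Q.comap (algebraMap S (S ⊗[k] T)))
  rw [h1, h2]
  exact (min_add_le _ _ _).trans (add_le_add hP hF')

end Groth.Agent.Lib.Helper14.SkTensor
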