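import Mathlib
import Groth.Agent.Lib.Helper14.GeomRedGeneric
import Groth.Agent.Lib.Helper14.PerfectDescent
import Groth.Agent.Lib.Helper14.SmoothInsepSch
import Groth.Agent.Lib.Helper7.RedLib

/-!
# A finite purely inseparable extension making the reduction geometrically reduced: schemes
(helper14)
-/

set_option autoImplicit false
universe u

open CategoryTheory CategoryTheory.Limits AlgebraicGeometry TopologicalSpace
open scoped TensorProduct

namespace Groth.Agent.Lib.Helper14.GeomRedFinite

open Groth.Agent.Lib.Helper14.GeomRedAt Groth.Agent.Lib.Helper14.GeomRedGeneric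
open Groth.Agent.Lib.Helper14.PerfectDescent

section Ring

variable (k : Type u) [Field k] (B : Type u) [CommRing B] [Algebra k B]

/-- The reduction of `E ⊗ B` is geometrically reduced over `E`. -/
def GoodField (E : Type u) [Field E] [Algebra k E] : Prop :=
  Algebra.IsGeometricallyReduced E ((E ⊗[k] B) ⧸ nilradical (E ⊗[k] B))

/-- Refined form of the main ring lemma: a finite set of elements of the perfect closure such that
every intermediate field containing it works. -/
theorem exists_finset_forall (hN : IsNoetherianRing (Om k ⊗[k] B)) :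
    ∃ T : Finset (Om k), ∀ E : IntermediateField k (Om k), (↑T : Set (Om k)) ⊆ E →
      GoodField k B E := by
  classical
  have hfg : (nilradical (Om k ⊗[k] B)).FG := (isNoetherianRing_iff_ideal_fg _).mp hN _
  obtain ⟨s, hs⟩ := hfg
  choose S hS using exists_support k B
  refine ⟨s.biUnion S, fun E hTE => ?_⟩
  have hmem : ∀ n ∈ s, n ∈ Set.range (incl k B E) := by
    intro n hn
    refine hS n E (fun z hz => hTE ?_)
    exact Finset.mem_coe.mpr (Finset.mem_biUnion.mpr ⟨n, hn, Finset.mem_coe.mp hz⟩)
  exact core k B (Om k) E s hs hmem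

end Ring

section Transfer

variable {k : Type u} [Field k] {T Y : Scheme.{u}} (g : Y ⟶ Spec (CommRingCat.of k))

/-- The stalk map of a morphism of `k`-schemes as a `k`-algebra homomorphism. -/
noncomputable def stalkMapAlgHom (l : T ⟶ Y) (t : T) :
    letI := stalkAlg g (l t)
    letI := stalkAlg (l ≫ g) t
    (Y.presheaf.stalk (l t)) →ₐ[k] (T.presheaf.stalk t) :=
  letI := stalkAlg g (l t)
  letI := stalkAlg (l ≫ g) t
  { (l.stalkMap t).hom with
    commutes' := by
      intro r
      have h1 : Spec.map (CommRingCat.ofHom (algebraMap k (Y.presheaf.stalk (l t))) ≫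
          l.stalkMap t) =
          Spec.map (CommRingCat.ofHom (algebraMap k (T.presheaf.stalk t))) := by
        rw [Spec.map_comp, ← stalkAlg_compat g (l t), ← stalkAlg_compat (l ≫ g) t,
          ← Category.assoc, Scheme.SpecMap_stalkMap_fromSpecStalk, Category.assoc]
      have h2 := Spec.map_injective h1
      exact congrArg (fun ψ => ψ.hom r) h2 }

/-- Geometric reducedness at a point descends along a morphism which is injective on the local
ring. -/
theorem isGeomReducedAt_of_stalkMap_injective (l : T ⟶ Y) (t : T)
    (hinj : Function.Injective (l.stalkMap t).hom)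
    (h : FBase.IsGeomReducedAt (l ≫ g) t) : FBase.IsGeomReducedAt g (l t) := by
  letI := stalkAlg g (l t)
  letI := stalkAlg (l ≫ g) t
  rw [isGeomReducedAt_iff_stalk (l ≫ g) t (stalkAlg_compat (l ≫ g) t)] at h
  rw [isGeomReducedAt_iff_stalk g (l t) (stalkAlg_compat g (l t))]
  haveI := h
  exact Algebra.IsGeometricallyReduced.of_injective (stalkMapAlgHom g l t) hinj

end Transfer

section Main

open Groth.Agent.Lib.Helper14.SmoothInsepSch

variable {k : Type u} [Field k] {X : Scheme.{u}} (f : X ⟶ Spec (CommRingCat.of k))

/-- Key step: at a point `η'` of the reduction of `X_E` whose local ring is a field and which lies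
over an affine open `U` of `X` such that `E` is good for `Γ(X, U)`, the reduction of `X_E` is
geometrically reduced. -/
theorem isGeomReducedAt_of_goodField (E : Type u) [Field E] [Algebra k E]
    {X' : Scheme.{u}} (fst : X' ⟶ X) (snd : X' ⟶ Spec (CommRingCat.of E))
    (hpb : IsPullback fst snd f (Spec.map (CommRingCat.ofHom (algebraMap k E))))
    {U : X.Opens} (hU : IsAffineOpen U)
    (hgood : letI : Algebra k Γ(X, U) := (secMap f hU).hom.toAlgebra; GoodField k Γ(X, U) E)
    (η' : ↥(X'.nilradical.subscheme))
    (hη'U : fst (X'.nilradical.subschemeι η') ∈ U)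
    (hfield : IsField (X'.nilradical.subscheme.presheaf.stalk η')) :
    FBase.IsGeomReducedAt (X'.nilradical.subschemeι ≫ snd) η' := by
  letI algR : Algebra k Γ(X, U) := (secMap f hU).hom.toAlgebra
  set q := Spec.map (CommRingCat.ofHom (algebraMap k E)) with hq
  set ι := X'.nilradical.subschemeι with hι
  set a := hU.fromSpec with ha
  have hc : a ≫ f = Spec.map (CommRingCat.ofHom (algebraMap k Γ(X, U))) :=
    (Spec_map_secMap f hU).symm
  let C := E ⊗[k] Γ(X, U)
  let Q := C ⧸ nilradical C
  haveI hgr : Algebra.IsGeometricallyReduced E Q := hgood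
  haveI hQred : _root_.IsReduced Q := Algebra.isReduced_of_isGeometricallyReduced E
  let inl : CommRingCat.of E ⟶ CommRingCat.of C :=
    CommRingCat.ofHom (Algebra.TensorProduct.includeLeftRingHom)
  let inr : CommRingCat.of Γ(X, U) ⟶ CommRingCat.of C :=
    CommRingCat.ofHom (Algebra.TensorProduct.includeRight : Γ(X, U) →ₐ[k] C).toRingHom
  have hbig : IsPullback (Spec.map inl) (Spec.map inr) q
      (Spec.map (CommRingCat.ofHom (algebraMap k Γ(X, U)))) :=
    isPullback_SpecMap_of_isPushout _ _ _ _ (CommRingCat.isPushout_tensorProduct k E Γ(X, U))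
  have hw : (Spec.map inr ≫ a) ≫ f = Spec.map inl ≫ q := by
    rw [Category.assoc, hc]; exact hbig.w.symm
  let m : Spec (CommRingCat.of C) ⟶ X' := hpb.lift (Spec.map inr ≫ a) (Spec.map inl) hw
  have hm1 : m ≫ fst = Spec.map inr ≫ a := hpb.lift_fst _ _ _
  have hm2 : m ≫ snd = Spec.map inl := hpb.lift_snd _ _ _
  have hleft : IsPullback m (Spec.map inr) fst a := by
    refine IsPullback.of_right ?_ hm1 hpb.flip
    rw [hm2, hc]
    exact hbig
  -- the point
  have hrange : fst (ι η') ∈ Set.range a := by
    rw [ha, hU.range_fromSpec]; exact hη'U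
  obtain ⟨r, hr⟩ := hrange
  obtain ⟨c, hc1, -⟩ := Scheme.exists_preimage_of_isPullback hleft (ι η') r hr.symm
  let mk : CommRingCat.of C ⟶ CommRingCat.of Q := CommRingCat.ofHom (Ideal.Quotient.mk _)
  obtain ⟨t0, ht0⟩ : ∃ t0 : ↥(Spec (CommRingCat.of Q)), (Spec.map mk) t0 = c := by
    have hsurj : Function.Surjective (Ideal.Quotient.mk (nilradical C)) :=
      Ideal.Quotient.mk_surjective
    have h1 := range_comap_of_surjective _ _ hsurj
    let c' : PrimeSpectrum C := c
    have h2 : c' ∈ PrimeSpectrum.zeroLocus
        (RingHom.ker (Ideal.Quotient.mk (nilradical C)) : Set C) := by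
      rw [PrimeSpectrum.mem_zeroLocus, Ideal.mk_ker]
      exact nilradical_le_prime c'.asIdeal
    rw [← h1] at h2
    obtain ⟨t0, ht0⟩ := h2
    exact ⟨t0, ht0⟩
  haveI : AlgebraicGeometry.IsReduced (Spec (CommRingCat.of Q)) := inferInstance
  obtain ⟨l, hl⟩ := Groth.Agent.Lib.Helper7.exists_lift_of_isReduced_of_range_subset
    (Spec.map mk ≫ m) ι (by
      intro y _
      exact Groth.Agent.Lib.Helper7.subschemeι_nilradical_surjective X' y)
  have hlt : l t0 = η' := by
    apply ι.isEmbedding.injective
    rw [← Scheme.Hom.comp_apply, hl, Scheme.Hom.comp_apply, ht0, hc1]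
  have hlg : l ≫ ι ≫ snd = Spec.map (CommRingCat.ofHom (algebraMap E Q)) := by
    rw [← Category.assoc, hl, Category.assoc, hm2, ← Spec.map_comp]
    rfl
  have hT : GeometricallyReduced (Spec.map (CommRingCat.ofHom (algebraMap E Q))) :=
    geometricallyReduced_SpecMap_of_algebra E Q
  have h1 : FBase.IsGeomReducedAt (l ≫ ι ≫ snd) t0 := by
    rw [hlg]
    exact (geometricallyReduced_iff_forall_isGeomReducedAt _).mp hT t0
  have hfield' : IsField (X'.nilradical.subscheme.presheaf.stalk (l t0)) := by
    rw [hlt]; exact hfield
  have hinj : Function.Injective (l.stalkMap t0).hom := by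
    letI := hfield'.toField
    exact RingHom.injective _
  have h2 := isGeomReducedAt_of_stalkMap_injective (ι ≫ snd) l t0 hinj h1
  rwa [hlt] at h2

/-- The set of generic points of irreducible components. -/
def genericPts (X : Scheme.{u}) : Set X :=
  {x | ∃ Z ∈ irreducibleComponents (X : Type u), IsGenericPoint x Z}

theorem genericPts_finite (hirr : (irreducibleComponents (X : Type u)).Finite) :
    (genericPts X).Finite := by
  refine Set.Finite.of_finite_image (f := fun x : X => closure {x}) (hirr.subset ?_) ?_
  · rintro _ ⟨x, ⟨Z, hZ, hx⟩, rfl⟩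
    show closure {x} ∈ _
    rw [hx.def]; exact hZ
  · intro x _ y _ hxy
    exact (inseparable_iff_closure_eq.mpr hxy).eq

/-- A point without proper generizations is the generic point of an irreducible component. -/
theorem mem_genericPts_of_forall_specializes (x : X) (h : ∀ ξ : X, ξ ⤳ x → ξ = x) :
    x ∈ genericPts X := by
  have hirr : IsIrreducible (irreducibleComponent x) := isIrreducible_irreducibleComponent
  set η := hirr.genericPoint with hη
  have hgen : IsGenericPoint η (irreducibleComponent x) := by
    have := hirr.isGenericPoint_genericPoint_closure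
    rwa [isClosed_irreducibleComponent.closure_eq] at this
  have hηx : η ⤳ x := by
    rw [specializes_iff_mem_closure, hgen.def]
    exact mem_irreducibleComponent
  have := h η hηx
  exact ⟨irreducibleComponent x, irreducibleComponent_mem_irreducibleComponents x, this ▸ hgen⟩

/-- **Main theorem.** -/
theorem main [LocallyOfFiniteType f] (hirr : (irreducibleComponents (X : Type u)).Finite) :
    ∃ (k' : Type u) (_ : Field k') (_ : Algebra k k'), FiniteDimensional k k' ∧
      IsPurelyInseparable k k' ∧
      GeometricallyReduced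
        ((pullback f (Spec.map (CommRingCat.ofHom (algebraMap k k')))).nilradical.subschemeι ≫
          pullback.snd f (Spec.map (CommRingCat.ofHom (algebraMap k k')))) := by
  classical
  have hS := genericPts_finite (X := X) hirr
  have hex : ∀ x : X, ∃ U : X.Opens, IsAffineOpen U ∧ x ∈ U := by
    intro x
    obtain ⟨_, ⟨W, hW, rfl⟩, hxW, -⟩ := X.isBasis_affineOpens.exists_subset_of_mem_open
      (Set.mem_univ x) isOpen_univ
    exact ⟨W, hW, hxW⟩
  choose U hU hxU using hex
  have hT : ∀ x : X, ∃ T : Finset (Om k), ∀ E : IntermediateField k (Om k),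
      (↑T : Set (Om k)) ⊆ E →
      letI : Algebra k Γ(X, U x) := (secMap f (hU x)).hom.toAlgebra
      GoodField k Γ(X, U x) E := by
    intro x
    letI : Algebra k Γ(X, U x) := (secMap f (hU x)).hom.toAlgebra
    haveI : Algebra.FiniteType k Γ(X, U x) := by
      have : LocallyOfFiniteType ((hU x).fromSpec ≫ f) := inferInstance
      rw [← Spec_map_secMap, HasRingHomProperty.Spec_iff (P := @LocallyOfFiniteType)] at this
      exact this
    apply exists_finset_forall k Γ(X, U x)
    haveI : Algebra.FiniteType (Om k) (Om k ⊗[k] Γ(X, U x)) := inferInstance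
    exact Algebra.FiniteType.isNoetherianRing (Om k) (Om k ⊗[k] Γ(X, U x))
  choose T hTgood using hT
  let Tall : Finset (Om k) := hS.toFinset.biUnion T
  let E : IntermediateField k (Om k) := IntermediateField.adjoin k (↑Tall : Set (Om k))
  have hTE : (↑Tall : Set (Om k)) ⊆ E := IntermediateField.subset_adjoin k _
  haveI : IsPurelyInseparable k (Om k) := inferInstance
  haveI : Algebra.IsIntegral k (Om k) := inferInstance
  haveI hfin : FiniteDimensional k E :=
    IntermediateField.finiteDimensional_adjoin (fun x _ => Algebra.IsIntegral.isIntegral x)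
  haveI hpi : IsPurelyInseparable k E := IsPurelyInseparable.tower_bot k E (Om k)
  refine ⟨E, inferInstance, inferInstance, hfin, hpi, ?_⟩
  set q := Spec.map (CommRingCat.ofHom (algebraMap k E)) with hq
  haveI : AlgebraicGeometry.IsReduced (pullback f q).nilradical.subscheme :=
    Groth.Agent.Lib.Helper7.isReduced_nilradical_subscheme _
  apply geometricallyReduced_of_generic_points
  intro Z hZ η' hη'
  set ι := (pullback f q).nilradical.subschemeι with hι
  set x := (pullback.fst f q) (ι η') with hx
  have hxS : x ∈ genericPts X := by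
    apply mem_genericPts_of_forall_specializes
    intro ξ hξ
    haveI : Flat (pullback.fst f q) := by
      haveI : Flat q := Groth.Agent.Lib.Helper14.GeomRedAt.flat_SpecMap_field k E
      exact MorphismProperty.pullback_fst (P := @Flat) f q inferInstance
    obtain ⟨ξ', hξ'1, hξ'2⟩ := (Flat.generalizingMap (pullback.fst f q)) hξ
    obtain ⟨ξ'', rfl⟩ := Groth.Agent.Lib.Helper7.subschemeι_nilradical_surjective _ ξ'
    have h1 : ξ'' ⤳ η' := ι.isEmbedding.isInducing.specializes_iff.mp hξ'1
    have h2 : ξ'' = η' := by
      have h3 : η' ∈ closure {ξ''} := h1.mem_closure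
      have h4 : Z ⊆ closure {ξ''} := by
        rw [← hη'.def]
        exact closure_minimal (Set.singleton_subset_iff.mpr h3) isClosed_closure
      have h5 : closure {ξ''} = Z :=
        (hZ.2 (isIrreducible_singleton.closure) h4).antisymm h4 |>.symm ▸ rfl
      exact (hη'.eq (h5 : IsGenericPoint ξ'' Z)).symm ▸ rfl
    rw [← hξ'2, h2]
  have hTx : (↑(T x) : Set (Om k)) ⊆ E := by
    intro z hz
    apply hTE
    exact Finset.mem_coe.mpr (Finset.mem_biUnion.mpr ⟨x, hS.mem_toFinset.mpr hxS, Finset.mem_coe.mp hz⟩)
  have hfield : IsField ((pullback f q).nilradical.subscheme.presheaf.stalk η') := by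
    apply isField_stalk_of_closure_mem_irreducibleComponents
    rw [hη'.def]; exact hZ
  exact isGeomReducedAt_of_goodField f E (pullback.fst f q) (pullback.snd f q)
    (IsPullback.of_hasPullback f q) (hU x) (hTgood x E hTx) η' (hxU x) hfield

end Main

end Groth.Agent.Lib.Helper14.GeomRedFinite
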