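import Mathlib.FieldTheory.SeparablyGenerated
import Mathlib.RingTheory.Smooth.Field
import Mathlib.RingTheory.Nilpotent.GeometricallyReduced
import Mathlib.RingTheory.Flat.Basic
import Mathlib.FieldTheory.IsAlgClosed.AlgebraicClosure

/-!
# Finitely generated geometrically reduced field extensions are formally smooth

* `linearIndepOn_pow_of_isGeometricallyReduced`: if `K/k` is geometrically reduced in
  characteristic `p`, then `p`-th powers of `k`-linearly independent elements stay independent.
* `formallySmooth_of_isGeometricallyReduced`: a finitely generated, geometrically reduced field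
  extension is separably generated, hence formally smooth.
-/

set_option autoImplicit false

namespace Groth.Agent.Lib.Helper14

open TensorProduct

theorem linearIndepOn_pow_of_isGeometricallyReduced {k K : Type*} [Field k] [Field K] [Algebra k K]
    (p : ℕ) (hp : p.Prime) [CharP k p] [Algebra.IsGeometricallyReduced k K] (s : Finset K)
    (hs : LinearIndepOn k _root_.id (s : Set K)) : LinearIndepOn k (· ^ p) (s : Set K) := by
  classical
  haveI : ExpChar k p := ExpChar.prime hp
  have hli : LinearIndepOn (AlgebraicClosure k) (fun y : K => (1 : AlgebraicClosure k) ⊗ₜ[k] y)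
      (s : Set K) := Module.Flat.linearIndependent_one_tmul (S := AlgebraicClosure k) hs
  rw [linearIndepOn_finset_iff] at hli ⊢
  intro c hc x hx
  haveI : IsReduced (AlgebraicClosure k ⊗[k] K) :=
    (Algebra.isGeometricallyReduced_field_iff k K).mp inferInstance
  have hroot : ∀ y : K, ∃ d : AlgebraicClosure k, d ^ p = algebraMap k (AlgebraicClosure k) (c y) :=
    fun y => IsAlgClosed.exists_pow_nat_eq _ hp.pos
  choose d hd using hroot
  haveI : Nontrivial (AlgebraicClosure k ⊗[k] K) :=
    Algebra.TensorProduct.nontrivial_of_algebraMap_injective_of_flat_left (R := k) _ _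
      (algebraMap k K).injective
  haveI : ExpChar (AlgebraicClosure k ⊗[k] K) p :=
    expChar_of_injective_algebraMap (algebraMap k (AlgebraicClosure k ⊗[k] K)).injective p
  have hz : (∑ y ∈ s, d y ⊗ₜ[k] y) ^ p = 0 := by
    rw [sum_pow_char]
    calc ∑ y ∈ s, (d y ⊗ₜ[k] y) ^ p
        = ∑ y ∈ s, (algebraMap k (AlgebraicClosure k) (c y)) ⊗ₜ[k] (y ^ p) := by
          refine Finset.sum_congr rfl fun y _ => ?_
          rw [Algebra.TensorProduct.tmul_pow, hd]
      _ = ∑ y ∈ s, (1 : AlgebraicClosure k) ⊗ₜ[k] (c y • y ^ p) := by
          refine Finset.sum_congr rfl fun y _ => ?_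
          rw [Algebra.algebraMap_eq_smul_one, TensorProduct.smul_tmul]
      _ = (1 : AlgebraicClosure k) ⊗ₜ[k] ∑ y ∈ s, c y • y ^ p := by rw [TensorProduct.tmul_sum]
      _ = 0 := by rw [hc, TensorProduct.tmul_zero]
  have hz0 : ∑ y ∈ s, d y ⊗ₜ[k] y = 0 := IsReduced.eq_zero _ ⟨p, hz⟩
  have hd0 : d x = 0 := by
    apply hli d _ x hx
    rw [← hz0]
    refine Finset.sum_congr rfl fun y _ => ?_
    rw [TensorProduct.smul_tmul', smul_eq_mul, mul_one]
  have := hd x
  rw [hd0, zero_pow hp.ne_zero] at this
  exact ((map_eq_zero_iff _ (algebraMap k (AlgebraicClosure k)).injective).mp this.symm)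

theorem formallySmooth_of_isGeometricallyReduced (k K : Type*) [Field k] [Field K] [Algebra k K]
    [Algebra.EssFiniteType k K] [Algebra.IsGeometricallyReduced k K] :
    Algebra.FormallySmooth k K := by
  obtain _ | ⟨p, hp, hpk⟩ := CharP.exists' k
  · exact Algebra.FormallySmooth.of_perfectField
  · haveI : ExpChar k p := ExpChar.prime hp.out
    obtain ⟨s, hs, Hs⟩ :=
      exists_isTranscendenceBasis_and_isSeparable_of_linearIndepOn_pow_of_essFiniteType (k := k)
        (K := K) p hp.out
        (fun s hs => linearIndepOn_pow_of_isGeometricallyReduced p hp.out s hs)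
    have : Algebra.IsSeparable (↥(IntermediateField.adjoin k (Set.range ((↑) : s → K)))) K := by
      convert! Hs <;> simp
    exact Algebra.FormallySmooth.of_algebraicIndependent_of_isSeparable hs.1

end Groth.Agent.Lib.Helper14
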