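import Mathlib.AlgebraicGeometry.Morphisms.QuasiCompact
import Groth.Agent.Lib.Helper3.AffinePoints

/-!
# The closure of the image of a quasi-compact morphism

`exists_specializes_of_mem_closure_range`: for `f : X ⟶ S` quasi-compact, every point of the closure
of the range of `f` is a specialization of a point of the range.
-/

set_option autoImplicit false
universe u
open AlgebraicGeometry CategoryTheory TopologicalSpace

namespace Groth.Agent.Lib.Helper14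

theorem exists_specializes_of_mem_closure_image_affine {X S : Scheme.{u}} (f : X ⟶ S)
    {U : X.Opens} {V : S.Opens} (hU : IsAffineOpen U) (hV : IsAffineOpen V) (e : U ≤ f ⁻¹ᵁ V)
    (y : S) (hyV : y ∈ V) (hy : y ∈ closure (f '' (U : Set X))) : ∃ x ∈ U, f x ⤳ y := by
  set φ := f.appLE V U e with hφ
  set p := hV.primeIdealOf ⟨y, hyV⟩ with hp
  have hker : RingHom.ker φ.hom ≤ p.asIdeal := by
    intro b hb
    by_contra hbp
    have hyb : y ∈ S.basicOpen b :=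
      (Groth.Agent.Lib.Helper3.mem_basicOpen_iff_notMem_primeIdealOf hV y hyV b).mpr hbp
    obtain ⟨_, hzb, ⟨x, hxU, rfl⟩⟩ := mem_closure_iff.mp hy _ (S.basicOpen b).2 hyb
    have hx : x ∈ X.basicOpen (φ.hom b) := by
      rw [hφ, Scheme.basicOpen_appLE]
      exact ⟨hxU, hzb⟩
    rw [RingHom.mem_ker.mp hb, Scheme.basicOpen_zero] at hx
    exact hx
  obtain ⟨Q, -, hQ, hQp⟩ := Ideal.exists_ideal_comap_le_prime (f := φ.hom) p.asIdeal
    (⊥ : Ideal Γ(X, U)) (by rwa [← RingHom.ker_eq_comap_bot])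
  refine ⟨hU.fromSpec ⟨Q, hQ⟩, ?_, ?_⟩
  · have : hU.fromSpec ⟨Q, hQ⟩ ∈ Set.range hU.fromSpec := ⟨_, rfl⟩
    rw [hU.range_fromSpec] at this
    exact this
  · have hnat : Spec.map φ ≫ hV.fromSpec = hU.fromSpec ≫ f := hV.SpecMap_appLE_fromSpec f hU e
    have h1 : f (hU.fromSpec ⟨Q, hQ⟩) = hV.fromSpec (Spec.map φ ⟨Q, hQ⟩) := by
      rw [← Scheme.Hom.comp_apply, ← hnat]; rfl
    have h2 : hV.fromSpec p = y := hV.fromSpec_primeIdealOf ⟨y, hyV⟩
    rw [h1, ← h2]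
    apply Specializes.map _ hV.fromSpec.continuous
    exact (PrimeSpectrum.le_iff_specializes
      (⟨Q.comap φ.hom, inferInstance⟩ : PrimeSpectrum Γ(S, V)) p).mp hQp

theorem exists_specializes_of_mem_closure_range {X S : Scheme.{u}} (f : X ⟶ S) [QuasiCompact f]
    (y : S) (hy : y ∈ closure (Set.range f)) : ∃ x : X, f x ⤳ y := by
  classical
  obtain ⟨_, ⟨(V : S.Opens), hV : IsAffineOpen V, rfl⟩, hyV, -⟩ :=
    S.isBasis_affineOpens.exists_subset_of_mem_open (Set.mem_univ y) isOpen_univ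
  have hc : IsCompact (f ⁻¹ᵁ V : Set X) := f.isCompact_preimage hV.isCompact
  -- cover `f⁻¹V` by finitely many affine opens contained in it
  let ι := {W : X.affineOpens // (W : X.Opens) ≤ f ⁻¹ᵁ V}
  have hcov : (f ⁻¹ᵁ V : Set X) ⊆ ⋃ W : ι, ((W.1 : X.Opens) : Set X) := by
    intro x hx
    obtain ⟨_, ⟨(W : X.Opens), hW : IsAffineOpen W, rfl⟩, hxW, hWV⟩ :=
      X.isBasis_affineOpens.exists_subset_of_mem_open hx (f ⁻¹ᵁ V).2
    exact Set.mem_iUnion.mpr ⟨⟨⟨W, hW⟩, hWV⟩, hxW⟩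
  obtain ⟨t, ht⟩ := hc.elim_finite_subcover (fun W : ι => ((W.1 : X.Opens) : Set X))
    (fun W => (W.1 : X.Opens).2) hcov
  -- `y` is in the closure of the image of `f⁻¹V`
  have hy' : y ∈ closure (⋃ W ∈ t, f '' ((W.1 : X.Opens) : Set X)) := by
    rw [mem_closure_iff]
    intro O hO hyO
    obtain ⟨_, ⟨hzO, hzV⟩, ⟨x, rfl⟩⟩ := mem_closure_iff.mp hy (O ∩ V) (hO.inter V.2) ⟨hyO, hyV⟩
    obtain ⟨W, hW, hxW⟩ := Set.mem_iUnion₂.mp (ht (show x ∈ (f ⁻¹ᵁ V : Set X) from hzV))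
    exact ⟨f x, hzO, Set.mem_iUnion₂.mpr ⟨W, hW, x, hxW, rfl⟩⟩
  have hfin : (↑t : Set ι).Finite := t.finite_toSet
  have hcl := hfin.closure_biUnion (fun W : ι => f '' ((W.1 : X.Opens) : Set X))
  simp only [Finset.mem_coe] at hcl
  rw [hcl] at hy'
  obtain ⟨W, hW, hyW⟩ := Set.mem_iUnion₂.mp hy'
  obtain ⟨x, -, hx⟩ := exists_specializes_of_mem_closure_image_affine f W.1.2 hV W.2 y hyV hyW
  exact ⟨x, hx⟩

end Groth.Agent.Lib.Helper14
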