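import Mathlib
import Groth.Agent.Lib.Helper14.GeomRedGeneric
import Groth.Agent.Lib.Helper17.CohStalk

/-!
# Openness of the geometrically reduced locus of a locally Noetherian scheme over a field (helper14)
-/

set_option autoImplicit false
universe u

open CategoryTheory CategoryTheory.Limits AlgebraicGeometry TopologicalSpace
open scoped TensorProduct

namespace Groth.Agent.Lib.Helper14.GeomRedLocus

open Groth.Agent.Lib.Helper14.GeomRedAt Groth.Agent.Lib.Helper14.GeomRedGeneric

/-- Ring-level: if `R_p` is reduced (R Noetherian), there is `s ∉ p` such that `R_{p'}` is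
reduced for every prime `p'` not containing `s`. -/
theorem exists_notMem_forall_isReduced (R : Type u) [CommRing R] [IsNoetherianRing R]
    (p : Ideal R) [p.IsPrime] [_root_.IsReduced (Localization.AtPrime p)] :
    ∃ s : R, s ∉ p ∧ ∀ (p' : Ideal R) [p'.IsPrime], s ∉ p' →
      _root_.IsReduced (Localization.AtPrime p') := by
  classical
  let φ := algebraMap R (Localization.AtPrime p)
  let N : Ideal R := nilradical R
  have hNfg : N.FG := IsNoetherian.noetherian N
  have key : ∃ s : R, s ∉ p ∧ ∀ x ∈ N, s * x = 0 := by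
    obtain ⟨T, hT⟩ := hNfg
    have h1 : ∀ x ∈ N, ∃ t : R, t ∉ p ∧ t * x = 0 := by
      intro x hx
      have hx' : IsNilpotent x := mem_nilradical.mp hx
      have : φ x = 0 := (hx'.map φ).eq_zero
      obtain ⟨⟨t, ht⟩, htx⟩ := (IsLocalization.map_eq_zero_iff p.primeCompl
        (Localization.AtPrime p) x).mp this
      exact ⟨t, ht, htx⟩
    choose! t ht1 ht2 using h1
    refine ⟨∏ x ∈ T, t x, ?_, ?_⟩
    · intro hmem
      obtain ⟨x, hxT, hx⟩ := (Ideal.IsPrime.prod_mem_iff).mp hmem
      have hxN : x ∈ N := by rw [← hT]; exact Ideal.subset_span hxT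
      exact ht1 x hxN hx
    · intro x hx
      rw [← hT] at hx
      refine Submodule.span_induction ?_ ?_ ?_ ?_ hx
      · intro y hy
        have hyN : y ∈ N := by rw [← hT]; exact Ideal.subset_span hy
        rw [← Finset.mul_prod_erase T t hy, mul_comm (t y), mul_assoc, ht2 y hyN, mul_zero]
      · simp
      · intro a b _ _ ha hb
        rw [mul_add, ha, hb, add_zero]
      · intro a b _ hb
        rw [smul_eq_mul, mul_left_comm, hb, mul_zero]
  obtain ⟨s, hsp, hsN⟩ := key
  refine ⟨s, hsp, ?_⟩
  intro p' _ hsp'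
  refine ⟨fun x hx => ?_⟩
  obtain ⟨a, u, rfl⟩ := IsLocalization.exists_mk'_eq p'.primeCompl x
  obtain ⟨n, hn⟩ := hx
  rw [← IsLocalization.mk'_pow, IsLocalization.mk'_eq_zero_iff] at hn
  obtain ⟨⟨w, hw⟩, hwa⟩ := hn
  have hwa' : w * a ^ n = 0 := hwa
  have hnil : w * a ∈ N := by
    rw [mem_nilradical]
    refine ⟨n + 1, ?_⟩
    rw [mul_pow, pow_succ w n, pow_succ a n]
    calc w ^ n * w * (a ^ n * a) = (w * a ^ n) * (w ^ n * a) := by ring
      _ = 0 := by rw [hwa', zero_mul]
  rw [IsLocalization.mk'_eq_zero_iff]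
  refine ⟨⟨s * w, ?_⟩, ?_⟩
  · exact p'.primeCompl.mul_mem hsp' hw
  · show s * w * a = 0
    rw [mul_assoc]
    exact hsN _ hnil

/-- The locus where the local ring is reduced is open in a locally Noetherian scheme. -/
theorem isOpen_setOf_isReduced_stalk (Y : Scheme.{u}) [IsLocallyNoetherian Y] :
    IsOpen {y : Y | _root_.IsReduced (Y.presheaf.stalk y)} := by
  rw [isOpen_iff_forall_mem_open]
  intro y hy
  obtain ⟨_, ⟨W, hW, rfl⟩, hyW, -⟩ := Y.isBasis_affineOpens.exists_subset_of_mem_open
    (Set.mem_univ y) isOpen_univ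
  haveI : IsNoetherianRing Γ(Y, W) := IsLocallyNoetherian.component_noetherian ⟨W, hW⟩
  have htrans : ∀ z : W, _root_.IsReduced (Y.presheaf.stalk z.1) ↔
      _root_.IsReduced (Localization.AtPrime (hW.primeIdealOf z).asIdeal) := by
    intro z
    haveI := hW.isLocalization_stalk z
    let e : Localization.AtPrime (hW.primeIdealOf z).asIdeal ≃ₐ[Γ(Y, W)] Y.presheaf.stalk z.1 :=
      IsLocalization.algEquiv (hW.primeIdealOf z).asIdeal.primeCompl _ _
    exact ⟨fun h => isReduced_of_injective e.toRingEquiv e.toRingEquiv.injective,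
      fun h => isReduced_of_injective e.symm.toRingEquiv e.symm.toRingEquiv.injective⟩
  haveI : _root_.IsReduced (Localization.AtPrime (hW.primeIdealOf ⟨y, hyW⟩).asIdeal) :=
    (htrans ⟨y, hyW⟩).mp hy
  obtain ⟨s, hs, H⟩ := exists_notMem_forall_isReduced Γ(Y, W) (hW.primeIdealOf ⟨y, hyW⟩).asIdeal
  have hmem : ∀ z : W, z.1 ∈ Y.basicOpen s ↔ s ∉ (hW.primeIdealOf z).asIdeal := by
    intro z
    have h1 := hW.fromSpec_preimage_basicOpen s
    have h2 : hW.fromSpec (hW.primeIdealOf z) = z.1 := hW.fromSpec_primeIdealOf z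
    rw [← h2]
    show hW.primeIdealOf z ∈ hW.fromSpec ⁻¹ᵁ Y.basicOpen s ↔ _
    rw [h1]
    rfl
  refine ⟨Y.basicOpen s, ?_, (Y.basicOpen s).isOpen, (hmem ⟨y, hyW⟩).mpr hs⟩
  intro z hz
  have hzW : z ∈ W := Y.basicOpen_le s hz
  exact (htrans ⟨z, hzW⟩).mpr (H _ ((hmem ⟨z, hzW⟩).mp hz))

variable {k : Type u} [Field k] {X : Scheme.{u}} (f : X ⟶ Spec (CommRingCat.of k))

/-- Pointwise criterion: a point with reduced local ring, all of whose generizations that are
generic points of irreducible components are geometrically reduced points, is a geometrically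
reduced point. -/
theorem isGeomReducedAt_of_generic_points (x : X) (hred : _root_.IsReduced (X.presheaf.stalk x))
    (h : ∀ η : X, η ⤳ x → (∃ Z ∈ irreducibleComponents (X : Type u), IsGenericPoint η Z) →
      FBase.IsGeomReducedAt f η) :
    FBase.IsGeomReducedAt f x := by
  letI := stalkAlg f x
  rw [isGeomReducedAt_iff_stalk f x (stalkAlg_compat f x),
    Algebra.isGeometricallyReduced_field_iff]
  suffices hA : _root_.IsReduced ((X.presheaf.stalk x) ⊗[k] (AlgebraicClosure k)) from
    isReduced_of_injective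
      (Algebra.TensorProduct.comm k (AlgebraicClosure k) (X.presheaf.stalk x)).toRingEquiv
      (RingEquiv.injective _)
  let ι := {η : X // η ⤳ x ∧ ∃ Z ∈ irreducibleComponents (X : Type u), IsGenericPoint η Z}
  letI : ∀ η : ι, Algebra k (X.presheaf.stalk η.1) := fun η => stalkAlg f η.1
  refine isReduced_tensor_of_jointly_injective (ι := ι) (fun η => X.presheaf.stalk η.1)
    (fun η => stalkSpecializesAlgHom f η.2.1) ?_ ?_
  · intro a ha
    have hnil : a ∈ nilradical (X.presheaf.stalk x) := by
      rw [nilradical_eq_sInf, Ideal.mem_sInf]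
      intro P hP
      let p : ↥(Spec (X.presheaf.stalk x)) := ⟨P, hP⟩
      set x' := (X.fromSpecStalk x) p with hx'
      have hx'x : x' ⤳ x := by
        have : x' ∈ Set.range (X.fromSpecStalk x) := ⟨p, rfl⟩
        rwa [Scheme.range_fromSpecStalk] at this
      have hirr : IsIrreducible (irreducibleComponent x') := isIrreducible_irreducibleComponent
      set η := hirr.genericPoint with hη
      have hgen : IsGenericPoint η (irreducibleComponent x') := by
        have := hirr.isGenericPoint_genericPoint_closure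
        rwa [isClosed_irreducibleComponent.closure_eq] at this
      have hηx' : η ⤳ x' := by
        rw [specializes_iff_mem_closure, hgen.def]
        exact mem_irreducibleComponent
      have hηx : η ⤳ x := hηx'.trans hx'x
      let i : ι := ⟨η, hηx, irreducibleComponent x', irreducibleComponent_mem_irreducibleComponents x',
        hgen⟩
      have hai : (X.presheaf.stalkSpecializes hηx).hom a = 0 := ha i
      refine mem_of_stalkSpecializes_mem hx'x a ?_ p rfl
      by_contra hnot
      have hunit : IsUnit ((X.presheaf.stalkSpecializes hx'x).hom a) := by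
        by_contra hnu
        exact hnot ((IsLocalRing.mem_maximalIdeal _).mpr hnu)
      have hunit2 := hunit.map (X.presheaf.stalkSpecializes hηx').hom
      have hcomp : (X.presheaf.stalkSpecializes hηx').hom
          ((X.presheaf.stalkSpecializes hx'x).hom a) = (X.presheaf.stalkSpecializes hηx).hom a := by
        have := TopCat.Presheaf.stalkSpecializes_comp X.presheaf hηx' hx'x
        exact congrArg (fun ψ => ψ.hom a) this
      rw [hcomp, hai] at hunit2
      exact not_isUnit_zero hunit2
    have : nilradical (X.presheaf.stalk x) = ⊥ := nilradical_eq_zero _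
    rw [this] at hnil
    exact hnil
  · intro η
    have h1 := h η.1 η.2.1 η.2.2
    rw [isGeomReducedAt_iff_stalk f η.1 (stalkAlg_compat f η.1)] at h1
    haveI := h1
    haveI : _root_.IsReduced ((AlgebraicClosure k) ⊗[k] (X.presheaf.stalk η.1)) := inferInstance
    exact isReduced_of_injective
      (Algebra.TensorProduct.comm k (X.presheaf.stalk η.1) (AlgebraicClosure k)).toRingEquiv
      (RingEquiv.injective _)

/-- **Openness of the geometrically reduced locus.** -/
theorem isOpen_setOf_isGeomReducedAt [IsLocallyNoetherian X] :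
    IsOpen {x : X | FBase.IsGeomReducedAt f x} := by
  rw [isOpen_iff_forall_mem_open]
  intro x hx
  obtain ⟨_, ⟨W, hW, rfl⟩, hxW, -⟩ := X.isBasis_affineOpens.exists_subset_of_mem_open
    (Set.mem_univ x) isOpen_univ
  haveI : IsNoetherianRing Γ(X, W) := IsLocallyNoetherian.component_noetherian ⟨W, hW⟩
  haveI : NoetherianSpace ((W : Set X)) := noetherianSpace_of_isAffineOpen W hW
  have hfin := Groth.Agent.Lib.Helper17.CohStalk.finite_irreducibleComponents_meeting
    (W : Set X) W.isOpen
  let T : Set (Set X) := {Z | Z ∈ irreducibleComponents X ∧ (Z ∩ (W : Set X)).Nonempty ∧ x ∉ Z}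
  have hTfin : T.Finite := hfin.subset (fun Z hZ => ⟨hZ.1, hZ.2.1⟩)
  have hTclosed : IsClosed (⋃₀ T) := by
    rw [Set.sUnion_eq_biUnion]
    exact hTfin.isClosed_biUnion fun Z hZ => isClosed_of_mem_irreducibleComponents Z hZ.1
  have hR : IsOpen {y : X | _root_.IsReduced (X.presheaf.stalk y)} :=
    isOpen_setOf_isReduced_stalk X
  have hxred : _root_.IsReduced (X.presheaf.stalk x) := by
    letI := stalkAlg f x
    haveI := (isGeomReducedAt_iff_stalk f x (stalkAlg_compat f x)).mp hx
    exact Algebra.isReduced_of_isGeometricallyReduced k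
  refine ⟨((W : Set X) ∩ {y : X | _root_.IsReduced (X.presheaf.stalk y)}) ∩ (⋃₀ T)ᶜ, ?_,
    (W.isOpen.inter hR).inter hTclosed.isOpen_compl, ⟨⟨hxW, hxred⟩, ?_⟩⟩
  · rintro y ⟨⟨hyW, hyR⟩, hyT⟩
    apply isGeomReducedAt_of_generic_points f y hyR
    rintro η hηy ⟨Z, hZ, hgen⟩
    have hyZ : y ∈ Z := by
      rw [← hgen.def]; exact hηy.mem_closure
    have hxZ : x ∈ Z := by
      by_contra hxZ
      exact hyT ⟨Z, ⟨hZ, ⟨y, hyZ, hyW⟩, hxZ⟩, hyZ⟩
    have hηx : η ⤳ x := hgen.specializes hxZ
    exact isGeomReducedAt_of_specializes f hηx hx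
  · rintro ⟨Z, hZ, hxZ⟩
    exact hZ.2.2 hxZ

end Groth.Agent.Lib.Helper14.GeomRedLocus
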