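import Groth.Prelude.Def_EGA4b
import Mathlib
import Groth.Agent.Lib.Helper14.NormalSmoothAsc

/-!
# Normality of directed unions

* `isNormalRing_of_forall_finset`: if every finite subset of `R` lies in the image of a flat ring
  map from a normal ring, then `R` is normal.
-/

set_option autoImplicit false
universe u

namespace Groth.Agent.Lib.Helper14.NormalUnion

open Groth.Agent.Lib.Helper14 Groth.Agent.Lib.Helper14.NormalSmoothAsc

section
variable {S R : Type u} [CommRing S] [CommRing R] [Algebra S R] (P : Ideal R) [hP : P.IsPrime]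

/-- the local homomorphism `S_{P ∩ S} → R_P`. -/
noncomputable abbrev locHom : Localization.AtPrime (P.comap (algebraMap S R)) →+*
    Localization.AtPrime P :=
  Localization.localRingHom (P.comap (algebraMap S R)) P (algebraMap S R) rfl

theorem mem_range_locHom (z : Localization.AtPrime P) (r σ : R) (hσ : σ ∉ P)
    (hz : z = IsLocalization.mk' (Localization.AtPrime P) r (⟨σ, hσ⟩ : P.primeCompl))
    (hr : r ∈ Set.range (algebraMap S R)) (hσ' : σ ∈ Set.range (algebraMap S R)) :
    z ∈ Set.range (locHom (S := S) P) := by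
  obtain ⟨r₀, rfl⟩ := hr
  obtain ⟨σ₀, rfl⟩ := hσ'
  have hσ₀ : σ₀ ∈ (P.comap (algebraMap S R)).primeCompl := hσ
  refine ⟨IsLocalization.mk' _ r₀ (⟨σ₀, hσ₀⟩ : (P.comap (algebraMap S R)).primeCompl), ?_⟩
  rw [hz, locHom, Localization.localRingHom_mk']

theorem locHom_injective [Module.Flat S R] : Function.Injective (locHom (S := S) P) := by
  have hflat : (locHom (S := S) P).Flat :=
    RingHom.Flat.localRingHom (f := algebraMap S R)
      ((RingHom.flat_algebraMap_iff).mpr inferInstance) P _ rfl
  letI : Algebra (Localization.AtPrime (P.comap (algebraMap S R))) (Localization.AtPrime P) :=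
    (locHom (S := S) P).toAlgebra
  haveI : Module.Flat (Localization.AtPrime (P.comap (algebraMap S R)))
      (Localization.AtPrime P) := hflat
  haveI : IsLocalHom (algebraMap (Localization.AtPrime (P.comap (algebraMap S R)))
      (Localization.AtPrime P)) :=
    Localization.isLocalHom_localRingHom _ P (algebraMap S R) rfl
  haveI : Module.FaithfullyFlat (Localization.AtPrime (P.comap (algebraMap S R)))
      (Localization.AtPrime P) := Module.FaithfullyFlat.of_flat_of_isLocalHom
  exact FaithfulSMul.algebraMap_injective _ _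

end

/-- If every finite subset of `R` lies in the image of a flat ring map `S → R` from a normal ring
`S`, then `R` is normal. -/
theorem isNormalRing_of_forall_finset (R : Type u) [CommRing R]
    (H : ∀ F : Finset R, ∃ (S : Type u) (_ : CommRing S) (_ : Algebra S R),
      Module.Flat S R ∧ (↑F : Set R) ⊆ Set.range (algebraMap S R) ∧ EGA4.IsNormalRing S) :
    EGA4.IsNormalRing R := by
  classical
  intro P hP
  have hrep : ∀ z : Localization.AtPrime P, ∃ r σ : R, ∃ hσ : σ ∉ P,
      z = IsLocalization.mk' (Localization.AtPrime P) r (⟨σ, hσ⟩ : P.primeCompl) := by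
    intro z
    obtain ⟨r, ⟨σ, hσ⟩, rfl⟩ := IsLocalization.exists_mk'_eq P.primeCompl z
    exact ⟨r, σ, hσ, rfl⟩
  choose num den hden hmk using hrep
  have key : ∀ Z : Finset (Localization.AtPrime P), ∃ (S : Type u) (_ : CommRing S)
      (_ : Algebra S R), Module.Flat S R ∧ EGA4.IsNormalRing S ∧
        (↑Z : Set (Localization.AtPrime P)) ⊆ Set.range (locHom (S := S) P) := by
    intro Z
    obtain ⟨S, i1, i2, hfl, hF, hn⟩ := H (Z.image num ∪ Z.image den)
    refine ⟨S, i1, i2, hfl, hn, ?_⟩
    intro z hz
    refine mem_range_locHom P z (num z) (den z) (hden z) (hmk z) (hF ?_) (hF ?_)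
    · simp only [Finset.coe_union, Finset.coe_image, Set.mem_union, Set.mem_image, Finset.mem_coe]
      exact Or.inl ⟨z, hz, rfl⟩
    · simp only [Finset.coe_union, Finset.coe_image, Set.mem_union, Set.mem_image, Finset.mem_coe]
      exact Or.inr ⟨z, hz, rfl⟩
  have hdom : IsDomain (Localization.AtPrime P) := by
    haveI : NoZeroDivisors (Localization.AtPrime P) := by
      refine ⟨fun {x y} hxy => ?_⟩
      obtain ⟨S, i1, i2, hfl, hn, hZ⟩ := key {x, y}
      obtain ⟨x₀, rfl⟩ := hZ (show x ∈ (↑({x, y} : Finset (Localization.AtPrime P)) : Set _) by simp)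
      obtain ⟨y₀, rfl⟩ := hZ (show y ∈ (↑({_, y} : Finset (Localization.AtPrime P)) : Set _) by simp)
      obtain ⟨hd, -⟩ := hn (P.comap (algebraMap S R))
      rw [← map_mul] at hxy
      have h0 := locHom_injective (S := S) P (hxy.trans (map_zero _).symm)
      rcases mul_eq_zero.mp h0 with h | h
      · left; rw [h, map_zero]
      · right; rw [h, map_zero]
    exact NoZeroDivisors.to_isDomain _
  refine ⟨hdom, ?_⟩
  rw [isIntegrallyClosed_iff (FractionRing (Localization.AtPrime P))]
  intro x hx
  obtain ⟨p, hpm, hpx⟩ := hx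
  obtain ⟨α, β, hβ, rfl⟩ := IsFractionRing.div_surjective (A := Localization.AtPrime P) x
  obtain ⟨S, i1, i2, hfl, hn, hZ⟩ := key ({α, β} ∪ p.coeffs)
  obtain ⟨α₀, hα⟩ := hZ (show α ∈ (↑(({α, β} : Finset (Localization.AtPrime P)) ∪ p.coeffs) : Set _) by simp)
  obtain ⟨β₀, hβ₀⟩ := hZ (show β ∈ (↑(({α, β} : Finset (Localization.AtPrime P)) ∪ p.coeffs) : Set _) by simp)
  have hlift : p ∈ Polynomial.lifts (locHom (S := S) P) := by
    rw [Polynomial.lifts_iff_coeffs_subset_range]
    intro c hc
    exact hZ (by simp only [Finset.coe_union, Set.mem_union]; exact Or.inr hc)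
  obtain ⟨q, hq, -, hqm⟩ := Polynomial.lifts_and_degree_eq_and_monic hlift hpm
  obtain ⟨hd, hic⟩ := hn (P.comap (algebraMap S R))
  have hψ := locHom_injective (S := S) P
  have hinj' : Function.Injective ((algebraMap (Localization.AtPrime P)
      (FractionRing (Localization.AtPrime P))).comp (locHom (S := S) P)) :=
    (IsFractionRing.injective _ _).comp hψ
  let Ψ : FractionRing (Localization.AtPrime (P.comap (algebraMap S R))) →+*
      FractionRing (Localization.AtPrime P) := IsFractionRing.lift hinj'
  have hΨ : ∀ a, Ψ (algebraMap _ _ a) = algebraMap _ _ (locHom (S := S) P a) :=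
    fun a => IsFractionRing.lift_algebraMap hinj' a
  have hβ₀0 : β₀ ≠ 0 := by
    rintro rfl
    rw [map_zero] at hβ₀
    exact nonZeroDivisors.ne_zero hβ hβ₀.symm
  have hx₀ : Ψ (algebraMap _ _ α₀ / algebraMap _ _ β₀) =
      algebraMap _ (FractionRing (Localization.AtPrime P)) α /
        algebraMap _ (FractionRing (Localization.AtPrime P)) β := by
    rw [map_div₀, hΨ, hΨ, hα, hβ₀]
  have hint : IsIntegral (Localization.AtPrime (P.comap (algebraMap S R)))
      (algebraMap _ (FractionRing (Localization.AtPrime (P.comap (algebraMap S R)))) α₀ /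
        algebraMap _ _ β₀) := by
    refine ⟨q, hqm, ?_⟩
    apply Ψ.injective
    rw [map_zero, Polynomial.hom_eval₂, hx₀]
    have hcomp : Ψ.comp (algebraMap _ _) = (algebraMap (Localization.AtPrime P)
        (FractionRing (Localization.AtPrime P))).comp (locHom (S := S) P) := RingHom.ext hΨ
    rw [hcomp, ← Polynomial.eval₂_map, hq]
    exact hpx
  obtain ⟨y₀, hy₀⟩ := (isIntegrallyClosed_iff
    (FractionRing (Localization.AtPrime (P.comap (algebraMap S R))))).mp hic hint
  refine ⟨locHom (S := S) P y₀, ?_⟩
  rw [← hΨ, hy₀, hx₀]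

end Groth.Agent.Lib.Helper14.NormalUnion
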