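import Groth.Prelude.Def_EGA4b
import Mathlib
import Groth.Agent.Lib.Helper14.NormalUnion
import Groth.Agent.S9431

/-!
# Normality is preserved by separable (geometrically reduced) field extensions of the base

* `flat_subalgebra_field`: a field is flat over any subalgebra.
* `isNormalRing_tensor_of_isGeometricallyReduced`: `A` normal `k`-algebra, `k'/k` geometrically
  reduced field extension (not nec. algebraic or f.g.) ⇒ `k' ⊗[k] A` normal.
-/

set_option autoImplicit false
universe u

namespace Groth.Agent.Lib.Helper14.NormalSepExt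

open TensorProduct
open Groth.Agent.Lib.Helper14 Groth.Agent.Lib.Helper14.NormalSmoothAsc
open Groth.Agent.Lib.Helper14.NormalUnion

/-- A field is flat over any of its subalgebras. -/
theorem flat_subalgebra_field (k K : Type*) [Field k] [Field K] [Algebra k K]
    (B : Subalgebra k K) : Module.Flat B K := by
  have hinj : Function.Injective (algebraMap B K) := Subtype.val_injective
  letI : Algebra (FractionRing B) K := (IsFractionRing.lift hinj).toAlgebra
  haveI : IsScalarTower B (FractionRing B) K :=
    IsScalarTower.of_algebraMap_eq (fun x => (IsFractionRing.lift_algebraMap hinj x).symm)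
  haveI : Module.Free (FractionRing B) K := Module.Free.of_divisionRing _ _
  haveI : Module.Flat (FractionRing B) K := Module.Flat.of_free
  exact Module.Flat.trans B (FractionRing B) K

/-- Base change of a normal algebra over a field along a separable (geometrically reduced)
field extension is normal. -/
theorem isNormalRing_tensor_of_isGeometricallyReduced (k A k' : Type u) [Field k] [CommRing A]
    [Algebra k A] (hA : EGA4.IsNormalRing A) [Field k'] [Algebra k k']
    [Algebra.IsGeometricallyReduced k k'] : EGA4.IsNormalRing (k' ⊗[k] A) := by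
  classical
  apply isNormalRing_of_forall_finset
  intro F
  choose T hT using fun z : k' ⊗[k] A => TensorProduct.exists_finset z
  obtain ⟨B, hEB, hsm⟩ := Groth.Agent.S9431.result k k'
    (F.biUnion (fun z => (T z).image Prod.fst))
  letI : Algebra (B ⊗[k] A) (k' ⊗[k] A) :=
    (Algebra.TensorProduct.map B.val (AlgHom.id k A)).toRingHom.toAlgebra
  have halg : ∀ x : B ⊗[k] A, algebraMap (B ⊗[k] A) (k' ⊗[k] A) x =
      Algebra.TensorProduct.map B.val (AlgHom.id k A) x := fun _ => rfl
  haveI : IsScalarTower B (B ⊗[k] A) (k' ⊗[k] A) :=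
    IsScalarTower.of_algebraMap_eq (R := B) (S := B ⊗[k] A) (A := k' ⊗[k] A) fun a => by
      rw [halg, Algebra.TensorProduct.algebraMap_apply]
      rfl
  have hpush : Algebra.IsPushout B k' (B ⊗[k] A) (k' ⊗[k] A) :=
    Algebra.IsPushout.tensorProduct_tensorProduct k A B k' (by
      ext x
      simp [halg])
  haveI hpush' : Algebra.IsPushout B (B ⊗[k] A) k' (k' ⊗[k] A) := hpush.symm
  haveI : Module.Flat B k' := flat_subalgebra_field k k' B
  refine ⟨B ⊗[k] A, inferInstance, inferInstance, ?_, ?_, ?_⟩
  · exact Module.Flat.of_linearEquiv (R := B ⊗[k] A) (M := (B ⊗[k] A) ⊗[B] k')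
      (Algebra.IsPushout.equiv B (B ⊗[k] A) k' (k' ⊗[k] A)).symm.toLinearEquiv
  · intro z hz
    rw [hT z]
    refine ⟨∑ i ∈ (T z).attach, (⟨i.1.1, hEB ?_⟩ : B) ⊗ₜ[k] i.1.2, ?_⟩
    · simp only [Finset.coe_biUnion, Finset.coe_image, Set.mem_iUnion, Set.mem_image,
        Finset.mem_coe]
      exact ⟨z, hz, i.1, i.2, rfl⟩
    · rw [halg, map_sum, ← Finset.sum_attach (T z)]
      refine Finset.sum_congr rfl (fun i _ => ?_)
      simp
  · haveI : Algebra.Smooth A (A ⊗[k] B) := inferInstance
    have h1 : EGA4.IsNormalRing (A ⊗[k] B) := isNormalRing_of_smooth A (A ⊗[k] B) hA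
    exact isNormalRing_of_ringEquiv (Algebra.TensorProduct.comm k A B).toRingEquiv h1

end Groth.Agent.Lib.Helper14.NormalSepExt
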