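import Mathlib
import Groth.Prelude.Def_Pi1
import Groth.Agent.Lib.Helper14.GeomRedAt
import Groth.Agent.Lib.Helper14.GeomRedGeneric
import Groth.Agent.Lib.Helper14.NormalSepExt
import Groth.Agent.Lib.Helper14.NormalRing
import Groth.Agent.Lib.Helper27.NormalDescent

/-!
# Normality and base field extension (helper14)
-/

set_option autoImplicit false
universe u

open CategoryTheory CategoryTheory.Limits AlgebraicGeometry
open scoped TensorProduct

namespace Groth.Agent.Lib.Helper14.GeomNormalAt

open Groth.Agent.Lib.Helper14.GeomRedAt Groth.Agent.Lib.Helper14.GeomRedGeneric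

/-- being a normal domain -/
abbrev NormalP : ∀ (R : Type u) [CommRing R], Prop := fun R _ => IsDomain R ∧ IsIntegrallyClosed R

theorem normalP_descend {R S : Type u} [CommRing R] [CommRing S] [Algebra R S]
    [Module.FaithfullyFlat R S] (h : NormalP S) : NormalP R := by
  haveI := h.1
  haveI := h.2
  exact Groth.Agent.Lib.Helper27.NormalDescent.isIntegrallyClosed_of_faithfullyFlat (A := R) (B := S)

theorem normalP_iso {R S : Type u} [CommRing R] [CommRing S] (e : R ≃+* S) (h : NormalP R) :
    NormalP S := by
  haveI := h.1
  haveI := h.2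
  exact ⟨e.symm.toMulEquiv.isDomain _, IsIntegrallyClosed.of_equiv e⟩

theorem isNormalRing_of_normalP (R : Type u) [CommRing R] (h : NormalP R) : EGA4.IsNormalRing R := by
  haveI := h.1
  haveI := h.2
  intro p hp
  exact ⟨IsLocalization.isDomain_of_le_nonZeroDivisors (M := p.primeCompl) _
      p.primeCompl_le_nonZeroDivisors,
    isIntegrallyClosed_of_isLocalization (Localization.AtPrime p) p.primeCompl
      p.primeCompl_le_nonZeroDivisors⟩

/-- The scheme-theoretic and the algebraic notion of a separable field extension agree. -/
theorem isGeometricallyReduced_of_SpecMap (k K : Type u) [Field k] [Field K] [Algebra k K]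
    [GeometricallyReduced (Spec.map (CommRingCat.ofHom (algebraMap k K)))] :
    Algebra.IsGeometricallyReduced k K := by
  rw [Algebra.isGeometricallyReduced_field_iff]
  have h1 := (inferInstance : GeometricallyReduced
    (Spec.map (CommRingCat.ofHom (algebraMap k K)))).geometrically_isReduced
  rw [geometrically_iff_of_commRing_of_isClosedUnderIsomorphisms] at h1
  have h2 := h1 (AlgebraicClosure k)
  have e := pullbackSpecIso k K (AlgebraicClosure k)
  haveI : AlgebraicGeometry.IsReduced (Spec (CommRingCat.of (K ⊗[k] (AlgebraicClosure k)))) :=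
    isReduced_of_isOpenImmersion e.inv
  have h3 : _root_.IsReduced (K ⊗[k] (AlgebraicClosure k)) :=
    (affine_isReduced_iff (CommRingCat.of (K ⊗[k] (AlgebraicClosure k)))).mp inferInstance
  exact isReduced_of_injective
    (Algebra.TensorProduct.comm k (AlgebraicClosure k) K).toRingEquiv (RingEquiv.injective _)

variable {k : Type u} [Field k] {X : Scheme.{u}} (f : X ⟶ Spec (CommRingCat.of k))

/-- Normality is preserved by separable extensions of the base field. -/
theorem isNormalScheme_bc_of_isGeometricallyReduced (hX : Pi1.IsNormalScheme X)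
    (K : Type u) [Field K] [Algebra k K] [Algebra.IsGeometricallyReduced k K] :
    Pi1.IsNormalScheme (FBase.bc f K) := by
  intro x'
  set x := (FBase.bcπ f K).base x' with hx
  letI := stalkAlg f x
  have hO : EGA4.IsNormalRing (X.presheaf.stalk x) := isNormalRing_of_normalP _ (hX x)
  have hT : EGA4.IsNormalRing (K ⊗[k] (X.presheaf.stalk x)) :=
    NormalSepExt.isNormalRing_tensor_of_isGeometricallyReduced k _ K hO
  have hT' : EGA4.IsNormalRing ((X.presheaf.stalk x) ⊗[k] K) :=
    isNormalRing_of_ringEquiv (Algebra.TensorProduct.comm k K (X.presheaf.stalk x)).toRingEquiv hT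
  exact stalk_of_tensor_localizations f x NormalP (fun h => normalP_descend h)
    (fun e h => normalP_iso e h) (stalkAlg_compat f x) K x' rfl (fun q _ => hT' q)

end Groth.Agent.Lib.Helper14.GeomNormalAt
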