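import Mathlib
import Groth.Prelude.Def_Curv2
import Groth.Agent.Lib.Helper14.GeomRedAt

/-!
# Geometric reducedness at a point, `Curv2` forms (helper14)
-/

set_option autoImplicit false
universe u

open CategoryTheory CategoryTheory.Limits AlgebraicGeometry
open scoped TensorProduct

namespace Groth.Agent.Lib.Helper14.GeomRedAtCurv

attribute [local instance] Curv2.resAlgebra Curv2.stalkAlgebra

variable (k : Type u) [Field k] (X : Scheme.{u}) [X.Over (Spec (CommRingCat.of k))]

/-- The structure map of `Spec 𝒪_{X,x}` over `k` is induced by `Curv2.stalkMap`. -/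
theorem fromSpecStalk_comp (x : X) :
    X.fromSpecStalk x ≫ (X ↘ Spec (CommRingCat.of k)) =
      Spec.map (CommRingCat.ofHom (algebraMap k (X.presheaf.stalk x))) := by
  apply ext_of_isAffine
  rw [Scheme.Hom.comp_appTop, Scheme.fromSpecStalk_appTop]
  have h : CommRingCat.ofHom (algebraMap k (X.presheaf.stalk x)) =
      (Scheme.ΓSpecIso (CommRingCat.of k)).inv ≫ (X ↘ Spec (CommRingCat.of k)).appTop ≫
        X.presheaf.germ ⊤ x trivial := rfl
  have hR : ∀ {R S : CommRingCat.{u}} (φ : R ⟶ S), (Spec.map φ).appTop =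
      (Scheme.ΓSpecIso R).hom ≫ φ ≫ (Scheme.ΓSpecIso S).inv := by
    intro R S φ
    rw [Scheme.ΓSpecIso_inv_naturality, Iso.hom_inv_id_assoc]
  have hid : (Spec (X.presheaf.stalk x)).presheaf.map
      (homOfLE (le_top : (X.fromSpecStalk x) ⁻¹ᵁ ⊤ ≤ ⊤)).op = 𝟙 _ :=
    (Spec (X.presheaf.stalk x)).presheaf.map_id _
  rw [h, hR, Category.assoc, Category.assoc, Iso.hom_inv_id_assoc]
  congr 2

/-- `Curv2` form of the stalk criterion. -/
theorem isGeomReducedAt_iff_stalk (x : X) :
    Curv2.IsGeomReducedAt k X x ↔ Algebra.IsGeometricallyReduced k (X.presheaf.stalk x) :=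
  GeomRedAt.isGeomReducedAt_iff_stalk (X ↘ Spec (CommRingCat.of k)) x (fromSpecStalk_comp k X x)

end Groth.Agent.Lib.Helper14.GeomRedAtCurv
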