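import Mathlib
import Groth.Prelude.Def_EGA4b
import Groth.Agent.Lib.Helper14.NormalRing
import Groth.Agent.Lib.Helper14.NormalUnion
import Groth.Agent.Lib.Helper14.NormalSepExt
import Groth.Agent.Lib.Helper14.NormalSmoothAsc
import Groth.Agent.Lib.Helper14.PerfectGeomRed

/-!
# Geometric normality can be tested on finite purely inseparable extensions (helper14)

`isNormalRing_tensor_of_forall_finite_purelyInseparable`: if `k' ⊗[k] A` is a normal ring for every
finite purely inseparable extension `k'/k`, then `K ⊗[k] A` is a normal ring for every field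
extension `K/k`.
-/

set_option autoImplicit false
universe u

open scoped TensorProduct

namespace Groth.Agent.Lib.Helper14.NormalPerfect

open Groth.Agent.Lib.Helper14 Groth.Agent.Lib.Helper14.NormalUnion

section Tower

variable (k A E L : Type u) [Field k] [CommRing A] [Algebra k A] [Field E] [Field L]
  [Algebra k E] [Algebra k L] [Algebra E L] [IsScalarTower k E L]

/-- The `E ⊗ A`-algebra structure on `L ⊗ A` for a tower of fields `k ⊆ E ⊆ L`. -/
noncomputable abbrev towerAlg : Algebra (E ⊗[k] A) (L ⊗[k] A) :=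
  (Algebra.TensorProduct.map (IsScalarTower.toAlgHom k E L) (AlgHom.id k A)).toRingHom.toAlgebra

theorem faithfullyFlat_tower :
    letI := towerAlg k A E L
    Module.FaithfullyFlat (E ⊗[k] A) (L ⊗[k] A) := by
  letI := towerAlg k A E L
  have halg : ∀ x : E ⊗[k] A, algebraMap (E ⊗[k] A) (L ⊗[k] A) x =
      Algebra.TensorProduct.map (IsScalarTower.toAlgHom k E L) (AlgHom.id k A) x := fun _ => rfl
  haveI : IsScalarTower E (E ⊗[k] A) (L ⊗[k] A) :=
    IsScalarTower.of_algebraMap_eq (R := E) (S := E ⊗[k] A) (A := L ⊗[k] A) fun a => by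
      rw [halg, Algebra.TensorProduct.algebraMap_apply, Algebra.TensorProduct.algebraMap_apply]
      simp
  have hpush : Algebra.IsPushout E L (E ⊗[k] A) (L ⊗[k] A) :=
    Algebra.IsPushout.tensorProduct_tensorProduct k A E L (by
      ext x
      simp [halg])
  haveI hpush' : Algebra.IsPushout E (E ⊗[k] A) L (L ⊗[k] A) := hpush.symm
  exact Module.FaithfullyFlat.of_linearEquiv (R := E ⊗[k] A) (M := (E ⊗[k] A) ⊗[E] L)
    (Algebra.IsPushout.equiv E (E ⊗[k] A) L (L ⊗[k] A)).symm.toLinearEquiv

end Tower

section Main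

variable (k A : Type u) [Field k] [CommRing A] [Algebra k A]

/-- A finite level of the directed union. -/
theorem exists_level
    (h : ∀ (k' : Type u) [Field k'] [Algebra k k'] [FiniteDimensional k k']
      [IsPurelyInseparable k k'], EGA4.IsNormalRing (k' ⊗[k] A))
    (P : Type u) [Field P] [Algebra k P]
    (E : Type u) [Field E] [Algebra k E] [FiniteDimensional k E] [IsPurelyInseparable k E]
    [Algebra E P] [IsScalarTower k E P] (F : Finset (P ⊗[k] A))
    (hF : (↑F : Set (P ⊗[k] A)) ⊆ Set.range
      (Algebra.TensorProduct.map (IsScalarTower.toAlgHom k E P) (AlgHom.id k A))) :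
    ∃ (S : Type u) (_ : CommRing S) (_ : Algebra S (P ⊗[k] A)),
      Module.Flat S (P ⊗[k] A) ∧ (↑F : Set (P ⊗[k] A)) ⊆ Set.range (algebraMap S (P ⊗[k] A)) ∧
        EGA4.IsNormalRing S := by
  letI := towerAlg k A E P
  haveI := faithfullyFlat_tower k A E P
  exact ⟨E ⊗[k] A, inferInstance, inferInstance, inferInstance, hF, h E⟩

/-- Step 1: normality over a purely inseparable (possibly infinite) extension, as a directed union
of the finite subextensions. -/
theorem isNormalRing_tensor_of_isPurelyInseparable
    (h : ∀ (k' : Type u) [Field k'] [Algebra k k'] [FiniteDimensional k k']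
      [IsPurelyInseparable k k'], EGA4.IsNormalRing (k' ⊗[k] A))
    (P : Type u) [Field P] [Algebra k P] [IsPurelyInseparable k P] :
    EGA4.IsNormalRing (P ⊗[k] A) := by
  classical
  apply isNormalRing_of_forall_finset
  intro F
  choose T hT using fun z : P ⊗[k] A => TensorProduct.exists_finset z
  let S : Finset P := F.biUnion (fun z => (T z).image Prod.fst)
  let E : IntermediateField k P := IntermediateField.adjoin k (↑S : Set P)
  have hSE : (↑S : Set P) ⊆ E := IntermediateField.subset_adjoin k _
  haveI : Algebra.IsIntegral k P := inferInstance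
  haveI hfin : FiniteDimensional k E :=
    IntermediateField.finiteDimensional_adjoin (fun x _ => Algebra.IsIntegral.isIntegral x)
  haveI hpi : IsPurelyInseparable k E := IsPurelyInseparable.tower_bot k E P
  refine exists_level k A h P E F ?_
  intro z hz
  rw [hT z]
  refine ⟨∑ i ∈ (T z).attach, (⟨i.1.1, hSE ?_⟩ : E) ⊗ₜ[k] i.1.2, ?_⟩
  · simp only [S, Finset.coe_biUnion, Finset.coe_image, Set.mem_iUnion, Set.mem_image,
      Finset.mem_coe]
    exact ⟨z, hz, i.1, i.2, rfl⟩
  · rw [map_sum, ← Finset.sum_attach (T z)]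
    refine Finset.sum_congr rfl (fun i _ => ?_)
    simp

/-- Auxiliary form with an explicit overfield `Ω` of `K` and a perfect purely inseparable
extension `P` of `k` inside `Ω`. -/
theorem isNormalRing_tensor_aux'
    (h : ∀ (k' : Type u) [Field k'] [Algebra k k'] [FiniteDimensional k k']
      [IsPurelyInseparable k k'], EGA4.IsNormalRing (k' ⊗[k] A))
    (K : Type u) [Field K] [Algebra k K] (Ω : Type u) [Field Ω] [Algebra k Ω]
    [Algebra K Ω] [IsScalarTower k K Ω]
    (P : Type u) [Field P] [PerfectField P] [Algebra k P] [IsPurelyInseparable k P]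
    [Algebra P Ω] [IsScalarTower k P Ω] : EGA4.IsNormalRing (K ⊗[k] A) := by
  -- Step 1
  have h1 : EGA4.IsNormalRing (P ⊗[k] A) := isNormalRing_tensor_of_isPurelyInseparable k A h P
  -- Step 2
  haveI : Algebra.IsGeometricallyReduced P Ω :=
    PerfectGeomRed.isGeometricallyReduced_of_perfectField
  have h2 : EGA4.IsNormalRing (Ω ⊗[P] (P ⊗[k] A)) :=
    NormalSepExt.isNormalRing_tensor_of_isGeometricallyReduced P (P ⊗[k] A) Ω h1
  have h3 : EGA4.IsNormalRing (Ω ⊗[k] A) :=
    isNormalRing_of_ringEquiv (Algebra.TensorProduct.cancelBaseChange k P P Ω A).toRingEquiv h2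
  -- Step 3
  letI := towerAlg k A K Ω
  haveI := faithfullyFlat_tower k A K Ω
  exact NormalSmoothAsc.isNormalRing_of_faithfullyFlat (K ⊗[k] A) (Ω ⊗[k] A) h3

/-- Auxiliary form with an explicit perfect overfield `Ω` of `K`. -/
theorem isNormalRing_tensor_aux
    (h : ∀ (k' : Type u) [Field k'] [Algebra k k'] [FiniteDimensional k k']
      [IsPurelyInseparable k k'], EGA4.IsNormalRing (k' ⊗[k] A))
    (K : Type u) [Field K] [Algebra k K] (Ω : Type u) [Field Ω] [PerfectField Ω] [Algebra k Ω]
    [Algebra K Ω] [IsScalarTower k K Ω] : EGA4.IsNormalRing (K ⊗[k] A) :=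
  isNormalRing_tensor_aux' k A h K Ω ↥(perfectClosure k Ω)

/-- **Geometric normality can be tested on finite purely inseparable extensions.** -/
theorem isNormalRing_tensor_of_forall_finite_purelyInseparable
    (h : ∀ (k' : Type u) [Field k'] [Algebra k k'] [FiniteDimensional k k']
      [IsPurelyInseparable k k'], EGA4.IsNormalRing (k' ⊗[k] A))
    (K : Type u) [Field K] [Algebra k K] : EGA4.IsNormalRing (K ⊗[k] A) :=
  isNormalRing_tensor_aux k A h K (AlgebraicClosure K)

end Main

end Groth.Agent.Lib.Helper14.NormalPerfect
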