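import Mathlib
import Groth.Prelude.Def_FDesc
import Groth.Prelude.Def_EGA4b
import Groth.Agent.Lib.Helper14.GeomRedAt
import Groth.Agent.Lib.Helper14.GeomRedAtCurv
import Groth.Agent.Lib.Helper14.GeomNormalAt
import Groth.Agent.Lib.Helper14.NormalPerfect

/-!
# Geometric normality at a point (helper14)

Generic descent of local-ring properties from `X_K` (`K/k` algebraic) to the localizations of
`𝒪_{X,x} ⊗ K`, and the characterisation of geometric normality at a point.
-/

set_option autoImplicit false
universe u

open CategoryTheory CategoryTheory.Limits AlgebraicGeometry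
open scoped TensorProduct

namespace Groth.Agent.Lib.Helper14.GeomNormalPt

open Groth.Agent.Lib.Helper11.FBaseLib2 Groth.Agent.Lib.Helper16.GeomRed
open Groth.Agent.Lib.Helper14.GeomRedAt

variable {k : Type u} [Field k] {X : Scheme.{u}} (f : X ⟶ Spec (CommRingCat.of k))

section Generic

variable (P : ∀ (R : Type u) [CommRing R], Prop)
  (hP : ∀ {R S : Type u} [CommRing R] [CommRing S] [Algebra R S] [Module.FaithfullyFlat R S],
    P S → P R)
  (hPiso : ∀ {R S : Type u} [CommRing R] [CommRing S] (_ : R ≃+* S), P R → P S)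
  (hPloc : ∀ {R : Type u} [CommRing R], P R → ∀ (q : Ideal R) [q.IsPrime],
    P (Localization.AtPrime q))

include hP hPiso hPloc in
/-- A property of local rings which is stable under localization at primes passes to
generizations. -/
theorem stalk_of_specializes {Y : Scheme.{u}} {y y' : Y} (h : y ⤳ y')
    (hy' : P (Y.presheaf.stalk y')) : P (Y.presheaf.stalk y) := by
  have hmem : y ∈ Set.range (Y.fromSpecStalk y') := by
    rw [Scheme.range_fromSpecStalk]; exact h
  obtain ⟨t, rfl⟩ := hmem
  have h0 : P (Localization.AtPrime t.asIdeal) := hPloc hy' t.asIdeal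
  have h1 : P ((Spec (Y.presheaf.stalk y')).presheaf.stalk t) :=
    hPiso (AlgebraicGeometry.StructureSheaf.stalkIso (Y.presheaf.stalk y') t).toRingEquiv h0
  exact stalk_descend_of_flat' P hP (Y.fromSpecStalk y') t h1

variable (x : X) [Algebra k (X.presheaf.stalk x)]

include hP hPiso hPloc in
/-- For an algebraic extension `K/k`: if all local rings of `X_K` at points over `x` satisfy `P`,
then so do all localizations of `𝒪_{X,x} ⊗ K` at primes. -/
theorem tensor_localizations_of_stalks
    (hc : X.fromSpecStalk x ≫ f =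
      Spec.map (CommRingCat.ofHom (algebraMap k (X.presheaf.stalk x))))
    (K : Type u) [Field K] [Algebra k K] [Algebra.IsAlgebraic k K]
    (hgeo : ∀ y' : ↥(FBase.bc f K), (FBase.bcπ f K).base y' = x →
      P ((FBase.bc f K).presheaf.stalk y'))
    (q : Ideal ((X.presheaf.stalk x) ⊗[k] K)) [hq : q.IsPrime] : P (Localization.AtPrime q) := by
  set j := X.fromSpecStalk x
  let e := pullbackFromSpecStalkIso f x hc K
  let q' : ↥(Spec (CommRingCat.of ((X.presheaf.stalk x) ⊗[k] K))) := ⟨q, hq⟩
  let w := e.inv q'
  set y := (pullback.fst (FBase.bcπ f K) j) w with hy_def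
  have hy : (FBase.bcπ f K) y ⤳ x := by
    have h1 : (FBase.bcπ f K) y = j ((pullback.snd (FBase.bcπ f K) j) w) := by
      simp only [y, ← Scheme.Hom.comp_apply, pullback.condition]
    have h2 : j ((pullback.snd (FBase.bcπ f K) j) w) ∈ Set.range j := ⟨_, rfl⟩
    rw [Scheme.range_fromSpecStalk] at h2
    rw [h1]; exact h2
  have hcl : IsClosedMap (FBase.bcπ f K) := (FBase.bcπ f K).isClosedMap
  obtain ⟨y', hyy', hy'x⟩ := hcl.specializingMap hy
  have h1 : P ((FBase.bc f K).presheaf.stalk y) :=
    stalk_of_specializes P hP hPiso hPloc hyy' (hgeo y' hy'x)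
  have h2 : P ((pullback (FBase.bcπ f K) j).presheaf.stalk w) :=
    hPiso (RingEquiv.ofBijective ((pullback.fst (FBase.bcπ f K) j).stalkMap w).hom
      (stalkMap_bijective_of_flat_of_surjectiveOnStalks (pullback.fst (FBase.bcπ f K) j) w)) h1
  have h3 := stalk_descend_of_flat' P hP e.hom w h2
  have h4 : e.hom w = q' := by
    change e.hom (e.inv q') = q'
    rw [← Scheme.Hom.comp_apply, e.inv_hom_id]
    rfl
  rw [h4] at h3
  exact hPiso (AlgebraicGeometry.StructureSheaf.stalkIso
    (CommRingCat.of ((X.presheaf.stalk x) ⊗[k] K)) q').toRingEquiv.symm h3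

end Generic

end Groth.Agent.Lib.Helper14.GeomNormalPt

namespace Groth.Agent.Lib.Helper14.GeomNormalPt

open Groth.Agent.Lib.Helper14.GeomRedAt Groth.Agent.Lib.Helper14.GeomNormalAt
open Groth.Agent.Lib.Helper14

section Normal

variable {k : Type u} [Field k] {X : Scheme.{u}} (f : X ⟶ Spec (CommRingCat.of k))
  (x : X) [Algebra k (X.presheaf.stalk x)]
  (hc : X.fromSpecStalk x ≫ f =
      Spec.map (CommRingCat.ofHom (algebraMap k (X.presheaf.stalk x))))

include hc in
/-- (3) ⇒ (1): if all `K ⊗ 𝒪_{X,x}` are normal rings then `X` is geometrically normal at `x`. -/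
theorem normalP_stalk_of_isNormalRing_tensor
    (K : Type u) [Field K] [Algebra k K]
    (h : EGA4.IsNormalRing (K ⊗[k] (X.presheaf.stalk x)))
    (x' : ↥(FBase.bc f K)) (hx' : (FBase.bcπ f K).base x' = x) :
    NormalP ((FBase.bc f K).presheaf.stalk x') := by
  have h' : EGA4.IsNormalRing ((X.presheaf.stalk x) ⊗[k] K) :=
    isNormalRing_of_ringEquiv (Algebra.TensorProduct.comm k K (X.presheaf.stalk x)).toRingEquiv h
  exact stalk_of_tensor_localizations f x NormalP (fun h => normalP_descend h)
    (fun e h => normalP_iso e h) hc K x' hx' (fun q _ => h' q)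

include hc in
/-- (2) ⇒ (3) for an algebraic extension. -/
theorem isNormalRing_tensor_of_normalP_stalks
    (K : Type u) [Field K] [Algebra k K] [Algebra.IsAlgebraic k K]
    (hgeo : ∀ y' : ↥(FBase.bc f K), (FBase.bcπ f K).base y' = x →
      NormalP ((FBase.bc f K).presheaf.stalk y')) :
    EGA4.IsNormalRing (K ⊗[k] (X.presheaf.stalk x)) := by
  have h' : EGA4.IsNormalRing ((X.presheaf.stalk x) ⊗[k] K) := by
    intro q hq
    exact tensor_localizations_of_stalks f NormalP (fun h => normalP_descend h)
      (fun e h => normalP_iso e h) (fun {R} _ h q _ => isNormalRing_of_normalP R h q) x hc K hgeo q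
  exact isNormalRing_of_ringEquiv (Algebra.TensorProduct.comm k (X.presheaf.stalk x) K).toRingEquiv h'

include hc in
/-- (2) ⇒ (3). -/
theorem isNormalRing_tensor_of_finite_purelyInseparable
    (h : ∀ (k' : Type u) [Field k'] [Algebra k k'] [FiniteDimensional k k']
      [IsPurelyInseparable k k'] (x' : ↥(FBase.bc f k')), (FBase.bcπ f k').base x' = x →
      NormalP ((FBase.bc f k').presheaf.stalk x'))
    (K : Type u) [Field K] [Algebra k K] : EGA4.IsNormalRing (K ⊗[k] (X.presheaf.stalk x)) := by
  apply NormalPerfect.isNormalRing_tensor_of_forall_finite_purelyInseparable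
  intro k' _ _ _ _
  haveI : Algebra.IsAlgebraic k k' := Algebra.IsAlgebraic.of_finite k k'
  exact isNormalRing_tensor_of_normalP_stalks f x hc k' (fun y' hy' => h k' y' hy')

end Normal

end Groth.Agent.Lib.Helper14.GeomNormalPt
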