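import Mathlib
import Groth.Prelude.Def_FDesc
import Groth.Prelude.Def_Found
import Groth.Agent.Lib.Helper14.GeomNormalPt
import Groth.Agent.Lib.Helper21.GeomRegB
import Groth.Agent.Lib.Helper26.RegularRing

/-!
# Geometric regularity at a point (helper14)
-/

set_option autoImplicit false
universe u

open CategoryTheory CategoryTheory.Limits AlgebraicGeometry
open scoped TensorProduct

namespace Groth.Agent.Lib.Helper14.GeomRegularPt

open Groth.Agent.Lib.Helper14.GeomRedAt Groth.Agent.Lib.Helper14.GeomNormalPt
open Groth.Agent.Lib.Helper26.RegularRing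

/-- The property "is a regular ring". -/
abbrev RegP : ∀ (R : Type u) [CommRing R], Prop := fun R _ => IsRegularRing R

theorem regP_descend {R S : Type u} [CommRing R] [CommRing S] [Algebra R S]
    [Module.FaithfullyFlat R S] (h : RegP S) : RegP R := by
  haveI : IsRegularRing S := h
  exact isRegularRing_of_faithfullyFlat R S

theorem regP_iso {R S : Type u} [CommRing R] [CommRing S] (e : R ≃+* S) (h : RegP R) : RegP S := by
  haveI : IsRegularRing R := h
  exact IsRegularRing.of_ringEquiv e

theorem regP_loc {R : Type u} [CommRing R] (h : RegP R) (q : Ideal R) [q.IsPrime] :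
    RegP (Localization.AtPrime q) := by
  haveI : IsRegularRing R := h
  haveI : IsRegularLocalRing (Localization.AtPrime q) := inferInstance
  exact isRegularRing_of_isRegularLocalRing _

theorem regP_iff_of_isLocalRing (R : Type u) [CommRing R] [IsLocalRing R] :
    RegP R ↔ IsRegularLocalRing R :=
  ⟨fun h => by
    haveI : IsRegularRing R := h
    exact IsRegularLocalRing.of_isRegularRing_of_isLocalRing R,
  fun h => by
    haveI := h
    exact isRegularRing_of_isRegularLocalRing R⟩

section Pt

variable {k : Type u} [Field k] {X : Scheme.{u}} (f : X ⟶ Spec (CommRingCat.of k))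
  (x : X) [Algebra k (X.presheaf.stalk x)]
  (hc : X.fromSpecStalk x ≫ f =
      Spec.map (CommRingCat.ofHom (algebraMap k (X.presheaf.stalk x))))

include hc in
theorem isRegularLocalRing_stalk_of_isRegularRing_tensor
    (K : Type u) [Field K] [Algebra k K]
    (h : IsRegularRing (K ⊗[k] (X.presheaf.stalk x)))
    (x' : ↥(FBase.bc f K)) (hx' : (FBase.bcπ f K).base x' = x) :
    IsRegularLocalRing ((FBase.bc f K).presheaf.stalk x') := by
  haveI h' : IsRegularRing ((X.presheaf.stalk x) ⊗[k] K) :=
    IsRegularRing.of_ringEquiv (Algebra.TensorProduct.comm k K (X.presheaf.stalk x)).toRingEquiv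
  rw [← regP_iff_of_isLocalRing]
  exact stalk_of_tensor_localizations f x RegP (fun h => regP_descend h)
    (fun e h => regP_iso e h) hc K x' hx' (fun q _ => regP_loc h' q)

include hc in
theorem isRegularRing_tensor_of_stalks [IsNoetherianRing (X.presheaf.stalk x)]
    (K : Type u) [Field K] [Algebra k K] [Module.Finite k K]
    (hgeo : ∀ y' : ↥(FBase.bc f K), (FBase.bcπ f K).base y' = x →
      IsRegularLocalRing ((FBase.bc f K).presheaf.stalk y')) :
    IsRegularRing (K ⊗[k] (X.presheaf.stalk x)) := by
  haveI : Algebra.IsAlgebraic k K := Algebra.IsAlgebraic.of_finite k K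
  haveI : IsNoetherianRing ((X.presheaf.stalk x) ⊗[k] K) :=
    IsNoetherianRing.of_finite (X.presheaf.stalk x) _
  haveI h' : IsRegularRing ((X.presheaf.stalk x) ⊗[k] K) := by
    rw [isRegularRing_iff]
    intro q hq
    rw [← regP_iff_of_isLocalRing]
    exact tensor_localizations_of_stalks f RegP (fun h => regP_descend h)
      (fun e h => regP_iso e h) (fun h q _ => regP_loc h q) x hc K
      (fun y' hy' => (regP_iff_of_isLocalRing _).mpr (hgeo y' hy')) q
  exact IsRegularRing.of_ringEquiv (Algebra.TensorProduct.comm k (X.presheaf.stalk x) K).toRingEquiv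

end Pt

end Groth.Agent.Lib.Helper14.GeomRegularPt
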