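import Mathlib
import Groth.Prelude.Def_EGA4b
import Groth.Agent.Lib.Helper14.LocFinite
import Groth.Agent.Lib.Helper26.RegularNormal

/-!
# Openness of the normal locus of a Noetherian domain that is normal away from `g`
-/

set_option autoImplicit false
universe u

namespace Groth.Agent.Lib.Helper14.NorLocus

section domain

variable (A : Type u) [CommRing A] [IsDomain A]

/-- Normality at a prime, phrased inside the fraction field. -/
def NormalAt (y : Ideal A) : Prop :=
  ∀ z : FractionRing A, IsIntegral A z →
    ∃ a s : A, s ∉ y ∧ z * algebraMap A (FractionRing A) s = algebraMap A (FractionRing A) a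

variable {A}

lemma NormalAt.mono {y q : Ideal A} (h : q ≤ y) (hy : NormalAt A y) : NormalAt A q := by
  intro z hz
  obtain ⟨a, s, hs, e⟩ := hy z hz
  exact ⟨a, s, fun hsq => hs (h hsq), e⟩

lemma normalAt_iff (y : Ideal A) [y.IsPrime] :
    IsIntegrallyClosed (Localization.AtPrime y) ↔ NormalAt A y := by
  have hinj : Function.Injective (algebraMap A (FractionRing A)) :=
    IsFractionRing.injective A (FractionRing A)
  constructor
  · intro h z hz
    have hz' : IsIntegral (Localization.AtPrime y) z := hz.tower_top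
    obtain ⟨w, hw⟩ := (isIntegrallyClosed_iff (FractionRing A)).1 h hz'
    obtain ⟨a, s, rfl⟩ := IsLocalization.exists_mk'_eq y.primeCompl w
    refine ⟨a, s, s.2, ?_⟩
    rw [← hw, IsScalarTower.algebraMap_apply A (Localization.AtPrime y) (FractionRing A) s,
      ← map_mul, IsLocalization.mk'_spec,
      ← IsScalarTower.algebraMap_apply A (Localization.AtPrime y) (FractionRing A)]
  · intro h
    rw [isIntegrallyClosed_iff (FractionRing A)]
    intro z hz
    obtain ⟨m, hm⟩ := IsIntegral.exists_multiple_integral_of_isLocalization y.primeCompl z hz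
    obtain ⟨a, s, hs, e⟩ := h _ hm
    have hms : (m : A) * s ∈ y.primeCompl := y.primeCompl.mul_mem m.2 hs
    refine ⟨IsLocalization.mk' _ a ⟨(m : A) * s, hms⟩, ?_⟩
    have hne : algebraMap A (FractionRing A) ((m : A) * s) ≠ 0 := by
      intro h0
      rw [← map_zero (algebraMap A (FractionRing A))] at h0
      exact hms (by rw [hinj h0]; exact y.zero_mem)
    apply mul_right_cancel₀ hne
    have h1 : algebraMap (Localization.AtPrime y) (FractionRing A)
        (IsLocalization.mk' _ a ⟨(m : A) * s, hms⟩) * algebraMap A (FractionRing A) ((m : A) * s) =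
        algebraMap A (FractionRing A) a := by
      rw [IsScalarTower.algebraMap_apply A (Localization.AtPrime y) (FractionRing A) ((m : A) * s),
        ← map_mul]
      have := IsLocalization.mk'_spec (Localization.AtPrime y) a ⟨(m : A) * s, hms⟩
      rw [this, ← IsScalarTower.algebraMap_apply A (Localization.AtPrime y) (FractionRing A)]
    rw [h1, ← e, map_mul, Submonoid.smul_def, Algebra.smul_def]
    ring


/-- The ideal of denominators of `z`. -/
def den (z : FractionRing A) : Ideal A where
  carrier := {s | ∃ a : A, z * algebraMap A (FractionRing A) s = algebraMap A (FractionRing A) a}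
  add_mem' := by
    rintro s t ⟨a, ha⟩ ⟨b, hb⟩
    exact ⟨a + b, by rw [map_add, mul_add, ha, hb, map_add]⟩
  zero_mem' := ⟨0, by simp⟩
  smul_mem' := by
    rintro c s ⟨a, ha⟩
    exact ⟨c * a, by rw [smul_eq_mul, map_mul, map_mul, mul_left_comm, ha]⟩

lemma mem_den {z : FractionRing A} {s : A} :
    s ∈ den z ↔ ∃ a : A, z * algebraMap A (FractionRing A) s = algebraMap A (FractionRing A) a :=
  Iff.rfl

lemma exists_pow (g : A) (hg : ∀ (y : Ideal A) [y.IsPrime], g ∉ y → NormalAt A y)
    (z : FractionRing A) (hz : IsIntegral A z) :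
    ∃ (n : ℕ) (a : A),
      z * algebraMap A (FractionRing A) (g ^ n) = algebraMap A (FractionRing A) a := by
  have hrad : g ∈ (den z).radical := by
    rw [Ideal.radical_eq_sInf, Ideal.mem_sInf]
    rintro y ⟨hle, hy⟩
    haveI := hy
    by_contra hgy
    obtain ⟨a, s, hs, e⟩ := hg y hgy z hz
    exact hs (hle ⟨a, e⟩)
  obtain ⟨n, hn⟩ := hrad
  obtain ⟨a, ha⟩ := hn
  exact ⟨n, a, ha⟩

theorem normalAt_of_ass [IsNoetherianRing A] (g : A) (hg0 : g ≠ 0)
    (hg : ∀ z : FractionRing A, IsIntegral A z → ∃ (n : ℕ) (a : A),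
      z * algebraMap A (FractionRing A) (g ^ n) = algebraMap A (FractionRing A) a)
    (y : Ideal A) [y.IsPrime]
    (hq : ∀ q ∈ associatedPrimes A (A ⧸ Ideal.span {g}), q ≤ y → NormalAt A q) :
    NormalAt A y := by
  have hinj : Function.Injective (algebraMap A (FractionRing A)) :=
    IsFractionRing.injective A (FractionRing A)
  have hgK : algebraMap A (FractionRing A) g ≠ 0 := by
    intro h0
    rw [← map_zero (algebraMap A (FractionRing A))] at h0
    exact hg0 (hinj h0)
  have key : ∀ (n : ℕ) (z : FractionRing A), IsIntegral A z →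
      (∃ a : A, z * algebraMap A (FractionRing A) (g ^ n) = algebraMap A (FractionRing A) a) →
      ∃ a s : A, s ∉ y ∧ z * algebraMap A (FractionRing A) s = algebraMap A (FractionRing A) a := by
    intro n
    induction n with
    | zero =>
      rintro z _ ⟨a, ha⟩
      exact ⟨a, 1, fun h => (Ideal.IsPrime.ne_top inferInstance) ((Ideal.eq_top_iff_one y).2 h),
        by simpa using ha⟩
    | succ n ih =>
      rintro z hz ⟨a, ha⟩
      -- w = z * g^n satisfies w * g = a
      have hw : IsIntegral A (z * algebraMap A (FractionRing A) (g ^ n)) :=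
        hz.mul isIntegral_algebraMap
      have hwg : (z * algebraMap A (FractionRing A) (g ^ n)) * algebraMap A (FractionRing A) g =
          algebraMap A (FractionRing A) a := by
        rw [← ha, pow_succ, map_mul, mul_assoc]
      -- find s ∉ y with s * a ∈ (g)
      have hsub : ∃ s : A, s ∉ y ∧ ∃ a' : A, s * a = a' * g := by
        by_contra hcon
        push_neg at hcon
        set abar : A ⧸ Ideal.span {g} := Ideal.Quotient.mk _ a with habar
        set J : Ideal A := (Submodule.span A ({abar} : Set (A ⧸ Ideal.span {g}))).annihilator with hJ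
        have hJmem : ∀ s : A, s ∈ J ↔ ∃ a' : A, s * a = a' * g := by
          intro s
          rw [hJ, Submodule.mem_annihilator_span_singleton, habar, ← Ideal.Quotient.mk_eq_mk,
            ← Submodule.Quotient.mk_smul, Ideal.Quotient.mk_eq_mk, Ideal.Quotient.eq_zero_iff_mem,
            smul_eq_mul, Ideal.mem_span_singleton']
          exact ⟨fun ⟨a', h⟩ => ⟨a', h.symm⟩, fun ⟨a', h⟩ => ⟨a', h.symm⟩⟩
        have hJy : J ≤ y := by
          intro s hs
          by_contra hsy
          obtain ⟨a', ha'⟩ := (hJmem s).1 hs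
          exact hcon s hsy a' ha'
        obtain ⟨q, hqmin, hqy⟩ := Ideal.exists_minimalPrimes_le hJy
        have hqass : q ∈ associatedPrimes A (A ⧸ Ideal.span {g}) := by
          have h1 : q ∈ associatedPrimes A
              (Submodule.span A ({abar} : Set (A ⧸ Ideal.span {g}))) := by
            haveI : Module.Finite A (Submodule.span A ({abar} : Set (A ⧸ Ideal.span {g}))) :=
              Module.Finite.of_fg (Submodule.fg_span_singleton _)
            exact Module.associatedPrimes.minimalPrimes_annihilator_subset_associatedPrimes A _ hqmin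
          exact associatedPrimes.subset_of_injective
            (f := (Submodule.span A ({abar} : Set (A ⧸ Ideal.span {g}))).subtype)
            (Submodule.injective_subtype _) h1
        obtain ⟨b, s, hs, e⟩ := hq q hqass hqy _ hw
        have hsJ : s ∈ J := by
          rw [hJmem]
          refine ⟨b, ?_⟩
          apply hinj
          rw [map_mul, map_mul, ← hwg, ← e]
          ring
        exact hs (hqmin.1.2 hsJ)
      obtain ⟨s, hsy, a', ha'⟩ := hsub
      have hzs : IsIntegral A (z * algebraMap A (FractionRing A) s) := hz.mul isIntegral_algebraMap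
      have h2 : (z * algebraMap A (FractionRing A) s) * algebraMap A (FractionRing A) (g ^ n) =
          algebraMap A (FractionRing A) a' := by
        apply mul_right_cancel₀ hgK
        have h3 : algebraMap A (FractionRing A) (s * a) = algebraMap A (FractionRing A) (a' * g) :=
          congrArg _ ha'
        rw [map_mul, map_mul] at h3
        rw [← h3, ← hwg]
        ring
      obtain ⟨a'', s', hs'y, e'⟩ := ih _ hzs ⟨a', h2⟩
      refine ⟨a'', s * s', ?_, ?_⟩
      · intro hmem
        rcases (Ideal.IsPrime.mem_or_mem inferInstance hmem) with h | h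
        · exact hsy h
        · exact hs'y h
      · rw [map_mul, ← mul_assoc, e']
  intro z hz
  obtain ⟨n, a, ha⟩ := hg z hz
  exact key n z hz ⟨a, ha⟩

theorem isClosed_not_normalAt [IsNoetherianRing A] (g : A) (hg0 : g ≠ 0)
    (hg : ∀ (y : Ideal A) [y.IsPrime], g ∉ y → NormalAt A y) :
    IsClosed {y : PrimeSpectrum A | ¬ NormalAt A y.asIdeal} := by
  have hset : {y : PrimeSpectrum A | ¬ NormalAt A y.asIdeal} =
      ⋃ q ∈ {q ∈ associatedPrimes A (A ⧸ Ideal.span {g}) | ¬ NormalAt A q},
        PrimeSpectrum.zeroLocus (q : Set A) := by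
    ext y
    simp only [Set.mem_setOf_eq, Set.mem_iUnion, PrimeSpectrum.mem_zeroLocus, SetLike.coe_subset_coe,
      exists_prop]
    constructor
    · intro hy
      by_contra hcon
      push_neg at hcon
      apply hy
      refine normalAt_of_ass g hg0 (exists_pow g hg) y.asIdeal ?_
      intro q hq hqy
      by_contra hnq
      exact hcon q ⟨hq, hnq⟩ hqy
    · rintro ⟨q, ⟨_, hnq⟩, hqy⟩ hy
      exact hnq (hy.mono hqy)
  rw [hset]
  refine Set.Finite.isClosed_biUnion ?_ fun q _ => PrimeSpectrum.isClosed_zeroLocus _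
  exact (associatedPrimes.finite A (A ⧸ Ideal.span {g})).subset fun q hq => hq.1

lemma mem_norLocus_iff (y : PrimeSpectrum A) :
    y ∈ EGA4.norLocus A ↔ NormalAt A y.asIdeal := by
  rw [← normalAt_iff]
  constructor
  · exact fun h => h.2
  · intro h
    exact ⟨IsLocalization.isDomain_localization y.asIdeal.primeCompl_le_nonZeroDivisors, h⟩

theorem isOpen_norLocus [IsNoetherianRing A] (g : A) (hg0 : g ≠ 0)
    (hg : ∀ y : PrimeSpectrum A, g ∉ y.asIdeal → y ∈ EGA4.norLocus A) :
    IsOpen (EGA4.norLocus A) := by
  have h1 : EGA4.norLocus A = {y : PrimeSpectrum A | ¬ NormalAt A y.asIdeal}ᶜ := by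
    ext y
    rw [mem_norLocus_iff]
    simp
  rw [h1, isOpen_compl_iff]
  refine isClosed_not_normalAt g hg0 ?_
  intro y _ hgy
  exact (mem_norLocus_iff ⟨y, inferInstance⟩).1 (hg ⟨y, inferInstance⟩ hgy)

end domain


section general

variable (R : Type u) [CommRing R]

/-- The local ring of `R_s` at a prime is the local ring of `R` at its contraction. -/
lemma nonempty_atPrime_equiv (s : R) (y' : PrimeSpectrum (Localization.Away s)) :
    Nonempty (Localization.AtPrime
      (PrimeSpectrum.comap (algebraMap R (Localization.Away s)) y').asIdeal ≃+*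
        Localization.AtPrime y'.asIdeal) := by
  let q := PrimeSpectrum.comap (algebraMap R (Localization.Away s)) y'
  have : IsLocalization.AtPrime (Localization.AtPrime y'.asIdeal) q.asIdeal :=
    IsLocalization.isLocalization_isLocalization_atPrime_isLocalization (.powers s) _ y'.asIdeal
  exact ⟨(IsLocalization.algEquiv q.asIdeal.primeCompl _ _).toRingEquiv⟩

lemma mem_norLocus_away_iff (s : R) (y' : PrimeSpectrum (Localization.Away s)) :
    y' ∈ EGA4.norLocus (Localization.Away s) ↔
      PrimeSpectrum.comap (algebraMap R (Localization.Away s)) y' ∈ EGA4.norLocus R := by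
  obtain ⟨e⟩ := nonempty_atPrime_equiv R s y'
  constructor
  · rintro ⟨h1, h2⟩
    haveI := h1
    haveI := h2
    exact ⟨e.toMulEquiv.isDomain _, IsIntegrallyClosed.of_equiv e.symm⟩
  · rintro ⟨h1, h2⟩
    haveI := h1
    haveI := h2
    exact ⟨e.symm.toMulEquiv.isDomain _, IsIntegrallyClosed.of_equiv e⟩

lemma mem_regLocus_away_iff (s : R) (y' : PrimeSpectrum (Localization.Away s)) :
    y' ∈ EGA4.regLocus (Localization.Away s) ↔
      PrimeSpectrum.comap (algebraMap R (Localization.Away s)) y' ∈ EGA4.regLocus R := by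
  obtain ⟨e⟩ := nonempty_atPrime_equiv R s y'
  constructor
  · intro h
    haveI : IsRegularLocalRing (Localization.AtPrime y'.asIdeal) := h
    exact IsRegularLocalRing.of_ringEquiv e.symm
  · intro h
    haveI : IsRegularLocalRing (Localization.AtPrime
      (PrimeSpectrum.comap (algebraMap R (Localization.Away s)) y').asIdeal) := h
    exact IsRegularLocalRing.of_ringEquiv e

lemma exists_away_isDomain [IsNoetherianRing R] (x : Ideal R) [x.IsPrime]
    [IsDomain (Localization.AtPrime x)] :
    ∃ s : R, s ∉ x ∧ IsDomain (Localization.Away s) := by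
  set Kx := RingHom.ker (algebraMap R (Localization.AtPrime x)) with hKx
  have hfg : Kx.FG := IsNoetherian.noetherian Kx
  have h1 : ∀ a ∈ Kx, ∃ t ∈ x.primeCompl, t • a ∈ (⊥ : Submodule R R) := by
    intro a ha
    rw [hKx, RingHom.mem_ker, IsLocalization.map_eq_zero_iff x.primeCompl] at ha
    obtain ⟨m, hm⟩ := ha
    exact ⟨m, m.2, by simpa using hm⟩
  obtain ⟨s, hs, hsK⟩ := Groth.Agent.Lib.Helper14.LocFinite.exists_common x.primeCompl ⊥ Kx hfg h1
  refine ⟨s, hs, ?_⟩
  have hunit : IsUnit (algebraMap R (Localization.AtPrime x) s) :=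
    IsLocalization.map_units (Localization.AtPrime x) (⟨s, hs⟩ : x.primeCompl)
  let φ : Localization.Away s →+* Localization.AtPrime x := IsLocalization.Away.lift s hunit
  have hφ : Function.Injective φ := by
    rw [injective_iff_map_eq_zero]
    intro w hw
    obtain ⟨a, m, rfl⟩ := IsLocalization.exists_mk'_eq (Submonoid.powers s) w
    have h2 : φ (IsLocalization.mk' (Localization.Away s) a m) *
        φ (algebraMap R (Localization.Away s) m) = φ (algebraMap R (Localization.Away s) a) := by
      rw [← map_mul, IsLocalization.mk'_spec]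
    rw [hw, zero_mul] at h2
    have h3 : algebraMap R (Localization.AtPrime x) a = 0 := by
      have h6 : φ (algebraMap R (Localization.Away s) a) = algebraMap R (Localization.AtPrime x) a :=
        IsLocalization.Away.lift_eq s hunit a
      rw [← h6, ← h2]
    have h4 : a ∈ Kx := h3
    have h5 : s * a = 0 := by simpa using hsK a h4
    rw [IsLocalization.mk'_eq_zero_iff]
    exact ⟨⟨s, Submonoid.mem_powers s⟩, h5⟩
  exact hφ.isDomain φ

theorem isOpen_norLocus_of_local [IsNoetherianRing R]
    (H : ∀ s : R, IsDomain (Localization.Away s) →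
      ∃ g : Localization.Away s, g ≠ 0 ∧ ∀ y : PrimeSpectrum (Localization.Away s),
        g ∉ y.asIdeal → y ∈ EGA4.norLocus (Localization.Away s)) :
    IsOpen (EGA4.norLocus R) := by
  rw [isOpen_iff_forall_mem_open]
  intro x hx
  haveI : IsDomain (Localization.AtPrime x.asIdeal) := hx.1
  obtain ⟨s, hsx, hdom⟩ := exists_away_isDomain R x.asIdeal
  haveI := hdom
  obtain ⟨g, hg0, hg⟩ := H s hdom
  have hopen : IsOpen (EGA4.norLocus (Localization.Away s)) := isOpen_norLocus g hg0 hg
  have hemb := PrimeSpectrum.localization_away_isOpenEmbedding (Localization.Away s) s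
  refine ⟨PrimeSpectrum.comap (algebraMap R (Localization.Away s)) ''
    EGA4.norLocus (Localization.Away s), ?_, hemb.isOpenMap _ hopen, ?_⟩
  · rintro _ ⟨y', hy', rfl⟩
    exact (mem_norLocus_away_iff R s y').1 hy'
  · have hxr : x ∈ Set.range (PrimeSpectrum.comap (algebraMap R (Localization.Away s))) := by
      rw [PrimeSpectrum.localization_away_comap_range (Localization.Away s) s]
      exact hsx
    obtain ⟨x', rfl⟩ := hxr
    exact ⟨x', (mem_norLocus_away_iff R s x').2 hx, rfl⟩

end general


section bot

variable (B : Type u) [CommRing B] [IsDomain B]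

lemma bot_mem_norLocus :
    (⟨⊥, Ideal.isPrime_bot⟩ : PrimeSpectrum B) ∈ EGA4.norLocus B := by
  rw [mem_norLocus_iff]
  intro z hz
  obtain ⟨a, s, rfl⟩ := IsLocalization.exists_mk'_eq (nonZeroDivisors B) z
  refine ⟨a, s, ?_, IsLocalization.mk'_spec _ a s⟩
  intro h
  exact nonZeroDivisors.ne_zero s.2 (by simpa using h)

lemma bot_mem_regLocus :
    (⟨⊥, Ideal.isPrime_bot⟩ : PrimeSpectrum B) ∈ EGA4.regLocus B := by
  change IsRegularLocalRing (Localization.AtPrime (⊥ : Ideal B))
  haveI : IsDomain (Localization.AtPrime (⊥ : Ideal B)) :=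
    IsLocalization.isDomain_localization (⊥ : Ideal B).primeCompl_le_nonZeroDivisors
  have hdim : ringKrullDim (Localization.AtPrime (⊥ : Ideal B)) ≤ 0 := by
    rw [IsLocalization.AtPrime.ringKrullDim_eq_height (⊥ : Ideal B), Ideal.height_bot]
    rfl
  haveI : Ring.KrullDimLE 0 (Localization.AtPrime (⊥ : Ideal B)) :=
    Ring.krullDimLE_iff.2 (by simpa using hdim)
  have hfield : IsField (Localization.AtPrime (⊥ : Ideal B)) := Ring.KrullDimLE.isField_of_isDomain
  haveI : IsPrincipalIdealRing (Localization.AtPrime (⊥ : Ideal B)) := hfield.isPrincipalIdealRing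
  infer_instance

lemma exists_basicOpen_of_bot_mem (U : Set (PrimeSpectrum B)) (hU : IsOpen U)
    (hb : (⟨⊥, Ideal.isPrime_bot⟩ : PrimeSpectrum B) ∈ U) :
    ∃ g : B, g ≠ 0 ∧ ∀ y : PrimeSpectrum B, g ∉ y.asIdeal → y ∈ U := by
  obtain ⟨_, ⟨g, rfl⟩, hbg, hgU⟩ :=
    PrimeSpectrum.isTopologicalBasis_basic_opens.exists_subset_of_mem_open hb hU
  refine ⟨g, ?_, fun y hy => hgU hy⟩
  intro h0
  exact hbg (by simp [h0])

end bot

section results

variable (A : Type u) [CommRing A] [IsNoetherianRing A]

theorem isOpen_norLocus_iff_minimal :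
    IsOpen (EGA4.norLocus A) ↔
      ∀ p : PrimeSpectrum A, p.asIdeal ∈ minimalPrimes A → p ∈ EGA4.norLocus A →
        ∃ U : Set (PrimeSpectrum A), IsOpen U ∧ p ∈ U ∧ U ⊆ EGA4.norLocus A := by
  constructor
  · intro h p _ hp
    exact ⟨_, h, hp, subset_rfl⟩
  · intro h
    apply isOpen_norLocus_of_local
    intro s hdom
    haveI := hdom
    set b : PrimeSpectrum (Localization.Away s) := ⟨⊥, Ideal.isPrime_bot⟩ with hb
    set p0 := PrimeSpectrum.comap (algebraMap A (Localization.Away s)) b with hp0
    have hp0nor : p0 ∈ EGA4.norLocus A :=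
      (mem_norLocus_away_iff A s b).1 (bot_mem_norLocus _)
    have hmem : ∀ a : A, a ∈ p0.asIdeal ↔ algebraMap A (Localization.Away s) a = 0 := by
      intro a
      rw [hp0, PrimeSpectrum.comap_asIdeal, Ideal.mem_comap, hb]
      exact Ideal.mem_bot
    have hp0min : p0.asIdeal ∈ minimalPrimes A := by
      refine ⟨⟨p0.2, bot_le⟩, ?_⟩
      rintro q ⟨hq, -⟩ hle a ha
      haveI := hq
      rw [hmem, IsLocalization.map_eq_zero_iff (Submonoid.powers s)] at ha
      obtain ⟨⟨_, n, rfl⟩, hm⟩ := ha
      have hsq : s ∉ q := by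
        intro hs
        have h1 := (hmem s).1 (hle hs)
        have h2 : IsUnit (algebraMap A (Localization.Away s) s) :=
          IsLocalization.Away.algebraMap_isUnit s
        rw [h1] at h2
        exact not_isUnit_zero h2
      have h3 : s ^ n * a ∈ q := by
        have : s ^ n * a = 0 := hm
        rw [this]; exact q.zero_mem
      rcases hq.mem_or_mem h3 with h4 | h4
      · exact absurd (hq.mem_of_pow_mem _ h4) hsq
      · exact h4
    obtain ⟨U, hUo, hpU, hUn⟩ := h p0 hp0min hp0nor
    have hU' : IsOpen (PrimeSpectrum.comap (algebraMap A (Localization.Away s)) ⁻¹' U) :=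
      hUo.preimage (PrimeSpectrum.continuous_comap _)
    obtain ⟨g, hg0, hg⟩ := exists_basicOpen_of_bot_mem _ _ hU' hpU
    exact ⟨g, hg0, fun y hy => (mem_norLocus_away_iff A s y).2 (hUn (hg y hy))⟩

theorem isOpen_norLocus_of_isOpen_regLocus (h : IsOpen (EGA4.regLocus A)) :
    IsOpen (EGA4.norLocus A) := by
  apply isOpen_norLocus_of_local
  intro s hdom
  haveI := hdom
  have hU' : IsOpen (PrimeSpectrum.comap (algebraMap A (Localization.Away s)) ⁻¹'
      EGA4.regLocus A) := h.preimage (PrimeSpectrum.continuous_comap _)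
  have hb : (⟨⊥, Ideal.isPrime_bot⟩ : PrimeSpectrum (Localization.Away s)) ∈
      PrimeSpectrum.comap (algebraMap A (Localization.Away s)) ⁻¹' EGA4.regLocus A :=
    (mem_regLocus_away_iff A s _).1 (bot_mem_regLocus _)
  obtain ⟨g, hg0, hg⟩ := exists_basicOpen_of_bot_mem _ _ hU' hb
  refine ⟨g, hg0, fun y hy => ?_⟩
  have hreg : y ∈ EGA4.regLocus (Localization.Away s) :=
    (mem_regLocus_away_iff A s y).2 (hg y hy)
  haveI : IsRegularLocalRing (Localization.AtPrime y.asIdeal) := hreg
  exact ⟨Groth.Agent.Lib.Helper9.RegLocal.isDomain_of_isRegularLocalRing _,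
    Groth.Agent.Lib.Helper26.RegularNormal.isIntegrallyClosed_of_isRegularLocalRing _⟩

end results

end Groth.Agent.Lib.Helper14.NorLocus
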