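/-
Helper14 library: an fppf cover can be refined by a locally quasi-finite fppf cover.
-/
import Groth.Agent.Lib.Helper14.CMPoint
import Groth.Agent.Lib.Helper14.LCF.CMSlice

set_option autoImplicit false
set_option linter.style.haveILetI false
universe u
open CategoryTheory CategoryTheory.Limits AlgebraicGeometry Opposite

namespace Groth.Agent.Lib.Helper14.QFRefine

set_option backward.isDefEq.respectTransparency.types false in
theorem exists_quasiFinite_refinement {S' S : Scheme.{u}} (g : S' ⟶ S) [Flat g]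
    [LocallyOfFinitePresentation g] [Surjective g] :
    ∃ (T : Scheme.{u}) (h : T ⟶ S), Flat h ∧ LocallyOfFinitePresentation h ∧
      LocallyQuasiFinite h ∧ Surjective h ∧
      ∀ t : ↑T, ∃ (V : T.Opens) (r : ↑V ⟶ S'), t ∈ V ∧ r ≫ g = V.ι ≫ h := by
  have hpt : ∀ s : S, ∃ x : S', g x = s ∧ IsClosed ({g.asFiber x} : Set ↑(g.fiber (g x))) ∧
      LocCoh.IsCohenMacaulayLocalRing ↑((g.fiber (g x)).presheaf.stalk (g.asFiber x)) :=
    fun s => CMPoint.exists_closed_cm_point_fibre g s (g.surjective s)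
  choose x hxs hxcl hxcm using hpt
  have hsl := fun s : S => LCF.slice_cm g (x s) (Flat.stalkMap g (x s)) (hxcm s) (hxcl s)
  choose V Z i hreg hxrange hfl hfp hqf huniq using hsl
  refine ⟨∐ Z, Sigma.desc (fun s => i s ≫ (V s).ι ≫ g), ?_, ?_, ?_, ?_, ?_⟩
  · exact IsZariskiLocalAtSource.sigmaDesc hfl
  · exact IsZariskiLocalAtSource.sigmaDesc hfp
  · exact IsZariskiLocalAtSource.sigmaDesc hqf
  · refine Surjective.sigmaDesc_of_union_range_eq_univ ?_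
    rw [Set.eq_univ_iff_forall]
    intro s
    rw [Set.mem_iUnion]
    obtain ⟨z, hz⟩ := hxrange s
    refine ⟨s, z, ?_⟩
    rw [← Category.assoc, Scheme.Hom.comp_apply, hz, hxs]
  · intro t
    obtain ⟨⟨s, z⟩, rfl⟩ := (sigmaMk Z).surjective t
    rw [sigmaMk_mk]
    refine ⟨(Sigma.ι Z s).opensRange, (Sigma.ι Z s).isoOpensRange.inv ≫ i s ≫ (V s).ι,
      ⟨z, rfl⟩, ?_⟩
    rw [← Scheme.Hom.isoOpensRange_inv_comp, Category.assoc, Category.assoc, Category.assoc,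
      Sigma.ι_desc]

set_option backward.isDefEq.respectTransparency.types false in
theorem exists_etale_finite_flat_refinement {S₁ S : Scheme.{u}} (g : S₁ ⟶ S) [Flat g]
    [LocallyOfFinitePresentation g] [Surjective g] (s : S) :
    ∃ (S' V : Scheme.{u}) (e : S' ⟶ S) (π : V ⟶ S'), Etale e ∧ s ∈ Set.range ⇑e ∧
      Surjective π ∧ IsFinite π ∧ Flat π ∧ LocallyOfFinitePresentation π ∧
      ∀ v : ↑V, ∃ (W : V.Opens) (r : ↑W ⟶ S₁), v ∈ W ∧ r ≫ g = W.ι ≫ π ≫ e := by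
  obtain ⟨T, h, hfl, hfp, hqf, hsurj, hfac⟩ := exists_quasiFinite_refinement g
  obtain ⟨t, rfl⟩ := h.surjective s
  obtain ⟨Vt, r, htV, hr⟩ := hfac t
  obtain ⟨_, ⟨S₀, hS₀, rfl⟩, hsS₀, -⟩ :=
    S.isBasis_affineOpens.exists_subset_of_mem_open (Set.mem_univ (h t)) isOpen_univ
  obtain ⟨_, ⟨T₀, hT₀, rfl⟩, htT₀, hT₀le⟩ :=
    T.isBasis_affineOpens.exists_subset_of_mem_open
      (show t ∈ ((h ⁻¹ᵁ S₀ ⊓ Vt : T.Opens) : Set T) from ⟨hsS₀, htV⟩) (h ⁻¹ᵁ S₀ ⊓ Vt).2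
  have hT₀S : T₀ ≤ h ⁻¹ᵁ S₀ := fun z hz => (hT₀le hz).1
  have hT₀V : T₀ ≤ Vt := fun z hz => (hT₀le hz).2
  haveI : IsAffine ↑T₀ := hT₀
  haveI : IsAffine ↑S₀ := hS₀
  haveI hsep : IsSeparated (Scheme.Opens.ι T₀ ≫ h) := by
    rw [← Scheme.Hom.resLE_comp_ι h hT₀S]
    infer_instance
  set f : ((T₀ : T.Opens) : Scheme.{u}) ⟶ S := Scheme.Opens.ι T₀ ≫ h with hf
  have hx : f.QuasiFiniteAt ⟨t, htT₀⟩ := f.quasiFiniteAt ⟨t, htT₀⟩
  obtain ⟨U, gU, hét, -, V', W', v, -, hfin, hv⟩ :=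
    exists_etale_isCompl_of_quasiFiniteAt f (x := ⟨t, htT₀⟩) (s := h t) rfl hx
  haveI := hét
  haveI := hfin
  set π₀ : (V' : Scheme.{u}) ⟶ U := V'.ι ≫ pullback.snd f gU with hπ₀
  set U' : U.Opens := ⟨Set.range π₀, π₀.isOpenMap.isOpen_range⟩ with hU'
  have hrange : Set.range π₀ ⊆ Set.range U'.ι := by
    rw [Scheme.Opens.range_ι]
    exact le_rfl
  set π : (V' : Scheme.{u}) ⟶ (U' : Scheme.{u}) := IsOpenImmersion.lift U'.ι π₀ hrange with hπ
  have hπfac : π ≫ U'.ι = π₀ := IsOpenImmersion.lift_fac _ _ _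
  refine ⟨U', V', U'.ι ≫ gU, π, inferInstance, ?_, ?_, ?_, ?_, ?_, ?_⟩
  · refine ⟨⟨π₀ v, ⟨v, rfl⟩⟩, ?_⟩
    have h1 : (U'.ι ≫ gU) ⟨π₀ v, ⟨v, rfl⟩⟩ = gU (π₀ v) := Scheme.Hom.comp_apply _ _ _
    have h2 : gU (π₀ v) = f (pullback.fst f gU (V'.ι v)) := by
      have e1 : π₀ ≫ gU = V'.ι ≫ pullback.fst f gU ≫ f := by
        rw [hπ₀, Category.assoc, ← pullback.condition]
      have e2 := congrArg (fun m : (V' : Scheme.{u}) ⟶ S => m v) e1
      simpa only [Scheme.Hom.comp_apply] using e2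
    have h3 : pullback.fst f gU (V'.ι v) = ⟨t, htT₀⟩ := hv
    rw [h1, h2, h3]
    rfl
  · refine ⟨fun u' => ?_⟩
    obtain ⟨w, hw⟩ : U'.ι u' ∈ Set.range π₀ := u'.2
    refine ⟨w, ?_⟩
    apply U'.ι.injective
    have : U'.ι (π w) = π₀ w := by
      rw [← Scheme.Hom.comp_apply, hπfac]
    rw [this, hw]
  · exact MorphismProperty.of_postcomp (W := @IsFinite) (W' := @IsOpenImmersion) π U'.ι
      inferInstance (by rw [hπfac]; infer_instance)
  · exact MorphismProperty.of_postcomp (W := @Flat) (W' := @IsOpenImmersion) π U'.ι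
      inferInstance (by rw [hπfac]; infer_instance)
  · exact MorphismProperty.of_postcomp (W := @LocallyOfFinitePresentation)
      (W' := @IsOpenImmersion) π U'.ι inferInstance (by rw [hπfac]; infer_instance)
  · intro v'
    refine ⟨⊤, (⊤ : (V' : Scheme.{u}).Opens).ι ≫ V'.ι ≫ pullback.fst f gU ≫
      T.homOfLE hT₀V ≫ r, trivial, ?_⟩
    simp only [Category.assoc]
    rw [hr, Scheme.homOfLE_ι_assoc]
    have e1 : Scheme.Opens.ι T₀ ≫ h = f := rfl
    rw [e1, pullback.condition, ← Category.assoc π, hπfac, hπ₀]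
    simp only [Category.assoc]

end Groth.Agent.Lib.Helper14.QFRefine
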