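import Mathlib
import Groth.Agent.Lib.Helper12.FlatRelDim
import Groth.Agent.Lib.Helper12.AffSpace
import Groth.Agent.Lib.Helper12.FibQF
import Groth.Agent.Lib.Helper12.Equidim
import Groth.Agent.Lib.Helper12.FibreDimStage
import Groth.Agent.Lib.Helper12.ValDim4
import Groth.Agent.Lib.Helper12.SchemeDimFT2
import Groth.Agent.Lib.Helper14.CMAffine

/-!
# Fibre dimension of a scheme quasi-finite and flat over an affine space
-/

set_option autoImplicit false
set_option linter.style.haveILetI false
universe u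

open AlgebraicGeometry CategoryTheory Limits IsLocalRing

namespace Groth.Agent.Lib.Helper14.CMDim

open Groth.Agent.Lib.Helper12

/-- the fibres of an affine space have local dimension `n` at every point. -/
theorem localDim_fiber_affineSpace (n : ℕ) (Y : Scheme.{u}) (y : Y)
    (w : ↑((𝔸(ULift.{u} (Fin n); Y) ↘ Y).fiber y)) :
    FlatMor.localDim ↑((𝔸(ULift.{u} (Fin n); Y) ↘ Y).fiber y) w = (n : WithBot ℕ∞) := by
  letI ovF : ((𝔸(ULift.{u} (Fin n); Y) ↘ Y).fiber y).Over
      (Spec (CommRingCat.of (Y.residueField y))) :=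
    ⟨(𝔸(ULift.{u} (Fin n); Y) ↘ Y).fiberToSpecResidueField y⟩
  haveI : LocallyOfFiniteType
      (((𝔸(ULift.{u} (Fin n); Y) ↘ Y).fiber y) ↘ Spec (CommRingCat.of (Y.residueField y))) :=
    FibreRes.locallyOfFiniteType_fiberToSpecResidueField (𝔸(ULift.{u} (Fin n); Y) ↘ Y) y
  haveI := AffSpace.irreducibleSpace_fiber n Y y
  obtain ⟨m, hm⟩ := SchemeDimFT.exists_trdeg_eq (Y.residueField y)
    ((𝔸(ULift.{u} (Fin n); Y) ↘ Y).fiber y)
    (genericPoint ↑((𝔸(ULift.{u} (Fin n); Y) ↘ Y).fiber y))
  rw [SchemeDimFT.localDim_eq_of_irreducible (Y.residueField y) _ m hm w,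
    ← SchemeDimFT.topologicalKrullDim_eq_of_irreducible (Y.residueField y) _ m hm,
    AffSpace.dim_fiber_affineSpace]

/-- a scheme flat and locally quasi-finite over an affine space over `Y` has fibres over `Y` of
local dimension `n` everywhere. -/
theorem fibreDimAt_comp_over (n : ℕ) {U Y : Scheme.{u}} (g : U ⟶ 𝔸(ULift.{u} (Fin n); Y))
    [LocallyOfFiniteType g] [Flat g] [LocallyQuasiFinite g] (u : U) :
    FlatMor.fibreDimAt (g ≫ 𝔸(ULift.{u} (Fin n); Y) ↘ Y) u = (n : WithBot ℕ∞) := by
  set π := 𝔸(ULift.{u} (Fin n); Y) ↘ Y with hπ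
  set s := (g ≫ π) u with hs
  set φ := Groth.Agent.S3443.fibMap g π s with hφ
  have hfst : φ ≫ pullback.fst π (Y.fromSpecResidueField s) =
      pullback.fst (g ≫ π) (Y.fromSpecResidueField s) ≫ g := pullback.lift_fst _ _ _
  have hsnd : φ ≫ pullback.snd π (Y.fromSpecResidueField s) =
      pullback.snd (g ≫ π) (Y.fromSpecResidueField s) := pullback.lift_snd _ _ _
  have hsq : IsPullback φ (pullback.fst (g ≫ π) (Y.fromSpecResidueField s))
      (pullback.fst π (Y.fromSpecResidueField s)) g := by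
    refine IsPullback.of_right ?_ hfst (IsPullback.of_hasPullback π (Y.fromSpecResidueField s)).flip
    rw [hsnd]
    exact (IsPullback.of_hasPullback (g ≫ π) (Y.fromSpecResidueField s)).flip
  haveI : Flat φ := MorphismProperty.of_isPullback (P := @Flat) hsq.flip inferInstance
  haveI : LocallyOfFiniteType φ :=
    MorphismProperty.of_isPullback (P := @LocallyOfFiniteType) hsq.flip inferInstance
  haveI : LocallyQuasiFinite φ :=
    MorphismProperty.of_isPullback (P := @LocallyQuasiFinite) hsq.flip inferInstance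
  haveI : LocallyOfFiniteType (π.fiberToSpecResidueField s) :=
    FibreRes.locallyOfFiniteType_fiberToSpecResidueField π s
  haveI : IsLocallyNoetherian (π.fiber s) :=
    LocallyOfFiniteType.isLocallyNoetherian (π.fiberToSpecResidueField s)
  have hd : ∀ z : ↑((g ≫ π).fiber s), FlatMor.fibreDimAt φ z = ((0 : ℕ) : WithBot ℕ∞) := by
    intro z
    apply le_antisymm
    · rw [FibQF.fibreDimAt_le_zero_iff]
      exact φ.quasiFiniteAt z
    · exact_mod_cast ValDim.zero_le_localDim _
  have h1 := FlatRelDim.localDim_eq_add φ 0 hd ((g ≫ π).asFiber u)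
  have h2 := localDim_fiber_affineSpace n Y s (φ ((g ≫ π).asFiber u))
  unfold FlatMor.fibreDimAt
  refine h1.trans ?_
  refine (congrArg (· + ((0 : ℕ) : WithBot ℕ∞)) h2).trans ?_
  simp

end Groth.Agent.Lib.Helper14.CMDim
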