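import Mathlib
import Groth.Agent.Lib.Helper14.CMDim
import Groth.Agent.Lib.Helper14.CMOpenness

/-!
# Local structure and fibre dimension of Cohen–Macaulay morphisms
-/

set_option autoImplicit false
set_option linter.style.haveILetI false
universe u

open AlgebraicGeometry CategoryTheory Limits IsLocalRing

namespace Groth.Agent.Lib.Helper14.CMDim

open Groth.Agent.Lib.Helper12

variable {X Y : Scheme.{u}} (f : X ⟶ Y)

/-- around a Cohen–Macaulay point of a morphism locally of finite presentation: a flat locally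
quasi-finite morphism to an affine space, whose dimension is the fibre dimension at all nearby
points. -/
theorem exists_flat_quasiFinite [LocallyOfFinitePresentation f] (x : X)
    (hcm : MoreMor.IsCMAt f x) :
    ∃ (n : ℕ) (U : X.Opens) (_ : x ∈ U) (g : (U : Scheme.{u}) ⟶ 𝔸(ULift.{u} (Fin n); Y)),
      g ≫ (𝔸(ULift.{u} (Fin n); Y) ↘ Y) = U.ι ≫ f ∧ Flat g ∧ LocallyQuasiFinite g ∧
      (∀ u : U, FlatMor.fibreDimAt (U.ι ≫ f) u = (n : WithBot ℕ∞)) ∧
      (∀ u : U, FlatMor.fibreDimAt f u.1 = (n : WithBot ℕ∞)) ∧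
      ∀ u : U, MoreMor.IsCMAt f u.1 := by
  obtain ⟨n, U, hxU, g, hover, hqf, hfl⟩ :=
    Groth.Agent.Lib.Helper14.CMOpenness.exists_quasiFinite_flat f x hcm
  haveI : LocallyOfFiniteType (g ≫ 𝔸(ULift.{u} (Fin n); Y) ↘ Y) := by
    rw [hover]
    infer_instance
  haveI : LocallyOfFiniteType g :=
    locallyOfFiniteType_of_comp g (𝔸(ULift.{u} (Fin n); Y) ↘ Y)
  haveI : Flat g := (Flat.iff_flat_stalkMap g).2 hfl
  have h1 : ∀ u : U, FlatMor.fibreDimAt (U.ι ≫ f) u = (n : WithBot ℕ∞) := by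
    intro u
    rw [← FibreDimStage.fibreDimAt_congr hover u]
    exact fibreDimAt_comp_over n g u
  refine ⟨n, U, hxU, g, hover, inferInstance, hqf, h1, ?_, ?_⟩
  · intro u
    rw [← h1 u]
    exact (Equidim.fibreDimAt_comp_openImmersion U.ι f u).symm
  · intro u
    exact Groth.Agent.Lib.Helper14.CMOpenness.isCMAt_of_quasiFiniteAt_flat f n U g hover u
      (g.quasiFiniteAt u) (hfl u)

/-- the fibre dimension of a Cohen–Macaulay morphism is locally constant. -/
theorem isLocallyConstant_fibreDimAt [LocallyOfFinitePresentation f]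
    (hcm : ∀ x : X, MoreMor.IsCMAt f x) :
    IsLocallyConstant (fun x : ↑X => FlatMor.fibreDimAt f x) := by
  rw [IsLocallyConstant.iff_exists_open]
  intro x
  obtain ⟨n, U, hxU, g, -, -, -, -, h2, -⟩ := exists_flat_quasiFinite f x (hcm x)
  refine ⟨U, U.2, hxU, ?_⟩
  intro x' hx'
  change FlatMor.fibreDimAt f x' = FlatMor.fibreDimAt f x
  rw [h2 ⟨x', hx'⟩, h2 ⟨x, hxU⟩]

/-- the dimension formula for Cohen–Macaulay morphisms. -/
theorem localDim_eq_add_fibreDimAt [IsLocallyNoetherian X] [IsLocallyNoetherian Y]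
    [LocallyOfFiniteType f] (hf : ∀ x : X, MoreMor.IsCMAt f x) (x : X) :
    FlatMor.localDim ↑X x = FlatMor.localDim ↑Y (f x) + FlatMor.fibreDimAt f x := by
  haveI : LocallyOfFinitePresentation f :=
    LocallyOfFinitePresentation.iff_locallyOfFiniteType.2 inferInstance
  obtain ⟨n, U, hxU, g, -, -, -, h1, h2, -⟩ := exists_flat_quasiFinite f x (hf x)
  haveI : Flat f := (Flat.iff_flat_stalkMap f).2 (fun x => (hf x).1)
  have h3 := FlatRelDim.localDim_eq_add (U.ι ≫ f) n h1 ⟨x, hxU⟩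
  have h4 := SchemeDimFT.localDim_eq_of_isOpenEmbedding U.ι U.ι.isOpenEmbedding ⟨x, hxU⟩
  rw [h2 ⟨x, hxU⟩]
  exact h4.symm.trans h3

end Groth.Agent.Lib.Helper14.CMDim
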