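import Mathlib
import Groth.Agent.Lib.Helper14.GrpCM
import Groth.Agent.Lib.Helper14.CMDim2
import Groth.Agent.Lib.Helper12.ChevalleyCor
import Groth.Agent.S9358

/-!
# The fibre dimension of a flat group scheme locally of finite presentation is locally constant
-/

set_option autoImplicit false
set_option linter.style.haveILetI false
universe u v

open CategoryTheory MonoidalCategory CartesianMonoidalCategory MonObj Limits AlgebraicGeometry

namespace Groth.Agent.Lib.Helper14.GrpDim

open Groth.Agent.Lib.Helper14.GrpCM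

variable {S : Scheme.{u}} (G : Over S) [GrpObj G]

theorem isPullback_fst_mul_left : IsPullback (fst G G).left (μ[G]).left G.hom G.hom := by
  simpa using (isPullback_fst_mul G).map (Over.forget _)

theorem isPullback_snd_mul_left : IsPullback (snd G G).left (μ[G]).left G.hom G.hom := by
  simpa using (isPullback_snd_mul G).map (Over.forget _)

theorem isPullback_fst_snd_left : IsPullback (fst G G).left (snd G G).left G.hom G.hom := by
  simpa using (isPullback_fst_snd G).map (Over.forget _)

/-- the local dimension of the fibres is constant along the fibres. -/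
theorem fibreDimAt_eq_of_hom_eq [LocallyOfFiniteType G.hom] (x y : G.left)
    (hxy : G.hom x = G.hom y) :
    FlatMor.fibreDimAt G.hom x = FlatMor.fibreDimAt G.hom y := by
  obtain ⟨z, hz1, hz2⟩ := Groth.Agent.Lib.Helper14.GrpdCM.exists_preimage_of_isPullback
    (isPullback_fst_snd_left G) x y hxy
  have e1 := (Groth.Agent.S9358.result G.hom G.hom (fst G G).left (μ[G]).left
    (isPullback_fst_mul_left G) 0).1 z
  have e2 := (Groth.Agent.S9358.result G.hom G.hom (snd G G).left (μ[G]).left
    (isPullback_snd_mul_left G) 0).1 z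
  rw [← hz1, ← hz2]
  exact e1.symm.trans e2

/-- the fibres of a group scheme locally of finite type are Cohen–Macaulay. -/
theorem cm_fibre [LocallyOfFiniteType G.hom] (x : G.left) :
    LocCoh.IsCohenMacaulayLocalRing
      ((G.hom.fiber (G.hom x)).presheaf.stalk (G.hom.asFiber x)) := by
  set s := G.hom x with hs
  letI : GrpObj (Over.mk G.hom) := ‹GrpObj G›
  letI : GrpObj (Over.mk (pullback.snd G.hom (S.fromSpecResidueField s))) :=
    Over.grpObjMkPullbackSnd
  haveI : LocallyOfFiniteType (Over.mk (pullback.snd G.hom (S.fromSpecResidueField s))).hom := by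
    change LocallyOfFiniteType (pullback.snd G.hom (S.fromSpecResidueField s))
    infer_instance
  exact stalk_cm_of_grpObj (S.residueField s)
    (Over.mk (pullback.snd G.hom (S.fromSpecResidueField s))) (G.hom.asFiber x)

theorem isCMAt [Flat G.hom] [LocallyOfFiniteType G.hom] (x : G.left) :
    MoreMor.IsCMAt G.hom x :=
  ⟨Flat.stalkMap G.hom x, cm_fibre G x⟩

theorem isLocallyConstant_fibreDimAt [Flat G.hom] [LocallyOfFinitePresentation G.hom] :
    IsLocallyConstant (fun x : G.left => FlatMor.fibreDimAt G.hom x) :=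
  Groth.Agent.Lib.Helper14.CMDim.isLocallyConstant_fibreDimAt G.hom (isCMAt G)

theorem hom_unit_apply (s : S) : G.hom ((η[G]).left s) = s := by
  have h : (η[G]).left ≫ G.hom = 𝟙 S := Over.w η[G]
  rw [← Scheme.Hom.comp_apply, h]
  rfl

theorem dim_fibre_eq [LocallyOfFiniteType G.hom] (s : S) :
    topologicalKrullDim ↥(G.hom.base ⁻¹' {s}) = FlatMor.fibreDimAt G.hom ((η[G]).left s) := by
  rw [← IsHomeomorph.topologicalKrullDim_eq _ (G.hom.fiberHomeo s).isHomeomorph,
    Groth.Agent.Lib.Helper9.topologicalKrullDim_eq_iSup_localDim]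
  have hconst : ∀ z : G.hom.fiber s, FlatMor.localDim (G.hom.fiber s) z =
      FlatMor.fibreDimAt G.hom ((η[G]).left s) := by
    intro z
    rw [← Groth.Agent.Lib.Helper12.ChevalleyCor.fibreDimAt_eq_localDim]
    apply fibreDimAt_eq_of_hom_eq
    rw [hom_unit_apply]
    have h3 : G.hom.fiberι s z ∈ Set.range (G.hom.fiberι s) := ⟨z, rfl⟩
    rw [Scheme.Hom.range_fiberι] at h3
    exact h3
  haveI : Nonempty (G.hom.fiber s) :=
    ⟨(G.hom.fiberHomeo s).symm ⟨(η[G]).left s, hom_unit_apply G s⟩⟩
  simp_rw [hconst]
  exact ciSup_const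

theorem isLocallyConstant_dim_fibre [Flat G.hom] [LocallyOfFinitePresentation G.hom] :
    IsLocallyConstant (fun s : S => topologicalKrullDim ↥(G.hom.base ⁻¹' {s})) := by
  let e : S ⟶ G.left := (η[G]).left
  have h1 : IsLocallyConstant (fun s : S => FlatMor.fibreDimAt G.hom (e s)) :=
    (isLocallyConstant_fibreDimAt G).comp_continuous e.continuous
  have h2 : (fun s : S => topologicalKrullDim ↥(G.hom.base ⁻¹' {s})) =
      (fun s : S => FlatMor.fibreDimAt G.hom (e s)) := by
    funext s
    exact dim_fibre_eq G s
  rw [h2]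
  exact h1

end Groth.Agent.Lib.Helper14.GrpDim
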