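import Mathlib
import Groth.Agent.Lib.Helper6.CartierEq3
import Groth.Agent.Lib.Helper12.DimFT2
import Groth.Agent.Lib.Helper21.SepSmoothE
import Groth.Agent.Lib.Helper14.CatenaryDim
import Groth.Prelude.Def_Flat

/-!
# Regular local ring with separable residue field iff adapted parameters (helper14)
-/

set_option autoImplicit false
universe u

open scoped TensorProduct
open IsLocalRing

namespace Groth.Agent.Lib.Helper14.AdaptedParam

variable (k A : Type u) [Field k] [CommRing A] [Algebra k A] [Algebra.FiniteType k A]
  (p : Ideal A) [p.IsPrime]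

instance : Algebra.EssFiniteType k p.ResidueField := by
  haveI : Algebra.EssFiniteType k (Localization.AtPrime p) :=
    Algebra.EssFiniteType.comp k A (Localization.AtPrime p)
  haveI : Algebra.FiniteType (Localization.AtPrime p) p.ResidueField :=
    Algebra.FiniteType.of_surjective (Algebra.ofId _ _) IsLocalRing.residue_surjective
  exact Algebra.EssFiniteType.comp k (Localization.AtPrime p) p.ResidueField

/-- The dimension equation `n = r + trdeg`. -/
theorem eq_add_trdeg (n r : ℕ)
    (hn : FlatMor.localDim (PrimeSpectrum A) ⟨p, inferInstance⟩ = (n : WithBot ℕ∞))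
    (hr : ringKrullDim (Localization.AtPrime p) = (r : WithBot ℕ∞)) :
    ∃ t : ℕ, Algebra.trdeg k p.ResidueField = t ∧ n = r + t := by
  obtain ⟨t, ht, -, hco⟩ := Groth.Agent.Lib.Helper12.DimFT2.exists_trdeg_residueField k A p
  refine ⟨t, ht, ?_⟩
  rw [Groth.Agent.Lib.Helper12.DimFT2.localDim_primeSpectrum k A ⟨p, inferInstance⟩, hco] at hn
  have h1 := IsLocalization.AtPrime.ringKrullDim_eq_height p (Localization.AtPrime p)
  rw [hr] at h1
  have h2 : (p.height : ℕ∞) = r := by exact_mod_cast h1.symm
  rw [← PrimeSpectrum.height_eq_orderHeight] at hn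
  simp only at hn
  rw [h2] at hn
  have : ((r + t : ℕ) : WithBot ℕ∞) = (n : WithBot ℕ∞) := by
    rw [← hn]; push_cast; rfl
  exact_mod_cast this.symm

/-- `finrank H¹ + trdeg = finrank Ω` for the residue field. -/
theorem cartier (t : ℕ) (ht : Algebra.trdeg k p.ResidueField = t) :
    Module.Finite p.ResidueField (Algebra.H1Cotangent k p.ResidueField) ∧
      Module.Finite p.ResidueField Ω[p.ResidueField⁄k] ∧
      Module.finrank p.ResidueField (Algebra.H1Cotangent k p.ResidueField) + t =
        Module.finrank p.ResidueField Ω[p.ResidueField⁄k] := by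
  obtain ⟨h1, h2, m, hm, h3⟩ := Groth.Agent.Lib.Helper6.CartierEq.exact_of_essFiniteType k
    p.ResidueField
  have : m = t := by
    have : (m : Cardinal.{u}) = (t : Cardinal.{u}) := hm.symm.trans ht
    exact_mod_cast this
  subst this
  exact ⟨h1, h2, h3⟩

theorem setOf_lt_eq (r t : ℕ) :
    {i : Fin (r + t) | (i : ℕ) < r} = Set.range (Fin.castAdd t) := by
  ext i
  simp only [Set.mem_setOf_eq, Set.mem_range]
  constructor
  · intro h
    exact ⟨⟨i, h⟩, Fin.ext rfl⟩
  · rintro ⟨j, rfl⟩
    exact j.2

theorem setOf_le_eq (r t : ℕ) :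
    {i : Fin (r + t) | r ≤ (i : ℕ)} = Set.range (Fin.natAdd r) := by
  ext i
  simp only [Set.mem_setOf_eq, Set.mem_range]
  constructor
  · intro h
    refine ⟨⟨i - r, by omega⟩, Fin.ext ?_⟩
    simp only [Fin.natAdd_mk]
    omega
  · rintro ⟨j, rfl⟩
    simp

/-- (⇐) -/
theorem backward (r t : ℕ) (ht : Algebra.trdeg k p.ResidueField = t)
    (hr : ringKrullDim (Localization.AtPrime p) = (r : WithBot ℕ∞))
    (g : Fin (r + t) → Localization.AtPrime p)
    (hg1 : Ideal.span (g '' {i : Fin (r + t) | (i : ℕ) < r}) =
      IsLocalRing.maximalIdeal (Localization.AtPrime p))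
    (hg2 : Submodule.span p.ResidueField ((fun i : Fin (r + t) =>
      KaehlerDifferential.D k p.ResidueField (IsLocalRing.residue (Localization.AtPrime p) (g i))) ''
        {i : Fin (r + t) | r ≤ (i : ℕ)}) = ⊤) :
    IsRegularLocalRing (Localization.AtPrime p) ∧
      Algebra.IsGeometricallyReduced k p.ResidueField := by
  haveI : IsNoetherianRing A := Algebra.FiniteType.isNoetherianRing k A
  haveI : IsNoetherianRing (Localization.AtPrime p) :=
    IsLocalization.isNoetherianRing p.primeCompl _ inferInstance
  constructor
  · apply IsRegularLocalRing.of_spanFinrank_maximalIdeal_le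
    rw [hr, ← hg1]
    have hfin : (g '' {i : Fin (r + t) | (i : ℕ) < r}).Finite := Set.toFinite _
    have h1 := Submodule.spanFinrank_span_le_ncard_of_finite (R := Localization.AtPrime p) hfin
    have h2 : (g '' {i : Fin (r + t) | (i : ℕ) < r}).ncard ≤ r := by
      refine (Set.ncard_image_le (Set.toFinite _)).trans ?_
      rw [setOf_lt_eq, Set.ncard_range_of_injective (Fin.castAdd_injective r t)]
      simp
    have : (Ideal.span (g '' {i : Fin (r + t) | (i : ℕ) < r})).spanFinrank ≤ r := h1.trans h2
    exact_mod_cast this
  · obtain ⟨hf1, hf2, hc⟩ := cartier k A p t ht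
    have hle : Module.finrank p.ResidueField Ω[p.ResidueField⁄k] ≤ t := by
      set S := (fun i : Fin (r + t) =>
        KaehlerDifferential.D k p.ResidueField (IsLocalRing.residue (Localization.AtPrime p) (g i))) ''
          {i : Fin (r + t) | r ≤ (i : ℕ)} with hS
      have hfin : S.Finite := Set.toFinite _
      have h1 : Module.finrank p.ResidueField Ω[p.ResidueField⁄k] ≤ S.ncard := by
        classical
        haveI : Fintype S := hfin.fintype
        have h3 := finrank_span_le_card (R := p.ResidueField) S
        rw [hg2, finrank_top] at h3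
        rwa [Set.ncard_eq_toFinset_card']
      have h2 : S.ncard ≤ t := by
        refine (Set.ncard_image_le (Set.toFinite _)).trans ?_
        rw [setOf_le_eq, Set.ncard_range_of_injective (Fin.natAdd_injective t r)]
        simp
      exact h1.trans h2
    have h0 : Module.finrank p.ResidueField (Algebra.H1Cotangent k p.ResidueField) = 0 := by
      omega
    haveI : Subsingleton (Algebra.H1Cotangent k p.ResidueField) :=
      Module.finrank_zero_iff.mp h0
    have hfs : Algebra.FormallySmooth k p.ResidueField := ⟨inferInstance, inferInstance⟩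
    exact Groth.Agent.Lib.Helper21.SepSmooth.formallySmooth_iff_geomReduced.mp hfs

/-- (⇒) -/
theorem forward (r t : ℕ) (ht : Algebra.trdeg k p.ResidueField = t)
    (hr : ringKrullDim (Localization.AtPrime p) = (r : WithBot ℕ∞))
    [hreg : IsRegularLocalRing (Localization.AtPrime p)]
    [hgr : Algebra.IsGeometricallyReduced k p.ResidueField] :
    ∃ g : Fin (r + t) → Localization.AtPrime p,
      Ideal.span (g '' {i : Fin (r + t) | (i : ℕ) < r}) =
        IsLocalRing.maximalIdeal (Localization.AtPrime p) ∧
      Submodule.span p.ResidueField ((fun i : Fin (r + t) =>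
        KaehlerDifferential.D k p.ResidueField
          (IsLocalRing.residue (Localization.AtPrime p) (g i))) ''
          {i : Fin (r + t) | r ≤ (i : ℕ)}) = ⊤ := by
  classical
  -- generators of the maximal ideal
  have hfg : (maximalIdeal (Localization.AtPrime p)).FG :=
    (isNoetherianRing_iff_ideal_fg _).mp inferInstance _
  obtain ⟨s, hscard, hs⟩ := Submodule.FG.exists_span_finset_card_eq_spanFinrank hfg
  have hsr : s.card = r := by
    have h1 := hreg.spanFinrank_maximalIdeal
    rw [hr] at h1
    rw [hscard]
    exact_mod_cast h1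
  let g₁ : Fin r → Localization.AtPrime p := fun i => ((s.equivFinOfCardEq hsr).symm i : _)
  have hg₁ : Set.range g₁ = (s : Set (Localization.AtPrime p)) := by
    ext x
    simp only [Set.mem_range, g₁, Finset.mem_coe]
    constructor
    · rintro ⟨i, rfl⟩
      exact ((s.equivFinOfCardEq hsr).symm i).2
    · intro hx
      exact ⟨s.equivFinOfCardEq hsr ⟨x, hx⟩, by simp⟩
  -- differentials
  obtain ⟨hf1, hf2, hc⟩ := cartier k A p t ht
  have hfs : Algebra.FormallySmooth k p.ResidueField :=
    Groth.Agent.Lib.Helper21.SepSmooth.formallySmooth_iff_geomReduced.mpr hgr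
  have h0 : Module.finrank p.ResidueField (Algebra.H1Cotangent k p.ResidueField) = 0 :=
    Module.finrank_zero_of_subsingleton
  have hspan : Submodule.span p.ResidueField
      (Set.range (KaehlerDifferential.D k p.ResidueField)) = ⊤ :=
    KaehlerDifferential.span_range_derivation k p.ResidueField
  haveI : Module.Finite p.ResidueField (Submodule.span p.ResidueField
      (Set.range (KaehlerDifferential.D k p.ResidueField))) := by
    rw [hspan]; infer_instance
  obtain ⟨f, hfmem, hfspan, -⟩ := Submodule.exists_fun_fin_finrank_span_eq p.ResidueField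
    (Set.range (KaehlerDifferential.D k p.ResidueField))
  have hcard : Module.finrank p.ResidueField (Submodule.span p.ResidueField
      (Set.range (KaehlerDifferential.D k p.ResidueField))) = t := by
    rw [hspan, finrank_top]; omega
  choose x hx using hfmem
  have hy : ∀ j, ∃ y : Localization.AtPrime p, IsLocalRing.residue _ y = x j :=
    fun j => IsLocalRing.residue_surjective (x j)
  choose y hy using hy
  let g₂ : Fin t → Localization.AtPrime p := fun j => y (Fin.cast hcard.symm j)
  refine ⟨Fin.append g₁ g₂, ?_, ?_⟩
  · rw [setOf_lt_eq, ← Set.range_comp]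
    have : Fin.append g₁ g₂ ∘ Fin.castAdd t = g₁ := by
      funext i; simp [Fin.append_left]
    rw [this, hg₁]
    exact hs
  · rw [setOf_le_eq, ← Set.range_comp]
    have : (fun i : Fin (r + t) => KaehlerDifferential.D k p.ResidueField
          (IsLocalRing.residue (Localization.AtPrime p) (Fin.append g₁ g₂ i))) ∘ Fin.natAdd r =
        f ∘ Fin.cast hcard.symm := by
      funext j
      simp only [Function.comp_apply, Fin.append_right, g₂, hy, hx]
    have hsurj : Function.Surjective (Fin.cast hcard.symm) :=
      (finCongr hcard.symm).surjective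
    rw [this, Set.range_comp, hsurj.range_eq, Set.image_univ, hfspan, hspan]

end Groth.Agent.Lib.Helper14.AdaptedParam
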