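import Mathlib
import Groth.Prelude.Def_EGA4b
import Groth.Agent.Lib.Helper14.FiniteDomain

set_option autoImplicit false
universe u

namespace Groth.Agent.Lib.Helper14.FibreLocal

open TensorProduct Groth.Agent.Lib.Helper14.FiniteDomain

/-- all local rings of `X` at primes satisfy `P`. -/
def AllLoc (P : ∀ (X : Type u) [CommRing X], Prop) (X : Type u) [CommRing X] : Prop :=
  ∀ (𝔮 : Ideal X) [𝔮.IsPrime], P (Localization.AtPrime 𝔮)

/-- transfer of "all local rings have `P`" along a ring isomorphism. -/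
theorem allLoc_of_ringEquiv (P : ∀ (X : Type u) [CommRing X], Prop)
    (hP : ∀ (X Y : Type u) [CommRing X] [CommRing Y], (X ≃+* Y) → P X → P Y)
    {X Y : Type u} [CommRing X] [CommRing Y] (e : X ≃+* Y)
    (h : AllLoc P X) : AllLoc P Y := by
  intro 𝔮 h𝔮
  haveI : (𝔮.comap (e : X →+* Y)).IsPrime := Ideal.comap_isPrime _ _
  exact hP _ _ (Localization.localRingEquiv (𝔮.comap (e : X →+* Y)) 𝔮 e rfl)
    (h (𝔮.comap (e : X →+* Y)))

/-- the comparison isomorphism `K ⊗[κ] (κ ⊗[A] B_n) ≃ (B ⊗[A] K) ⊗[B] B_n`. -/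
noncomputable def locEquiv (A B : Type u) [CommRing A] [CommRing B] [Algebra A B]
    (p : Ideal A) [p.IsPrime] (K : Type u) [Field K] [Algebra p.ResidueField K] [Algebra A K]
    [IsScalarTower A p.ResidueField K] (Bn : Type u) [CommRing Bn] [Algebra B Bn] [Algebra A Bn]
    [IsScalarTower A B Bn] :
    K ⊗[p.ResidueField] p.Fiber Bn ≃+* (B ⊗[A] K) ⊗[B] Bn :=
  (((Algebra.TensorProduct.cancelBaseChange A p.ResidueField p.ResidueField K Bn).toRingEquiv.trans
    (Algebra.TensorProduct.comm A K Bn).toRingEquiv).trans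
    (Algebra.TensorProduct.cancelBaseChange A B B Bn K).symm.toRingEquiv).trans
    (Algebra.TensorProduct.comm B Bn (B ⊗[A] K)).toRingEquiv

/-- the comparison isomorphism `K ⊗[κ] (κ ⊗[A] B) ≃ B ⊗[A] K`. -/
noncomputable def fibEquiv (A B : Type u) [CommRing A] [CommRing B] [Algebra A B]
    (p : Ideal A) [p.IsPrime] (K : Type u) [Field K] [Algebra p.ResidueField K] [Algebra A K]
    [IsScalarTower A p.ResidueField K] :
    K ⊗[p.ResidueField] p.Fiber B ≃+* B ⊗[A] K :=
  (Algebra.TensorProduct.cancelBaseChange A p.ResidueField p.ResidueField K B).toRingEquiv.trans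
    (Algebra.TensorProduct.comm A K B).toRingEquiv

/-- Local-to-global for local properties of the fibre rings. -/
theorem fibre_local_to_global (A B : Type u) [CommRing A] [CommRing B] [Algebra A B]
    (P : ∀ (X : Type u) [CommRing X], Prop)
    (hP : ∀ (X Y : Type u) [CommRing X] [CommRing Y], (X ≃+* Y) → P X → P Y)
    (p : Ideal A) [p.IsPrime] (K : Type u) [Field K] [Algebra p.ResidueField K]
    (h : ∀ (n : Ideal B) [n.IsMaximal],
      AllLoc P (K ⊗[p.ResidueField] p.Fiber (Localization.AtPrime n))) :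
    AllLoc P (K ⊗[p.ResidueField] p.Fiber B) := by
  letI : Algebra A K := ((algebraMap p.ResidueField K).comp (algebraMap A p.ResidueField)).toAlgebra
  haveI : IsScalarTower A p.ResidueField K := IsScalarTower.of_algebraMap_eq (fun _ => rfl)
  apply allLoc_of_ringEquiv P hP (fibEquiv A B p K).symm
  intro 𝔮 h𝔮
  have hne : 𝔮.comap (algebraMap B (B ⊗[A] K)) ≠ ⊤ := Ideal.comap_ne_top _ h𝔮.ne_top
  obtain ⟨n, hn, hqn⟩ := Ideal.exists_le_maximal _ hne
  haveI := hn
  have hS : AllLoc P ((B ⊗[A] K) ⊗[B] Localization.AtPrime n) :=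
    allLoc_of_ringEquiv P hP (locEquiv A B p K (Localization.AtPrime n)) (h n)
  have hdisj : Disjoint
      ((Algebra.algebraMapSubmonoid (B ⊗[A] K) n.primeCompl : Submonoid (B ⊗[A] K)) :
        Set (B ⊗[A] K)) (𝔮 : Set (B ⊗[A] K)) := by
    rw [Set.disjoint_left]
    rintro _ ⟨b, hb, rfl⟩ hx
    exact hb (hqn hx)
  exact (forall_localization_iff (Algebra.algebraMapSubmonoid (B ⊗[A] K) n.primeCompl)
    ((B ⊗[A] K) ⊗[B] Localization.AtPrime n) P hP).mp hS 𝔮 hdisj

end Groth.Agent.Lib.Helper14.FibreLocal
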