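import Mathlib
import Groth.Prelude.Def_EGA4b
import Groth.Agent.Lib.Helper14.ComplIadic
import Groth.Agent.Lib.Helper14.FibreLocal
import Groth.Agent.Lib.Helper14.NormalHomComp
import Groth.Agent.Lib.Helper7.FibreLoc
import Groth.Agent.S19858

set_option autoImplicit false
universe u

namespace Groth.Agent.Lib.Helper14.IadicFibres

open IsLocalRing TensorProduct EGA4 Groth.Agent.Lib.Helper14.ComplFlat
  Groth.Agent.Lib.Helper14.ComplIadic

section
variable (A : Type u) [CommRing A] [IsNoetherianRing A] (I : Ideal A)
  (n : Ideal (AdicCompletion I A)) [hn : n.IsMaximal]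
  (m : Ideal A) [m.IsPrime] [n.LiesOver m]
  [Algebra (Localization.AtPrime m) (Localization.AtPrime n)]
  [Localization.AtPrime.IsLiesOverAlgebra m n]

include hn in
/-- the `A_m`-algebra isomorphism `Cpl A_m ≃ Cpl Â_n`. -/
theorem nonempty_cplEquiv :
    Nonempty (Cpl (Localization.AtPrime m) ≃ₐ[Localization.AtPrime m]
      Cpl (Localization.AtPrime n)) := by
  haveI : IsNoetherianRing (AdicCompletion I A) :=
    Groth.Agent.S0542.result A I (IsNoetherian.noetherian _)
  letI := (cplMap (Localization.AtPrime m) (Localization.AtPrime n)).toAlgebra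
  haveI := cplMap_isScalarTower (Localization.AtPrime m) (Localization.AtPrime n)
  exact ⟨AlgEquiv.ofBijective (IsScalarTower.toAlgHom (Localization.AtPrime m)
    (Cpl (Localization.AtPrime m)) (Cpl (Localization.AtPrime n)))
    (cplMap_localization_bijective A I n m)⟩

include hn in
theorem isNormalHom_localization_of_formalFibres
    (h : EGA4.HasGeomNormalFormalFibres (Localization.AtPrime m)) :
    EGA4.IsNormalHom (Localization.AtPrime m) (Localization.AtPrime n) := by
  haveI : IsNoetherianRing (AdicCompletion I A) :=
    Groth.Agent.S0542.result A I (IsNoetherian.noetherian _)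
  obtain ⟨e⟩ := nonempty_cplEquiv A I n m
  have h1 : EGA4.IsNormalHom (Localization.AtPrime m) (Cpl (Localization.AtPrime m)) :=
    ⟨inferInstance, h⟩
  have h2 : EGA4.IsNormalHom (Localization.AtPrime m) (Cpl (Localization.AtPrime n)) :=
    Groth.Agent.Lib.Helper7.FibreLoc.isNormalHom_of_algEquiv e h1
  haveI : Module.FaithfullyFlat (Localization.AtPrime n) (Cpl (Localization.AtPrime n)) :=
    Module.FaithfullyFlat.of_flat_of_isLocalHom
  haveI : IsNoetherianRing (Cpl (Localization.AtPrime n)) :=
    Groth.Agent.Lib.Helper14.ComplEtale.isNoetherianRing_completion _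
  exact Groth.Agent.S19858.result (Localization.AtPrime m) (Localization.AtPrime n)
    (Cpl (Localization.AtPrime n)) h2

end

/-- a field is a normal ring. -/
theorem isNormalRing_of_isIntegrallyClosed (R : Type u) [CommRing R] [IsDomain R]
    [IsIntegrallyClosed R] : EGA4.IsNormalRing R := by
  intro p hp
  exact ⟨IsLocalization.isDomain_of_le_nonZeroDivisors (M := p.primeCompl) _
      p.primeCompl_le_nonZeroDivisors,
    isIntegrallyClosed_of_isLocalization (Localization.AtPrime p) p.primeCompl
      p.primeCompl_le_nonZeroDivisors⟩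

open Groth.Agent.Lib.Helper14.FibreLocal in
/-- a localization is a normal homomorphism. -/
theorem isNormalHom_of_isLocalization (A : Type u) [CommRing A] (M : Submonoid A)
    (S : Type u) [CommRing S] [Algebra A S] [IsLocalization M S] : EGA4.IsNormalHom A S := by
  refine ⟨IsLocalization.flat S M, ?_⟩
  intro p hp K _ _ hfin
  letI : Algebra A K := ((algebraMap p.ResidueField K).comp (algebraMap A p.ResidueField)).toAlgebra
  haveI : IsScalarTower A p.ResidueField K := IsScalarTower.of_algebraMap_eq (fun _ => rfl)
  have h1 : EGA4.IsNormalRing (K ⊗[A] S) :=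
    Groth.Agent.Lib.Helper14.isNormalRing_of_isLocalization (Algebra.algebraMapSubmonoid K M)
      (K ⊗[A] S) (isNormalRing_of_isIntegrallyClosed K)
  exact Groth.Agent.Lib.Helper14.isNormalRing_of_ringEquiv
    (Algebra.TensorProduct.cancelBaseChange A p.ResidueField p.ResidueField K S).symm.toRingEquiv h1

open Groth.Agent.Lib.Helper14.FibreLocal in
theorem isNormalHom_adicCompletion (A : Type u) [CommRing A] [IsNoetherianRing A]
    (hA : ∀ (p : Ideal A) [p.IsPrime],
      EGA4.HasGeomNormalFormalFibres (Localization.AtPrime p)) (I : Ideal A) :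
    EGA4.IsNormalHom A (AdicCompletion I A) := by
  haveI : IsNoetherianRing (AdicCompletion I A) :=
    Groth.Agent.S0542.result A I (IsNoetherian.noetherian _)
  refine ⟨inferInstance, ?_⟩
  intro p hp K _ _ hfin
  have key := fibre_local_to_global A (AdicCompletion I A)
    (fun X _ => IsDomain X ∧ IsIntegrallyClosed X)
    (fun X Y _ _ e h => by
      obtain ⟨h1, h2⟩ := h
      exact ⟨e.symm.toMulEquiv.isDomain X, IsIntegrallyClosed.of_equiv e⟩) p K
  refine key ?_
  intro n hn
  let m : Ideal A := n.comap (algebraMap A (AdicCompletion I A))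
  haveI : m.IsPrime := Ideal.comap_isPrime _ _
  haveI : n.LiesOver m := ⟨rfl⟩
  letI := Localization.AtPrime.algebraOfLiesOver m n
  have h1 : EGA4.IsNormalHom A (Localization.AtPrime m) :=
    isNormalHom_of_isLocalization A m.primeCompl _
  have h2 : EGA4.IsNormalHom (Localization.AtPrime m) (Localization.AtPrime n) :=
    isNormalHom_localization_of_formalFibres A I n m (hA m)
  have h3 : EGA4.IsNormalHom A (Localization.AtPrime n) :=
    Groth.Agent.Lib.Helper14.NormalHomComp.isNormalHom_comp A (Localization.AtPrime m)
      (Localization.AtPrime n) h1 h2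
  exact h3.2 p K hfin

end Groth.Agent.Lib.Helper14.IadicFibres
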