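import Mathlib
import Groth.Prelude.Def_EGA4b
import Groth.Agent.Lib.Helper14.GeomReduced
import Groth.Agent.Lib.Helper14.GeomReducedFin

set_option autoImplicit false
universe u

namespace Groth.Agent.Lib.Helper14.NormalHomRed

open TensorProduct

/-- geometrically normal implies geometrically reduced. -/
theorem isGeometricallyReduced_of_isGeomNormal (k F : Type u) [Field k] [CommRing F] [Algebra k F]
    (h : EGA4.IsGeomNormal k F) : Algebra.IsGeometricallyReduced k F := by
  apply Groth.Agent.Lib.Helper14.GeomReducedFin.isGeometricallyReduced_of_forall_finite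
  intro K _ _ hfin
  exact Groth.Agent.Lib.Helper14.GeomReducedFin.isReduced_of_forall_isDomain _
    (fun p _ => (h K hfin p).1)

/-- a flat map of Noetherian rings with geometrically reduced fibres preserves reducedness under
arbitrary base change. -/
theorem isReduced_tensor_of_fibers (A A' : Type u) [CommRing A] [CommRing A'] [IsNoetherianRing A]
    [Algebra A A'] [Module.Flat A A']
    (h : ∀ (p : Ideal A) [p.IsPrime],
      Algebra.IsGeometricallyReduced p.ResidueField (p.Fiber A'))
    (B : Type u) [CommRing B] [Algebra A B] [IsReduced B] : IsReduced (A' ⊗[A] B) := by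
  apply IsReduced.tensorProduct_of_flat_of_forall_fg
  intro B₀ hB₀
  haveI : Algebra.FiniteType A B₀ := (Subalgebra.fg_iff_finiteType B₀).mp hB₀
  haveI : IsNoetherianRing B₀ := Algebra.FiniteType.isNoetherianRing A B₀
  haveI : IsReduced B₀ := isReduced_of_injective B₀.val Subtype.val_injective
  -- `B₀ ⊗[A] A'` is reduced
  haveI : IsReduced (B₀ ⊗[A] A') := by
    apply Groth.Agent.Lib.Helper14.GeomReduced.isReduced_of_flat_of_fibers B₀ (B₀ ⊗[A] A')
    intro q hq hqmin
    haveI : IsReduced (q.ResidueField ⊗[A] A') :=
      Groth.Agent.Lib.Helper14.GeomReduced.isReduced_tensor_field_of_fibers A A' h q.ResidueField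
    exact isReduced_of_injective
      ((Algebra.TensorProduct.comm B₀ (B₀ ⊗[A] A') q.ResidueField).toRingEquiv.trans
        (Algebra.TensorProduct.cancelBaseChange A B₀ B₀ q.ResidueField A').toRingEquiv)
      (RingEquiv.injective _)
  exact isReduced_of_injective (Algebra.TensorProduct.comm A A' B₀).toRingEquiv
    (Algebra.TensorProduct.comm A A' B₀).toRingEquiv.injective

end Groth.Agent.Lib.Helper14.NormalHomRed
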