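import Groth.Prelude.Def_EGA4b
import Mathlib
import Groth.Agent.Lib.Helper14.NormalSmoothAsc

/-!
# Geometric normality and separable algebraic base field extensions

* `exists_annihilator`: in a reduced Artinian ring, a maximal ideal is killed by an element outside.
* `isLocalization_quotient_map`: for `D` reduced Artinian, `m` maximal and `R` a `D`-algebra,
  `R → R ⧸ mR` is a localization.
* `isNormalRing_iff_quotients`, `isNormalRing_tensor_iff`.
* `isReduced_tensor_of_isSeparable`.
-/

set_option autoImplicit false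
universe u

namespace Groth.Agent.Lib.Helper14.GeomNormalSep

open TensorProduct
open Groth.Agent.Lib.Helper14 Groth.Agent.Lib.Helper14.NormalSmoothAsc

/-- In a reduced Artinian ring every maximal ideal is killed by an element outside it. -/
theorem exists_annihilator {D : Type*} [CommRing D] [IsArtinianRing D] [IsReduced D]
    (m : Ideal D) [hm : m.IsMaximal] : ∃ c : D, c ∉ m ∧ ∀ x ∈ m, c * x = 0 := by
  haveI : IsArtinianRing (Localization.AtPrime m) := inferInstance
  haveI : IsReduced (Localization.AtPrime m) := inferInstance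
  have hf : IsField (Localization.AtPrime m) :=
    IsArtinianRing.isField_of_isReduced_of_isLocalRing _
  have key : ∀ x ∈ m, ∃ c : D, c ∉ m ∧ c * x = 0 := by
    intro x hx
    have h0 : algebraMap D (Localization.AtPrime m) x = 0 := by
      have hmem : algebraMap D (Localization.AtPrime m) x ∈
          IsLocalRing.maximalIdeal (Localization.AtPrime m) := by
        rw [← Localization.AtPrime.map_eq_maximalIdeal]
        exact Ideal.mem_map_of_mem _ hx
      have hbot : IsLocalRing.maximalIdeal (Localization.AtPrime m) = ⊥ :=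
        IsLocalRing.isField_iff_maximalIdeal_eq.mp hf
      rw [hbot] at hmem
      exact hmem
    obtain ⟨⟨c, hc⟩, hcx⟩ := (IsLocalization.map_eq_zero_iff m.primeCompl _ x).mp h0
    exact ⟨c, hc, hcx⟩
  obtain ⟨s, hs⟩ := (isNoetherianRing_iff_ideal_fg D).mp inferInstance m
  choose! c hc hcx using key
  refine ⟨∏ x ∈ s, c x, ?_, ?_⟩
  · intro h
    obtain ⟨x, hxs, hx⟩ := hm.isPrime.prod_mem_iff.mp h
    exact hc x (hs ▸ Ideal.subset_span hxs) hx
  · intro x hx
    rw [← hs] at hx
    refine Submodule.span_induction (p := fun x _ => (∏ x ∈ s, c x) * x = 0) ?_ ?_ ?_ ?_ hx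
    · intro y hy
      obtain ⟨d, hd⟩ := Finset.dvd_prod_of_mem c hy
      rw [hd, mul_right_comm, hcx y (hs ▸ Ideal.subset_span hy), zero_mul]
    · exact mul_zero _
    · intro a b _ _ ha hb
      rw [mul_add, ha, hb, add_zero]
    · intro a b _ hb
      rw [smul_eq_mul, mul_left_comm, hb, mul_zero]

/-- For `D` reduced Artinian, `m` maximal and `R` a `D`-algebra, `R → R ⧸ mR` is a localization. -/
theorem isLocalization_quotient_map {D : Type*} [CommRing D] [IsArtinianRing D] [IsReduced D]
    (m : Ideal D) [hm : m.IsMaximal] (R : Type*) [CommRing R] [Algebra D R] :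
    IsLocalization (Algebra.algebraMapSubmonoid R m.primeCompl)
      (R ⧸ m.map (algebraMap D R)) := by
  obtain ⟨c, hc, hcm⟩ := exists_annihilator m
  have hkill : ∀ r ∈ m.map (algebraMap D R), algebraMap D R c * r = 0 := by
    intro r hr
    have hle : m.map (algebraMap D R) ≤ LinearMap.ker (LinearMap.mulLeft R (algebraMap D R c)) := by
      apply Ideal.map_le_of_le_comap
      intro x hx
      rw [Ideal.mem_comap, LinearMap.mem_ker, LinearMap.mulLeft_apply, ← map_mul, hcm x hx,
        map_zero]
    have := hle hr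
    rwa [LinearMap.mem_ker, LinearMap.mulLeft_apply] at this
  refine ⟨?_, ?_, ?_⟩
  · rintro ⟨_, d, hd, rfl⟩
    obtain ⟨e, i, hi, he⟩ := hm.exists_inv hd
    have h1 : Ideal.Quotient.mk (m.map (algebraMap D R)) (algebraMap D R (e * d)) = 1 := by
      rw [← map_one (Ideal.Quotient.mk (m.map (algebraMap D R))), Ideal.Quotient.eq]
      have : algebraMap D R (e * d) - 1 = - algebraMap D R i := by
        rw [← map_one (algebraMap D R), ← he, map_add]; ring
      rw [this]
      exact neg_mem (Ideal.mem_map_of_mem _ hi)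
    rw [Ideal.Quotient.algebraMap_eq]
    refine IsUnit.of_mul_eq_one_right (Ideal.Quotient.mk _ (algebraMap D R e)) ?_
    rw [← map_mul, ← map_mul]; exact h1
  · intro z
    obtain ⟨r, rfl⟩ := Ideal.Quotient.mk_surjective z
    exact ⟨(r, 1), by simp⟩
  · intro x y hxy
    rw [Ideal.Quotient.algebraMap_eq, Ideal.Quotient.eq] at hxy
    refine ⟨⟨algebraMap D R c, c, hc, rfl⟩, ?_⟩
    have := hkill _ hxy
    rw [mul_sub, sub_eq_zero] at this
    exact this

theorem isNormalRing_iff_quotients (D : Type u) [CommRing D] [IsArtinianRing D] [IsReduced D]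
    (R : Type u) [CommRing R] [Algebra D R] :
    EGA4.IsNormalRing R ↔
      ∀ (m : Ideal D) [m.IsMaximal], EGA4.IsNormalRing (R ⧸ m.map (algebraMap D R)) := by
  constructor
  · intro h m hm
    haveI := isLocalization_quotient_map m R
    exact isNormalRing_of_isLocalization (Algebra.algebraMapSubmonoid R m.primeCompl) _ h
  · intro h p hp
    haveI hmp : (p.comap (algebraMap D R)).IsPrime := Ideal.comap_isPrime _ _
    haveI hmm : (p.comap (algebraMap D R)).IsMaximal := IsArtinianRing.isMaximal_of_isPrime _
    set m := p.comap (algebraMap D R) with hmdef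
    have hle : m.map (algebraMap D R) ≤ p := Ideal.map_comap_le
    haveI := isLocalization_quotient_map m R
    have hsurj : Function.Surjective (Ideal.Quotient.mk (m.map (algebraMap D R))) :=
      Ideal.Quotient.mk_surjective
    haveI hp' : (p.map (Ideal.Quotient.mk (m.map (algebraMap D R)))).IsPrime := by
      apply Ideal.map_isPrime_of_surjective hsurj
      rw [Ideal.mk_ker]; exact hle
    have hcomap : (p.map (Ideal.Quotient.mk (m.map (algebraMap D R)))).comap
        (algebraMap R (R ⧸ m.map (algebraMap D R))) = p := by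
      rw [Ideal.Quotient.algebraMap_eq, Ideal.comap_map_of_surjective _ hsurj,
        ← RingHom.ker_eq_comap_bot, Ideal.mk_ker]
      exact sup_eq_left.mpr hle
    have H := normalAt_comap_of_isLocalization (Algebra.algebraMapSubmonoid R m.primeCompl)
      (R ⧸ m.map (algebraMap D R)) (p.map (Ideal.Quotient.mk (m.map (algebraMap D R))))
      (h m _)
    exact normalAt_congr hcomap H

theorem isNormalRing_tensor_iff (k' : Type u) [Field k'] (D : Type u) [CommRing D] [Algebra k' D]
    [IsArtinianRing D] [IsReduced D] (A : Type u) [CommRing A] [Algebra k' A] :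
    EGA4.IsNormalRing (D ⊗[k'] A) ↔
      ∀ (m : Ideal D) [m.IsMaximal], EGA4.IsNormalRing ((D ⧸ m) ⊗[k'] A) := by
  rw [isNormalRing_iff_quotients D (D ⊗[k'] A)]
  constructor
  · intro h m hm
    exact isNormalRing_of_ringEquiv
      (Algebra.TensorProduct.quotientTensorEquiv (R := k') k' A D m).symm.toRingEquiv (h m)
  · intro h m hm
    exact isNormalRing_of_ringEquiv
      (Algebra.TensorProduct.quotientTensorEquiv (R := k') k' A D m).toRingEquiv (h m)

theorem isReduced_tensor_of_isSeparable (k K k' : Type*) [Field k] [Field K] [Field k']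
    [Algebra k K] [Algebra k k'] [Algebra.IsSeparable k k'] : IsReduced (K ⊗[k] k') := by
  apply IsReduced.tensorProduct_of_flat_of_forall_fg
  intro B hB
  obtain ⟨s, hs⟩ := hB
  have hE : (IntermediateField.adjoin k (s : Set k')).toSubalgebra = B := by
    rw [← hs]
    exact IntermediateField.adjoin_toSubalgebra (s : Set k')
  subst hE
  set E := IntermediateField.adjoin k (s : Set k') with hEdef
  haveI : Algebra.IsSeparable k E := Algebra.isSeparable_tower_bot_of_isSeparable k E k'
  haveI : FiniteDimensional k E :=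
    IntermediateField.finiteDimensional_adjoin (fun x _ => Algebra.IsIntegral.isIntegral x)
  haveI : Algebra.FormallyUnramified k E := Algebra.FormallyUnramified.of_isSeparable k E
  haveI : Algebra.FormallyUnramified K (K ⊗[k] E) := inferInstance
  haveI : Algebra.EssFiniteType K (K ⊗[k] E) := inferInstance
  have : IsReduced (K ⊗[k] E) := Algebra.FormallyUnramified.isReduced_of_field K (K ⊗[k] E)
  exact this

section main
variable (k : Type u) [Field k] (k' : Type u) [Field k']
    [Algebra k k'] [Algebra.IsSeparable k k'] (A : Type u) [CommRing A] [Algebra k' A]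
    [Algebra k A] [IsScalarTower k k' A]

/-- the comparison ring isomorphism `(k' ⊗[k] K) ⊗[k'] A ≃ K ⊗[k] A`. -/
noncomputable def cmpEquiv (K : Type u) [Field K] [Algebra k K] :
    ((k' ⊗[k] K) ⊗[k'] A) ≃+* (K ⊗[k] A) :=
  ((Algebra.TensorProduct.comm k' (k' ⊗[k] K) A).toRingEquiv.trans
    (Algebra.TensorProduct.cancelBaseChange k k' k' A K).toRingEquiv).trans
    (Algebra.TensorProduct.comm k A K).toRingEquiv

include k in
omit [IsScalarTower k k' A] [Algebra k A] [Algebra k' A] in
theorem artinian_reduced (K : Type u) [Field K] [Algebra k K] [Module.Finite k K] :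
    IsArtinianRing (k' ⊗[k] K) ∧ IsReduced (k' ⊗[k] K) := by
  haveI : Module.Finite k' (k' ⊗[k] K) := inferInstance
  refine ⟨IsArtinianRing.of_finite k' _, ?_⟩
  haveI := isReduced_tensor_of_isSeparable k K k'
  exact isReduced_of_injective (Algebra.TensorProduct.comm k k' K).toRingEquiv.toRingHom
    (Algebra.TensorProduct.comm k k' K).injective

theorem geomNormal_descend (h' : EGA4.IsGeomNormal k' A) : EGA4.IsGeomNormal k A := by
  intro K _ _ hfin
  obtain ⟨hart, hred⟩ := artinian_reduced k k' K
  have hD : EGA4.IsNormalRing ((k' ⊗[k] K) ⊗[k'] A) := by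
    rw [isNormalRing_tensor_iff k' (k' ⊗[k] K) A]
    intro m hm
    letI : Field ((k' ⊗[k] K) ⧸ m) := Ideal.Quotient.field m
    haveI : Module.Finite k' (k' ⊗[k] K) := inferInstance
    exact h' ((k' ⊗[k] K) ⧸ m) (inferInstance : Module.Finite k' ((k' ⊗[k] K) ⧸ m))
  exact isNormalRing_of_ringEquiv (cmpEquiv k k' A K) hD

theorem geomNormal_ascend_aux (h : EGA4.IsGeomNormal k A) (K' : Type u) [Field K'] [Algebra k' K']
    (K₀ : Type u) [Field K₀] [Algebra k K₀] [Module.Finite k K₀]
    (φ : k' ⊗[k] K₀ →ₐ[k'] K') (hφ : Function.Surjective φ) :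
    EGA4.IsNormalRing (K' ⊗[k'] A) := by
  obtain ⟨hart, hred⟩ := artinian_reduced k k' K₀
  have h1 : EGA4.IsNormalRing (K₀ ⊗[k] A) := h K₀ inferInstance
  have h2 : EGA4.IsNormalRing ((k' ⊗[k] K₀) ⊗[k'] A) :=
    isNormalRing_of_ringEquiv (cmpEquiv k k' A K₀).symm h1
  haveI hmax : (RingHom.ker φ).IsMaximal := RingHom.ker_isMaximal_of_surjective φ hφ
  have h3 := (isNormalRing_tensor_iff k' (k' ⊗[k] K₀) A).mp h2 (RingHom.ker φ)
  exact isNormalRing_of_ringEquiv
    (Algebra.TensorProduct.congr (Ideal.quotientKerAlgEquivOfSurjective hφ)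
      (AlgEquiv.refl (R := k') (A₁ := A))).toRingEquiv h3

theorem geomNormal_ascend (h : EGA4.IsGeomNormal k A) : EGA4.IsGeomNormal k' A := by
  intro K' _ _ hfin
  letI : Algebra k K' := ((algebraMap k' K').comp (algebraMap k k')).toAlgebra
  haveI : IsScalarTower k k' K' := IsScalarTower.of_algebraMap_eq (fun _ => rfl)
  haveI : Algebra.IsAlgebraic k K' := Algebra.IsAlgebraic.trans k k' K'
  let b := Module.finBasis k' K'
  haveI : FiniteDimensional k (IntermediateField.adjoin k (Set.range b)) :=
    IntermediateField.finiteDimensional_adjoin (fun x _ => Algebra.IsIntegral.isIntegral x)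
  let φ : k' ⊗[k] (IntermediateField.adjoin k (Set.range b)) →ₐ[k'] K' :=
    Algebra.TensorProduct.lift (Algebra.ofId k' K') ((IntermediateField.adjoin k (Set.range b)).val)
      (fun _ _ => Commute.all _ _)
  have hφ : Function.Surjective φ := by
    intro x
    have hx : x ∈ Submodule.span k' (Set.range b) := by rw [b.span_eq]; trivial
    have hle : Submodule.span k' (Set.range b) ≤ LinearMap.range φ.toLinearMap := by
      rw [Submodule.span_le]
      rintro _ ⟨i, rfl⟩
      exact ⟨1 ⊗ₜ ⟨b i, IntermediateField.subset_adjoin _ _ ⟨i, rfl⟩⟩, by simp [φ]⟩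
    exact hle hx
  exact geomNormal_ascend_aux k k' A h K' (IntermediateField.adjoin k (Set.range b)) φ hφ

end main

end Groth.Agent.Lib.Helper14.GeomNormalSep
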