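import Groth.Prelude.Def_Found
import Mathlib
import Groth.Agent.Lib.Helper14.GeomNormalSep
import Groth.Agent.Lib.Helper26.RegularSmooth
import Groth.Agent.Lib.Helper26.RegularRing

/-!
# Geometric regularity and separable algebraic base field extensions (analogue of `GeomNormalSep`)
-/

set_option autoImplicit false
universe u

namespace Groth.Agent.Lib.Helper14.GeomRegularSep

open TensorProduct
open Groth.Agent.Lib.Helper14 Groth.Agent.Lib.Helper14.GeomNormalSep

/-- A localization of a regular ring is regular. -/
theorem isRegularRing_of_isLocalization {R : Type u} [CommRing R] (M : Submonoid R) (S : Type u)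
    [CommRing S] [Algebra R S] [IsLocalization M S] [IsRegularRing R] : IsRegularRing S := by
  haveI : IsNoetherianRing S := IsLocalization.isNoetherianRing M S inferInstance
  refine ⟨fun Q hQ => ?_⟩
  haveI h1 : IsLocalization.AtPrime (Localization.AtPrime Q) (Q.comap (algebraMap R S)) :=
    IsLocalization.isLocalization_isLocalization_atPrime_isLocalization M _ Q
  exact Groth.Agent.Lib.Helper26.RegularRing.isRegularLocalRing_of_isLocalization_atPrime R
    (Q.comap (algebraMap R S)) (Localization.AtPrime Q)

theorem isRegularRing_iff_quotients (D : Type u) [CommRing D] [IsArtinianRing D] [IsReduced D]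
    (R : Type u) [CommRing R] [Algebra D R] [IsNoetherianRing R] :
    IsRegularRing R ↔
      ∀ (m : Ideal D) [m.IsMaximal], IsRegularRing (R ⧸ m.map (algebraMap D R)) := by
  constructor
  · intro h m hm
    haveI := isLocalization_quotient_map m R
    exact isRegularRing_of_isLocalization (Algebra.algebraMapSubmonoid R m.primeCompl) _
  · intro h
    refine ⟨fun p hp => ?_⟩
    haveI hmp : (p.comap (algebraMap D R)).IsPrime := Ideal.comap_isPrime _ _
    haveI hmm : (p.comap (algebraMap D R)).IsMaximal := IsArtinianRing.isMaximal_of_isPrime _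
    set m := p.comap (algebraMap D R) with hmdef
    haveI := isLocalization_quotient_map m R
    haveI := h m
    refine Groth.Agent.Lib.Helper26.RegularSmooth.isRegularLocalRing_atPrime_of_isLocalization
      (Algebra.algebraMapSubmonoid R m.primeCompl) (R ⧸ m.map (algebraMap D R)) p ?_
      (fun Q _ => inferInstance)
    rw [Set.disjoint_left]
    rintro x ⟨d, hd, rfl⟩ hx
    exact hd hx

theorem isNoetherianRing_tensor_finite (k' : Type u) [Field k'] (D : Type u) [CommRing D]
    [Algebra k' D] [Module.Finite k' D] (A : Type u) [CommRing A] [Algebra k' A]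
    [IsNoetherianRing A] : IsNoetherianRing (D ⊗[k'] A) := by
  haveI : Module.Finite A (A ⊗[k'] D) := inferInstance
  haveI : IsNoetherianRing (A ⊗[k'] D) := IsNoetherianRing.of_finite A _
  exact isNoetherianRing_of_ringEquiv _ (Algebra.TensorProduct.comm k' A D).toRingEquiv

theorem isRegularRing_tensor_iff (k' : Type u) [Field k'] (D : Type u) [CommRing D] [Algebra k' D]
    [IsArtinianRing D] [IsReduced D] [Module.Finite k' D] (A : Type u) [CommRing A] [Algebra k' A]
    [IsNoetherianRing A] :
    IsRegularRing (D ⊗[k'] A) ↔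
      ∀ (m : Ideal D) [m.IsMaximal], IsRegularRing ((D ⧸ m) ⊗[k'] A) := by
  haveI := isNoetherianRing_tensor_finite k' D A
  rw [isRegularRing_iff_quotients D (D ⊗[k'] A)]
  constructor
  · intro h m hm
    haveI := h m
    exact IsRegularRing.of_ringEquiv
      (Algebra.TensorProduct.quotientTensorEquiv (R := k') k' A D m).symm.toRingEquiv
  · intro h m hm
    haveI := h m
    exact IsRegularRing.of_ringEquiv
      (Algebra.TensorProduct.quotientTensorEquiv (R := k') k' A D m).toRingEquiv

section main
variable (k : Type u) [Field k] (k' : Type u) [Field k']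
    [Algebra k k'] [Algebra.IsSeparable k k'] (A : Type u) [CommRing A] [Algebra k' A]
    [Algebra k A] [IsScalarTower k k' A] [IsNoetherianRing A]

theorem geomRegular_descend (h' : CAlg.IsGeometricallyRegular k' A) :
    CAlg.IsGeometricallyRegular k A := by
  intro K _ _ hfin
  obtain ⟨hart, hred⟩ := artinian_reduced k k' K
  haveI : Module.Finite k' (k' ⊗[k] K) := inferInstance
  haveI hD : IsRegularRing ((k' ⊗[k] K) ⊗[k'] A) := by
    rw [isRegularRing_tensor_iff k' (k' ⊗[k] K) A]
    intro m hm
    letI : Field ((k' ⊗[k] K) ⧸ m) := Ideal.Quotient.field m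
    exact h' ((k' ⊗[k] K) ⧸ m) (inferInstance : Module.Finite k' ((k' ⊗[k] K) ⧸ m))
  exact IsRegularRing.of_ringEquiv (cmpEquiv k k' A K)

theorem geomRegular_ascend_aux (h : CAlg.IsGeometricallyRegular k A) (K' : Type u) [Field K']
    [Algebra k' K']
    (K₀ : Type u) [Field K₀] [Algebra k K₀] [Module.Finite k K₀]
    (φ : k' ⊗[k] K₀ →ₐ[k'] K') (hφ : Function.Surjective φ) :
    IsRegularRing (K' ⊗[k'] A) := by
  obtain ⟨hart, hred⟩ := artinian_reduced k k' K₀
  haveI : Module.Finite k' (k' ⊗[k] K₀) := inferInstance
  haveI h1 : IsRegularRing (K₀ ⊗[k] A) := h K₀ inferInstance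
  haveI h2 : IsRegularRing ((k' ⊗[k] K₀) ⊗[k'] A) :=
    IsRegularRing.of_ringEquiv (cmpEquiv k k' A K₀).symm
  haveI hmax : (RingHom.ker φ).IsMaximal := RingHom.ker_isMaximal_of_surjective φ hφ
  haveI h3 := (isRegularRing_tensor_iff k' (k' ⊗[k] K₀) A).mp h2 (RingHom.ker φ)
  exact IsRegularRing.of_ringEquiv (R := ((k' ⊗[k] K₀) ⧸ RingHom.ker φ) ⊗[k'] A)
    (Algebra.TensorProduct.congr (Ideal.quotientKerAlgEquivOfSurjective hφ)
      (AlgEquiv.refl (R := k') (A₁ := A))).toRingEquiv

theorem geomRegular_ascend (h : CAlg.IsGeometricallyRegular k A) :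
    CAlg.IsGeometricallyRegular k' A := by
  intro K' _ _ hfin
  letI : Algebra k K' := ((algebraMap k' K').comp (algebraMap k k')).toAlgebra
  haveI : IsScalarTower k k' K' := IsScalarTower.of_algebraMap_eq (fun _ => rfl)
  haveI : Algebra.IsAlgebraic k K' := Algebra.IsAlgebraic.trans k k' K'
  let b := Module.finBasis k' K'
  haveI : FiniteDimensional k (IntermediateField.adjoin k (Set.range b)) :=
    IntermediateField.finiteDimensional_adjoin (fun x _ => Algebra.IsIntegral.isIntegral x)
  let φ : k' ⊗[k] (IntermediateField.adjoin k (Set.range b)) →ₐ[k'] K' :=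
    Algebra.TensorProduct.lift (Algebra.ofId k' K') ((IntermediateField.adjoin k (Set.range b)).val)
      (fun _ _ => Commute.all _ _)
  have hφ : Function.Surjective φ := by
    intro x
    have hx : x ∈ Submodule.span k' (Set.range b) := by rw [b.span_eq]; trivial
    have hle : Submodule.span k' (Set.range b) ≤ LinearMap.range φ.toLinearMap := by
      rw [Submodule.span_le]
      rintro _ ⟨i, rfl⟩
      exact ⟨1 ⊗ₜ ⟨b i, IntermediateField.subset_adjoin _ _ ⟨i, rfl⟩⟩, by simp [φ]⟩
    exact hle hx
  exact geomRegular_ascend_aux k k' A h K' (IntermediateField.adjoin k (Set.range b)) φ hφ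

end main

end Groth.Agent.Lib.Helper14.GeomRegularSep
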