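import Mathlib
import Groth.Prelude.Def_EGA4b
import Groth.Agent.Lib.Helper14.IadicFibres
import Groth.Agent.Lib.Helper14.GeomRegularSep
import Groth.Agent.Lib.Helper14.GeomReduced
import Groth.Agent.Lib.Helper26.RegularHom
import Groth.Agent.S9294
import Groth.Agent.S9295

set_option autoImplicit false
universe u

namespace Groth.Agent.Lib.Helper14.IadicFibresReg

open IsLocalRing TensorProduct EGA4 Groth.Agent.Lib.Helper14.ComplFlat
  Groth.Agent.Lib.Helper14.ComplIadic Groth.Agent.Lib.Helper14.IadicFibres

section
variable (A : Type u) [CommRing A] [IsNoetherianRing A] (I : Ideal A)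
  (n : Ideal (AdicCompletion I A)) [hn : n.IsMaximal]
  (m : Ideal A) [m.IsPrime] [n.LiesOver m]
  [Algebra (Localization.AtPrime m) (Localization.AtPrime n)]
  [Localization.AtPrime.IsLiesOverAlgebra m n]

include hn in
theorem isRegularHom_localization_of_formalFibres
    (h : CAlg.IsRegularHom (Localization.AtPrime m) (Cpl (Localization.AtPrime m))) :
    CAlg.IsRegularHom (Localization.AtPrime m) (Localization.AtPrime n) := by
  haveI : IsNoetherianRing (AdicCompletion I A) :=
    Groth.Agent.S0542.result A I (IsNoetherian.noetherian _)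
  obtain ⟨e⟩ := nonempty_cplEquiv A I n m
  have h2 : CAlg.IsRegularHom (Localization.AtPrime m) (Cpl (Localization.AtPrime n)) :=
    Groth.Agent.Lib.Helper26.RegularHom.isRegularHom_of_algEquiv e h
  haveI : Module.FaithfullyFlat (Localization.AtPrime n) (Cpl (Localization.AtPrime n)) :=
    Module.FaithfullyFlat.of_flat_of_isLocalHom
  exact Groth.Agent.S9295.result (Localization.AtPrime m) (Localization.AtPrime n)
    (Cpl (Localization.AtPrime n)) h2
    (PrimeSpectrum.comap_surjective_of_faithfullyFlat)

end

/-- a localization is a regular homomorphism. -/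
theorem isRegularHom_of_isLocalization (A : Type u) [CommRing A] (M : Submonoid A)
    (S : Type u) [CommRing S] [Algebra A S] [IsLocalization M S] : CAlg.IsRegularHom A S := by
  refine ⟨IsLocalization.flat S M, ?_⟩
  intro p hp
  refine ⟨IsLocalization.isNoetherianRing (Algebra.algebraMapSubmonoid p.ResidueField M)
    (p.ResidueField ⊗[A] S) inferInstance, ?_⟩
  intro K _ _ hfin
  letI : Algebra A K := ((algebraMap p.ResidueField K).comp (algebraMap A p.ResidueField)).toAlgebra
  haveI : IsScalarTower A p.ResidueField K := IsScalarTower.of_algebraMap_eq (fun _ => rfl)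
  haveI h1 : IsRegularRing (K ⊗[A] S) :=
    Groth.Agent.Lib.Helper14.GeomRegularSep.isRegularRing_of_isLocalization
      (Algebra.algebraMapSubmonoid K M) (K ⊗[A] S)
  exact IsRegularRing.of_ringEquiv (R := K ⊗[A] S)
    (Algebra.TensorProduct.cancelBaseChange A p.ResidueField p.ResidueField K S).symm.toRingEquiv

open Groth.Agent.Lib.Helper14.FibreLocal in
theorem isRegularHom_adicCompletion (A : Type u) [CommRing A] (hA : CAlg.IsGRing A) (I : Ideal A) :
    CAlg.IsRegularHom A (AdicCompletion I A) := by
  haveI : IsNoetherianRing A := hA.1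
  haveI : IsNoetherianRing (AdicCompletion I A) :=
    Groth.Agent.S0542.result A I (IsNoetherian.noetherian _)
  refine ⟨inferInstance, ?_⟩
  intro p hp
  haveI hN : IsNoetherianRing (p.Fiber (AdicCompletion I A)) :=
    Groth.Agent.Lib.Helper14.GeomReduced.isNoetherianRing_fiber A (AdicCompletion I A) p
  refine ⟨hN, ?_⟩
  intro K _ _ hfin
  haveI : IsNoetherianRing (K ⊗[p.ResidueField] p.Fiber (AdicCompletion I A)) :=
    Groth.Agent.Lib.Helper14.GeomRegularSep.isNoetherianRing_tensor_finite p.ResidueField K _
  have key := fibre_local_to_global A (AdicCompletion I A)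
    (fun X _ => IsRegularLocalRing X)
    (fun X Y _ _ e h => by
      haveI := h
      exact IsRegularLocalRing.of_ringEquiv e) p K
  rw [isRegularRing_iff]
  refine key ?_
  intro n hn
  let m : Ideal A := n.comap (algebraMap A (AdicCompletion I A))
  haveI : m.IsPrime := Ideal.comap_isPrime _ _
  haveI : n.LiesOver m := ⟨rfl⟩
  letI := Localization.AtPrime.algebraOfLiesOver m n
  have h1 : CAlg.IsRegularHom A (Localization.AtPrime m) :=
    isRegularHom_of_isLocalization A m.primeCompl _
  have h2 : CAlg.IsRegularHom (Localization.AtPrime m) (Localization.AtPrime n) :=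
    isRegularHom_localization_of_formalFibres A I n m (hA.2 m)
  have h3 : CAlg.IsRegularHom A (Localization.AtPrime n) :=
    Groth.Agent.S9294.result A (Localization.AtPrime m)
      (Localization.AtPrime n) h1 h2
      (fun q _ => Groth.Agent.Lib.Helper14.GeomReduced.isNoetherianRing_fiber A _ q)
  haveI := (h3.2 p).2 K hfin
  intro 𝔮 h𝔮
  exact IsRegularRing.isRegularLocalRing_localization 𝔮

end Groth.Agent.Lib.Helper14.IadicFibresReg
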