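import Mathlib
import Groth.Prelude.Def_EGA4b
import Groth.Agent.Lib.Helper14.Catenary
import Groth.Agent.Lib.Helper14.IadicFibresReg
import Groth.Agent.Lib.Helper14.ComplIadic

set_option autoImplicit false
universe u

namespace Groth.Agent.Lib.Helper14.ExcellentLoc

open IsLocalRing TensorProduct EGA4 Groth.Agent.Lib.Helper14.ComplFlat
  Groth.Agent.Lib.Helper14.ComplIadic

section regloc
variable {R : Type u} [CommRing R] (M : Submonoid R) (S : Type u) [CommRing S] [Algebra R S]
  [IsLocalization M S]
include M

lemma nonempty_atPrime_equiv (y : PrimeSpectrum S) :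
    Nonempty (Localization.AtPrime (PrimeSpectrum.comap (algebraMap R S) y).asIdeal ≃+*
      Localization.AtPrime y.asIdeal) := by
  let q := PrimeSpectrum.comap (algebraMap R S) y
  have : IsLocalization.AtPrime (Localization.AtPrime y.asIdeal) q.asIdeal :=
    IsLocalization.isLocalization_isLocalization_atPrime_isLocalization M _ y.asIdeal
  exact ⟨(IsLocalization.algEquiv q.asIdeal.primeCompl _ _).toRingEquiv⟩

lemma mem_regLocus_iff (y : PrimeSpectrum S) :
    y ∈ EGA4.regLocus S ↔ PrimeSpectrum.comap (algebraMap R S) y ∈ EGA4.regLocus R := by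
  obtain ⟨e⟩ := nonempty_atPrime_equiv M S y
  constructor
  · intro h
    haveI : IsRegularLocalRing (Localization.AtPrime y.asIdeal) := h
    exact IsRegularLocalRing.of_ringEquiv e.symm
  · intro h
    haveI : IsRegularLocalRing (Localization.AtPrime
      (PrimeSpectrum.comap (algebraMap R S) y).asIdeal) := h
    exact IsRegularLocalRing.of_ringEquiv e

theorem isOpen_regLocus (h : IsOpen (EGA4.regLocus R)) : IsOpen (EGA4.regLocus S) := by
  have : EGA4.regLocus S = (PrimeSpectrum.comap (algebraMap R S)) ⁻¹' (EGA4.regLocus R) := by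
    ext y
    exact mem_regLocus_iff M S y
  rw [this]
  exact h.preimage (PrimeSpectrum.continuous_comap (algebraMap R S))

end regloc

section gring

theorem isRegularHom_cpl_of_ringEquiv {R R' : Type u} [CommRing R] [CommRing R'] [IsLocalRing R]
    [IsLocalRing R'] [IsNoetherianRing R] [IsNoetherianRing R'] (e : R' ≃+* R)
    (h : CAlg.IsRegularHom R (Cpl R)) : CAlg.IsRegularHom R' (Cpl R') := by
  letI : Algebra R' R := e.toRingHom.toAlgebra
  have hbij : Function.Bijective (algebraMap R' R) := e.bijective
  haveI : IsLocalHom (algebraMap R' R) := by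
    constructor
    intro a ha
    have := ha.map e.symm.toRingHom
    simpa [RingHom.algebraMap_toAlgebra] using this
  haveI : IsLocalization (⊥ : Submonoid R') R :=
    IsLocalization.of_le_isUnit_of_bijective (by
      rintro x ⟨y, hy, rfl⟩
      have hy1 : y = 1 := by simpa using hy
      subst hy1
      simp) hbij
  have h1 : CAlg.IsRegularHom R' R :=
    IadicFibresReg.isRegularHom_of_isLocalization R' ⊥ R
  haveI : IsNoetherianRing (Cpl R) :=
    Groth.Agent.S0542.result R (maximalIdeal R) (IsNoetherian.noetherian _)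
  have h2 : CAlg.IsRegularHom R' (Cpl R) := Groth.Agent.S9294.result R' R (Cpl R) h1 h
    (fun p _ => GeomReduced.isNoetherianRing_fiber R' (Cpl R) p)
  haveI : Module.Flat R' R := IsLocalization.flat R (⊥ : Submonoid R')
  have hmax : (maximalIdeal R').map (algebraMap R' R) = maximalIdeal R := by
    apply le_antisymm
    · rw [Ideal.map_le_iff_le_comap]
      intro a ha
      rw [Ideal.mem_comap, mem_maximalIdeal, mem_nonunits_iff]
      intro hu
      exact ha (isUnit_of_map_unit _ _ hu)
    · intro x hx
      obtain ⟨y, rfl⟩ := hbij.2 x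
      apply Ideal.mem_map_of_mem
      rw [mem_maximalIdeal, mem_nonunits_iff]
      intro hu
      exact hx (hu.map _)
  have hres : ∀ y : R, ∃ a : R', y - algebraMap R' R a ∈ maximalIdeal R := by
    intro y
    obtain ⟨a, rfl⟩ := hbij.2 y
    exact ⟨a, by simp⟩
  have hb := cplMap_bijective_of R' R hmax hres
  have hcomm : ∀ r : R', cplMap R' R (algebraMap R' (Cpl R') r) = algebraMap R' (Cpl R) r := by
    intro r
    have := DFunLike.congr_fun (cplMap_comp R' R) r
    rw [IsScalarTower.algebraMap_apply R' R (Cpl R) r]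
    simpa only [RingHom.comp_apply] using this
  let e' : Cpl R' ≃ₐ[R'] Cpl R :=
    AlgEquiv.ofBijective ⟨cplMap R' R, hcomm⟩ hb
  exact Groth.Agent.Lib.Helper26.RegularHom.isRegularHom_of_algEquiv e'.symm h2

theorem isGRing_localization (A : Type u) [CommRing A] (hA : CAlg.IsGRing A) (S : Submonoid A)
    (B : Type u) [CommRing B] [Algebra A B] [IsLocalization S B] : CAlg.IsGRing B := by
  haveI := hA.1
  haveI : IsNoetherianRing B := IsLocalization.isNoetherianRing S B inferInstance
  refine ⟨inferInstance, ?_⟩
  intro q hq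
  obtain ⟨e⟩ := nonempty_atPrime_equiv S B ⟨q, hq⟩
  haveI : IsNoetherianRing (Localization.AtPrime q) :=
    IsLocalization.isNoetherianRing q.primeCompl _ inferInstance
  let p : Ideal A := (PrimeSpectrum.comap (algebraMap A B) ⟨q, hq⟩).asIdeal
  haveI : p.IsPrime := (PrimeSpectrum.comap (algebraMap A B) ⟨q, hq⟩).isPrime
  haveI : IsNoetherianRing (Localization.AtPrime p) :=
    IsLocalization.isNoetherianRing p.primeCompl _ inferInstance
  exact isRegularHom_cpl_of_ringEquiv (R := Localization.AtPrime p) e.symm (hA.2 p)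

end gring

section ft
variable (A : Type u) [CommRing A] (S : Submonoid A) (B : Type u) [CommRing B] [Algebra A B]
  [IsLocalization S B]

theorem exists_subalgebra_isLocalization (C : Type u) [CommRing C] [Algebra B C] [Algebra A C]
    [IsScalarTower A B C] [Algebra.FiniteType B C] :
    ∃ (C₀ : Subalgebra A C), C₀.FG ∧ IsLocalization (Algebra.algebraMapSubmonoid C₀ S) C := by
  obtain ⟨t, ht⟩ := (Algebra.FiniteType.out : (⊤ : Subalgebra B C).FG)
  refine ⟨Algebra.adjoin A (t : Set C), ⟨t, rfl⟩, ?_⟩
  have key : ∀ z : C, ∃ s ∈ S, algebraMap A C s * z ∈ Algebra.adjoin A (t : Set C) := by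
    intro z
    have hz : z ∈ Algebra.adjoin B (t : Set C) := by rw [ht]; trivial
    induction hz using Algebra.adjoin_induction with
    | mem x hx => exact ⟨1, S.one_mem, by simpa using Algebra.subset_adjoin hx⟩
    | algebraMap b =>
      obtain ⟨⟨a, s⟩, h⟩ := IsLocalization.surj S b
      refine ⟨s, s.2, ?_⟩
      have : algebraMap A C s * algebraMap B C b = algebraMap A C a := by
        rw [IsScalarTower.algebraMap_apply A B C, IsScalarTower.algebraMap_apply A B C, ← map_mul,
          mul_comm, h]
      rw [this]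
      exact Subalgebra.algebraMap_mem _ a
    | add x y _ _ hx hy =>
      obtain ⟨s₁, hs₁, h₁⟩ := hx
      obtain ⟨s₂, hs₂, h₂⟩ := hy
      refine ⟨s₁ * s₂, S.mul_mem hs₁ hs₂, ?_⟩
      have : algebraMap A C (s₁ * s₂) * (x + y) = algebraMap A C s₂ * (algebraMap A C s₁ * x) +
          algebraMap A C s₁ * (algebraMap A C s₂ * y) := by rw [map_mul]; ring
      rw [this]
      exact add_mem (mul_mem (Subalgebra.algebraMap_mem _ _) h₁)
        (mul_mem (Subalgebra.algebraMap_mem _ _) h₂)
    | mul x y _ _ hx hy =>
      obtain ⟨s₁, hs₁, h₁⟩ := hx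
      obtain ⟨s₂, hs₂, h₂⟩ := hy
      refine ⟨s₁ * s₂, S.mul_mem hs₁ hs₂, ?_⟩
      have : algebraMap A C (s₁ * s₂) * (x * y) =
          (algebraMap A C s₁ * x) * (algebraMap A C s₂ * y) := by rw [map_mul]; ring
      rw [this]
      exact mul_mem h₁ h₂
  exact
    { map_units := by
        rintro ⟨y, s, hs, rfl⟩
        have : algebraMap (Algebra.adjoin A (t : Set C)) C
            (algebraMap A (Algebra.adjoin A (t : Set C)) s) =
            algebraMap B C (algebraMap A B s) := by
          rw [← IsScalarTower.algebraMap_apply A B C]; rfl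
        rw [this]
        exact (IsLocalization.map_units B ⟨s, hs⟩).map (algebraMap B C)
      surj := by
        intro z
        obtain ⟨s, hs, h⟩ := key z
        refine ⟨(⟨algebraMap A C s * z, h⟩,
          ⟨algebraMap A (Algebra.adjoin A (t : Set C)) s, ⟨s, hs, rfl⟩⟩), ?_⟩
        change z * algebraMap A C s = algebraMap A C s * z
        exact mul_comm _ _
      exists_of_eq := by
        intro x y h
        refine ⟨1, ?_⟩
        have : x = y := Subtype.ext h
        rw [this] }

include S in
theorem isJ2_localization (hA : IsJ2 A) : IsJ2 B := by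
  intro C _ _ hft
  letI : Algebra A C := ((algebraMap B C).comp (algebraMap A B)).toAlgebra
  haveI : IsScalarTower A B C := IsScalarTower.of_algebraMap_eq (fun _ => rfl)
  obtain ⟨C₀, hfg, hloc⟩ := exists_subalgebra_isLocalization A S B C
  haveI : Algebra.FiniteType A C₀ := (Subalgebra.fg_iff_finiteType C₀).mp hfg
  exact isOpen_regLocus (Algebra.algebraMapSubmonoid C₀ S) C (hA C₀ inferInstance)

include S in
theorem isUniversallyCatenary_localization (hA : CAlg.IsUniversallyCatenary A) :
    CAlg.IsUniversallyCatenary B := by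
  haveI := hA.1
  refine ⟨IsLocalization.isNoetherianRing S B inferInstance, ?_⟩
  intro C _ _ hft
  letI : Algebra A C := ((algebraMap B C).comp (algebraMap A B)).toAlgebra
  haveI : IsScalarTower A B C := IsScalarTower.of_algebraMap_eq (fun _ => rfl)
  obtain ⟨C₀, hfg, hloc⟩ := exists_subalgebra_isLocalization A S B C
  have h0 : CAlg.IsCatenary C₀ := hA.2 C₀ ((Subalgebra.fg_iff_finiteType C₀).mp hfg)
  exact Groth.Agent.Lib.Helper14.isCatenary_of_isLocalization (Algebra.algebraMapSubmonoid C₀ S) C h0

include S in
theorem isExcellent_localization (hA : IsExcellent A) : IsExcellent B := by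
  obtain ⟨h1, h2, h3, h4⟩ := hA
  exact ⟨IsLocalization.isNoetherianRing S B h1, isUniversallyCatenary_localization A S B h2,
    isGRing_localization A h3 S B, isJ2_localization A S B h4⟩

end ft

end Groth.Agent.Lib.Helper14.ExcellentLoc
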