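import Mathlib

/-!
# Completion along `(a)` of a regular element with bounded `a`-power torsion quotient
-/

set_option autoImplicit false

universe u

open Pointwise

namespace Groth.Agent.Lib.Helper14.AdicRegSeq

variable {A : Type u} [CommRing A] (a : A)

section step

variable {M M' : Type u} [AddCommGroup M] [Module A M] [AddCommGroup M'] [Module A M']

lemma mem_pow_smul_top_iff (n : ℕ) (x : M) :
    x ∈ (Ideal.span {a} ^ n • (⊤ : Submodule A M)) ↔ ∃ y : M, a ^ n • y = x := by
  rw [Ideal.span_singleton_pow, Submodule.ideal_span_singleton_smul,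
    Submodule.mem_smul_pointwise_iff_exists]
  simp

lemma mk_eq_zero_iff (f : AdicCompletion.AdicCauchySequence (Ideal.span {a}) M) :
    AdicCompletion.mk (Ideal.span {a}) M f = 0 ↔ ∀ n, ∃ y : M, a ^ n • y = f n := by
  constructor
  · intro h n
    have h1 := congrArg (fun x => x.val n) h
    simp only [AdicCompletion.mk_apply_coe, AdicCompletion.val_zero, Pi.zero_apply,
      Submodule.mkQ_apply, Submodule.Quotient.mk_eq_zero] at h1
    exact (mem_pow_smul_top_iff a n _).mp h1
  · intro h
    ext n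
    rw [AdicCompletion.mk_apply_coe, AdicCompletion.val_zero, Pi.zero_apply, Submodule.mkQ_apply,
      Submodule.Quotient.mk_eq_zero]
    exact (mem_pow_smul_top_iff a n _).mpr (h n)

lemma cauchy_sub (f : AdicCompletion.AdicCauchySequence (Ideal.span {a}) M) {m n : ℕ}
    (hmn : m ≤ n) : ∃ t : M, a ^ m • t = f m - f n := by
  have h := f.2 hmn
  exact (mem_pow_smul_top_iff a m _).mp (SModEq.sub_mem.mp h)

variable (q : M →ₗ[A] M') (hq : Function.Surjective q) (r : A)
  (hker : ∀ x, q x = 0 ↔ ∃ y, r • y = x) (hr : IsSMulRegular M r) (N : ℕ)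
  (hN : ∀ x : M', (∃ m : ℕ, a ^ m • x = 0) → a ^ N • x = 0)

include hker hr hN in
lemma key (n : ℕ) (y z : M) (h : r • y = a ^ (n + N) • z) : ∃ w, y = a ^ n • w := by
  have h1 : a ^ (n + N) • q z = 0 := by
    rw [← map_smul, ← h]; exact (hker _).mpr ⟨y, rfl⟩
  have h2 := hN (q z) ⟨_, h1⟩
  rw [← map_smul, hker] at h2
  obtain ⟨w, hw⟩ := h2
  refine ⟨w, hr ?_⟩
  show r • y = r • a ^ n • w
  rw [h, smul_comm r, hw, smul_smul, ← pow_add]

include hker hr hN in
/-- `r` stays regular on the completion. -/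
theorem isSMulRegular_adicCompletion :
    IsSMulRegular (AdicCompletion (Ideal.span {a}) M) r := by
  rw [isSMulRegular_iff_right_eq_zero_of_smul]
  intro y hy
  obtain ⟨u, rfl⟩ := AdicCompletion.mk_surjective _ _ y
  rw [← map_smul, mk_eq_zero_iff] at hy
  rw [mk_eq_zero_iff]
  intro n
  obtain ⟨z, hz⟩ := hy (n + N)
  obtain ⟨w, hw⟩ := key a q r hker hr N hN n (u (n + N)) z hz.symm
  obtain ⟨t, ht⟩ := cauchy_sub a u (Nat.le_add_right n N)
  refine ⟨t + w, ?_⟩
  rw [smul_add, ht, ← hw, sub_add_cancel]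

include hq hker hr hN in
/-- The kernel of the completed quotient map is `r • M^`. -/
theorem map_eq_zero_iff (x : AdicCompletion (Ideal.span {a}) M) :
    AdicCompletion.map (Ideal.span {a}) q x = 0 ↔
      ∃ y : AdicCompletion (Ideal.span {a}) M, r • y = x := by
  constructor
  · intro hx
    obtain ⟨m, rfl⟩ := AdicCompletion.mk_surjective _ _ x
    rw [AdicCompletion.map_mk, mk_eq_zero_iff] at hx
    choose z' hz' using hx
    choose v hv using fun n => hq (z' n)
    have h1 : ∀ n, q (m n - a ^ n • v n) = 0 := by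
      intro n
      rw [map_sub, map_smul, hv, hz']
      exact sub_self _
    choose u hu using fun n => (hker _).mp (h1 n)
    have hstep : ∀ k, ∃ z, r • (u k - u (k + 1)) = a ^ k • z := by
      intro k
      obtain ⟨t, ht⟩ := cauchy_sub a m (Nat.le_succ k)
      refine ⟨t - v k + a • v (k + 1), ?_⟩
      rw [smul_sub, hu, hu, smul_add, smul_sub, ht, smul_smul, ← pow_succ]
      abel
    have hc : ∀ n, u (n + N) ≡ u (n + 1 + N) [SMOD (Ideal.span {a} ^ n • ⊤ : Submodule A M)] := by
      intro n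
      rw [SModEq.sub_mem, mem_pow_smul_top_iff]
      obtain ⟨z, hz⟩ := hstep (n + N)
      obtain ⟨w, hw⟩ := key a q r hker hr N hN n _ z hz
      refine ⟨w, ?_⟩
      rw [← hw]
      congr 2
      ring
    refine ⟨AdicCompletion.mk _ _ (AdicCompletion.AdicCauchySequence.mk _ _
      (fun n => u (n + N)) hc), ?_⟩
    rw [← map_smul, ← sub_eq_zero, ← map_sub, mk_eq_zero_iff]
    intro n
    obtain ⟨t, ht⟩ := cauchy_sub a m (Nat.le_add_right n N)
    refine ⟨-t - a ^ N • v (n + N), ?_⟩
    simp only [AdicCompletion.AdicCauchySequence.sub_apply,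
      AdicCompletion.AdicCauchySequence.smul_apply, AdicCompletion.AdicCauchySequence.mk_coe]
    rw [hu, smul_sub, smul_neg, ht, smul_smul, ← pow_add]
    abel
  · rintro ⟨y, rfl⟩
    obtain ⟨u, rfl⟩ := AdicCompletion.mk_surjective _ _ y
    rw [← map_smul, AdicCompletion.map_mk, mk_eq_zero_iff]
    intro n
    refine ⟨0, ?_⟩
    rw [smul_zero]
    symm
    exact (hker _).mpr ⟨u n, rfl⟩

end step

end Groth.Agent.Lib.Helper14.AdicRegSeq
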