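import Mathlib
import Groth.Agent.Lib.Helper14.AdicRegSeq

/-!
# `a`-adic completion of a weakly regular sequence with bounded `a`-power torsion quotients
-/

set_option autoImplicit false

universe u

open Pointwise RingTheory.Sequence

namespace Groth.Agent.Lib.Helper14.AdicRegSeq

variable {A : Type u} [CommRing A] (a : A)

section linear

variable {M M' : Type u} [AddCommGroup M] [Module A M] [AddCommGroup M'] [Module A M']

/-- `AdicCompletion.map` is linear over the base ring. -/
lemma map_smul_base (I : Ideal A) (f : M →ₗ[A] M') (r : A) (x : AdicCompletion I M) :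
    AdicCompletion.map I f (r • x) = r • AdicCompletion.map I f x := by
  ext n
  simp only [AdicCompletion.map_val_apply, AdicCompletion.val_smul_apply]
  exact LinearMap.map_smul_of_tower _ r _

/-- Elements of `J Â` die in the completion of `A/J`. -/
lemma map_mkQ_eq_zero_of_mem (I J : Ideal A) (x : AdicCompletion I A)
    (hx : x ∈ J.map (algebraMap A (AdicCompletion I A))) :
    AdicCompletion.map I J.mkQ x = 0 := by
  refine Submodule.span_induction ?_ ?_ ?_ ?_ hx
  · rintro _ ⟨j, hj, rfl⟩
    show AdicCompletion.map I J.mkQ (AdicCompletion.of I A j) = 0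
    rw [AdicCompletion.map_of]
    have : J.mkQ j = 0 := by
      rw [Submodule.mkQ_apply, Submodule.Quotient.mk_eq_zero]; exact hj
    rw [this, map_zero]
  · exact map_zero _
  · intro x y _ _ hx hy
    rw [map_add, hx, hy, add_zero]
  · intro c x _ hx
    rw [map_smul, hx, smul_zero]

end linear

section main

variable (rs : List A)

lemma ofList_take_le (i : ℕ) :
    Ideal.ofList (rs.take i) ≤ Ideal.ofList (rs.take (i + 1)) :=
  Ideal.span_mono (fun _ hx => List.take_subset_take_left _ (Nat.le_succ i) hx)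

/-- The transition map `A/(r₁..rᵢ) → A/(r₁..rᵢ₊₁)`. -/
noncomputable def q (i : ℕ) :
    (A ⧸ Ideal.ofList (rs.take i)) →ₗ[A] (A ⧸ Ideal.ofList (rs.take (i + 1))) :=
  Submodule.factor (ofList_take_le rs i)

lemma q_mk (i : ℕ) (x : A) :
    q rs i ((Ideal.ofList (rs.take i)).mkQ x) = (Ideal.ofList (rs.take (i + 1))).mkQ x := rfl

lemma q_comp_mkQ (i : ℕ) :
    (q rs i) ∘ₗ (Ideal.ofList (rs.take i)).mkQ = (Ideal.ofList (rs.take (i + 1))).mkQ := rfl

lemma q_surjective (i : ℕ) : Function.Surjective (q rs i) := by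
  intro y
  obtain ⟨x, rfl⟩ := Submodule.mkQ_surjective _ y
  exact ⟨(Ideal.ofList (rs.take i)).mkQ x, rfl⟩

lemma q_eq_zero_iff (i : ℕ) (hi : i < rs.length) (x : A ⧸ Ideal.ofList (rs.take i)) :
    q rs i x = 0 ↔ ∃ y, rs[i] • y = x := by
  obtain ⟨x, rfl⟩ := Submodule.mkQ_surjective _ x
  rw [q_mk, Submodule.mkQ_apply, Submodule.Quotient.mk_eq_zero,
    List.take_succ_eq_append_getElem hi, Ideal.ofList_append, Ideal.ofList_singleton]
  constructor
  · intro hx
    obtain ⟨j, hj, z, hz, rfl⟩ := Submodule.mem_sup.mp hx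
    obtain ⟨c, rfl⟩ := Ideal.mem_span_singleton'.mp hz
    refine ⟨(Ideal.ofList (rs.take i)).mkQ c, ?_⟩
    rw [← map_smul, Submodule.mkQ_apply, Submodule.mkQ_apply, eq_comm,
      ← sub_eq_zero, ← Submodule.Quotient.mk_sub, Submodule.Quotient.mk_eq_zero, smul_eq_mul,
      mul_comm, add_sub_cancel_right]
    exact hj
  · rintro ⟨y, hy⟩
    obtain ⟨c, rfl⟩ := Submodule.mkQ_surjective _ y
    rw [← map_smul, Submodule.mkQ_apply, Submodule.mkQ_apply, ← sub_eq_zero,
      ← Submodule.Quotient.mk_sub, Submodule.Quotient.mk_eq_zero] at hy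
    have : x = rs[i] • c - (rs[i] • c - x) := by ring
    rw [this]
    refine sub_mem (Ideal.mem_sup_right ?_) (Ideal.mem_sup_left hy)
    rw [smul_eq_mul, mul_comm]
    exact Ideal.mul_mem_left _ _ (Ideal.subset_span rfl)

variable (hreg : IsWeaklyRegular A rs)
  (hbd : ∀ i ≤ rs.length, ∃ N : ℕ, ∀ x : A ⧸ Ideal.ofList (rs.take i),
    (∃ m : ℕ, a ^ m • x = 0) → a ^ N • x = 0)

include hreg in
lemma regular_quot (i : ℕ) (hi : i < rs.length) :
    IsSMulRegular (A ⧸ Ideal.ofList (rs.take i)) rs[i] := by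
  have h := hreg.regular_mod_prev i hi
  have e : (A ⧸ (Ideal.ofList (rs.take i) • ⊤ : Submodule A A)) ≃ₗ[A]
      (A ⧸ Ideal.ofList (rs.take i)) :=
    Submodule.quotEquivOfEq _ _ (by rw [smul_eq_mul, Ideal.mul_top])
  exact (e.isSMulRegular_congr _).mp h

include hreg hbd in
lemma regular_completion (i : ℕ) (hi : i < rs.length) :
    IsSMulRegular (AdicCompletion (Ideal.span {a}) (A ⧸ Ideal.ofList (rs.take i))) rs[i] := by
  obtain ⟨N, hN⟩ := hbd (i + 1) hi
  exact isSMulRegular_adicCompletion a (q rs i) rs[i] (q_eq_zero_iff rs i hi)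
    (regular_quot rs hreg i hi) N hN

include hreg hbd in
lemma ker_completion (i : ℕ) (hi : i < rs.length)
    (x : AdicCompletion (Ideal.span {a}) (A ⧸ Ideal.ofList (rs.take i))) :
    AdicCompletion.map (Ideal.span {a}) (q rs i) x = 0 ↔ ∃ y, rs[i] • y = x := by
  obtain ⟨N, hN⟩ := hbd (i + 1) hi
  exact map_eq_zero_iff a (q rs i) (q_surjective rs i) rs[i] (q_eq_zero_iff rs i hi)
    (regular_quot rs hreg i hi) N hN x

include hreg hbd in
/-- The kernel of `Â → (A/(r₁..rᵢ))^` is generated by `r₁..rᵢ`. -/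
theorem mem_map_of_map_eq_zero : ∀ (i : ℕ), i ≤ rs.length →
    ∀ x : AdicCompletion (Ideal.span {a}) A,
      AdicCompletion.map (Ideal.span {a}) (Ideal.ofList (rs.take i)).mkQ x = 0 →
      x ∈ (Ideal.ofList (rs.take i)).map (algebraMap A (AdicCompletion (Ideal.span {a}) A))
  | 0, _, x, hx => by
    have h0 : Ideal.ofList (rs.take 0) = ⊥ := by simp
    let e : A ≃ₗ[A] (A ⧸ Ideal.ofList (rs.take 0)) := (Submodule.quotEquivOfEqBot _ h0).symm
    have he : e.toLinearMap = (Ideal.ofList (rs.take 0)).mkQ := rfl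
    have h1 : AdicCompletion.map (Ideal.span {a}) e.symm.toLinearMap
        (AdicCompletion.map (Ideal.span {a}) e.toLinearMap x) = x := by
      rw [AdicCompletion.map_comp_apply]
      have : e.symm.toLinearMap ∘ₗ e.toLinearMap = LinearMap.id := by
        ext
        exact e.symm_apply_apply 1
      rw [this, AdicCompletion.map_id]
      rfl
    rw [he, hx, map_zero] at h1
    rw [← h1]
    exact zero_mem _
  | i + 1, hi, x, hx => by
    have hi' : i < rs.length := hi
    rw [← q_comp_mkQ, ← AdicCompletion.map_comp_apply, ker_completion a rs hreg hbd i hi'] at hx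
    obtain ⟨y, hy⟩ := hx
    obtain ⟨x', rfl⟩ := AdicCompletion.map_surjective (Ideal.span {a})
      (Submodule.mkQ_surjective (Ideal.ofList (rs.take i))) y
    rw [← map_smul_base, ← sub_eq_zero, ← map_sub] at hy
    have h2 := mem_map_of_map_eq_zero i (Nat.le_of_lt hi') _ hy
    rw [List.take_succ_eq_append_getElem hi', Ideal.ofList_append, Ideal.ofList_singleton,
      Ideal.map_sup]
    have h3 : x = rs[i] • x' - (rs[i] • x' - x) := by ring
    rw [h3]
    refine sub_mem (Ideal.mem_sup_right ?_) (Ideal.mem_sup_left h2)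
    rw [Algebra.smul_def]
    exact Ideal.mul_mem_right _ _ (Ideal.mem_map_of_mem _ (Ideal.subset_span rfl))

include hreg hbd in
theorem main :
    IsWeaklyRegular (AdicCompletion (Ideal.span {a}) A)
        (rs.map (algebraMap A (AdicCompletion (Ideal.span {a}) A))) ∧
      Function.Surjective (AdicCompletion.map (Ideal.span {a}) (Ideal.ofList rs).mkQ) ∧
      LinearMap.ker (AdicCompletion.map (Ideal.span {a}) (Ideal.ofList rs).mkQ) =
        (Ideal.ofList rs).map (algebraMap A (AdicCompletion (Ideal.span {a}) A)) := by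
  refine ⟨⟨?_⟩, ?_, ?_⟩
  · intro i hi
    have hi' : i < rs.length := by simpa using hi
    rw [isSMulRegular_iff_right_eq_zero_of_smul]
    intro m hm
    obtain ⟨x, rfl⟩ := Submodule.mkQ_surjective _ m
    rw [← map_smul, Submodule.mkQ_apply, Submodule.Quotient.mk_eq_zero] at hm
    rw [Submodule.mkQ_apply, Submodule.Quotient.mk_eq_zero]
    rw [smul_eq_mul, Ideal.mul_top, ← List.map_take, ← Ideal.map_ofList] at hm ⊢
    rw [List.getElem_map, smul_eq_mul] at hm
    have h1 := map_mkQ_eq_zero_of_mem (Ideal.span {a}) _ _ hm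
    rw [← Algebra.smul_def, map_smul_base] at h1
    have h2 := isSMulRegular_iff_right_eq_zero_of_smul.mp
      (regular_completion a rs hreg hbd i hi') _ h1
    exact mem_map_of_map_eq_zero a rs hreg hbd i (Nat.le_of_lt hi') x h2
  · exact AdicCompletion.map_surjective _ (Submodule.mkQ_surjective _)
  · refine SetLike.ext fun x => ?_
    change AdicCompletion.map _ _ x = 0 ↔ _
    constructor
    · intro hx
      have := mem_map_of_map_eq_zero a rs hreg hbd rs.length le_rfl x
        (by rw [List.take_length]; exact hx)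
      rwa [List.take_length] at this
    · exact map_mkQ_eq_zero_of_mem _ _ x

end main

end Groth.Agent.Lib.Helper14.AdicRegSeq
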