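import Mathlib

/-!
Presentation of the affine blow-up algebra `A[a_1/a_0, …, a_n/a_0]` for a weakly regular sequence.
-/

namespace Groth.Agent.Lib.Helper14.AffBlowup

open MvPolynomial

variable {A : Type*} [CommRing A] {n : ℕ} (a : Fin (n + 1) → A)

/-- The generator `a_0 T_i - a_{i+1}`. -/
noncomputable def gen (i : Fin n) : MvPolynomial (Fin n) A := C (a 0) * X i - C (a i.succ)

/-- The ideal generated by the first `k` generators. -/
noncomputable def J (k : ℕ) : Ideal (MvPolynomial (Fin n) A) :=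
  Ideal.span ((gen a) '' {i | i.val < k})

/-- The ideal generated by the first `k` elements of the sequence. -/
def I (k : ℕ) : Ideal A := Ideal.span (a '' {j | j.val < k})

/-- Elementwise weak regularity. -/
def Reg : Prop := ∀ i : Fin (n + 1), ∀ x : A, a i * x ∈ I a i.val → x ∈ I a i.val

theorem reg_of_isWeaklyRegular
    (ha : RingTheory.Sequence.IsWeaklyRegular A (List.ofFn a)) : Reg a := by
  intro i x hx
  have h := (RingTheory.Sequence.isWeaklyRegular_iff A (List.ofFn a)).mp ha i.val
    (by rw [List.length_ofFn]; exact i.isLt)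
  have hI : (Ideal.ofList ((List.ofFn a).take i.val) • ⊤ : Submodule A A) = I a i.val := by
    rw [smul_eq_mul, Ideal.mul_top]
    unfold I Ideal.ofList
    congr 1
    ext r
    simp only [Set.mem_setOf_eq, Set.mem_image, List.mem_take_iff_getElem, List.getElem_ofFn]
    constructor
    · rintro ⟨j, hj, rfl⟩
      simp only [List.length_ofFn, lt_inf_iff] at hj
      exact ⟨⟨j, hj.2⟩, hj.1, rfl⟩
    · rintro ⟨j, hj, rfl⟩
      exact ⟨j.val, by simp [hj], rfl⟩
  have h2 := (isSMulRegular_quotient_iff_mem_of_smul_mem _ _).mp h x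
  rw [hI] at h2
  apply h2
  rw [List.getElem_ofFn, smul_eq_mul]
  exact hx

theorem a0_regular (h : Reg a) (x : A) (hx : a 0 * x = 0) : x = 0 := by
  have := h 0 x
  simp only [I, Fin.val_zero, not_lt_zero', Set.setOf_false, Set.image_empty, Ideal.span_empty,
    Ideal.mem_bot] at this
  exact this hx

theorem C_a0_regular (h : Reg a) (g : MvPolynomial (Fin n) A) (hg : C (a 0) * g = 0) : g = 0 := by
  ext m
  have := congrArg (coeff m) hg
  rw [coeff_C_mul, coeff_zero] at this
  rw [coeff_zero]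
  exact a0_regular a h _ this

theorem J_le_map (k : ℕ) : J a k ≤ (I a (k + 1)).map (C : A →+* MvPolynomial (Fin n) A) := by
  unfold J
  rw [Ideal.span_le]
  rintro _ ⟨i, hi, rfl⟩
  have h0 : (C (a 0) : MvPolynomial (Fin n) A) ∈ (I a (k + 1)).map C :=
    Ideal.mem_map_of_mem _ (Ideal.subset_span ⟨0, by simp, rfl⟩)
  have h1 : (C (a i.succ) : MvPolynomial (Fin n) A) ∈ (I a (k + 1)).map C :=
    Ideal.mem_map_of_mem _ (Ideal.subset_span ⟨i.succ, by simpa using hi, rfl⟩)
  exact Ideal.sub_mem _ (Ideal.mul_mem_right _ _ h0) h1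

theorem map_le_J_sup (k : ℕ) : (I a (k + 1)).map (C : A →+* MvPolynomial (Fin n) A) ≤
    J a k ⊔ Ideal.span {C (a 0)} := by
  unfold I
  rw [Ideal.map_span, Ideal.span_le]
  rintro _ ⟨_, ⟨j, hj, rfl⟩, rfl⟩
  have h0 : (C (a 0) : MvPolynomial (Fin n) A) ∈ J a k ⊔ Ideal.span {C (a 0)} :=
    Ideal.mem_sup_right (Ideal.mem_span_singleton_self _)
  rcases Fin.eq_zero_or_eq_succ j with rfl | ⟨i, rfl⟩
  · exact h0
  · have hi : i.val < k := by simpa using hj
    have h1 : gen a i ∈ J a k ⊔ Ideal.span {C (a 0)} :=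
      Ideal.mem_sup_left (Ideal.subset_span ⟨i, hi, rfl⟩)
    have : (C (a i.succ) : MvPolynomial (Fin n) A) = C (a 0) * X i - gen a i := by
      unfold gen; ring
    rw [SetLike.mem_coe, this]
    exact Ideal.sub_mem _ (Ideal.mul_mem_right _ _ h0) h1

theorem reg_map (h : Reg a) (i : Fin (n + 1)) (f : MvPolynomial (Fin n) A)
    (hf : C (a i) * f ∈ (I a i.val).map (C : A →+* MvPolynomial (Fin n) A)) :
    f ∈ (I a i.val).map (C : A →+* MvPolynomial (Fin n) A) := by
  rw [mem_map_C_iff] at hf ⊢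
  intro m
  have := hf m
  rw [coeff_C_mul] at this
  exact h i _ this

theorem J_succ (k : ℕ) (hk : k < n) : J a (k + 1) = J a k ⊔ Ideal.span {gen a ⟨k, hk⟩} := by
  unfold J
  have : {i : Fin n | i.val < k + 1} = {i | i.val < k} ∪ {⟨k, hk⟩} := by
    ext i
    simp only [Set.mem_setOf_eq, Set.union_singleton, Set.mem_insert_iff, Fin.ext_iff]
    omega
  rw [this, Set.image_union, Ideal.span_union, Set.image_singleton]

theorem a0_regular_mod_J (h : Reg a) (k : ℕ) (hk : k ≤ n) (g : MvPolynomial (Fin n) A)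
    (hg : C (a 0) * g ∈ J a k) : g ∈ J a k := by
  induction k generalizing g with
  | zero =>
    have hJ : J a 0 = ⊥ := by simp [J]
    rw [hJ, Ideal.mem_bot] at hg ⊢
    exact C_a0_regular a h g hg
  | succ k ih =>
    have hk' : k < n := hk
    rw [J_succ a k hk'] at hg ⊢
    obtain ⟨j, hj, z, hz, hjz⟩ := Submodule.mem_sup.mp hg
    obtain ⟨hh, rfl⟩ := Ideal.mem_span_singleton'.mp hz
    set i0 : Fin n := ⟨k, hk'⟩ with hi0
    -- `C (a i0.succ) * hh ∈ (I (k+1)).map C`
    have h1 : C (a i0.succ) * hh ∈ (I a (i0.succ).val).map (C : A →+* MvPolynomial (Fin n) A) := by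
      have e : C (a i0.succ) * hh = C (a 0) * (X i0 * hh - g) + j := by
        have : hh * gen a i0 = C (a 0) * g - j := by rw [← hjz]; ring
        unfold gen at this
        linear_combination (-1 : MvPolynomial (Fin n) A) * this
      rw [e]
      have hv : (i0.succ).val = k + 1 := by simp [hi0]
      rw [hv]
      refine Ideal.add_mem _ (Ideal.mul_mem_right _ _ ?_) (J_le_map a k hj)
      exact Ideal.mem_map_of_mem _ (Ideal.subset_span ⟨0, by simp, rfl⟩)
    have h2 := reg_map a h i0.succ hh h1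
    have hv : (i0.succ).val = k + 1 := by simp [hi0]
    rw [hv] at h2
    obtain ⟨j', hj', w, hw, hjw⟩ := Submodule.mem_sup.mp (map_le_J_sup a k h2)
    obtain ⟨h', rfl⟩ := Ideal.mem_span_singleton'.mp hw
    have h3 : C (a 0) * (g - h' * gen a i0) ∈ J a k := by
      have e : C (a 0) * (g - h' * gen a i0) = j + j' * gen a i0 := by
        rw [← hjw] at hjz
        linear_combination (-1 : MvPolynomial (Fin n) A) * hjz
      rw [e]
      exact Ideal.add_mem _ hj (Ideal.mul_mem_right _ _ hj')
    have h4 := ih (le_of_lt hk') _ h3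
    have : g = (g - h' * gen a i0) + h' * gen a i0 := by ring
    rw [this]
    exact Ideal.add_mem _ (Ideal.mem_sup_left h4)
      (Ideal.mem_sup_right (Ideal.mul_mem_left _ _ (Ideal.mem_span_singleton_self _)))

theorem J_top : J a n = Ideal.span (Set.range (gen a)) := by
  unfold J
  congr 1
  have : {i : Fin n | i.val < n} = Set.univ := by
    ext i; simp
  rw [this, Set.image_univ]

/-- Every polynomial becomes, after multiplication by a power of `a_0`, congruent to a constant. -/
theorem exists_pow_mul_sub_C_mem (f : MvPolynomial (Fin n) A) :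
    ∃ (N : ℕ) (c : A), C (a 0) ^ N * f - C c ∈ Ideal.span (Set.range (gen a)) := by
  induction f using MvPolynomial.induction_on with
  | C r => exact ⟨0, r, by simp⟩
  | add f g hf hg =>
    obtain ⟨N1, c1, h1⟩ := hf
    obtain ⟨N2, c2, h2⟩ := hg
    refine ⟨N1 + N2, a 0 ^ N2 * c1 + a 0 ^ N1 * c2, ?_⟩
    have : C (a 0) ^ (N1 + N2) * (f + g) - C (a 0 ^ N2 * c1 + a 0 ^ N1 * c2) =
        C (a 0) ^ N2 * (C (a 0) ^ N1 * f - C c1) + C (a 0) ^ N1 * (C (a 0) ^ N2 * g - C c2) := by
      simp only [map_add, map_mul, map_pow]; ring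
    rw [this]
    exact Ideal.add_mem _ (Ideal.mul_mem_left _ _ h1) (Ideal.mul_mem_left _ _ h2)
  | mul_X f i hf =>
    obtain ⟨N, c, h1⟩ := hf
    refine ⟨N + 1, c * a i.succ, ?_⟩
    have : C (a 0) ^ (N + 1) * (f * X i) - C (c * a i.succ) =
        C (a 0) ^ N * f * gen a i + C (a i.succ) * (C (a 0) ^ N * f - C c) := by
      unfold gen
      simp only [map_mul]; ring
    rw [this]
    exact Ideal.add_mem _ (Ideal.mul_mem_left _ _ (Ideal.subset_span ⟨i, rfl⟩))
      (Ideal.mul_mem_left _ _ h1)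

theorem ker_eq (h : Reg a) {S : Type*} [CommRing S] [Algebra A S] [IsLocalization.Away (a 0) S] :
    RingHom.ker (MvPolynomial.aeval (R := A) (S₁ := S)
      (fun i : Fin n => IsLocalization.mk' S (a i.succ)
        (⟨a 0, Submonoid.mem_powers (a 0)⟩ : Submonoid.powers (a 0)))) =
      Ideal.span (Set.range (gen a)) := by
  set φ := MvPolynomial.aeval (R := A) (S₁ := S)
      (fun i : Fin n => IsLocalization.mk' S (a i.succ)
        (⟨a 0, Submonoid.mem_powers (a 0)⟩ : Submonoid.powers (a 0))) with hφ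
  have hgen : ∀ i, φ (gen a i) = 0 := by
    intro i
    unfold gen
    rw [map_sub, map_mul, hφ, aeval_C, aeval_X, aeval_C]
    have := IsLocalization.mk'_spec' S (a i.succ)
      (⟨a 0, Submonoid.mem_powers (a 0)⟩ : Submonoid.powers (a 0))
    rw [this, sub_self]
  have hle : Ideal.span (Set.range (gen a)) ≤ RingHom.ker φ := by
    rw [Ideal.span_le]
    rintro _ ⟨i, rfl⟩
    exact hgen i
  apply le_antisymm _ hle
  intro f hf
  rw [RingHom.mem_ker] at hf
  obtain ⟨N, c, hNc⟩ := exists_pow_mul_sub_C_mem a f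
  have h1 := hle hNc
  rw [RingHom.mem_ker, map_sub, map_mul, hf, mul_zero, zero_sub, neg_eq_zero, hφ, aeval_C] at h1
  obtain ⟨⟨_, m, rfl⟩, hm⟩ := (IsLocalization.map_eq_zero_iff (Submonoid.powers (a 0)) S c).mp h1
  have hc : c = 0 := by
    simp only at hm
    clear h1 hNc
    induction m with
    | zero => simpa using hm
    | succ m ih =>
      apply ih
      apply a0_regular a h
      rw [← mul_assoc, ← pow_succ']
      exact hm
  rw [hc, map_zero, sub_zero] at hNc
  rw [← J_top] at hNc ⊢
  clear h1 hf hm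
  induction N with
  | zero => simpa using hNc
  | succ N ih =>
    apply ih
    apply a0_regular_mod_J a h n le_rfl
    rw [← mul_assoc, ← pow_succ']
    exact hNc

end Groth.Agent.Lib.Helper14.AffBlowup
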