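import Mathlib
import Groth.Agent.Lib.Helper11.GenColim

/-!
# Consequences of the approximation property for functors on `CommAlgCat A` (helper14)
-/

set_option autoImplicit false
open CategoryTheory CategoryTheory.Limits

namespace Groth.Agent.Lib.Helper14.ArtinFunctorAlg

open Groth.Agent.Lib.Helper11

universe u

section diagram

variable (A B : Type u) [CommRing A] [CommRing B] [Algebra A B]
variable (P : ∀ (C : Type u) [CommRing C] [Algebra A C], Prop)

/-- the diagram of finitely presented algebras in `CommAlgCat A` -/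
noncomputable def D : GenColim.Idx A B P ⥤ CommAlgCat.{u} A where
  obj s := CommAlgCat.of A s.Q
  map {_ _} f := CommAlgCat.ofHom f.1
  map_id _ := rfl
  map_comp _ _ := rfl

/-- the cocone with point `B` -/
noncomputable def cc : Cocone (D A B P) where
  pt := CommAlgCat.of A B
  ι :=
    { app := fun s => CommAlgCat.ofHom s.g
      naturality := by
        intro s t f
        ext x
        exact AlgHom.congr_fun f.2 x }

variable {A B P}

theorem isColimit_cc (H : GenColim.Hyp A B P) : Nonempty (IsColimit (cc A B P)) := by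
  obtain ⟨hc⟩ := GenColim.isColimit H
  have hc' : IsColimit ((commAlgCatEquivUnder (CommRingCat.of A)).functor.mapCocone (cc A B P)) :=
    hc
  exact ⟨isColimitOfReflects (commAlgCatEquivUnder (CommRingCat.of A)).functor hc'⟩

end diagram

set_option maxHeartbeats 1600000 in
theorem main (A : Type u) [CommRing A] (I : Ideal A)
    (hAP : ∀ (n l : ℕ) (f : Fin l → MvPolynomial (Fin n) A) (â : Fin n → AdicCompletion I A),
      (∀ j, MvPolynomial.aeval â (f j) = 0) → ∀ N : ℕ,
      ∃ a : Fin n → A, (∀ j, MvPolynomial.eval a (f j) = 0) ∧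
        ∀ i, â i - algebraMap A (AdicCompletion I A) (a i) ∈
          (I ^ N).map (algebraMap A (AdicCompletion I A)))
    (F : CommAlgCat.{u} A ⥤ Type u) [PreservesFilteredColimitsOfSize.{u, u} F] :
    Function.Injective (F.map (CommAlgCat.ofHom (Algebra.ofId A (AdicCompletion I A)))) ∧
    ∀ xbar : F.obj (CommAlgCat.of A (A ⧸ I)),
      (∃ x : F.obj (CommAlgCat.of A A),
        F.map (CommAlgCat.ofHom (Ideal.Quotient.mkₐ A I)) x = xbar) ↔
      (∃ y : F.obj (CommAlgCat.of A (AdicCompletion I A)),
        F.map (CommAlgCat.ofHom (AdicCompletion.evalOneₐ I)) y = xbar) := by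
  classical
  let P : ∀ (C : Type u) [CommRing C] [Algebra A C], Prop := fun _ _ _ => True
  have H : GenColim.Hyp A (AdicCompletion I A) P :=
    { iso := fun _ _ _ _ _ _ _ _ => trivial
      tensor := fun _ _ _ _ _ _ _ _ _ _ => trivial
      quot := fun _ _ _ _ _ _ _ _ => trivial
      claim := fun b => ⟨MvPolynomial (Fin 1) A, inferInstance, inferInstance,
        MvPolynomial.aeval (fun _ => b), inferInstance, trivial, MvPolynomial.X 0, by simp⟩ }
  haveI := GenColim.isFiltered H
  obtain ⟨hc⟩ := isColimit_cc H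
  haveI : PreservesColimitsOfShape (GenColim.Idx A (AdicCompletion I A) P) F :=
    PreservesFilteredColimitsOfSize.preserves_filtered_colimits _
  have hc' := isColimitOfPreserves F hc
  -- retractions
  have hretr : ∀ s : GenColim.Idx A (AdicCompletion I A) P, ∃ σ : s.Q →ₐ[A] A,
      (Ideal.Quotient.mkₐ A I).comp σ = (AdicCompletion.evalOneₐ I).comp s.g := by
    intro s
    obtain ⟨l, fl, hfl⟩ := Submodule.fg_iff_exists_fin_generating_family.mp s.fg
    let â : Fin s.n → AdicCompletion I A :=
      fun j => s.g (Ideal.Quotient.mk s.I (MvPolynomial.X j))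
    have haev : ∀ p : MvPolynomial (Fin s.n) A,
        MvPolynomial.aeval â p = s.g (Ideal.Quotient.mk s.I p) := by
      intro p
      have e : MvPolynomial.aeval â = s.g.comp (Ideal.Quotient.mkₐ A s.I) := by
        apply MvPolynomial.algHom_ext
        intro j
        simp [â]
      rw [e]
      rfl
    have hzero : ∀ i, MvPolynomial.aeval â (fl i) = 0 := by
      intro i
      rw [haev]
      have hmem : fl i ∈ s.I := by
        rw [← hfl]
        exact Submodule.subset_span ⟨i, rfl⟩
      rw [Ideal.Quotient.eq_zero_iff_mem.mpr hmem, map_zero]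
    obtain ⟨a, ha0, hamod⟩ := hAP s.n l fl â hzero 1
    have hI : ∀ p ∈ s.I, (MvPolynomial.aeval a : MvPolynomial (Fin s.n) A →ₐ[A] A) p = 0 := by
      have hle : s.I ≤ RingHom.ker
          (MvPolynomial.aeval a : MvPolynomial (Fin s.n) A →ₐ[A] A).toRingHom := by
        rw [← hfl]
        apply Ideal.span_le.mpr
        rintro _ ⟨i, rfl⟩
        exact ha0 i
      exact fun p hp => hle hp
    let σ : s.Q →ₐ[A] A := Ideal.Quotient.liftₐ s.I (MvPolynomial.aeval a) hI
    refine ⟨σ, ?_⟩
    have hker : (I ^ 1).map (algebraMap A (AdicCompletion I A)) ≤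
        RingHom.ker (AdicCompletion.evalOneₐ I : AdicCompletion I A →ₐ[A] A ⧸ I).toRingHom := by
      rw [Ideal.map_le_iff_le_comap]
      intro x hx
      rw [pow_one] at hx
      rw [Ideal.mem_comap, RingHom.mem_ker]
      show AdicCompletion.evalOneₐ I (algebraMap A (AdicCompletion I A) x) = 0
      rw [AlgHom.commutes]
      exact Ideal.Quotient.eq_zero_iff_mem.mpr hx
    apply Ideal.Quotient.algHom_ext
    apply MvPolynomial.algHom_ext
    intro j
    show Ideal.Quotient.mk I (MvPolynomial.aeval a (MvPolynomial.X j)) =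
      AdicCompletion.evalOneₐ I (â j)
    rw [MvPolynomial.aeval_X]
    have h1 := hker (hamod j)
    rw [RingHom.mem_ker] at h1
    have h2 : AdicCompletion.evalOneₐ I (â j - algebraMap A (AdicCompletion I A) (a j)) = 0 := h1
    rw [map_sub, AlgHom.commutes, sub_eq_zero] at h2
    rw [h2]
    rfl
  constructor
  · -- injectivity
    intro x₁ x₂ hx
    obtain ⟨s₀, e₀, he₀⟩ := GenColim.exists_idx H A (Algebra.ofId A (AdicCompletion I A))
      inferInstance trivial
    have hcomp : s₀.g.comp e₀.toAlgHom = Algebra.ofId A (AdicCompletion I A) :=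
      Subsingleton.elim _ _
    have h1 : (F.mapCocone (cc A (AdicCompletion I A) P)).ι.app s₀
        (F.map (CommAlgCat.ofHom e₀.toAlgHom) x₁) =
        (F.mapCocone (cc A (AdicCompletion I A) P)).ι.app s₀
        (F.map (CommAlgCat.ofHom e₀.toAlgHom) x₂) := by
      show F.map (CommAlgCat.ofHom s₀.g) (F.map (CommAlgCat.ofHom e₀.toAlgHom) x₁) =
        F.map (CommAlgCat.ofHom s₀.g) (F.map (CommAlgCat.ofHom e₀.toAlgHom) x₂)
      rw [← FunctorToTypes.map_comp_apply, ← FunctorToTypes.map_comp_apply,
        ← CommAlgCat.ofHom_comp, hcomp]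
      exact hx
    obtain ⟨k, f, g, hfg⟩ := (Types.FilteredColimit.isColimit_eq_iff _ hc').mp h1
    let h := IsFiltered.coeqHom f g
    have hh : f ≫ h = g ≫ h := IsFiltered.coeq_condition f g
    obtain ⟨σ, -⟩ := hretr (IsFiltered.coeq f g)
    have hfg' : F.map (CommAlgCat.ofHom (f ≫ h).1)
        (F.map (CommAlgCat.ofHom e₀.toAlgHom) x₁) =
        F.map (CommAlgCat.ofHom (f ≫ h).1) (F.map (CommAlgCat.ofHom e₀.toAlgHom) x₂) := by
      let DD := D A (AdicCompletion I A) P
      have hfg2 : F.map (DD.map f) (F.map (CommAlgCat.ofHom e₀.toAlgHom) x₁) =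
          F.map (DD.map g) (F.map (CommAlgCat.ofHom e₀.toAlgHom) x₂) := hfg
      show F.map (DD.map (f ≫ h)) _ = F.map (DD.map (f ≫ h)) _
      conv_rhs => rw [hh]
      rw [DD.map_comp, DD.map_comp,
        FunctorToTypes.map_comp_apply F (DD.map f) (DD.map h),
        FunctorToTypes.map_comp_apply F (DD.map g) (DD.map h), hfg2]
    have hid : (σ.comp (f ≫ h).1).comp e₀.toAlgHom = AlgHom.id A A := Subsingleton.elim _ _
    have hx₁ : ∀ x : F.obj (CommAlgCat.of A A), x = F.map (CommAlgCat.ofHom σ)
        (F.map (CommAlgCat.ofHom (f ≫ h).1) (F.map (CommAlgCat.ofHom e₀.toAlgHom) x)) := by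
      intro x
      rw [← FunctorToTypes.map_comp_apply, ← FunctorToTypes.map_comp_apply,
        ← CommAlgCat.ofHom_comp, ← CommAlgCat.ofHom_comp, hid]
      have : CommAlgCat.ofHom (AlgHom.id A A) = 𝟙 (CommAlgCat.of A A) := rfl
      rw [this, FunctorToTypes.map_id_apply]
    rw [hx₁ x₁, hx₁ x₂, hfg']
  · intro xbar
    constructor
    · rintro ⟨x, rfl⟩
      refine ⟨F.map (CommAlgCat.ofHom (Algebra.ofId A (AdicCompletion I A))) x, ?_⟩
      rw [← FunctorToTypes.map_comp_apply, ← CommAlgCat.ofHom_comp]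
      have : (AdicCompletion.evalOneₐ I).comp (Algebra.ofId A (AdicCompletion I A)) =
          Ideal.Quotient.mkₐ A I := Subsingleton.elim _ _
      rw [this]
    · rintro ⟨y, rfl⟩
      obtain ⟨s, ys, hys⟩ := Types.jointly_surjective_of_isColimit hc' y
      obtain ⟨σ, hσ⟩ := hretr s
      refine ⟨F.map (CommAlgCat.ofHom σ) ys, ?_⟩
      rw [← hys]
      show _ = F.map (CommAlgCat.ofHom (AdicCompletion.evalOneₐ I))
        (F.map (CommAlgCat.ofHom s.g) ys)
      rw [← FunctorToTypes.map_comp_apply, ← FunctorToTypes.map_comp_apply,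
        ← CommAlgCat.ofHom_comp, ← CommAlgCat.ofHom_comp, hσ]

end Groth.Agent.Lib.Helper14.ArtinFunctorAlg
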