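import Mathlib
import Groth.Prelude.Def_Found
import Groth.Agent.Lib.Helper11.GenColim

/-!
# Artin approximation for functors, étale-neighbourhood form, from the polynomial form (helper14)
-/

set_option autoImplicit false
open CategoryTheory CategoryTheory.Limits

namespace Groth.Agent.Lib.Helper14.ArtinFunctorLocal

open Groth.Agent.Lib.Helper11

universe u

theorem main (A : Type u) [CommRing A] (m : Ideal A)
    (hEt : ∀ (n l : ℕ) (f : Fin l → MvPolynomial (Fin n) A) (a : Fin n → AdicCompletion m A),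
      (∀ j, MvPolynomial.aeval a (f j) = 0) → ∀ N : ℕ,
      ∃ (R' : Type u) (_ : CommRing R') (_ : Algebra A R'), Algebra.Etale A R' ∧
        ∃ (ψ : R' →ₐ[A] AdicCompletion m A) (b : Fin n → R'),
          (∀ j, MvPolynomial.aeval b (f j) = 0) ∧
          ∀ i, a i - ψ (b i) ∈ (m ^ N).map (algebraMap A (AdicCompletion m A)))
    (F : Under (CommRingCat.of A) ⥤ Type u)
    (hF : ∀ (J : Type u) [SmallCategory J] [IsFiltered J], PreservesColimitsOfShape J F)
    (c : ℕ)
    (π : Under.mk (CommRingCat.ofHom (algebraMap A (AdicCompletion m A))) ⟶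
      Under.mk (CommRingCat.ofHom (algebraMap A (A ⧸ m ^ c))))
    (hπ : π.right = CommRingCat.ofHom
      (AdicCompletion.evalₐ m c : AdicCompletion m A →ₐ[A] A ⧸ m ^ c).toRingHom)
    (ξ : F.obj (Under.mk (CommRingCat.ofHom (algebraMap A (AdicCompletion m A))))) :
    ∃ (A' : Type u) (_ : CommRing A') (_ : Algebra A A') (_ : Algebra.Etale A A')
      (φ : Under.mk (CommRingCat.ofHom (algebraMap A A')) ⟶
        Under.mk (CommRingCat.ofHom (algebraMap A (A ⧸ m ^ c))))
      (ξ' : F.obj (Under.mk (CommRingCat.ofHom (algebraMap A A')))),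
      F.map φ ξ' = F.map π ξ := by
  classical
  let P : ∀ (C : Type u) [CommRing C] [Algebra A C], Prop := fun _ _ _ => True
  have H : GenColim.Hyp A (AdicCompletion m A) P :=
    { iso := fun _ _ _ _ _ _ _ _ => trivial
      tensor := fun _ _ _ _ _ _ _ _ _ _ => trivial
      quot := fun _ _ _ _ _ _ _ _ => trivial
      claim := fun b => ⟨MvPolynomial (Fin 1) A, inferInstance, inferInstance,
        MvPolynomial.aeval (fun _ => b), inferInstance, trivial, MvPolynomial.X 0, by simp⟩ }
  haveI := GenColim.isFiltered H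
  obtain ⟨hc⟩ := GenColim.isColimit H
  haveI := hF (GenColim.Idx A (AdicCompletion m A) P)
  have hc' := isColimitOfPreserves F hc
  obtain ⟨s, ξs, hξs⟩ := Types.jointly_surjective_of_isColimit hc' ξ
  obtain ⟨l, fl, hfl⟩ := Submodule.fg_iff_exists_fin_generating_family.mp s.fg
  let â : Fin s.n → AdicCompletion m A := fun j => s.g (Ideal.Quotient.mk s.I (MvPolynomial.X j))
  have haev : ∀ p : MvPolynomial (Fin s.n) A,
      MvPolynomial.aeval â p = s.g (Ideal.Quotient.mk s.I p) := by
    intro p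
    have e : MvPolynomial.aeval â = s.g.comp (Ideal.Quotient.mkₐ A s.I) := by
      apply MvPolynomial.algHom_ext
      intro j
      simp [â]
    rw [e]
    rfl
  have hzero : ∀ i, MvPolynomial.aeval â (fl i) = 0 := by
    intro i
    rw [haev]
    have hmem : fl i ∈ s.I := by
      rw [← hfl]
      exact Submodule.subset_span ⟨i, rfl⟩
    rw [Ideal.Quotient.eq_zero_iff_mem.mpr hmem, map_zero]
  obtain ⟨R', iR', iAR', hEtale, ψ, b, hb0, hb⟩ := hEt s.n l fl â hzero c
  have hI : ∀ p ∈ s.I, (MvPolynomial.aeval b : MvPolynomial (Fin s.n) A →ₐ[A] R') p = 0 := by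
    have hle : s.I ≤ RingHom.ker
        (MvPolynomial.aeval b : MvPolynomial (Fin s.n) A →ₐ[A] R').toRingHom := by
      rw [← hfl]
      apply Ideal.span_le.mpr
      rintro _ ⟨i, rfl⟩
      exact hb0 i
    exact fun p hp => hle hp
  let χ : s.Q →ₐ[A] R' := Ideal.Quotient.liftₐ s.I (MvPolynomial.aeval b) hI
  have hχw : ((GenColim.F A (AdicCompletion m A) P).obj s).hom ≫
      CommRingCat.ofHom χ.toRingHom = CommRingCat.ofHom (algebraMap A R') := by
    ext a'
    exact χ.commutes a'
  let χ' : (GenColim.F A (AdicCompletion m A) P).obj s ⟶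
      Under.mk (CommRingCat.ofHom (algebraMap A R')) :=
    Under.homMk (CommRingCat.ofHom χ.toRingHom) hχw
  let φ₀ : R' →ₐ[A] A ⧸ m ^ c :=
    (AdicCompletion.evalₐ m c : AdicCompletion m A →ₐ[A] A ⧸ m ^ c).comp ψ
  have hφw : (Under.mk (CommRingCat.ofHom (algebraMap A R'))).hom ≫
      CommRingCat.ofHom φ₀.toRingHom = CommRingCat.ofHom (algebraMap A (A ⧸ m ^ c)) := by
    ext a'
    exact φ₀.commutes a'
  let φ : Under.mk (CommRingCat.ofHom (algebraMap A R')) ⟶
      Under.mk (CommRingCat.ofHom (algebraMap A (A ⧸ m ^ c))) :=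
    Under.homMk (CommRingCat.ofHom φ₀.toRingHom) hφw
  refine ⟨R', iR', iAR', hEtale, φ, F.map χ' ξs, ?_⟩
  have hπ' : π.right.hom =
      (AdicCompletion.evalₐ m c : AdicCompletion m A →ₐ[A] A ⧸ m ^ c).toRingHom := by
    rw [hπ]
    rfl
  have hker : (m ^ c).map (algebraMap A (AdicCompletion m A)) ≤
      RingHom.ker (AdicCompletion.evalₐ m c : AdicCompletion m A →ₐ[A] A ⧸ m ^ c).toRingHom := by
    rw [Ideal.map_le_iff_le_comap]
    intro x hx
    rw [Ideal.mem_comap, RingHom.mem_ker]
    show AdicCompletion.evalₐ m c (algebraMap A (AdicCompletion m A) x) = 0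
    rw [AlgHom.commutes]
    exact Ideal.Quotient.eq_zero_iff_mem.mpr hx
  have key : φ₀.toRingHom.comp χ.toRingHom = (π.right.hom).comp s.g.toRingHom := by
    rw [hπ']
    apply Ideal.Quotient.ringHom_ext
    apply MvPolynomial.ringHom_ext
    · intro a'
      show φ₀ (χ (algebraMap A s.Q a')) =
        AdicCompletion.evalₐ m c (s.g (algebraMap A s.Q a'))
      rw [AlgHom.commutes, AlgHom.commutes, AlgHom.commutes, AlgHom.commutes]
    · intro j
      show AdicCompletion.evalₐ m c (ψ (MvPolynomial.aeval b (MvPolynomial.X j))) =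
        AdicCompletion.evalₐ m c (â j)
      rw [MvPolynomial.aeval_X]
      have h1 := hker (hb j)
      rw [RingHom.mem_ker] at h1
      have h2 : AdicCompletion.evalₐ m c (â j - ψ (b j)) = 0 := h1
      rw [map_sub, sub_eq_zero] at h2
      exact h2.symm
  have hcomm : χ' ≫ φ = (GenColim.cocone A (AdicCompletion m A) P).ι.app s ≫ π := by
    apply Under.UnderMorphism.ext
    apply CommRingCat.hom_ext
    exact key
  rw [← hξs]
  have e1 : F.map φ (F.map χ' ξs) = F.map (χ' ≫ φ) ξs :=
    (FunctorToTypes.map_comp_apply F χ' φ ξs).symm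
  have e2 : F.map π ((F.mapCocone (GenColim.cocone A (AdicCompletion m A) P)).ι.app s ξs) =
      F.map ((GenColim.cocone A (AdicCompletion m A) P).ι.app s ≫ π) ξs :=
    (FunctorToTypes.map_comp_apply F _ π ξs).symm
  rw [e1, e2, hcomm]

end Groth.Agent.Lib.Helper14.ArtinFunctorLocal
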