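import Mathlib
import Groth.Prelude.Def_Found
import Groth.Agent.S14624
import Groth.Agent.Lib.Helper14.IadicFibresReg

/-!
# Artin approximation for functors over a henselian pair, from the polynomial form (helper14)
-/

set_option autoImplicit false
open CategoryTheory CategoryTheory.Limits

namespace Groth.Agent.Lib.Helper14.ArtinFunctorPair

universe u

/-- the polynomial approximation property in the form of `S14624` from the form of `S0597` -/
theorem hAP_of_approx (A : Type u) [CommRing A] (I : Ideal A)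
    (h0597 : ∀ (n m : ℕ) (F : Fin m → MvPolynomial (Fin n) A) (a : Fin n → AdicCompletion I A),
      (∀ j, MvPolynomial.eval a (MvPolynomial.map (algebraMap A (AdicCompletion I A)) (F j)) = 0) →
      ∀ N : ℕ, ∃ b : Fin n → A, (∀ j, MvPolynomial.eval b (F j) = 0) ∧
        ∀ i, a i - algebraMap A (AdicCompletion I A) (b i) ∈
          (I ^ N).map (algebraMap A (AdicCompletion I A)))
    (k l c : ℕ) (f : Fin l → MvPolynomial (Fin k) A) (â : Fin k → AdicCompletion I A)
    (hâ : ∀ i, MvPolynomial.aeval â (f i) = 0) :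
    ∃ a : Fin k → A, (∀ i, MvPolynomial.eval a (f i) = 0) ∧
      ∀ j, Ideal.Quotient.mk (I ^ c) (a j) = AdicCompletion.evalₐ I c (â j) := by
  obtain ⟨b, hb0, hb⟩ := h0597 k l f â (fun j => by
    rw [MvPolynomial.eval_map, ← hâ j, MvPolynomial.aeval_def]) c
  refine ⟨b, hb0, fun j => ?_⟩
  have hker : (I ^ c).map (algebraMap A (AdicCompletion I A)) ≤
      RingHom.ker (AdicCompletion.evalₐ I c : AdicCompletion I A →ₐ[A] A ⧸ I ^ c).toRingHom := by
    rw [Ideal.map_le_iff_le_comap]
    intro x hx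
    rw [Ideal.mem_comap, RingHom.mem_ker]
    show AdicCompletion.evalₐ I c (algebraMap A (AdicCompletion I A) x) = 0
    rw [AlgHom.commutes]
    exact Ideal.Quotient.eq_zero_iff_mem.mpr hx
  have h1 := hker (hb j)
  rw [RingHom.mem_ker] at h1
  have h2 : AdicCompletion.evalₐ I c (â j - algebraMap A (AdicCompletion I A) (b j)) = 0 := h1
  rw [map_sub, AlgHom.commutes, sub_eq_zero] at h2
  rw [h2]
  rfl

theorem main (A : Type u) [CommRing A]
    (I : Ideal A) [HenselianRing A I] (hG : CAlg.IsGRing A)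
    (h0597 : CAlg.IsRegularHom A (AdicCompletion I A) →
      ∀ (n m : ℕ) (F : Fin m → MvPolynomial (Fin n) A) (a : Fin n → AdicCompletion I A),
      (∀ j, MvPolynomial.eval a (MvPolynomial.map (algebraMap A (AdicCompletion I A)) (F j)) = 0) →
      ∀ N : ℕ, ∃ b : Fin n → A, (∀ j, MvPolynomial.eval b (F j) = 0) ∧
        ∀ i, a i - algebraMap A (AdicCompletion I A) (b i) ∈
          (I ^ N).map (algebraMap A (AdicCompletion I A)))
    (F : Under (CommRingCat.of A) ⥤ Type u)
    (hF : ∀ (J : Type u) [SmallCategory J] [IsFiltered J], PreservesColimitsOfShape J F)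
    (n : ℕ)
    (π : Under.mk (CommRingCat.ofHom (algebraMap A (AdicCompletion I A))) ⟶
      Under.mk (CommRingCat.ofHom (algebraMap A (A ⧸ I ^ (n + 1)))))
    (hπ : π.right = CommRingCat.ofHom
      (AdicCompletion.evalₐ I (n + 1) : AdicCompletion I A →ₐ[A] A ⧸ I ^ (n + 1)).toRingHom)
    (ρ : Under.mk (𝟙 (CommRingCat.of A)) ⟶
      Under.mk (CommRingCat.ofHom (algebraMap A (A ⧸ I ^ (n + 1)))))
    (ξ : F.obj (Under.mk (CommRingCat.ofHom (algebraMap A (AdicCompletion I A))))) :
    ∃ η : F.obj (Under.mk (𝟙 (CommRingCat.of A))), F.map ρ η = F.map π ξ := by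
  by_cases hI : I = ⊤
  · -- `A` is the zero ring
    haveI : Subsingleton A := by
      have h1 : (1 : A) ∈ Ideal.jacobson (⊥ : Ideal A) :=
        (HenselianRing.jac (R := A) (I := I)) (by rw [hI]; exact Submodule.mem_top)
      have h2 : Ideal.jacobson (⊥ : Ideal A) = ⊤ := (Ideal.eq_top_iff_one _).mpr h1
      have h3 : (⊥ : Ideal A) = ⊤ := Ideal.jacobson_eq_top_iff.mp h2
      have h4 : (1 : A) ∈ (⊥ : Ideal A) := by rw [h3]; exact Submodule.mem_top
      have h5 : (1 : A) = 0 := (Submodule.mem_bot _).mp h4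
      exact subsingleton_of_zero_eq_one h5.symm
    let g : (A ⧸ I ^ (n + 1)) →+* A :=
      Ideal.Quotient.lift (I ^ (n + 1)) (RingHom.id A) (fun a _ => Subsingleton.elim _ _)
    let inv : Under.mk (CommRingCat.ofHom (algebraMap A (A ⧸ I ^ (n + 1)))) ⟶
        Under.mk (𝟙 (CommRingCat.of A)) :=
      Under.homMk (CommRingCat.ofHom g) (by
        ext x
        exact @Subsingleton.elim A _ _ _)
    have hcomp : inv ≫ ρ = 𝟙 _ := by
      apply Under.UnderMorphism.ext
      ext x
      haveI : Subsingleton (A ⧸ I ^ (n + 1)) := by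
        refine ⟨fun a b => ?_⟩
        obtain ⟨a, rfl⟩ := Ideal.Quotient.mk_surjective a
        obtain ⟨b, rfl⟩ := Ideal.Quotient.mk_surjective b
        rw [Subsingleton.elim a b]
      exact @Subsingleton.elim (A ⧸ I ^ (n + 1)) _ _ _
    refine ⟨F.map inv (F.map π ξ), ?_⟩
    rw [← FunctorToTypes.map_comp_apply, hcomp, FunctorToTypes.map_id_apply]
  · have hreg := Groth.Agent.Lib.Helper14.IadicFibresReg.isRegularHom_adicCompletion A hG I
    exact Groth.Agent.S14624.result A I hI
      (fun k l c f â hâ => hAP_of_approx A I (h0597 hreg) k l c f â hâ) F hF (n + 1) π hπ ρ ξ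

end Groth.Agent.Lib.Helper14.ArtinFunctorPair
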