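import Mathlib

/-!
# `Away.map` is bijective for graded maps that are bijective in high degrees
-/

open HomogeneousLocalization

namespace Groth.Agent.Lib.Helper14

universe u

variable {R A B : Type u} [CommRing R] [CommRing A] [Algebra R A] {𝒜 : ℕ → Submodule R A}
  [GradedAlgebra 𝒜] [CommRing B] [Algebra R B] {ℬ : ℕ → Submodule R B} [GradedAlgebra ℬ]
  (ψ : 𝒜 →+*ᵍ ℬ)

theorem awayMap_bijective_of_eventually_bijOn (d₀ : ℕ)
    (hbij : ∀ d : ℕ, d₀ ≤ d → Set.BijOn ψ (𝒜 d) (ℬ d)) {e : ℕ} (he : 0 < e) {s : A}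
    (hs : s ∈ 𝒜 e) : Function.Bijective (Away.map ψ s) := by
  have hle : ∀ m : ℕ, d₀ ≤ (m + d₀) • e := by
    intro m
    rw [smul_eq_mul]
    calc d₀ ≤ m + d₀ := Nat.le_add_left _ _
      _ = (m + d₀) * 1 := (mul_one _).symm
      _ ≤ (m + d₀) * e := Nat.mul_le_mul_left _ he
  constructor
  · rw [injective_iff_map_eq_zero]
    intro x hx
    obtain ⟨n, a, ha, rfl⟩ := Away.mk_surjective 𝒜 hs x
    rw [Away.map_mk] at hx
    have hv := congrArg HomogeneousLocalization.val hx
    rw [Away.val_mk, HomogeneousLocalization.val_zero, Localization.mk_eq_mk',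
      IsLocalization.mk'_eq_zero_iff] at hv
    obtain ⟨⟨_, k, rfl⟩, hk⟩ := hv
    have hk' : ψ s ^ k * ψ a = 0 := hk
    have hmem : s ^ (k + d₀) * a ∈ 𝒜 ((k + d₀ + n) • e) := by
      have := SetLike.mul_mem_graded (SetLike.pow_mem_graded (k + d₀) hs) ha
      rwa [← add_smul] at this
    have hD : d₀ ≤ (k + d₀ + n) • e := by
      have := hle (k + n)
      rwa [show k + n + d₀ = k + d₀ + n by omega] at this
    have hzero : ψ (s ^ (k + d₀) * a) = ψ 0 := by
      rw [map_mul, map_pow, pow_add, map_zero]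
      calc ψ s ^ k * ψ s ^ d₀ * ψ a = ψ s ^ d₀ * (ψ s ^ k * ψ a) := by ring
        _ = 0 := by rw [hk', mul_zero]
    have h0 : s ^ (k + d₀) * a = 0 :=
      (hbij _ hD).injOn hmem (Submodule.zero_mem _) hzero
    apply HomogeneousLocalization.val_injective
    rw [Away.val_mk, HomogeneousLocalization.val_zero, Localization.mk_eq_mk',
      IsLocalization.mk'_eq_zero_iff]
    exact ⟨⟨s ^ (k + d₀), k + d₀, rfl⟩, h0⟩
  · intro y
    obtain ⟨n, b, hb, rfl⟩ := Away.mk_surjective ℬ (Graded.map_mem ψ hs) y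
    have hb' : b * ψ s ^ d₀ ∈ ℬ ((n + d₀) • e) := by
      have := SetLike.mul_mem_graded hb (SetLike.pow_mem_graded d₀ (Graded.map_mem ψ hs))
      rwa [← add_smul] at this
    obtain ⟨a, ha, hab⟩ := (hbij _ (hle n)).surjOn hb'
    refine ⟨Away.mk 𝒜 hs (n + d₀) a ha, ?_⟩
    rw [Away.map_mk]
    apply HomogeneousLocalization.val_injective
    rw [Away.val_mk, Away.val_mk, Localization.mk_eq_mk_iff, Localization.r_iff_exists]
    refine ⟨1, ?_⟩
    simp only [OneMemClass.coe_one, one_mul]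
    rw [hab]
    ring

end Groth.Agent.Lib.Helper14
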