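import Mathlib
import Groth.Agent.S0390
import Groth.Agent.S6382
import Groth.Agent.S9237
import Groth.Agent.S9238
import Groth.Agent.Lib.Helper8.EssEtComplete
import Groth.Agent.Lib.Helper8.BranchCount
import Groth.Agent.Lib.Helper8.Hzl.Main
import Groth.Agent.Lib.Helper8.Hzl.Noeth
import Groth.Agent.Lib.Helper8.Hzl.Noeth2
import Groth.Agent.Lib.Helper14.FEChain2

/-!
# Branches of a Noetherian local ring and of its completion

* `flat_of_flat_of_map_maximalIdeal`: special case of the fibre criterion of flatness:
  `A → B → C` local Noetherian, `𝔪_A B = 𝔪_B`, `C` flat over `A` implies `C` flat over `B`.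
* the (strict) henselization maps faithfully flatly to the (strict henselization of the) completion.
-/

set_option autoImplicit false

universe u

open IsLocalRing TensorProduct

namespace Groth.Agent.Lib.Helper14.BrnchCompl

/-- Special case of the fibre criterion of flatness. -/
theorem flat_of_flat_of_map_maximalIdeal (A B C : Type u) [CommRing A] [CommRing B] [CommRing C]
    [IsLocalRing A] [IsLocalRing B] [IsLocalRing C] [IsNoetherianRing B] [IsNoetherianRing C]
    [Algebra A B] [Algebra B C] [Algebra A C] [IsScalarTower A B C]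
    [IsLocalHom (algebraMap B C)]
    (hm : (maximalIdeal A).map (algebraMap A B) = maximalIdeal B) [Module.Flat A C] :
    Module.Flat B C := by
  refine Groth.Agent.S0390.result (R := B) (S := C) (M := C) ?_
  refine Groth.Agent.S6382.rTensor_map_injective (maximalIdeal A) (maximalIdeal B) hm C ?_
  exact Module.Flat.rTensor_preserves_injective_linearMap _ Subtype.val_injective

/-- A ring map `B → C` compatible with local homs `A → B`, `A → C` with `𝔪_A B = 𝔪_B` is local. -/
theorem isLocalHom_of_map_maximalIdeal (A B C : Type u) [CommRing A] [CommRing B] [CommRing C]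
    [IsLocalRing A] [IsLocalRing B] [IsLocalRing C]
    [Algebra A B] [Algebra A C] [IsLocalHom (algebraMap A C)]
    (hm : (maximalIdeal A).map (algebraMap A B) = maximalIdeal B)
    (ψ : B →+* C) (hψ : ψ.comp (algebraMap A B) = algebraMap A C) : IsLocalHom ψ := by
  have hle : maximalIdeal B ≤ (maximalIdeal C).comap ψ := by
    rw [← hm, Ideal.map_le_iff_le_comap]
    intro a ha
    rw [Ideal.mem_comap, Ideal.mem_comap, ← RingHom.comp_apply, hψ]
    exact ((IsLocalRing.mem_maximalIdeal _).mpr
      (fun hu => (IsLocalRing.mem_maximalIdeal _).mp ha (isUnit_of_map_unit (algebraMap A C) a hu)))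
  refine ⟨fun b hb => ?_⟩
  by_contra hnu
  have : b ∈ maximalIdeal B := (IsLocalRing.mem_maximalIdeal _).mpr hnu
  exact (IsLocalRing.mem_maximalIdeal _).mp (hle this) hb

/-- Faithfully flat maps: the number of minimal primes does not decrease. -/
theorem card_minimalPrimes_le (A B : Type u) [CommRing A] [CommRing B] [Algebra A B]
    [Module.FaithfullyFlat A B] :
    ENat.card (minimalPrimes A) ≤ ENat.card (minimalPrimes B) := by
  classical
  have h := Groth.Agent.Lib.Helper8.BranchCount.exists_minimalPrime_comap_eq A B
  choose f hf hfc using h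
  let g : minimalPrimes A → minimalPrimes B := fun p => ⟨f p.1 p.2, hf p.1 p.2⟩
  have hg : Function.Injective g := by
    intro p q hpq
    have h1 : f p.1 p.2 = f q.1 q.2 := congrArg Subtype.val hpq
    apply Subtype.ext
    rw [← hfc p.1 p.2, ← hfc q.1 q.2, h1]
  exact ENat.card_le_card_of_injective hg

section hens

variable (A S : Type u) [CommRing A] [IsLocalRing A] [IsNoetherianRing A]
  [CommRing S] [IsLocalRing S] [Algebra A S] [IsLocalHom (algebraMap A S)]

local notation "Â" => AdicCompletion (maximalIdeal A) A

instance isLocalHom_algebraMap_completion : IsLocalHom (algebraMap A Â) := by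
  refine ⟨fun a ha => ?_⟩
  by_contra hnu
  have hmem : a ∈ maximalIdeal A := (IsLocalRing.mem_maximalIdeal _).mpr hnu
  have h1 : algebraMap A Â a ∈ maximalIdeal Â := by
    rw [AdicCompletion.maximalIdeal_eq_map]
    exact Ideal.mem_map_of_mem _ hmem
  exact (IsLocalRing.mem_maximalIdeal _).mp h1 ha

/-- The map from a henselization to the completion is a flat local homomorphism. -/
theorem hens_to_completion [Hensel.IsHenselization A S] (ψ : S →+* Â)
    (hψ : ψ.comp (algebraMap A S) = algebraMap A Â) :
    IsLocalHom ψ ∧ (letI := ψ.toAlgebra; Module.FaithfullyFlat S Â) := by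
  have hm := Groth.Agent.Lib.Helper8.Hzl.henselization_map_maximalIdeal A S
  have hloc : IsLocalHom ψ := isLocalHom_of_map_maximalIdeal A S Â hm ψ hψ
  refine ⟨hloc, ?_⟩
  letI := ψ.toAlgebra
  haveI : IsScalarTower A S Â := IsScalarTower.of_algebraMap_eq (fun a => by
    rw [RingHom.algebraMap_toAlgebra, ← RingHom.comp_apply, hψ])
  haveI : IsLocalHom (algebraMap S Â) := hloc
  haveI : IsNoetherianRing S :=
    (Groth.Agent.Lib.Helper8.Hzl.henselization_isNoetherianRing_iff A S).mp inferInstance
  haveI : Module.Flat S Â := flat_of_flat_of_map_maximalIdeal A S Â hm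
  exact Module.FaithfullyFlat.of_flat_of_isLocalHom

instance henselianLocalRing_completion : HenselianLocalRing Â :=
  haveI : IsAdicComplete (maximalIdeal Â) Â :=
    Groth.Agent.Lib.Helper14.FEChain2.isAdicComplete_cpl A
  Groth.Agent.Lib.Helper8.EssEtComplete.henselianLocalRing_of_isAdicComplete Â

/-- A henselian local ring is its own henselization. -/
theorem isHenselization_self (T : Type u) [CommRing T] [HenselianLocalRing T] :
    Hensel.IsHenselization T T where
  henselian := inferInstance
  universal U _ _ f _ := ⟨f, RingHom.comp_id f, fun g hg => by rw [← hg]; rfl⟩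

theorem numBranches_eq_card_of_henselian (T : Type u) [CommRing T] [HenselianLocalRing T] :
    Brnch.numBranches T = ENat.card (minimalPrimes T) := by
  haveI := isHenselization_self T
  exact (Groth.Agent.S9237.result T T).symm

/-- The number of branches does not decrease under completion. -/
theorem numBranches_le_completion : Brnch.numBranches A ≤ Brnch.numBranches Â := by
  haveI := Groth.Agent.Lib.Helper8.Hzl.isHenselization A
  obtain ⟨ψ, hψ, -⟩ := (Hensel.IsHenselization.universal (R := A)
    (S := Groth.Agent.Lib.Helper8.Hzl.Hens A) Â (algebraMap A Â) inferInstance)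
  obtain ⟨hloc, hff⟩ := hens_to_completion A (Groth.Agent.Lib.Helper8.Hzl.Hens A) ψ hψ
  rw [numBranches_eq_card_of_henselian Â,
    ← Groth.Agent.S9237.result A (Groth.Agent.Lib.Helper8.Hzl.Hens A)]
  letI := ψ.toAlgebra
  exact card_minimalPrimes_le _ _

/-- General comparison: a flat local homomorphism `A → B` of Noetherian local rings induces a
faithfully flat map on strict henselizations. -/
theorem exists_strictHenselization_map (B : Type u) [CommRing B] [IsLocalRing B]
    [IsNoetherianRing B] [Algebra A B] [IsLocalHom (algebraMap A B)] [Module.Flat A B]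
    (Ssh Tsh : Type u) [CommRing Ssh] [IsLocalRing Ssh] [Algebra A Ssh]
    [IsLocalHom (algebraMap A Ssh)] [Hensel.IsStrictHenselization A Ssh]
    [CommRing Tsh] [IsLocalRing Tsh] [Algebra B Tsh]
    [IsLocalHom (algebraMap B Tsh)] [Hensel.IsStrictHenselization B Tsh] :
    ∃ g : Ssh →+* Tsh, g.comp (algebraMap A Ssh) = (algebraMap B Tsh).comp (algebraMap A B) ∧
      IsLocalHom g ∧ (letI := g.toAlgebra; Module.FaithfullyFlat Ssh Tsh) := by
  let f : A →+* Tsh := (algebraMap B Tsh).comp (algebraMap A B)
  haveI hfloc : IsLocalHom f := RingHom.isLocalHom_comp _ _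
  haveI : HenselianLocalRing Tsh := Hensel.IsStrictHenselization.henselian (R := B)
  have hscA := Hensel.IsStrictHenselization.isSepClosure (R := A) (S := Ssh)
  have hscB := Hensel.IsStrictHenselization.isSepClosure (R := B) (S := Tsh)
  haveI : IsSepClosed (ResidueField Tsh) := hscB.sep_closed
  haveI : Algebra.IsSeparable (ResidueField A) (ResidueField Ssh) := hscA.separable
  letI : Algebra (ResidueField A) (ResidueField Tsh) := (ResidueField.map f).toAlgebra
  let τ₀ : ResidueField Ssh →ₐ[ResidueField A] ResidueField Tsh := IsSepClosed.lift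
  have hτ : τ₀.toRingHom.comp (ResidueField.map (algebraMap A Ssh)) = ResidueField.map f := by
    refine RingHom.ext fun x => ?_
    exact τ₀.commutes x
  obtain ⟨g, ⟨hg, -⟩, -⟩ := Hensel.IsStrictHenselization.universal (R := A) (S := Ssh) Tsh f
    τ₀.toRingHom hτ
  refine ⟨g, hg, ?_⟩
  letI : Algebra A Tsh := f.toAlgebra
  haveI : IsScalarTower A B Tsh := IsScalarTower.of_algebraMap_eq (fun _ => rfl)
  haveI : IsLocalHom (algebraMap A Tsh) := hfloc
  have hm := Groth.Agent.Lib.Helper8.Hzl.strictHenselization_map_maximalIdeal A Ssh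
  have hloc : IsLocalHom g := isLocalHom_of_map_maximalIdeal A Ssh Tsh hm g hg
  refine ⟨hloc, ?_⟩
  letI := g.toAlgebra
  haveI : IsScalarTower A Ssh Tsh := IsScalarTower.of_algebraMap_eq (fun a => by
    rw [RingHom.algebraMap_toAlgebra g, ← RingHom.comp_apply, hg]; rfl)
  haveI : IsLocalHom (algebraMap Ssh Tsh) := hloc
  haveI : IsNoetherianRing Ssh :=
    (Groth.Agent.Lib.Helper8.Hzl.strictHenselization_isNoetherianRing_iff A Ssh).mp inferInstance
  haveI : IsNoetherianRing Tsh :=
    (Groth.Agent.Lib.Helper8.Hzl.strictHenselization_isNoetherianRing_iff B Tsh).mp inferInstance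
  haveI : Module.Flat B Tsh := Groth.Agent.Lib.Helper8.Hzl.strictHenselization_flat B Tsh
  haveI : Module.Flat A Tsh := Module.Flat.trans A B Tsh
  haveI : Module.Flat Ssh Tsh := flat_of_flat_of_map_maximalIdeal A Ssh Tsh hm
  exact Module.FaithfullyFlat.of_flat_of_isLocalHom

/-- The number of geometric branches does not decrease under completion. -/
theorem numGeomBranches_le_completion :
    Brnch.numGeomBranches A ≤ Brnch.numGeomBranches Â := by
  haveI := Groth.Agent.Lib.Helper8.Hzl.isStrictHenselization A
  haveI := Groth.Agent.Lib.Helper8.Hzl.isStrictHenselization Â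
  obtain ⟨g, -, -, hff⟩ := exists_strictHenselization_map A Â
    (Groth.Agent.Lib.Helper8.Hzl.SHens A) (Groth.Agent.Lib.Helper8.Hzl.SHens Â)
  rw [← Groth.Agent.S9238.result A (Groth.Agent.Lib.Helper8.Hzl.SHens A),
    ← Groth.Agent.S9238.result Â (Groth.Agent.Lib.Helper8.Hzl.SHens Â)]
  letI := g.toAlgebra
  exact card_minimalPrimes_le _ _

end hens

end Groth.Agent.Lib.Helper14.BrnchCompl
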