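import Mathlib

/-!
# Noetherian local rings with principal maximal ideal generated by a nonzerodivisor are domains;
local rings flat over a Dedekind domain with maximal ideal extended from a maximal ideal.
-/

set_option autoImplicit false

universe u

open IsLocalRing

namespace Groth.Agent.Lib.Helper14.PrincipalMax

/-- A Noetherian local ring whose maximal ideal is generated by a nonzerodivisor is a domain. -/
theorem isDomain_of_maximalIdeal_eq_span (R : Type u) [CommRing R] [IsLocalRing R]
    [IsNoetherianRing R] (t : R) (ht : t ∈ nonZeroDivisors R)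
    (hmax : maximalIdeal R = Ideal.span {t}) : IsDomain R := by
  have hkrull : ⨅ k : ℕ, (maximalIdeal R) ^ k = ⊥ := Ideal.iInf_pow_eq_bot_of_isLocalRing _
    (IsLocalRing.maximalIdeal.isMaximal R).ne_top
  -- every nonzero element is a unit times a power of `t`
  have hrep : ∀ x : R, x ≠ 0 → ∃ (k : ℕ) (u : R), IsUnit u ∧ x = t ^ k * u := by
    intro x hx
    have hex : ∃ k : ℕ, x ∉ (maximalIdeal R) ^ k := by
      by_contra hcon
      push_neg at hcon
      have : x ∈ ⨅ k : ℕ, (maximalIdeal R) ^ k := by
        rw [Ideal.mem_iInf]; exact hcon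
      rw [hkrull, Ideal.mem_bot] at this
      exact hx this
    classical
    let k₀ := Nat.find hex
    have hk₀ : x ∉ (maximalIdeal R) ^ k₀ := Nat.find_spec hex
    have hk₀pos : k₀ ≠ 0 := by
      intro h0
      rw [h0, pow_zero, Ideal.one_eq_top] at hk₀
      exact hk₀ Submodule.mem_top
    obtain ⟨k, hk⟩ := Nat.exists_eq_succ_of_ne_zero hk₀pos
    have hmem : x ∈ (maximalIdeal R) ^ k := by
      by_contra hcon
      have := Nat.find_min' hex hcon
      omega
    rw [hmax, Ideal.span_singleton_pow, Ideal.mem_span_singleton] at hmem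
    obtain ⟨u, hu⟩ := hmem
    refine ⟨k, u, ?_, hu⟩
    by_contra hnu
    have hum : u ∈ maximalIdeal R := (IsLocalRing.mem_maximalIdeal _).mpr hnu
    rw [hmax, Ideal.mem_span_singleton] at hum
    obtain ⟨v, hv⟩ := hum
    apply hk₀
    rw [hk, hmax, Ideal.span_singleton_pow, Ideal.mem_span_singleton]
    exact ⟨v, by rw [hu, hv, pow_succ]; ring⟩
  have htpow : ∀ k : ℕ, t ^ k ∈ nonZeroDivisors R := fun k => pow_mem ht k
  haveI : NoZeroDivisors R := ⟨by
    intro x y hxy
    by_contra hcon
    push_neg at hcon
    obtain ⟨k, u, hu, rfl⟩ := hrep x hcon.1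
    obtain ⟨l, v, hv, rfl⟩ := hrep y hcon.2
    have h1 : t ^ (k + l) * (u * v) = 0 := by rw [← hxy, pow_add]; ring
    have h2 : (u * v) * t ^ (k + l) = 0 := by rw [mul_comm]; exact h1
    have h3 : u * v = 0 := (mem_nonZeroDivisors_iff_right.mp (htpow (k + l))) _ h2
    exact (hu.mul hv).ne_zero h3⟩
  exact NoZeroDivisors.to_isDomain R

/-- A Noetherian local ring, flat over a normal Noetherian domain `N` of dimension `≤ 1`, whose
maximal ideal is extended from a maximal ideal of `N`, is a domain. -/
theorem isDomain_of_flat_of_maximalIdeal_eq_map (N R : Type u) [CommRing N] [IsDomain N]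
    [IsNoetherianRing N] [IsIntegrallyClosed N] (hdim : ringKrullDim N ≤ 1)
    [CommRing R] [IsLocalRing R] [IsNoetherianRing R] [Algebra N R] [Module.Flat N R]
    (n : Ideal N) [hn : n.IsMaximal] (hmax : maximalIdeal R = n.map (algebraMap N R)) :
    IsDomain R := by
  by_cases hbot : n = ⊥
  · rw [hbot, Ideal.map_bot] at hmax
    have : IsField R := (IsLocalRing.isField_iff_maximalIdeal_eq).mpr hmax
    exact this.isDomain
  · haveI : Ring.KrullDimLE 1 N := Ring.krullDimLE_iff.mpr hdim
    haveI : Ring.DimensionLEOne N :=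
      ⟨fun {p} hp hpp => Ring.krullDimLE_one_iff_of_noZeroDivisors.mp inferInstance p hp hpp⟩
    haveI : IsDedekindDomain N := { }
    obtain ⟨t, htn, htn2⟩ := Ideal.exists_mem_pow_notMem_pow_succ n hbot hn.ne_top 1
    rw [pow_one] at htn
    have hI : Ideal.span {t} ⊔ n ^ 2 = n := by
      have hlt : n ^ (1 + 1) < Ideal.span {t} ⊔ n ^ 2 := by
        refine lt_of_le_of_ne le_sup_right ?_
        intro heq
        apply htn2
        have : t ∈ Ideal.span {t} ⊔ n ^ 2 :=
          Ideal.mem_sup_left (Ideal.mem_span_singleton_self t)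
        rw [← heq] at this
        exact this
      have hle : Ideal.span {t} ⊔ n ^ 2 ≤ n ^ 1 := by
        rw [pow_one]
        refine sup_le ?_ (Ideal.pow_le_self two_ne_zero)
        rw [Ideal.span_singleton_le_iff_mem]; exact htn
      have := Ideal.eq_prime_pow_of_succ_lt_of_le hbot hlt hle
      rw [this, pow_one]
    -- `𝔪_R = (t) + 𝔪_R²`
    have hmax2 : maximalIdeal R = Ideal.span {algebraMap N R t} ⊔ maximalIdeal R ^ 2 := by
      conv_lhs => rw [hmax, ← hI, Ideal.map_sup, Ideal.map_span, Set.image_singleton,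
        Ideal.map_pow, ← hmax]
    have hle : maximalIdeal R ≤ Ideal.span {algebraMap N R t} := by
      refine Submodule.le_of_le_smul_of_le_jacobson_bot (I := maximalIdeal R)
        (IsNoetherian.noetherian _) (IsLocalRing.maximalIdeal_le_jacobson _) ?_
      rw [smul_eq_mul, ← pow_two]
      exact hmax2.le
    have hmax3 : maximalIdeal R = Ideal.span {algebraMap N R t} := by
      refine le_antisymm hle ?_
      rw [Ideal.span_singleton_le_iff_mem, hmax]
      exact Ideal.mem_map_of_mem _ htn
    have ht0 : t ≠ 0 := by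
      rintro rfl
      exact htn2 (zero_mem _)
    have hreg : IsSMulRegular R t :=
      Module.Flat.isSMulRegular_of_nonZeroDivisors (mem_nonZeroDivisors_of_ne_zero ht0)
    have htR : algebraMap N R t ∈ nonZeroDivisors R := by
      rw [mem_nonZeroDivisors_iff_right]
      intro c hc
      apply hreg
      show t • c = t • (0 : R)
      rw [smul_zero, Algebra.smul_def, mul_comm]; exact hc
    exact isDomain_of_maximalIdeal_eq_span R _ htR hmax3

end Groth.Agent.Lib.Helper14.PrincipalMax
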