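import Mathlib
import Groth.Agent.Lib.Helper14.BrnchCompl
import Groth.Agent.Lib.Helper14.PrincipalMax
import Groth.Agent.Lib.Helper8.NormRedTensor
import Groth.Agent.Lib.Helper12.IntegralDim

/-!
# One-dimensional reduced Noetherian local rings with finite normalization:
minimal primes of the completion correspond to maximal ideals of the normalization.
-/

set_option autoImplicit false

universe u

open IsLocalRing TensorProduct

namespace Groth.Agent.Lib.Helper14.BrnchDimOne

open Groth.Agent.Lib.Helper8 Groth.Agent.Lib.Helper8.BranchCount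
  Groth.Agent.Lib.Helper8.UnibranchHens Groth.Agent.Lib.Helper14.BrnchCompl

attribute [local instance] Algebra.TensorProduct.rightAlgebra

section main

variable (A : Type u) [CommRing A] [IsLocalRing A] [IsNoetherianRing A] [IsReduced A]

local notation "Â" => AdicCompletion (maximalIdeal A) A
local notation "A'" => integralClosure A (FractionRing A)

theorem hres_completion : ∀ b : Â, ∃ a : A, b - algebraMap A Â a ∈ maximalIdeal Â := by
  intro b
  obtain ⟨a, ha⟩ := Groth.Agent.Lib.Helper8.Hzl.compl_exists_sub_mem (maximalIdeal A)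
    (IsNoetherian.noetherian _) 1 b
  refine ⟨a, ?_⟩
  rw [pow_one, ← AdicCompletion.maximalIdeal_eq_map] at ha
  exact ha

/-- For a finite `A`-algebra `N`, `N ⊗[A] Â` is Noetherian. -/
theorem isNoetherianRing_tensor (N : Type u) [CommRing N] [Algebra A N] [Module.Finite A N] :
    IsNoetherianRing (N ⊗[A] Â) := by
  haveI : IsNoetherianRing Â := inferInstance
  haveI : Module.Finite Â (Â ⊗[A] N) := inferInstance
  haveI : IsNoetherian Â (Â ⊗[A] N) := isNoetherian_of_isNoetherianRing_of_finite Â _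
  haveI : IsNoetherianRing (Â ⊗[A] N) := isNoetherian_of_tower Â inferInstance
  exact isNoetherianRing_of_ringEquiv (Â ⊗[A] N) (Algebra.TensorProduct.comm A Â N).toRingEquiv

/-- Key: for a normal domain `N` finite over `A` (of dimension `≤ 1`), the localization of
`N ⊗[A] Â` at a maximal ideal is a domain. -/
theorem isDomain_localization_tensor (hdim : ringKrullDim A ≤ 1)
    (N : Type u) [CommRing N] [IsDomain N] [IsIntegrallyClosed N] [Algebra A N] [Module.Finite A N]
    (m₁ : Ideal (N ⊗[A] Â)) [hm₁ : m₁.IsMaximal] : IsDomain (Localization.AtPrime m₁) := by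
  haveI : Algebra.IsIntegral A N := inferInstance
  haveI : IsNoetherian A N := isNoetherian_of_isNoetherianRing_of_finite A N
  haveI : IsNoetherianRing N := isNoetherian_of_tower A inferInstance
  haveI : IsNoetherianRing (N ⊗[A] Â) := isNoetherianRing_tensor A N
  haveI : IsNoetherianRing (Localization.AtPrime m₁) :=
    IsLocalization.isNoetherianRing m₁.primeCompl _ inferInstance
  have hdimN : ringKrullDim N ≤ 1 :=
    (Groth.Agent.Lib.Helper12.ringKrullDim_le_of_isIntegral (R := A) (S := N)).trans hdim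
  haveI : Module.Flat N (Localization.AtPrime m₁) :=
    Module.Flat.trans N (N ⊗[A] Â) (Localization.AtPrime m₁)
  let n₁ : Ideal N := m₁.comap (algebraMap N (N ⊗[A] Â))
  haveI hn₁ : n₁.IsMaximal := isMaximal_comap_left A N Â m₁
  -- `𝔪_Â (N ⊗ Â) ≤ n₁ (N ⊗ Â)`
  have hle1 : (maximalIdeal Â).map (algebraMap Â (N ⊗[A] Â)) ≤
      n₁.map (algebraMap N (N ⊗[A] Â)) := by
    rw [AdicCompletion.maximalIdeal_eq_map, Ideal.map_map, ← algebraMap_comp_eq A N Â,
      ← Ideal.map_map]
    apply Ideal.map_mono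
    rw [Ideal.map_le_iff_le_comap]
    intro a ha
    show algebraMap N (N ⊗[A] Â) (algebraMap A N a) ∈ m₁
    have h1 : algebraMap N (N ⊗[A] Â) (algebraMap A N a) =
        algebraMap Â (N ⊗[A] Â) (algebraMap A Â a) := by
      have := algebraMap_comp_eq A N Â
      exact DFunLike.congr_fun this a
    rw [h1]
    have h2 : algebraMap A Â a ∈ m₁.comap (algebraMap Â (N ⊗[A] Â)) := by
      rw [comap_includeRight_eq A N Â m₁, AdicCompletion.maximalIdeal_eq_map]
      exact Ideal.mem_map_of_mem _ ha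
    exact h2
  have hm₁eq : m₁ = n₁.map (algebraMap N (N ⊗[A] Â)) := by
    refine le_antisymm ?_ (Ideal.map_le_iff_le_comap.mpr le_rfl)
    intro c hc
    obtain ⟨x, hx⟩ := exists_sub_mem A N Â (hres_completion A) c
    have hx' := hle1 hx
    have hxm : x ⊗ₜ[A] (1 : Â) ∈ m₁ := by
      have h3 : c - x ⊗ₜ[A] (1 : Â) ∈ m₁ := Ideal.map_le_iff_le_comap.mpr le_rfl hx'
      have := sub_mem hc h3
      rwa [sub_sub_cancel] at this
    have hxn : x ∈ n₁ := hxm
    have h4 : x ⊗ₜ[A] (1 : Â) ∈ n₁.map (algebraMap N (N ⊗[A] Â)) :=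
      Ideal.mem_map_of_mem (algebraMap N (N ⊗[A] Â)) hxn
    have := add_mem h4 hx'
    rwa [add_sub_cancel] at this
  have hmax : maximalIdeal (Localization.AtPrime m₁) =
      n₁.map (algebraMap N (Localization.AtPrime m₁)) := by
    rw [← Localization.AtPrime.map_eq_maximalIdeal, IsScalarTower.algebraMap_eq N (N ⊗[A] Â)
      (Localization.AtPrime m₁), ← Ideal.map_map, ← hm₁eq]
  exact Groth.Agent.Lib.Helper14.PrincipalMax.isDomain_of_flat_of_maximalIdeal_eq_map N
    (Localization.AtPrime m₁) hdimN n₁ hmax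

theorem minimalPrime_unique_of_le (hdim : ringKrullDim A ≤ 1) [Module.Finite A A']
    (m : Ideal (A' ⊗[A] Â)) [hm : m.IsMaximal]
    {q₁ q₂ : Ideal (A' ⊗[A] Â)}
    (h₁ : q₁ ∈ minimalPrimes (A' ⊗[A] Â))
    (h₂ : q₂ ∈ minimalPrimes (A' ⊗[A] Â)) (hle₁ : q₁ ≤ m) (hle₂ : q₂ ≤ m) :
    q₁ = q₂ := by
  let incl : A' →ₐ[A] A' ⊗[A] Â := Algebra.TensorProduct.includeLeft
  let P : Ideal A' := m.comap incl.toRingHom
  haveI : P.IsPrime := Ideal.comap_isPrime _ _
  obtain ⟨N, _, _, _, θ, e, hθ, heP, hker⟩ :=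
    NormRedStruct.exists_normal_quotient (minimalPrimes.finite_of_isNoetherianRing A) P
  letI : Algebra A' N := θ.toAlgebra
  letI : Algebra A N := (θ.comp (algebraMap A A')).toAlgebra
  haveI : IsScalarTower A A' N := IsScalarTower.of_algebraMap_eq (fun _ => rfl)
  let θa : A' →ₐ[A] N := IsScalarTower.toAlgHom A A' N
  have hθa : Function.Surjective θa := hθ
  haveI : Module.Finite A N := Module.Finite.of_surjective θa.toLinearMap hθa
  let π₁ : A' ⊗[A] Â →ₐ[A] N ⊗[A] Â :=
    Algebra.TensorProduct.map θa (AlgHom.id A Â)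
  have hπs : Function.Surjective π₁ :=
    Algebra.TensorProduct.map_surjective (f := θa) (g := AlgHom.id A Â) hθa Function.surjective_id
  have hkerπ : RingHom.ker π₁ = (RingHom.ker θa).map
      (Algebra.TensorProduct.includeLeft : A' →ₐ[A] A' ⊗[A] Â) :=
    Algebra.TensorProduct.rTensor_ker θa hθa
  let ε : A' ⊗[A] Â := e ⊗ₜ[A] (1 : Â)
  have hεm : ε ∉ m := heP
  have hkerε : ∀ c ∈ RingHom.ker π₁, c * ε = 0 := by
    rw [hkerπ]
    intro c hc
    have hle : (RingHom.ker θa).map
        (Algebra.TensorProduct.includeLeft : A' →ₐ[A] A' ⊗[A] Â) ≤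
        (Submodule.span (A' ⊗[A] Â) {ε}).annihilator := by
      rw [Ideal.map_le_iff_le_comap]
      intro x hx
      rw [Ideal.mem_comap, Submodule.mem_annihilator_span_singleton, smul_eq_mul]
      have hx0 : θ x = 0 := hx
      have hxe := hker x hx0
      show (x ⊗ₜ[A] (1 : Â)) * (e ⊗ₜ[A] (1 : Â)) = 0
      rw [Algebra.TensorProduct.tmul_mul_tmul, hxe, TensorProduct.zero_tmul]
    have := hle hc
    rwa [Submodule.mem_annihilator_span_singleton, smul_eq_mul] at this
  have hkq : ∀ q : Ideal (A' ⊗[A] Â), q.IsPrime → ε ∉ q → RingHom.ker π₁ ≤ q := by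
    intro q hq hεq c hc
    have : c * ε ∈ q := by rw [hkerε c hc]; exact zero_mem _
    exact (hq.mem_or_mem this).resolve_right hεq
  let m₁ : Ideal (N ⊗[A] Â) := m.map π₁
  haveI hm₁p : m₁.IsPrime :=
    Ideal.map_isPrime_of_surjective hπs (hkq m hm.isPrime hεm)
  haveI hm₁ : m₁.IsMaximal :=
    (Ideal.map_eq_top_or_isMaximal_of_surjective π₁.toRingHom hπs hm).resolve_left hm₁p.ne_top
  haveI : IsDomain (Localization.AtPrime m₁) := isDomain_localization_tensor A hdim N m₁
  let N₀ : Ideal (N ⊗[A] Â) := RingHom.ker (algebraMap (N ⊗[A] Â) (Localization.AtPrime m₁))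
  haveI hN₀ : N₀.IsPrime := RingHom.ker_isPrime _
  have key : ∀ q ∈ minimalPrimes (A' ⊗[A] Â), q ≤ m → q = N₀.comap π₁ := by
    intro q hq hle
    haveI hqp : q.IsPrime := hq.1.1
    have hεq : ε ∉ q := fun h => hεm (hle h)
    have hkq' := hkq q hqp hεq
    haveI hq'p : (q.map π₁).IsPrime := Ideal.map_isPrime_of_surjective hπs hkq'
    have hcm : (q.map π₁).comap π₁ = q := by
      rw [Ideal.comap_map_of_surjective π₁ hπs]
      exact sup_eq_left.mpr hkq'
    have hN₀le : N₀ ≤ q.map π₁ := by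
      intro x hx
      have hx0 : algebraMap (N ⊗[A] Â) (Localization.AtPrime m₁) x = 0 := hx
      obtain ⟨s, hs⟩ := (IsLocalization.map_eq_zero_iff m₁.primeCompl _ x).mp hx0
      have hmem : (s : N ⊗[A] Â) * x ∈ q.map π₁ := by rw [hs]; exact zero_mem _
      rcases hq'p.mem_or_mem hmem with h | h
      · exact absurd (Ideal.map_mono hle h) s.2
      · exact h
    have h1 : N₀.comap π₁ ≤ q := by
      rw [← hcm]; exact Ideal.comap_mono hN₀le
    have hP' : (N₀.comap π₁).IsPrime := Ideal.comap_isPrime _ _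
    have h2 : q ≤ N₀.comap π₁ := hq.2 ⟨hP', bot_le⟩ h1
    exact le_antisymm h2 h1
  rw [key q₁ h₁ hle₁, key q₂ h₂ hle₂]

/-- The maximal ideal above a minimal prime of `A' ⊗ Â`. -/
noncomputable def minToMax (q : minimalPrimes (A' ⊗[A] Â)) : MaximalSpectrum (A' ⊗[A] Â) :=
  haveI : Algebra.IsIntegral Â (A' ⊗[A] Â) := isIntegral_right' A A' Â
  haveI : q.1.IsPrime := q.2.1.1
  ⟨Classical.choose (NormRedTensor.existsUnique_maximal_ge_of_isIntegral Â (A' ⊗[A] Â) q.1).exists,
    (Classical.choose_spec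
      (NormRedTensor.existsUnique_maximal_ge_of_isIntegral Â (A' ⊗[A] Â) q.1).exists).1⟩

theorem le_minToMax (q : minimalPrimes (A' ⊗[A] Â)) : q.1 ≤ (minToMax A q).asIdeal :=
  haveI : Algebra.IsIntegral Â (A' ⊗[A] Â) := isIntegral_right' A A' Â
  haveI : q.1.IsPrime := q.2.1.1
  (Classical.choose_spec
    (NormRedTensor.existsUnique_maximal_ge_of_isIntegral Â (A' ⊗[A] Â) q.1).exists).2

theorem minToMax_eq (q : minimalPrimes (A' ⊗[A] Â)) (m : Ideal (A' ⊗[A] Â)) (hm : m.IsMaximal)
    (hle : q.1 ≤ m) : (minToMax A q).asIdeal = m :=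
  haveI : Algebra.IsIntegral Â (A' ⊗[A] Â) := isIntegral_right' A A' Â
  haveI : q.1.IsPrime := q.2.1.1
  (NormRedTensor.existsUnique_maximal_ge_of_isIntegral Â (A' ⊗[A] Â) q.1).unique
    ⟨(minToMax A q).isMaximal, le_minToMax A q⟩ ⟨hm, hle⟩

theorem minToMax_bijective (hdim : ringKrullDim A ≤ 1) [Module.Finite A A'] :
    Function.Bijective (minToMax A) := by
  constructor
  · intro q₁ q₂ h
    apply Subtype.ext
    haveI := (minToMax A q₁).isMaximal
    exact minimalPrime_unique_of_le A hdim (minToMax A q₁).asIdeal q₁.2 q₂.2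
      (le_minToMax A q₁) (by rw [h]; exact le_minToMax A q₂)
  · intro m
    haveI := m.isMaximal.isPrime
    obtain ⟨q, hq, hle⟩ := Ideal.exists_minimalPrimes_le (I := ⊥) (J := m.asIdeal) bot_le
    exact ⟨⟨q, hq⟩, MaximalSpectrum.ext (minToMax_eq A ⟨q, hq⟩ m.asIdeal m.isMaximal hle)⟩

/-- **Main count**. -/
theorem card_minimalPrimes_completion (hdim : ringKrullDim A ≤ 1) [Module.Finite A A'] :
    ENat.card (minimalPrimes Â) = ENat.card (MaximalSpectrum A') := by
  have e1 : minimalPrimes (A' ⊗[A] Â) ≃ minimalPrimes Â :=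
    Set.BijOn.equiv _ (MinPrimeNorm.bijOn_comap_includeRight (nonZeroDivisors A) le_rfl
      (FractionRing A) A' (integralClosure A (FractionRing A)).val Subtype.val_injective Â)
  have e2 : minimalPrimes (A' ⊗[A] Â) ≃ MaximalSpectrum (A' ⊗[A] Â) :=
    Equiv.ofBijective _ (minToMax_bijective A hdim)
  have e3 : MaximalSpectrum (A' ⊗[A] Â) ≃ MaximalSpectrum A' :=
    Equiv.ofBijective (maxToMax A A' Â) (maxToMax_bijective A A' Â (hres_completion A))
  exact (ENat.card_congr e1).symm.trans ((ENat.card_congr e2).trans (ENat.card_congr e3))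

end main

end Groth.Agent.Lib.Helper14.BrnchDimOne
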