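import Mathlib
import Groth.Prelude
import Groth.Agent.Lib.Helper12.SchemeDimFT2
import Groth.Agent.Lib.Helper1.ProjSpaceFT
import Groth.Agent.S10829

/-!
# (B) for S14335: the function field of `P^n_k` has transcendence degree `n`
-/

set_option autoImplicit false
set_option linter.style.haveILetI false
universe u
open CategoryTheory CategoryTheory.Limits AlgebraicGeometry Opposite

namespace Groth.Agent.Lib.Helper14.CIDimB

attribute [local instance] Curv2.resAlgebra

/-- (B) function field of `P^n_k` has transcendence degree `n`. -/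
theorem trdeg_genericPoint_projSpace (k : Type u) [Field k] (n : ℕ)
    [IrreducibleSpace ↥(CohB1.ProjSpace n k)] :
    letI : (CohB1.ProjSpace n k).Over (Spec (CommRingCat.of k)) := ⟨CohB1.ProjSpace.toSpec n k⟩
    Algebra.trdeg k ((CohB1.ProjSpace n k).residueField (genericPoint ↥(CohB1.ProjSpace n k))) = n := by
  letI : (CohB1.ProjSpace n k).Over (Spec (CommRingCat.of k)) := ⟨CohB1.ProjSpace.toSpec n k⟩
  haveI : LocallyOfFiniteType (CohB1.ProjSpace n k ↘ Spec (CommRingCat.of k)) :=
    Groth.Agent.Lib.Helper1.ProjSpaceFT.locallyOfFiniteType_toSpec n k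
  obtain ⟨m, hm⟩ := Groth.Agent.Lib.Helper12.SchemeDimFT.exists_trdeg_eq k (CohB1.ProjSpace n k)
    (genericPoint ↥(CohB1.ProjSpace n k))
  have h1 := Groth.Agent.Lib.Helper12.SchemeDimFT.topologicalKrullDim_eq_of_irreducible k
    (CohB1.ProjSpace n k) m hm
  have h2 := Groth.Agent.S10829.result k n
  rw [h1] at h2
  have h3 : m = n := by exact_mod_cast h2
  rw [hm, h3]

end Groth.Agent.Lib.Helper14.CIDimB
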