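import Mathlib
import Groth.Agent.Lib.Helper14.CMDim2
import Groth.Agent.Lib.Helper12.QFAffine
import Groth.Agent.Lib.Helper12.FlatDim

/-!
# A Cohen–Macaulay morphism is equidimensional
-/

set_option autoImplicit false
set_option linter.style.haveILetI false
universe u

open AlgebraicGeometry CategoryTheory Limits IsLocalRing

namespace Groth.Agent.Lib.Helper14.CMDim

open Groth.Agent.Lib.Helper12 Groth.Agent.Lib.Helper12.SchemeDimFT

theorem isEquidimAt_of_isCMAt {X Y : Scheme.{u}} [IsLocallyNoetherian Y] (f : X ⟶ Y)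
    [LocallyOfFiniteType f] (x : X) (hcm : MoreMor.IsCMAt f x) : EGA43.IsEquidimAt f x := by
  haveI : LocallyOfFinitePresentation f :=
    LocallyOfFinitePresentation.iff_locallyOfFiniteType.2 inferInstance
  obtain ⟨n, U, hxU, g, hover, hfl, hqf, -, -, -⟩ := exists_flat_quasiFinite f x hcm
  refine QFAffine.isEquidimAt_of_quasiFinite f x n U g hxU hover ?_
  intro Z hZ
  obtain ⟨η, hη, rfl⟩ := (mem_irreducibleComponents_iff (X := (U : Scheme.{u})) Z).1 hZ
  rw [EquidimComp.closure_image_closure_singleton' g η]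
  exact (closure_singleton_mem_irreducibleComponents_iff (g η)).2
    (FlatDim.isMaxPt_apply_of_flat g η hη)

end Groth.Agent.Lib.Helper14.CMDim
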