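import Mathlib
import Groth.Prelude.Def_EGA4b
import Groth.Agent.Lib.Helper4.CMOpen
import Groth.Agent.Lib.Helper14.FEChain2
import Groth.Agent.Lib.Helper14.CMFlat

/-!
# Openness of the Cohen–Macaulay locus (helper14)

* `isOpen_cmLocus_of_complete`: the CM locus of a complete Noetherian local ring is open
  (quotient of a regular local ring + `Helper4.CMOpen`).
* `cm_atPrime_iff_of_fibre`: for `A → B` flat, Noetherian, `q` a prime of `B` whose fibre local
  ring is CM: `B_q` is CM iff `A_{q ∩ A}` is CM.
* `isOpen_cmLocus_of_hasCMFormalFibres` (= S2703).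
-/

set_option autoImplicit false
set_option linter.unusedSectionVars false
universe u
open IsLocalRing EGA4 Groth.Agent.Lib.Helper4 Groth.Agent.Lib.Helper4.FlatRing
  Groth.Agent.Lib.Helper4.FlatFibre

namespace Groth.Agent.Lib.Helper14.CMLocus

/-- the CM locus of a complete Noetherian local ring is open. -/
theorem isOpen_cmLocus_of_complete (C : Type u) [CommRing C] [IsLocalRing C] [IsNoetherianRing C]
    [IsAdicComplete (maximalIdeal C) C] :
    IsOpen {q : PrimeSpectrum C |
      LocCoh.IsCohenMacaulayLocalRing (Localization.AtPrime q.asIdeal)} := by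
  obtain ⟨R, hR, hreg, hloc, f, hf⟩ := FEChain2.exists_regular_surjective C
  letI := f.toAlgebra
  have hf' : Function.Surjective (algebraMap R C) := hf
  haveI : IsNoetherianRing R := inferInstance
  obtain ⟨n, hn⟩ : ∃ n : ℕ, ringKrullDim R ≤ (n : WithBot ℕ∞) := by
    have h1 : ringKrullDim R < ⊤ := ringKrullDim_lt_top
    have h2 : ringKrullDim R ≠ ⊥ := ringKrullDim_ne_bot
    obtain ⟨m, hm⟩ := WithBot.ne_bot_iff_exists.mp h2
    have h3 : m ≠ ⊤ := by
      rintro rfl
      rw [← hm] at h1
      exact (lt_irrefl _ h1)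
    obtain ⟨k, rfl⟩ := ENat.ne_top_iff_exists.mp h3
    exact ⟨k, by rw [← hm]; rfl⟩
  exact CMOpen.isOpen_cmLocus R n C hn hf'

section flat

variable (A B : Type u) [CommRing A] [CommRing B] [IsNoetherianRing A] [IsNoetherianRing B]
  [Algebra A B] [Module.Flat A B]

/-- for `A → B` flat and `q` a prime of `B` with CM fibre local ring: `B_q` CM iff `A_p` CM. -/
theorem cm_atPrime_iff_of_fibre (q : Ideal B) [q.IsPrime]
    (hF : ClosedCM (EGA4.FibLocRing A B q)) :
    LocCoh.IsCohenMacaulayLocalRing (Localization.AtPrime q) ↔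
      LocCoh.IsCohenMacaulayLocalRing (Localization.AtPrime (q.comap (algebraMap A B))) := by
  rw [isCohenMacaulayLocalRing_iff_closedCM, isCohenMacaulayLocalRing_iff_closedCM]
  obtain ⟨h1, h2, -⟩ := exists_local_data A B q
  have hF' : (maximalIdeal (EGA4.FibLocRing A B q)).height = _ := hF
  have hle := depth_self_le_height (B := Localization.AtPrime (q.comap (algebraMap A B)))
  rw [SerreNormal.height_maximalIdeal_atPrime] at hle
  have hfin : (q.comap (algebraMap A B)).height ≠ ⊤ := Ideal.height_ne_top_of_isPrime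
  constructor
  · intro h _
    have h' : (maximalIdeal (Localization.AtPrime q)).height = _ := h
    rw [SerreNormal.height_maximalIdeal_atPrime, h1, h2, hF'] at h'
    rw [SerreNormal.height_maximalIdeal_atPrime]
    have hdfin : LocCoh.depth (EGA4.FibLocRing A B q) (EGA4.FibLocRing A B q) ≠ ⊤ := by
      rw [← hF']
      exact Ideal.height_ne_top_of_isPrime
    exact ENat.add_left_injective_of_ne_top hdfin h'
  · intro h _
    have h' : (maximalIdeal (Localization.AtPrime (q.comap (algebraMap A B)))).height = _ := h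
    rw [SerreNormal.height_maximalIdeal_atPrime] at h'
    rw [SerreNormal.height_maximalIdeal_atPrime, h1, h2, hF', h']

end flat

section formal

variable (A : Type u) [CommRing A] [IsNoetherianRing A] [IsLocalRing A]

/-- `S2703`. -/
theorem isOpen_cmLocus_of_hasCMFormalFibres (hA : EGA4.HasCMFormalFibres A) :
    IsOpen {p : PrimeSpectrum A |
      LocCoh.IsCohenMacaulayLocalRing (Localization.AtPrime p.asIdeal)} := by
  haveI : IsNoetherianRing (Cpl A) := ComplEtale.isNoetherianRing_completion A
  haveI : Module.FaithfullyFlat A (Cpl A) := Module.FaithfullyFlat.of_flat_of_isLocalHom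
  have hq : Topology.IsQuotientMap (PrimeSpectrum.comap (algebraMap A (Cpl A))) :=
    PrimeSpectrum.isQuotientMap_of_generalizingMap
      (PrimeSpectrum.comap_surjective_of_faithfullyFlat)
      (RingHom.Flat.generalizingMap_comap (f := algebraMap A (Cpl A))
        (inferInstanceAs (Module.Flat A (Cpl A))))
  rw [← hq.isOpen_preimage]
  convert isOpen_cmLocus_of_complete (Cpl A) using 1
  ext q
  simp only [Set.mem_preimage, Set.mem_ofPred_eq]
  have hF : ClosedCM (EGA4.FibLocRing A (Cpl A) q.asIdeal) :=
    (isCohenMacaulayRing_fiber_iff A (Cpl A) (q.asIdeal.comap (algebraMap A (Cpl A)))).mp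
      (hA _) q.asIdeal rfl
  exact (cm_atPrime_iff_of_fibre A (Cpl A) q.asIdeal hF).symm

end formal

end Groth.Agent.Lib.Helper14.CMLocus
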