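import Mathlib
import Groth.Prelude.Def_EGA4b
import Groth.Agent.Lib.Helper14.CMLocus
import Groth.Agent.Lib.Helper9.KollarS2

/-!
# Cohen–Macaulay fibres of flat local maps out of complete local rings, part 1 (helper14)

Plumbing: local rings of quotients `(R/I)_{P/I} ≅ R_P / I R_P`, and the transfer of
Cohen–Macaulayness along `A_p'/pA_p' → B_q'/pB_q'` when the fibre local ring at `q'` is CM.
-/

set_option autoImplicit false
set_option linter.unusedSectionVars false
set_option linter.style.haveILetI false
universe u
open IsLocalRing EGA4 Groth.Agent.Lib.Helper4 Groth.Agent.Lib.Helper4.FlatRing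
  Groth.Agent.Lib.Helper4.FlatFibre

namespace Groth.Agent.Lib.Helper14.CMFibres

section L1

variable (R : Type u) [CommRing R]

/-- `(R/I)_{P/I} ≃ R_P / I R_P`. -/
theorem nonempty_quotient_atPrime_equiv (I P : Ideal R) [P.IsPrime] (hIP : I ≤ P)
    [hP' : (P.map (Ideal.Quotient.mk I)).IsPrime] :
    Nonempty (Localization.AtPrime (P.map (Ideal.Quotient.mk I)) ≃+*
      (Localization.AtPrime P ⧸ I.map (algebraMap R (Localization.AtPrime P)))) := by
  have hsub : Algebra.algebraMapSubmonoid (R ⧸ I) P.primeCompl =
      (P.map (Ideal.Quotient.mk I)).primeCompl := by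
    ext x
    obtain ⟨x, rfl⟩ := Ideal.Quotient.mk_surjective x
    simp only [Algebra.algebraMapSubmonoid, Submonoid.mem_map, Ideal.mem_primeCompl_iff]
    constructor
    · rintro ⟨y, hy, hxy⟩ hx
      have hxy' : Ideal.Quotient.mk I y = Ideal.Quotient.mk I x := hxy
      rw [← hxy'] at hx
      have : y ∈ (P.map (Ideal.Quotient.mk I)).comap (Ideal.Quotient.mk I) := hx
      rw [Ideal.comap_map_of_surjective _ Ideal.Quotient.mk_surjective, ← RingHom.ker_eq_comap_bot,
        Ideal.mk_ker, sup_eq_left.mpr hIP] at this
      exact hy this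
    · intro hx
      exact ⟨x, fun hxP => hx (Ideal.mem_map_of_mem _ hxP), rfl⟩
  haveI h1 : IsLocalization (Algebra.algebraMapSubmonoid (R ⧸ I) P.primeCompl)
      (Localization.AtPrime P ⧸ I.map (algebraMap R (Localization.AtPrime P))) := inferInstance
  haveI : IsLocalization (P.map (Ideal.Quotient.mk I)).primeCompl
      (Localization.AtPrime P ⧸ I.map (algebraMap R (Localization.AtPrime P))) := by
    rw [← hsub]
    exact h1
  exact ⟨(IsLocalization.algEquiv (P.map (Ideal.Quotient.mk I)).primeCompl
    (Localization.AtPrime (P.map (Ideal.Quotient.mk I)))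
    (Localization.AtPrime P ⧸ I.map (algebraMap R (Localization.AtPrime P)))).toRingEquiv⟩

variable [IsNoetherianRing R]

/-- CM-ness of the local ring of `R/I` at `P/I`, in terms of `R_P/IR_P`. -/
theorem cm_quotient_atPrime_iff (I P : Ideal R) [P.IsPrime] (hIP : I ≤ P)
    [hP' : (P.map (Ideal.Quotient.mk I)).IsPrime] (J : Ideal (Localization.AtPrime P))
    (hJ : J = I.map (algebraMap R (Localization.AtPrime P))) :
    LocCoh.IsCohenMacaulayLocalRing (Localization.AtPrime (P.map (Ideal.Quotient.mk I))) ↔
      ClosedCM (Localization.AtPrime P ⧸ J) := by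
  subst hJ
  obtain ⟨e⟩ := nonempty_quotient_atPrime_equiv R I P hIP
  rw [isCohenMacaulayLocalRing_iff_closedCM]
  exact ⟨fun h => closedCM_of_ringEquiv _ _ e h, fun h => closedCM_of_ringEquiv _ _ e.symm h⟩

end L1

section L2

variable (A B : Type u) [CommRing A] [CommRing B] [IsNoetherianRing A] [IsNoetherianRing B]
  [Algebra A B] [Module.Flat A B]

theorem map_ne_top_of_le (p : Ideal A) (q' : Ideal B) [q'.IsPrime]
    (hp : p ≤ q'.comap (algebraMap A B)) :
    p.map (algebraMap A (Localization.AtPrime q')) ≠ ⊤ := by
  intro h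
  exact map_comap_ne_top A B q' (top_le_iff.mp (h ▸ Ideal.map_mono hp))

/-- For `A → B` flat, `p` an ideal of `A`, `q'` a prime of `B` over `p' ⊇ p` with CM fibre local
ring: `B_q'/pB_q'` is CM iff `A_p'/pA_p'` is. -/
theorem closedCM_quot_iff (p : Ideal A) (q' : Ideal B) [q'.IsPrime]
    (hp : p ≤ q'.comap (algebraMap A B)) (hF : ClosedCM (EGA4.FibLocRing A B q')) :
    ClosedCM (Localization.AtPrime q' ⧸ p.map (algebraMap A (Localization.AtPrime q'))) ↔
      ClosedCM (Localization.AtPrime (q'.comap (algebraMap A B)) ⧸
        p.map (algebraMap A (Localization.AtPrime (q'.comap (algebraMap A B))))) := by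
  obtain ⟨p', hp'⟩ : ∃ p' : Ideal A, p' = q'.comap (algebraMap A B) := ⟨_, rfl⟩
  haveI hpp : p'.IsPrime := hp' ▸ Ideal.IsPrime.comap _
  haveI : q'.LiesOver p' := ⟨hp'⟩
  letI := Localization.AtPrime.algebraOfLiesOver p' q'
  haveI : IsLocalHom (algebraMap (Localization.AtPrime p') (Localization.AtPrime q')) :=
    Localization.isLocalHom_localRingHom p' q' (algebraMap A B) Ideal.LiesOver.over
  have hK : p'.map (algebraMap A (Localization.AtPrime q')) =
      (maximalIdeal (Localization.AtPrime p')).map
        (algebraMap (Localization.AtPrime p') (Localization.AtPrime q')) := by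
    rw [← Localization.AtPrime.map_eq_maximalIdeal, Ideal.map_map,
      ← IsScalarTower.algebraMap_eq]
  have hJ : p.map (algebraMap A (Localization.AtPrime q')) =
      (p.map (algebraMap A (Localization.AtPrime p'))).map
        (algebraMap (Localization.AtPrime p') (Localization.AtPrime q')) := by
    rw [Ideal.map_map, ← IsScalarTower.algebraMap_eq]
  subst hp'
  have hI1 : p.map (algebraMap A (Localization.AtPrime (q'.comap (algebraMap A B)))) ≠ ⊤ := by
    intro h
    have hle : p.map (algebraMap A (Localization.AtPrime (q'.comap (algebraMap A B)))) ≤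
        maximalIdeal (Localization.AtPrime (q'.comap (algebraMap A B))) := by
      rw [← Localization.AtPrime.map_eq_maximalIdeal]
      exact Ideal.map_mono hp
    exact (IsLocalRing.maximalIdeal.isMaximal _).ne_top (top_le_iff.mp (h ▸ hle))
  have hJ1 := map_ne_top_of_le A B p q' hp
  haveI : Nontrivial (Localization.AtPrime (q'.comap (algebraMap A B)) ⧸
      p.map (algebraMap A (Localization.AtPrime (q'.comap (algebraMap A B))))) :=
    Ideal.Quotient.nontrivial_iff.mpr hI1
  haveI : Nontrivial (Localization.AtPrime q' ⧸ p.map (algebraMap A (Localization.AtPrime q'))) :=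
    Ideal.Quotient.nontrivial_iff.mpr hJ1
  haveI : IsLocalRing (Localization.AtPrime (q'.comap (algebraMap A B)) ⧸
      p.map (algebraMap A (Localization.AtPrime (q'.comap (algebraMap A B))))) :=
    IsLocalRing.of_surjective' (Ideal.Quotient.mk _) Ideal.Quotient.mk_surjective
  haveI : IsLocalRing (Localization.AtPrime q' ⧸
      p.map (algebraMap A (Localization.AtPrime q'))) :=
    IsLocalRing.of_surjective' (Ideal.Quotient.mk _) Ideal.Quotient.mk_surjective
  obtain ⟨hd, hh⟩ := trans_local
    (B' := Localization.AtPrime (q'.comap (algebraMap A B))) (C' := Localization.AtPrime q')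
    (p.map (algebraMap A (Localization.AtPrime (q'.comap (algebraMap A B)))))
    (p.map (algebraMap A (Localization.AtPrime q')))
    ((q'.comap (algebraMap A B)).map (algebraMap A (Localization.AtPrime q'))) hJ hK
  have hF' : (maximalIdeal (EGA4.FibLocRing A B q')).height = _ := hF
  have hF'' : (maximalIdeal (Localization.AtPrime q' ⧸
      (q'.comap (algebraMap A B)).map (algebraMap A (Localization.AtPrime q')))).height =
      LocCoh.depth (Localization.AtPrime q' ⧸
        (q'.comap (algebraMap A B)).map (algebraMap A (Localization.AtPrime q')))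
        (Localization.AtPrime q' ⧸
        (q'.comap (algebraMap A B)).map (algebraMap A (Localization.AtPrime q'))) := hF'
  have hdfin : LocCoh.depth (Localization.AtPrime q' ⧸
        (q'.comap (algebraMap A B)).map (algebraMap A (Localization.AtPrime q')))
        (Localization.AtPrime q' ⧸
        (q'.comap (algebraMap A B)).map (algebraMap A (Localization.AtPrime q'))) ≠ ⊤ := by
    rw [← hF'']
    exact Ideal.height_ne_top_of_isPrime
  constructor
  · intro h _
    have h' : (maximalIdeal (Localization.AtPrime q' ⧸
      p.map (algebraMap A (Localization.AtPrime q')))).height = _ := h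
    rw [hh, hd, hF''] at h'
    exact ENat.add_left_injective_of_ne_top hdfin h'
  · intro h _
    have h' : (maximalIdeal (Localization.AtPrime (q'.comap (algebraMap A B)) ⧸
      p.map (algebraMap A (Localization.AtPrime (q'.comap (algebraMap A B)))))).height = _ := h
    rw [hh, hd, hF'', h']

/-- combination of `cm_quotient_atPrime_iff` and `closedCM_quot_iff`. -/
theorem cm_quotient_iff (p : Ideal A) (q' : Ideal B) [q'.IsPrime]
    (hp : p.map (algebraMap A B) ≤ q')
    [(q'.map (Ideal.Quotient.mk (p.map (algebraMap A B)))).IsPrime]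
    [((q'.comap (algebraMap A B)).map (Ideal.Quotient.mk p)).IsPrime]
    (hF : ClosedCM (EGA4.FibLocRing A B q')) :
    LocCoh.IsCohenMacaulayLocalRing
        (Localization.AtPrime (q'.map (Ideal.Quotient.mk (p.map (algebraMap A B))))) ↔
      LocCoh.IsCohenMacaulayLocalRing
        (Localization.AtPrime ((q'.comap (algebraMap A B)).map (Ideal.Quotient.mk p))) := by
  have hp' : p ≤ q'.comap (algebraMap A B) := Ideal.map_le_iff_le_comap.mp hp
  rw [cm_quotient_atPrime_iff B (p.map (algebraMap A B)) q' hp
      (p.map (algebraMap A (Localization.AtPrime q')))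
      (by rw [Ideal.map_map, ← IsScalarTower.algebraMap_eq]),
    cm_quotient_atPrime_iff A p (q'.comap (algebraMap A B)) hp' _ rfl]
  exact closedCM_quot_iff A B p q' hp' hF

end L2

section L7

variable (R' : Type u) [CommRing R'] [IsDomain R'] [IsNoetherianRing R']

/-- the local ring of a Noetherian domain at a prime of height `≤ 1` is Cohen–Macaulay. -/
theorem cm_atPrime_of_dim_le_one (M : Ideal R') [M.IsPrime]
    (hM : ∀ Q : Ideal R', Q.IsPrime → Q < M → Q = ⊥) :
    LocCoh.IsCohenMacaulayLocalRing (Localization.AtPrime M) := by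
  rw [isCohenMacaulayLocalRing_iff_closedCM]
  intro _
  have hle := depth_self_le_height (B := Localization.AtPrime M)
  refine le_antisymm ?_ hle
  rw [SerreNormal.height_maximalIdeal_atPrime]
  by_cases hM0 : M = ⊥
  · have h0 : M.height = 0 := by rw [hM0, Ideal.height_bot]
    rw [h0]
    exact zero_le
  · have h1 : M.height ≤ 1 := by
      have := (Ideal.height_le_iff (p := M) (n := 1)).mpr (fun Q hQ hlt => by
        rw [hM Q hQ hlt, Ideal.height_bot]
        exact zero_lt_one)
      exact_mod_cast this
    refine h1.trans ?_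
    obtain ⟨x, hxM, hx0⟩ : ∃ x ∈ M, x ≠ 0 := by
      by_contra h
      push Not at h
      exact hM0 (le_bot_iff.mp (fun x hx => (Ideal.mem_bot).mpr (h x hx)))
    have hinj : Function.Injective (algebraMap R' (Localization.AtPrime M)) :=
      IsLocalization.injective (Localization.AtPrime M) M.primeCompl_le_nonZeroDivisors
    have hy0 : algebraMap R' (Localization.AtPrime M) x ≠ 0 := by
      intro h
      exact hx0 (hinj (h.trans (map_zero _).symm))
    have hym : algebraMap R' (Localization.AtPrime M) x ∈ maximalIdeal (Localization.AtPrime M) :=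
      (IsLocalization.AtPrime.to_map_mem_maximal_iff (Localization.AtPrime M) M x).mpr hxM
    haveI : IsDomain (Localization.AtPrime M) :=
      IsLocalization.isDomain_localization M.primeCompl_le_nonZeroDivisors
    have hreg : IsSMulRegular (Localization.AtPrime M)
        (algebraMap R' (Localization.AtPrime M) x) :=
      (IsRegular.of_ne_zero hy0).isSMulRegular
    exact Groth.Agent.Lib.Helper9.KollarS2.one_le_idealDepth_of_regular
      (maximalIdeal (Localization.AtPrime M)) hym hreg

end L7

end Groth.Agent.Lib.Helper14.CMFibres
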