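import Mathlib

/-!
# Primes of coheight one avoiding an element (helper14)

In a Noetherian local domain `D` which is not a field, for `f ≠ 0` there is a prime `P` with
`f ∉ P`, `P ≠ 𝔪` and such that every prime strictly containing `P` is `𝔪`.
-/

set_option autoImplicit false
universe u
open IsLocalRing

namespace Groth.Agent.Lib.Helper14.CMFibres

variable (D : Type u) [CommRing D] [IsDomain D] [IsNoetherianRing D] [IsLocalRing D]

/-- In a Noetherian local domain with a prime strictly between `⊥` and `𝔪`, for `f ≠ 0` there is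
a prime `Q'` with `Q' ≠ ⊥`, `Q' ≠ 𝔪`, `f ∉ Q'`. -/
theorem exists_prime_not_mem (Q : Ideal D) [Q.IsPrime] (hQ0 : Q ≠ ⊥) (hQm : Q ≠ maximalIdeal D)
    (f : D) (hf : f ≠ 0) :
    ∃ Q' : Ideal D, Q'.IsPrime ∧ Q' ≠ ⊥ ∧ Q' ≠ maximalIdeal D ∧ f ∉ Q' := by
  classical
  have hQlt : Q < maximalIdeal D :=
    lt_of_le_of_ne (IsLocalRing.le_maximalIdeal (Ideal.IsPrime.ne_top inferInstance)) hQm
  have h0Q : (⊥ : Ideal D) < Q := bot_lt_iff_ne_bot.mpr hQ0
  have hht2 : 2 ≤ (maximalIdeal D).height := by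
    have h1 : (⊥ : Ideal D).height < Q.height := Ideal.height_strict_mono_of_isPrime h0Q
    have h2 : Q.height < (maximalIdeal D).height := Ideal.height_strict_mono_of_isPrime hQlt
    have h3 : 1 ≤ Q.height := Order.one_le_iff_pos.mpr (lt_of_le_of_lt zero_le h1)
    have h4 : 1 < (maximalIdeal D).height := lt_of_le_of_lt h3 h2
    exact Order.add_one_le_of_lt h4
  -- the minimal primes of `(f)`
  have hfin := (Ideal.span {f}).finite_minimalPrimes_of_isNoetherianRing
  let S : Finset (Ideal D) := insert ⊥ hfin.toFinset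
  have hprime : ∀ P ∈ S, P.IsPrime := by
    intro P hP
    rcases Finset.mem_insert.mp hP with rfl | hP
    · exact Ideal.isPrime_bot
    · exact ((Set.Finite.mem_toFinset hfin).mp hP).1.1
  have hnot : ¬ ((maximalIdeal D : Set D) ⊆ ⋃ P ∈ (↑S : Set (Ideal D)), (P : Set D)) := by
    rw [Ideal.subset_union_prime (f := fun P : Ideal D => P) ⊥ ⊥ (fun P hP _ _ => hprime P hP)]
    rintro ⟨P, hP, hle⟩
    rcases Finset.mem_insert.mp hP with rfl | hP
    · exact hQ0 (le_bot_iff.mp (hQlt.le.trans hle))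
    · have hPmin := (Set.Finite.mem_toFinset hfin).mp hP
      haveI := hPmin.1.1
      have h1 := Ideal.height_le_one_of_isPrincipal_of_mem_minimalPrimes _ P hPmin
      have h2 : (maximalIdeal D).height ≤ P.height := Ideal.height_mono hle
      have : (2 : ℕ∞) ≤ 1 := hht2.trans (h2.trans h1)
      exact absurd this (by decide)
  obtain ⟨g, hgm, hgS⟩ := Set.not_subset.mp hnot
  have hg0 : g ≠ 0 := by
    rintro rfl
    apply hgS
    simp only [Set.mem_iUnion]
    exact ⟨⊥, Finset.mem_insert_self _ _, Ideal.zero_mem _⟩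
  have hgle : Ideal.span {g} ≤ maximalIdeal D := by
    rw [Ideal.span_le, Set.singleton_subset_iff]
    exact hgm
  obtain ⟨Q', hQ'min, hQ'le⟩ := Ideal.exists_minimalPrimes_le hgle
  haveI hQ'p : Q'.IsPrime := hQ'min.1.1
  have hgQ' : g ∈ Q' := hQ'min.1.2 (Ideal.subset_span rfl)
  have hQ'ht := Ideal.height_le_one_of_isPrincipal_of_mem_minimalPrimes _ Q' hQ'min
  refine ⟨Q', hQ'p, ?_, ?_, ?_⟩
  · rintro rfl
    exact hg0 ((Ideal.mem_bot).mp hgQ')
  · rintro rfl
    have : (2 : ℕ∞) ≤ 1 := hht2.trans hQ'ht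
    exact absurd this (by decide)
  · intro hfQ'
    have hfle : Ideal.span {f} ≤ Q' := by
      rw [Ideal.span_le, Set.singleton_subset_iff]
      exact hfQ'
    obtain ⟨P, hPmin, hPle⟩ := Ideal.exists_minimalPrimes_le hfle
    haveI := hPmin.1.1
    have hfP : f ∈ P := hPmin.1.2 (Ideal.subset_span rfl)
    have hP0 : (⊥ : Ideal D) < P := by
      rw [bot_lt_iff_ne_bot]
      rintro rfl
      exact hf ((Ideal.mem_bot).mp hfP)
    rcases eq_or_lt_of_le hPle with heq | hlt
    · apply hgS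
      simp only [Set.mem_iUnion]
      refine ⟨P, Finset.mem_insert_of_mem ((Set.Finite.mem_toFinset hfin).mpr hPmin), ?_⟩
      rw [heq]
      exact hgQ'
    · have h1 : (⊥ : Ideal D).height < P.height := Ideal.height_strict_mono_of_isPrime hP0
      have h2 : P.height < Q'.height := Ideal.height_strict_mono_of_isPrime hlt
      have h3 : 1 ≤ P.height := Order.one_le_iff_pos.mpr (lt_of_le_of_lt zero_le h1)
      have : (1 : ℕ∞) < 1 := lt_of_le_of_lt h3 (lt_of_lt_of_le h2 hQ'ht)
      exact lt_irrefl _ this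

/-- In a Noetherian local domain which is not a field, for `f ≠ 0` there is a prime `P` of
coheight one not containing `f`. -/
theorem exists_prime_coheight_one (hD : maximalIdeal D ≠ ⊥) (f : D) (hf : f ≠ 0) :
    ∃ P : Ideal D, P.IsPrime ∧ f ∉ P ∧ P ≠ maximalIdeal D ∧
      ∀ Q : Ideal D, Q.IsPrime → P < Q → Q = maximalIdeal D := by
  let Sg : Set (Ideal D) := {P | P.IsPrime ∧ f ∉ P ∧ P ≠ maximalIdeal D}
  have hne : Sg.Nonempty := ⟨⊥, Ideal.isPrime_bot, fun h => hf ((Ideal.mem_bot).mp h), hD.symm⟩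
  obtain ⟨P, hPS, hPmax⟩ := set_has_maximal_iff_noetherian.mpr
    (inferInstance : IsNoetherian D D) Sg hne
  obtain ⟨hPp, hfP, hPm⟩ := hPS
  haveI := hPp
  refine ⟨P, hPp, hfP, hPm, ?_⟩
  intro Q hQp hPQ
  by_contra hQm
  haveI := hQp
  -- pass to `D ⧸ P`
  have hker : RingHom.ker (Ideal.Quotient.mk P) ≤ Q := by
    rw [Ideal.mk_ker]
    exact hPQ.le
  haveI : (Q.map (Ideal.Quotient.mk P)).IsPrime :=
    Ideal.map_isPrime_of_surjective Ideal.Quotient.mk_surjective hker
  haveI : IsDomain (D ⧸ P) := Ideal.Quotient.isDomain P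
  haveI : IsLocalRing (D ⧸ P) :=
    IsLocalRing.of_surjective' (Ideal.Quotient.mk P) Ideal.Quotient.mk_surjective
  have hcomapQ : (Q.map (Ideal.Quotient.mk P)).comap (Ideal.Quotient.mk P) = Q := by
    rw [Ideal.comap_map_of_surjective _ Ideal.Quotient.mk_surjective, ← RingHom.ker_eq_comap_bot,
      Ideal.mk_ker, sup_eq_left.mpr hPQ.le]
  have hmaxmap : maximalIdeal (D ⧸ P) = (maximalIdeal D).map (Ideal.Quotient.mk P) :=
    (IsLocalRing.map_maximalIdeal_of_surjective _ Ideal.Quotient.mk_surjective).symm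
  have hPlem : P ≤ maximalIdeal D := IsLocalRing.le_maximalIdeal (Ideal.IsPrime.ne_top inferInstance)
  have hcomapm : (maximalIdeal (D ⧸ P)).comap (Ideal.Quotient.mk P) = maximalIdeal D := by
    rw [hmaxmap, Ideal.comap_map_of_surjective _ Ideal.Quotient.mk_surjective,
      ← RingHom.ker_eq_comap_bot, Ideal.mk_ker, sup_eq_left.mpr hPlem]
  have h1 : Q.map (Ideal.Quotient.mk P) ≠ ⊥ := by
    intro h
    have : Q ≤ P := by
      rw [← hcomapQ, h, ← RingHom.ker_eq_comap_bot, Ideal.mk_ker]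
    exact not_le_of_gt hPQ this
  have h2 : Q.map (Ideal.Quotient.mk P) ≠ maximalIdeal (D ⧸ P) := by
    intro h
    apply hQm
    rw [← hcomapQ, h, hcomapm]
  have h3 : Ideal.Quotient.mk P f ≠ 0 := by
    rw [Ne, Ideal.Quotient.eq_zero_iff_mem]
    exact hfP
  obtain ⟨Q', hQ'p, hQ'0, hQ'm, hfQ'⟩ :=
    exists_prime_not_mem (D ⧸ P) (Q.map (Ideal.Quotient.mk P)) h1 h2 _ h3
  haveI := hQ'p
  have hmem : Q'.comap (Ideal.Quotient.mk P) ∈ Sg := by
    refine ⟨Ideal.IsPrime.comap _, hfQ', ?_⟩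
    intro h
    apply hQ'm
    rw [← Ideal.map_comap_of_surjective _ Ideal.Quotient.mk_surjective Q', h, hmaxmap]
  have hle : P ≤ Q'.comap (Ideal.Quotient.mk P) := by
    intro x hx
    rw [Ideal.mem_comap, Ideal.Quotient.eq_zero_iff_mem.mpr hx]
    exact Ideal.zero_mem _
  have hne' : P ≠ Q'.comap (Ideal.Quotient.mk P) := by
    intro h
    apply hQ'0
    rw [← Ideal.map_comap_of_surjective _ Ideal.Quotient.mk_surjective Q', ← h,
      Ideal.map_quotient_self]
  exact hPmax _ hmem (lt_of_le_of_ne hle hne') |>.elim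

section wrapper

variable (B : Type u) [CommRing B] [IsNoetherianRing B] [IsLocalRing B]

/-- In a Noetherian local ring `B`, for a non-maximal prime `q` and `b ∉ q` there is a prime
`q' ⊇ q` of coheight one with `b ∉ q'`. -/
theorem exists_prime_ge_coheight_one (q : Ideal B) [q.IsPrime] (hq : q ≠ maximalIdeal B)
    (b : B) (hb : b ∉ q) :
    ∃ q' : Ideal B, q'.IsPrime ∧ q ≤ q' ∧ b ∉ q' ∧ q' ≠ maximalIdeal B ∧
      ∀ Q : Ideal B, Q.IsPrime → q' < Q → Q = maximalIdeal B := by
  haveI : IsDomain (B ⧸ q) := Ideal.Quotient.isDomain q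
  haveI : IsLocalRing (B ⧸ q) :=
    IsLocalRing.of_surjective' (Ideal.Quotient.mk q) Ideal.Quotient.mk_surjective
  have hqle : q ≤ maximalIdeal B := IsLocalRing.le_maximalIdeal (Ideal.IsPrime.ne_top inferInstance)
  have hmaxmap : maximalIdeal (B ⧸ q) = (maximalIdeal B).map (Ideal.Quotient.mk q) :=
    (IsLocalRing.map_maximalIdeal_of_surjective _ Ideal.Quotient.mk_surjective).symm
  have hcomapm : (maximalIdeal (B ⧸ q)).comap (Ideal.Quotient.mk q) = maximalIdeal B := by
    rw [hmaxmap, Ideal.comap_map_of_surjective _ Ideal.Quotient.mk_surjective,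
      ← RingHom.ker_eq_comap_bot, Ideal.mk_ker, sup_eq_left.mpr hqle]
  have hD : maximalIdeal (B ⧸ q) ≠ ⊥ := by
    intro h
    apply hq
    rw [← hcomapm, h, ← RingHom.ker_eq_comap_bot, Ideal.mk_ker]
  have hb' : Ideal.Quotient.mk q b ≠ 0 := by
    rw [Ne, Ideal.Quotient.eq_zero_iff_mem]
    exact hb
  obtain ⟨P, hPp, hfP, hPm, hPcoh⟩ := exists_prime_coheight_one (B ⧸ q) hD _ hb'
  haveI := hPp
  have hqle' : q ≤ P.comap (Ideal.Quotient.mk q) := by
    intro x hx
    rw [Ideal.mem_comap, Ideal.Quotient.eq_zero_iff_mem.mpr hx]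
    exact Ideal.zero_mem _
  refine ⟨P.comap (Ideal.Quotient.mk q), Ideal.IsPrime.comap _, hqle', hfP, ?_, ?_⟩
  · intro h
    apply hPm
    rw [← Ideal.map_comap_of_surjective _ Ideal.Quotient.mk_surjective P, h, hmaxmap]
  · intro Q hQp hlt
    haveI := hQp
    have hqQ : q ≤ Q := hqle'.trans hlt.le
    have hker : RingHom.ker (Ideal.Quotient.mk q) ≤ Q := by
      rw [Ideal.mk_ker]
      exact hqQ
    have hQ1p : (Q.map (Ideal.Quotient.mk q)).IsPrime :=
      Ideal.map_isPrime_of_surjective Ideal.Quotient.mk_surjective hker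
    have hcomapQ : (Q.map (Ideal.Quotient.mk q)).comap (Ideal.Quotient.mk q) = Q := by
      rw [Ideal.comap_map_of_surjective _ Ideal.Quotient.mk_surjective, ← RingHom.ker_eq_comap_bot,
        Ideal.mk_ker, sup_eq_left.mpr hqQ]
    have hPlt : P < Q.map (Ideal.Quotient.mk q) := by
      refine lt_of_le_of_ne ?_ ?_
      · rw [← Ideal.map_comap_of_surjective _ Ideal.Quotient.mk_surjective P]
        exact Ideal.map_mono hlt.le
      · intro h
        rw [h, hcomapQ] at hlt
        exact lt_irrefl _ hlt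
    have := hPcoh _ hQ1p hPlt
    rw [← hcomapQ, this, hcomapm]

end wrapper

end Groth.Agent.Lib.Helper14.CMFibres
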