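import Mathlib
import Groth.Agent.Lib.Helper26.CompleteFinite

/-!
# Finiteness over a complete local ring (helper14)

* `finite_of_isFiniteLength`: if `κ(B)` is a finite `A`-module then every finite-length
  `B`-module is a finite `A`-module.
* `finite_of_dim_one`: `A` complete local, `E` a Noetherian local domain whose nonzero primes are
  maximal, `A → E` a local homomorphism with `𝔪_A E ≠ 0` and `κ(E)` finite over `A`: then `E` is a
  finite `A`-module.
-/

set_option autoImplicit false
universe u
open IsLocalRing

namespace Groth.Agent.Lib.Helper14.CMFibres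

section FL

variable (A B : Type u) [CommRing A] [CommRing B] [Algebra A B] [IsLocalRing B]

theorem finite_of_isFiniteLength (hfin : Module.Finite A (B ⧸ maximalIdeal B))
    (N : Type u) [AddCommGroup N] [Module B N] (h : IsFiniteLength B N) :
    ∀ [Module A N] [IsScalarTower A B N], Module.Finite A N := by
  induction h with
  | of_subsingleton =>
    intro _ _
    infer_instance
  | @of_simple_quotient M _ _ S hS _ ih =>
    intro _ _
    haveI hSfin : Module.Finite A S := ih
    obtain ⟨I, hI, ⟨e⟩⟩ := isSimpleModule_iff_quot_maximal.mp hS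
    have hIm : I = maximalIdeal B := IsLocalRing.eq_maximalIdeal hI
    subst hIm
    haveI : Module.Finite A (M ⧸ S) := Module.Finite.equiv (e.restrictScalars A).symm
    refine ⟨Submodule.fg_of_fg_map_of_fg_inf_ker (S.mkQ.restrictScalars A) ?_ ?_⟩
    · rw [Submodule.map_top]
      have hr : LinearMap.range (S.mkQ.restrictScalars A) = ⊤ := by
        rw [LinearMap.range_eq_top]
        exact S.mkQ_surjective
      rw [hr]
      exact Module.Finite.fg_top
    · rw [top_inf_eq]
      have hk : LinearMap.ker (S.mkQ.restrictScalars A) = S.restrictScalars A := by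
        ext x
        simp
      rw [hk]
      have := hSfin.fg_top
      rw [← Submodule.fg_top] 
      exact this

end FL

section dimOne

variable (A E : Type u) [CommRing A] [IsLocalRing A] [IsPrecomplete (maximalIdeal A) A]
  [CommRing E] [IsDomain E] [IsLocalRing E] [IsNoetherianRing E] [Algebra A E]
  [IsLocalHom (algebraMap A E)]

theorem finite_of_dim_one (hdim : ∀ Q : Ideal E, Q.IsPrime → Q ≠ ⊥ → Q = maximalIdeal E)
    (hne : (maximalIdeal A).map (algebraMap A E) ≠ ⊥)
    (hfin : Module.Finite A (E ⧸ maximalIdeal E)) : Module.Finite A E := by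
  have hle : (maximalIdeal A).map (algebraMap A E) ≤ maximalIdeal E :=
    IsLocalRing.map_maximalIdeal_le (algebraMap A E)
  haveI : IsHausdorff (maximalIdeal A) E := by
    rw [← IsHausdorff.map_algebraMap_iff (S := E)]
    exact IsHausdorff.of_le_jacobson ((maximalIdeal A).map (algebraMap A E)) E
      (hle.trans (by rw [IsLocalRing.jacobson_eq_maximalIdeal ⊥ bot_ne_top]))
  apply Groth.Agent.Lib.Helper26.CompleteFinite.finite_of_isHausdorff_of_fg_quotient
    (maximalIdeal A) E
  -- the quotient ring `T = E / 𝔪_A E` is Artinian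
  set I := (maximalIdeal A).map (algebraMap A E) with hI
  have hT0 : Ring.KrullDimLE 0 (E ⧸ I) := by
    rw [Ring.krullDimLE_zero_iff]
    intro P hP
    haveI := hP
    have hcomap : P.comap (Ideal.Quotient.mk I) = maximalIdeal E := by
      apply hdim _ (Ideal.IsPrime.comap _)
      intro h
      apply hne
      rw [← le_bot_iff, ← h]
      intro x hx
      rw [Ideal.mem_comap, Ideal.Quotient.eq_zero_iff_mem.mpr hx]
      exact Ideal.zero_mem _
    have hmap : P = (maximalIdeal E).map (Ideal.Quotient.mk I) := by
      rw [← hcomap, Ideal.map_comap_of_surjective _ Ideal.Quotient.mk_surjective]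
    rw [hmap]
    rcases Ideal.map_eq_top_or_isMaximal_of_surjective (Ideal.Quotient.mk I)
      Ideal.Quotient.mk_surjective (IsLocalRing.maximalIdeal.isMaximal E) with h | h
    · exact absurd (hmap ▸ h) (Ideal.IsPrime.ne_top hP)
    · exact h
  haveI : IsArtinianRing (E ⧸ I) := isArtinianRing_iff_isNoetherianRing_krullDimLE_zero.mpr
    ⟨inferInstance, hT0⟩
  haveI : IsArtinian E (E ⧸ I) :=
    isArtinian_of_surjective_algebraMap (R := E ⧸ I) (M := E ⧸ I) (S := E)
      Ideal.Quotient.mk_surjective
  have hFL : IsFiniteLength E (E ⧸ I) :=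
    isFiniteLength_iff_isNoetherian_isArtinian.mpr ⟨inferInstance, inferInstance⟩
  haveI : Module.Finite A (E ⧸ I) := finite_of_isFiniteLength A E hfin (E ⧸ I) hFL
  -- compare with the module quotient
  have hsub : ((maximalIdeal A) • (⊤ : Submodule A E)) = I.restrictScalars A := by
    rw [hI, Ideal.smul_top_eq_map]
  let f : E →ₗ[A] (E ⧸ I) := (Ideal.Quotient.mkₐ A I).toLinearMap
  have hf : Function.Surjective f := Ideal.Quotient.mk_surjective
  have hker : LinearMap.ker f = (maximalIdeal A) • (⊤ : Submodule A E) := by
    rw [hsub]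
    ext x
    simp [f, Ideal.Quotient.eq_zero_iff_mem]
  exact Module.Finite.equiv
    ((Submodule.quotEquivOfEq _ _ hker.symm).trans (f.quotKerEquivOfSurjective hf)).symm

end dimOne

end Groth.Agent.Lib.Helper14.CMFibres
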