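import Mathlib
import Groth.Prelude.Def_EGA4b
import Groth.Agent.Lib.Helper14.CMFibres1
import Groth.Agent.Lib.Helper14.CMFibres2
import Groth.Agent.Lib.Helper14.CMFibres3

/-!
# Cohen–Macaulay fibres of flat local maps out of complete local rings (helper14)

`closedCM_fibLocRing`: let `A → B` be a flat local homomorphism of Noetherian local rings with `A`
complete, `κ(B)` finite over `A`, all quotients of `A` and `B` having open CM loci (e.g. quotients
of regular rings of finite dimension), and CM closed fibre.  Then all fibres are CM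
(EGA IV 7.5.1 for the property "Cohen–Macaulay", complete case).
-/

set_option autoImplicit false
set_option linter.unusedSectionVars false
set_option linter.style.haveILetI false
set_option maxHeartbeats 800000
universe u
open IsLocalRing EGA4 Groth.Agent.Lib.Helper4 Groth.Agent.Lib.Helper4.FlatRing
  Groth.Agent.Lib.Helper4.FlatFibre

namespace Groth.Agent.Lib.Helper14.CMFibres

/-- all quotients of `A` have open Cohen–Macaulay locus. -/
def HasOpenCMLoci (A : Type u) [CommRing A] : Prop :=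
  ∀ I : Ideal A, IsOpen {P : PrimeSpectrum (A ⧸ I) |
    LocCoh.IsCohenMacaulayLocalRing (Localization.AtPrime P.asIdeal)}

theorem hasOpenCMLoci_of_surjective (R A : Type u) [CommRing R] [IsRegularRing R] [CommRing A]
    [Algebra R A] (n : ℕ) (hn : ringKrullDim R ≤ (n : WithBot ℕ∞))
    (hs : Function.Surjective (algebraMap R A)) : HasOpenCMLoci A := by
  intro I
  have hs' : Function.Surjective (algebraMap R (A ⧸ I)) := by
    have : algebraMap R (A ⧸ I) = (Ideal.Quotient.mk I).comp (algebraMap R A) := rfl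
    rw [this]
    exact Ideal.Quotient.mk_surjective.comp hs
  exact CMOpen.isOpen_cmLocus R n (A ⧸ I) hn hs'

theorem hasOpenCMLoci_of_complete (C : Type u) [CommRing C] [IsLocalRing C] [IsNoetherianRing C]
    [IsAdicComplete (maximalIdeal C) C] : HasOpenCMLoci C := by
  obtain ⟨R, hR, hreg, hloc, f, hf⟩ := FEChain2.exists_regular_surjective C
  letI := f.toAlgebra
  have hf' : Function.Surjective (algebraMap R C) := hf
  haveI : IsNoetherianRing R := inferInstance
  obtain ⟨n, hn⟩ : ∃ n : ℕ, ringKrullDim R ≤ (n : WithBot ℕ∞) := by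
    have h1 : ringKrullDim R < ⊤ := ringKrullDim_lt_top
    have h2 : ringKrullDim R ≠ ⊥ := ringKrullDim_ne_bot
    obtain ⟨m, hm⟩ := WithBot.ne_bot_iff_exists.mp h2
    have h3 : m ≠ ⊤ := by
      rintro rfl
      rw [← hm] at h1
      exact (lt_irrefl _ h1)
    obtain ⟨k, rfl⟩ := ENat.ne_top_iff_exists.mp h3
    exact ⟨k, by rw [← hm]; rfl⟩
  exact hasOpenCMLoci_of_surjective R C n hn hf'

section key

variable (A B : Type u) [CommRing A] [CommRing B] [IsNoetherianRing A] [IsNoetherianRing B]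
  [IsLocalRing A] [IsLocalRing B] [Algebra A B] [IsLocalHom (algebraMap A B)] [Module.Flat A B]
  [IsPrecomplete (maximalIdeal A) A]

theorem key (hA : HasOpenCMLoci A) (hB : HasOpenCMLoci B)
    (hfin : Module.Finite A (B ⧸ maximalIdeal B))
    (hclosed : ∀ (q : Ideal B) [q.IsPrime], q.comap (algebraMap A B) = maximalIdeal A →
      ClosedCM (EGA4.FibLocRing A B q))
    (p : Ideal A) [p.IsPrime]
    (hind : ∀ (q' : Ideal B) [q'.IsPrime], p < q'.comap (algebraMap A B) →
      ClosedCM (EGA4.FibLocRing A B q'))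
    (q : Ideal B) [q.IsPrime] (hq : q.comap (algebraMap A B) = p) :
    ClosedCM (EGA4.FibLocRing A B q) := by
  by_cases hpm : p = maximalIdeal A
  · exact hclosed q (hq.trans hpm)
  have hple : p ≤ maximalIdeal A :=
    IsLocalRing.le_maximalIdeal (Ideal.IsPrime.ne_top inferInstance)
  obtain ⟨pB, hpB⟩ : ∃ pB : Ideal B, pB = p.map (algebraMap A B) := ⟨_, rfl⟩
  have hpBq : pB ≤ q := by rw [hpB, Ideal.map_le_iff_le_comap, hq]
  have hprimeB : ∀ (q' : Ideal B) [q'.IsPrime], pB ≤ q' →
      (q'.map (Ideal.Quotient.mk pB)).IsPrime := fun q' _ h =>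
    Ideal.map_isPrime_of_surjective Ideal.Quotient.mk_surjective (by rw [Ideal.mk_ker]; exact h)
  have hprimeA : ∀ (p' : Ideal A) [p'.IsPrime], p ≤ p' →
      (p'.map (Ideal.Quotient.mk p)).IsPrime := fun p' _ h =>
    Ideal.map_isPrime_of_surjective Ideal.Quotient.mk_surjective (by rw [Ideal.mk_ker]; exact h)
  have hUB : IsOpen {P : PrimeSpectrum (B ⧸ pB) |
    LocCoh.IsCohenMacaulayLocalRing (Localization.AtPrime P.asIdeal)} := hB pB
  have hUA : IsOpen {P : PrimeSpectrum (A ⧸ p) |
    LocCoh.IsCohenMacaulayLocalRing (Localization.AtPrime P.asIdeal)} := hA p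
  haveI hqbar := hprimeB q hpBq
  have hgoal : LocCoh.IsCohenMacaulayLocalRing
      (Localization.AtPrime (q.map (Ideal.Quotient.mk pB))) ↔
      ClosedCM (EGA4.FibLocRing A B q) :=
    cm_quotient_atPrime_iff B pB q hpBq _
      (by rw [hq, hpB, Ideal.map_map, ← IsScalarTower.algebraMap_eq])
  suffices hsuff : LocCoh.IsCohenMacaulayLocalRing
      (Localization.AtPrime (q.map (Ideal.Quotient.mk pB))) from hgoal.mp hsuff
  by_contra hbad
  -- Step A
  haveI : IsDomain (A ⧸ p) := Ideal.Quotient.isDomain p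
  have hgen : LocCoh.IsCohenMacaulayLocalRing (Localization.AtPrime (⊥ : Ideal (A ⧸ p))) :=
    cm_atPrime_of_dim_le_one (A ⧸ p) ⊥ (fun Q _ hlt => absurd hlt not_lt_bot)
  obtain ⟨𝔞, h𝔞⟩ := (PrimeSpectrum.isClosed_iff_zeroLocus_ideal _).mp hUA.isClosed_compl
  obtain ⟨f, hf𝔞, hf0⟩ : ∃ f ∈ 𝔞, f ≠ 0 := by
    by_contra h
    push Not at h
    have hmem : (⟨⊥, Ideal.isPrime_bot⟩ : PrimeSpectrum (A ⧸ p)) ∈
        {P : PrimeSpectrum (A ⧸ p) |
          LocCoh.IsCohenMacaulayLocalRing (Localization.AtPrime P.asIdeal)}ᶜ := by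
      rw [h𝔞, PrimeSpectrum.mem_zeroLocus]
      intro x hx
      rw [h x hx]
      exact Ideal.zero_mem _
    exact hmem hgen
  obtain ⟨f₀, rfl⟩ := Ideal.Quotient.mk_surjective f
  have hf₀p : f₀ ∉ p := fun h => hf0 (Ideal.Quotient.eq_zero_iff_mem.mpr h)
  have hA' : ∀ (q' : Ideal B) [q'.IsPrime], q ≤ q' → p < q'.comap (algebraMap A B) →
      algebraMap A B f₀ ∈ q' := by
    intro q' _ hqq' hlt
    have hpBq' : pB ≤ q' := hpBq.trans hqq'
    haveI hq'bar := hprimeB q' hpBq'
    haveI hp'bar := hprimeA (q'.comap (algebraMap A B)) hlt.le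
    subst hpB
    have hiff := cm_quotient_iff A B p q' hpBq' (hind q' hlt)
    have h1 : ¬ LocCoh.IsCohenMacaulayLocalRing
        (Localization.AtPrime (q'.map (Ideal.Quotient.mk (p.map (algebraMap A B))))) := by
      intro h
      apply hbad
      have hspec : (⟨q.map (Ideal.Quotient.mk (p.map (algebraMap A B))), hqbar⟩ :
          PrimeSpectrum (B ⧸ p.map (algebraMap A B))) ⤳
          ⟨q'.map (Ideal.Quotient.mk (p.map (algebraMap A B))), hq'bar⟩ :=
        (PrimeSpectrum.le_iff_specializes _ _).mp (Ideal.map_mono hqq')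
      exact hUB.stableUnderGeneralization hspec h
    rw [hiff] at h1
    have h2 : (⟨(q'.comap (algebraMap A B)).map (Ideal.Quotient.mk p), hp'bar⟩ :
        PrimeSpectrum (A ⧸ p)) ∈ {P : PrimeSpectrum (A ⧸ p) |
          LocCoh.IsCohenMacaulayLocalRing (Localization.AtPrime P.asIdeal)}ᶜ := h1
    rw [h𝔞, PrimeSpectrum.mem_zeroLocus] at h2
    have h3 : Ideal.Quotient.mk p f₀ ∈ (q'.comap (algebraMap A B)).map (Ideal.Quotient.mk p) :=
      h2 hf𝔞
    have h4 : f₀ ∈ ((q'.comap (algebraMap A B)).map (Ideal.Quotient.mk p)).comap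
        (Ideal.Quotient.mk p) := h3
    rwa [Ideal.comap_map_of_surjective _ Ideal.Quotient.mk_surjective, ← RingHom.ker_eq_comap_bot,
      Ideal.mk_ker, sup_eq_left.mpr hlt.le] at h4
  -- Step B
  have hqm : q ≠ maximalIdeal B := by
    intro h
    apply hpm
    rw [← hq, h, IsLocalRing.maximalIdeal_comap]
  have hbq : algebraMap A B f₀ ∉ q := fun h => hf₀p (hq ▸ (show f₀ ∈ q.comap (algebraMap A B) from h))
  obtain ⟨q', hq'p, hqq', hbq', hq'm, hq'coh⟩ := exists_prime_ge_coheight_one B q hqm _ hbq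
  haveI := hq'p
  have hq'c : q'.comap (algebraMap A B) = p := by
    by_contra hne
    have hle : p ≤ q'.comap (algebraMap A B) := hq ▸ Ideal.comap_mono hqq'
    exact hbq' (hA' q' hqq' (lt_of_le_of_ne hle (Ne.symm hne)))
  -- Step C
  haveI : IsDomain (B ⧸ q') := Ideal.Quotient.isDomain q'
  haveI : IsLocalRing (B ⧸ q') :=
    IsLocalRing.of_surjective' (Ideal.Quotient.mk q') Ideal.Quotient.mk_surjective
  haveI : IsLocalHom (algebraMap A (B ⧸ q')) := by
    refine ((IsLocalRing.local_hom_TFAE _).out 0 2 rfl rfl).mpr ?_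
    have : algebraMap A (B ⧸ q') = (Ideal.Quotient.mk q').comp (algebraMap A B) := rfl
    rw [this, ← Ideal.map_map, ← IsLocalRing.map_maximalIdeal_of_surjective (Ideal.Quotient.mk q')
      Ideal.Quotient.mk_surjective]
    exact Ideal.map_mono (IsLocalRing.map_maximalIdeal_le (algebraMap A B))
  have hdim : ∀ Q : Ideal (B ⧸ q'), Q.IsPrime → Q ≠ ⊥ → Q = maximalIdeal (B ⧸ q') := by
    intro Q hQ hQ0
    haveI := hQ
    have hlt : q' < Q.comap (Ideal.Quotient.mk q') := by
      refine lt_of_le_of_ne ?_ ?_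
      · intro x hx
        rw [Ideal.mem_comap, Ideal.Quotient.eq_zero_iff_mem.mpr hx]
        exact Ideal.zero_mem _
      · intro h
        apply hQ0
        rw [← Ideal.map_comap_of_surjective _ Ideal.Quotient.mk_surjective Q, ← h,
          Ideal.map_quotient_self]
    have := hq'coh _ (Ideal.IsPrime.comap _) hlt
    rw [← Ideal.map_comap_of_surjective _ Ideal.Quotient.mk_surjective Q, this,
      IsLocalRing.map_maximalIdeal_of_surjective _ Ideal.Quotient.mk_surjective]
  obtain ⟨x, hxm, hxp⟩ : ∃ x ∈ maximalIdeal A, x ∉ p := by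
    by_contra h
    push Not at h
    exact hpm (le_antisymm hple h)
  have hne : (maximalIdeal A).map (algebraMap A (B ⧸ q')) ≠ ⊥ := by
    intro h
    have h1 : algebraMap A (B ⧸ q') x ∈ (maximalIdeal A).map (algebraMap A (B ⧸ q')) :=
      Ideal.mem_map_of_mem _ hxm
    rw [h, Ideal.mem_bot] at h1
    have h2 : algebraMap A B x ∈ q' := Ideal.Quotient.eq_zero_iff_mem.mp h1
    exact hxp (hq'c ▸ (show x ∈ q'.comap (algebraMap A B) from h2))
  have hfin' : Module.Finite A ((B ⧸ q') ⧸ maximalIdeal (B ⧸ q')) := by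
    let g : B →ₐ[A] ((B ⧸ q') ⧸ maximalIdeal (B ⧸ q')) :=
      (Ideal.Quotient.mkₐ A _).comp (Ideal.Quotient.mkₐ A q')
    have hg : ∀ b ∈ maximalIdeal B, g b = 0 := by
      intro b hb
      show Ideal.Quotient.mk _ (Ideal.Quotient.mk q' b) = 0
      rw [Ideal.Quotient.eq_zero_iff_mem, ← IsLocalRing.map_maximalIdeal_of_surjective
        (Ideal.Quotient.mk q') Ideal.Quotient.mk_surjective]
      exact Ideal.mem_map_of_mem _ hb
    let g' : (B ⧸ maximalIdeal B) →ₐ[A] ((B ⧸ q') ⧸ maximalIdeal (B ⧸ q')) :=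
      Ideal.Quotient.liftₐ (maximalIdeal B) g hg
    have hg' : Function.Surjective g' := by
      apply Ideal.Quotient.lift_surjective_of_surjective
      exact Ideal.Quotient.mk_surjective.comp Ideal.Quotient.mk_surjective
    exact Module.Finite.of_surjective g'.toLinearMap hg'
  haveI hEfin : Module.Finite A (B ⧸ q') := finite_of_dim_one A (B ⧸ q') hdim hne hfin'
  -- Step D
  haveI : Algebra.IsIntegral A (B ⧸ q') := Algebra.IsIntegral.of_finite A (B ⧸ q')
  have hkerE : RingHom.ker (algebraMap A (B ⧸ q')) = p := by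
    ext x
    rw [RingHom.mem_ker]
    show Ideal.Quotient.mk q' (algebraMap A B x) = 0 ↔ _
    rw [Ideal.Quotient.eq_zero_iff_mem, ← hq'c]
    rfl
  have hD : ∀ p'' : Ideal A, p''.IsPrime → p < p'' → p'' = maximalIdeal A := by
    intro p'' hp'' hlt
    haveI := hp''
    obtain ⟨Q, hQp, hQc⟩ := Ideal.exists_ideal_over_prime_of_isIntegral_of_isDomain
      (S := B ⧸ q') p'' (by rw [hkerE]; exact hlt.le)
    have hQ0 : Q ≠ ⊥ := by
      rintro rfl
      rw [← RingHom.ker_eq_comap_bot, hkerE] at hQc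
      exact (ne_of_lt hlt) hQc
    rw [← hQc, hdim Q hQp hQ0, IsLocalRing.maximalIdeal_comap]
  -- Steps E, F
  have hcm : (maximalIdeal B).comap (algebraMap A B) = maximalIdeal A :=
    IsLocalRing.maximalIdeal_comap _
  have hqle : q ≤ maximalIdeal B := IsLocalRing.le_maximalIdeal (Ideal.IsPrime.ne_top inferInstance)
  have hpBm : pB ≤ maximalIdeal B := hpBq.trans hqle
  haveI hmbar := hprimeB (maximalIdeal B) hpBm
  have hpcm : p ≤ (maximalIdeal B).comap (algebraMap A B) := by rw [hcm]; exact hple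
  haveI hmAbar := hprimeA ((maximalIdeal B).comap (algebraMap A B)) hpcm
  subst hpB
  have hiff := cm_quotient_iff A B p (maximalIdeal B) hpBm (hclosed (maximalIdeal B) hcm)
  have hAm : LocCoh.IsCohenMacaulayLocalRing (Localization.AtPrime
      (((maximalIdeal B).comap (algebraMap A B)).map (Ideal.Quotient.mk p))) := by
    apply cm_atPrime_of_dim_le_one
    intro Q hQ hlt
    haveI := hQ
    by_contra hQ0
    have hplt : p < Q.comap (Ideal.Quotient.mk p) := by
      refine lt_of_le_of_ne ?_ ?_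
      · intro x hx
        rw [Ideal.mem_comap, Ideal.Quotient.eq_zero_iff_mem.mpr hx]
        exact Ideal.zero_mem _
      · intro h
        apply hQ0
        rw [← Ideal.map_comap_of_surjective _ Ideal.Quotient.mk_surjective Q, ← h,
          Ideal.map_quotient_self]
    have := hD _ (Ideal.IsPrime.comap _) hplt
    rw [← Ideal.map_comap_of_surjective _ Ideal.Quotient.mk_surjective Q, this, ← hcm] at hlt
    exact lt_irrefl _ hlt
  have hBm := hiff.mpr hAm
  apply hbad
  have hspec : (⟨q.map (Ideal.Quotient.mk (p.map (algebraMap A B))), hqbar⟩ :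
      PrimeSpectrum (B ⧸ p.map (algebraMap A B))) ⤳
      ⟨(maximalIdeal B).map (Ideal.Quotient.mk (p.map (algebraMap A B))), hmbar⟩ :=
    (PrimeSpectrum.le_iff_specializes _ _).mp (Ideal.map_mono hqle)
  exact hUB.stableUnderGeneralization hspec hBm

end key

end Groth.Agent.Lib.Helper14.CMFibres
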