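import Mathlib
import Groth.Prelude.Def_EGA4b
import Groth.Agent.Lib.Helper14.CMFibres4

/-!
# Cohen–Macaulay fibres: the core theorem and transport lemmas (helper14)
-/

set_option autoImplicit false
set_option linter.unusedSectionVars false
set_option linter.style.haveILetI false
universe u
open IsLocalRing EGA4 TensorProduct Groth.Agent.Lib.Helper4 Groth.Agent.Lib.Helper4.FlatRing
  Groth.Agent.Lib.Helper4.FlatFibre

namespace Groth.Agent.Lib.Helper14.CMFibres

section core

variable (A B : Type u) [CommRing A] [CommRing B] [IsNoetherianRing A] [IsNoetherianRing B]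
  [IsLocalRing A] [IsLocalRing B] [Algebra A B] [IsLocalHom (algebraMap A B)] [Module.Flat A B]
  [IsPrecomplete (maximalIdeal A) A]

/-- **Core theorem**: all fibres of `A → B` are Cohen–Macaulay. -/
theorem closedCM_fibLocRing (hA : HasOpenCMLoci A) (hB : HasOpenCMLoci B)
    (hfin : Module.Finite A (B ⧸ maximalIdeal B))
    (hclosed : ∀ (q : Ideal B) [q.IsPrime], q.comap (algebraMap A B) = maximalIdeal A →
      ClosedCM (EGA4.FibLocRing A B q))
    (q : Ideal B) [q.IsPrime] : ClosedCM (EGA4.FibLocRing A B q) := by
  have H : ∀ I : Ideal A, I.IsPrime → ∀ (q : Ideal B) [q.IsPrime],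
      q.comap (algebraMap A B) = I → ClosedCM (EGA4.FibLocRing A B q) := by
    intro I
    refine IsNoetherian.induction (P := fun I : Ideal A => I.IsPrime → ∀ (q : Ideal B) [q.IsPrime],
      q.comap (algebraMap A B) = I → ClosedCM (EGA4.FibLocRing A B q)) ?_ I
    intro I ih hI q _ hq
    haveI := hI
    intro _
    exact key A B hA hB hfin hclosed I
      (fun q' _ hlt => ih _ hlt (Ideal.IsPrime.comap _) q' rfl) q hq
  intro _
  exact H _ (Ideal.IsPrime.comap _) q rfl

end core

section transport

theorem isCohenMacaulayRing_of_ringEquiv {R S : Type u} [CommRing R] [CommRing S] (e : R ≃+* S)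
    [hR : LocCoh.IsCohenMacaulayRing R] : LocCoh.IsCohenMacaulayRing S := by
  haveI : IsNoetherianRing S := isNoetherianRing_of_ringEquiv R e
  refine { isCohenMacaulayLocalRing_localization := fun q _ => ?_ }
  haveI : (q.comap (e : R →+* S)).IsPrime := Ideal.IsPrime.comap _
  have hcm := hR.isCohenMacaulayLocalRing_localization (q.comap (e : R →+* S))
  let e' : Localization.AtPrime (q.comap (e : R →+* S)) ≃+* Localization.AtPrime q :=
    IsLocalization.ringEquivOfRingEquiv (M := (q.comap (e : R →+* S)).primeCompl)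
      (T := q.primeCompl) _ _ e (e.map_primeCompl_comap_eq q)
  rw [isCohenMacaulayLocalRing_iff_closedCM] at hcm ⊢
  exact closedCM_of_ringEquiv _ _ e' hcm

/-- Artinian rings are Cohen–Macaulay. -/
theorem isCohenMacaulayRing_of_isArtinianRing (R : Type u) [CommRing R] [IsArtinianRing R] :
    LocCoh.IsCohenMacaulayRing R := by
  refine { isCohenMacaulayLocalRing_localization := fun q _ => ?_ }
  rw [isCohenMacaulayLocalRing_iff_closedCM]
  intro _
  have hle := depth_self_le_height (B := Localization.AtPrime q)
  refine le_antisymm ?_ hle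
  rw [SerreNormal.height_maximalIdeal_atPrime]
  have h0 : q.height = 0 := by
    have := Ideal.height_le_ringKrullDim_of_ne_top (I := q) (Ideal.IsPrime.ne_top inferInstance)
    have h1 : ringKrullDim R ≤ 0 := Ring.krullDimLE_iff.mp inferInstance
    have h2 : (q.height : WithBot ℕ∞) ≤ 0 := this.trans h1
    exact_mod_cast le_antisymm (by exact_mod_cast h2) zero_le
  rw [h0]
  exact zero_le

/-- Base change of a CM algebra over a field by a finite algebra is CM. -/
theorem cm_tensor_of_finite (κ F K : Type u) [Field κ] [CommRing F] [Algebra κ F]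
    [hF : LocCoh.IsCohenMacaulayRing F] [CommRing K] [Algebra κ K] [Module.Finite κ K] :
    LocCoh.IsCohenMacaulayRing (F ⊗[κ] K) := by
  haveI : IsNoetherianRing F := inferInstance
  haveI : IsNoetherianRing (F ⊗[κ] K) := IsNoetherianRing.of_finite F (F ⊗[κ] K)
  apply CMFlat.cm_of_flat_of_fibres F (F ⊗[κ] K)
  intro P _
  haveI : Module.Finite P.ResidueField (P.Fiber (F ⊗[κ] K)) :=
    inferInstanceAs (Module.Finite P.ResidueField (P.ResidueField ⊗[F] (F ⊗[κ] K)))
  haveI : IsArtinianRing (P.Fiber (F ⊗[κ] K)) :=
    IsArtinianRing.of_finite P.ResidueField _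
  exact isCohenMacaulayRing_of_isArtinianRing _

theorem cm_tensor_of_finite' (κ F K : Type u) [Field κ] [CommRing F] [Algebra κ F]
    [hF : LocCoh.IsCohenMacaulayRing F] [CommRing K] [Algebra κ K] [Module.Finite κ K] :
    LocCoh.IsCohenMacaulayRing (K ⊗[κ] F) := by
  haveI := cm_tensor_of_finite κ F K
  exact isCohenMacaulayRing_of_ringEquiv (Algebra.TensorProduct.comm κ F K).toRingEquiv

end transport

end Groth.Agent.Lib.Helper14.CMFibres
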