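import Mathlib
import Groth.Prelude.Def_EGA4b
import Groth.Agent.Lib.Helper14.CMFibres5
import Groth.Agent.Lib.Helper14.ComplFlat
import Groth.Agent.Lib.Helper14.ComplQuot

/-!
# EGA IV 7.5.1 for the property "Cohen–Macaulay" (helper14)
-/

set_option autoImplicit false
set_option linter.unusedSectionVars false
set_option linter.style.haveILetI false
set_option maxHeartbeats 800000
universe u
open IsLocalRing EGA4 TensorProduct Groth.Agent.Lib.Helper4 Groth.Agent.Lib.Helper4.FlatRing
  Groth.Agent.Lib.Helper4.FlatFibre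

namespace Groth.Agent.Lib.Helper14.CMFibres

section main

variable (A B : Type u) [CommRing A] [CommRing B]
  [IsNoetherianRing A] [IsNoetherianRing B] [IsLocalRing A] [IsLocalRing B] [Algebra A B]
  [IsLocalHom (algebraMap A B)] [Module.Flat A B]

/-- cancellation lemma for the transitivity of fibre local rings. -/
theorem enat_cancel {h1 h2 h3 d1 d2 d3 : ℕ∞} (hh : h1 = h2 + h3) (hd : d1 = d2 + d3)
    (e1 : h1 = d1) (e2 : h2 = d2) (hfin : h2 ≠ ⊤) : h3 = d3 := by
  rw [hh, hd, ← e2] at e1
  exact ENat.add_right_injective_of_ne_top hfin e1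

theorem fibres_cm_of_closed_fibre_cm
    [Module.Finite (IsLocalRing.ResidueField A) (IsLocalRing.ResidueField B)]
    (hA : EGA4.HasCMFormalFibres A)
    (hF : LocCoh.IsCohenMacaulayRing ((IsLocalRing.maximalIdeal A).Fiber (EGA4.Cpl B)))
    (p : Ideal A) [p.IsPrime] : LocCoh.IsCohenMacaulayRing (p.Fiber B) := by
  letI : Algebra (Cpl A) (Cpl B) := (ComplFlat.cplMap A B).toAlgebra
  haveI : IsScalarTower A (Cpl A) (Cpl B) := ComplFlat.cplMap_isScalarTower A B
  haveI : Module.FaithfullyFlat (Cpl A) (Cpl B) := ComplFlat.cplMap_faithfullyFlat A B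
  haveI : IsNoetherianRing (Cpl A) := ComplEtale.isNoetherianRing_completion A
  haveI : IsNoetherianRing (Cpl B) := ComplEtale.isNoetherianRing_completion B
  haveI : IsLocalHom (algebraMap (Cpl A) (Cpl B)) :=
    ComplFlat.isLocalHom_of_comp A B (ComplFlat.cplMap A B) (ComplFlat.cplMap_comp A B)
  have hF' := (isCohenMacaulayRing_fiber_iff A (Cpl B) (maximalIdeal A)).mp hF
  have hAF : ∀ (r : Ideal (Cpl A)) [r.IsPrime], ClosedCM (EGA4.FibLocRing A (Cpl A) r) :=
    fun r _ => (isCohenMacaulayRing_fiber_iff A (Cpl A) (r.comap (algebraMap A (Cpl A)))).mp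
      (hA _) r rfl
  -- closed fibre of `Cpl A → Cpl B`
  have hclosed : ∀ (r : Ideal (Cpl B)) [r.IsPrime],
      r.comap (algebraMap (Cpl A) (Cpl B)) = maximalIdeal (Cpl A) →
      ClosedCM (EGA4.FibLocRing (Cpl A) (Cpl B) r) := by
    intro r _ hr
    have hrA : r.comap (algebraMap A (Cpl B)) = maximalIdeal A := by
      rw [IsScalarTower.algebraMap_eq A (Cpl A) (Cpl B), ← Ideal.comap_comap, hr,
        IsLocalRing.maximalIdeal_comap]
    have h1 : (maximalIdeal (EGA4.FibLocRing A (Cpl B) r)).height = _ := hF' r hrA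
    obtain ⟨hd, hh⟩ := fibLocRing_trans A (Cpl A) (Cpl B) r
    have h2 : (maximalIdeal (EGA4.FibLocRing A (Cpl A)
      (r.comap (algebraMap (Cpl A) (Cpl B))))).height = _ := hAF _
    intro _
    exact enat_cancel hh hd h1 h2 Ideal.height_ne_top_of_isPrime
  -- finiteness of the residue field
  have hfinA : Module.Finite A (B ⧸ maximalIdeal B) := by
    haveI : Module.Finite A (IsLocalRing.ResidueField A) :=
      Module.Finite.of_surjective (Algebra.linearMap A (IsLocalRing.ResidueField A))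
        IsLocalRing.residue_surjective
    haveI : IsScalarTower A (IsLocalRing.ResidueField A) (IsLocalRing.ResidueField B) :=
      IsScalarTower.of_algebraMap_eq fun x => rfl
    have := Module.Finite.trans (R := A) (IsLocalRing.ResidueField A) (IsLocalRing.ResidueField B)
    exact this
  have hfin : Module.Finite (Cpl A) (Cpl B ⧸ maximalIdeal (Cpl B)) := by
    let g : B →ₐ[A] (Cpl B ⧸ maximalIdeal (Cpl B)) :=
      (Ideal.Quotient.mkₐ A _).comp (IsScalarTower.toAlgHom A B (Cpl B))
    have hg : ∀ b ∈ maximalIdeal B, g b = 0 := by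
      intro b hb
      show Ideal.Quotient.mk _ (algebraMap B (Cpl B) b) = 0
      rw [Ideal.Quotient.eq_zero_iff_mem, AdicCompletion.maximalIdeal_eq_map (R := B)]
      exact Ideal.mem_map_of_mem _ hb
    let g' : (B ⧸ maximalIdeal B) →ₐ[A] (Cpl B ⧸ maximalIdeal (Cpl B)) :=
      Ideal.Quotient.liftₐ (maximalIdeal B) g hg
    have hg' : Function.Surjective g' := by
      intro y
      obtain ⟨x, rfl⟩ := Ideal.Quotient.mk_surjective y
      obtain ⟨b, hb⟩ := ComplQuot.exists_sub_mem_maximalIdeal B x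
      refine ⟨Ideal.Quotient.mk _ b, ?_⟩
      show Ideal.Quotient.mk _ (algebraMap B (Cpl B) b) = Ideal.Quotient.mk _ x
      rw [eq_comm, Ideal.Quotient.eq]
      exact hb
    haveI : Module.Finite A (Cpl B ⧸ maximalIdeal (Cpl B)) :=
      Module.Finite.of_surjective g'.toLinearMap hg'
    exact Module.Finite.of_restrictScalars_finite A (Cpl A) _
  have hcore : ∀ (r : Ideal (Cpl B)) [r.IsPrime], ClosedCM (EGA4.FibLocRing (Cpl A) (Cpl B) r) :=
    fun r _ => closedCM_fibLocRing (Cpl A) (Cpl B) (hasOpenCMLoci_of_complete _)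
      (hasOpenCMLoci_of_complete _) hfin hclosed r
  -- descend to `A → B`
  haveI : Module.FaithfullyFlat B (Cpl B) := Module.FaithfullyFlat.of_flat_of_isLocalHom
  rw [isCohenMacaulayRing_fiber_iff A B p]
  intro q hqp hq
  obtain ⟨s, hsp, hsq, hs0, hd0⟩ := exists_prime_fibre_dim_zero B (Cpl B) q
  haveI := hsp
  subst hsq
  obtain ⟨hd, hh⟩ := fibLocRing_trans A B (Cpl B) s
  rw [hd0, add_zero] at hd
  rw [hs0, add_zero] at hh
  obtain ⟨hd', hh'⟩ := fibLocRing_trans A (Cpl A) (Cpl B) s
  have h1 : (maximalIdeal (EGA4.FibLocRing A (Cpl A)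
      (s.comap (algebraMap (Cpl A) (Cpl B))))).height = _ := hAF _
  have h2 : (maximalIdeal (EGA4.FibLocRing (Cpl A) (Cpl B) s)).height = _ := hcore s
  intro _
  rw [← hd, ← hh, hd', hh', h1, h2]

end main

end Groth.Agent.Lib.Helper14.CMFibres
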