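import Mathlib
import Groth.Prelude.Def_EGA4b
import Groth.Agent.Lib.Helper14.CMFibres6

/-!
# Cohen–Macaulay formal fibres: descent along flat local maps (helper14)

* `fib_field`: if `(r ∩ R) B = r` then the fibre local ring of `R → B` at `r` is a field
  (height and depth `0`).
* `closedCM_fibre_of_cm`: if `B_q` and `A_p` are CM then the fibre local ring at `q` is CM.
* `hasCMFormalFibres_descent` (Theorem T): a general descent statement for CM formal fibres.
-/

set_option autoImplicit false
set_option linter.unusedSectionVars false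
set_option linter.style.haveILetI false
set_option maxHeartbeats 800000
universe u
open IsLocalRing EGA4 TensorProduct Groth.Agent.Lib.Helper4 Groth.Agent.Lib.Helper4.FlatRing
  Groth.Agent.Lib.Helper4.FlatFibre

namespace Groth.Agent.Lib.Helper14.CMFormal

section T0

variable (R B : Type u) [CommRing R] [CommRing B] [IsNoetherianRing R] [IsNoetherianRing B]
  [Algebra R B]

/-- fibre local rings of "epimorphism-like" maps are fields. -/
theorem fib_field (r : Ideal B) [r.IsPrime]
    (hr : (r.comap (algebraMap R B)).map (algebraMap R B) = r) :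
    (maximalIdeal (EGA4.FibLocRing R B r)).height = 0 ∧
      LocCoh.depth (EGA4.FibLocRing R B r) (EGA4.FibLocRing R B r) = 0 := by
  have hJ : (r.comap (algebraMap R B)).map (algebraMap R (Localization.AtPrime r)) =
      maximalIdeal (Localization.AtPrime r) := by
    rw [IsScalarTower.algebraMap_eq R B (Localization.AtPrime r), ← Ideal.map_map, hr,
      Localization.AtPrime.map_eq_maximalIdeal]
  have hmax : maximalIdeal (EGA4.FibLocRing R B r) = ⊥ := by
    rw [← IsLocalRing.map_maximalIdeal_of_surjective (Ideal.Quotient.mk _)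
      Ideal.Quotient.mk_surjective, ← hJ, Ideal.map_quotient_self]
  have hh : (maximalIdeal (EGA4.FibLocRing R B r)).height = 0 := by
    rw [hmax, Ideal.height_bot]
  refine ⟨hh, ?_⟩
  have hle := depth_self_le_height (B := EGA4.FibLocRing R B r)
  rw [hh] at hle
  exact le_antisymm hle zero_le

end T0

section conv

variable (A B : Type u) [CommRing A] [CommRing B] [IsNoetherianRing A] [IsNoetherianRing B]
  [Algebra A B] [Module.Flat A B]

/-- if `B_q` and `A_p` are both CM then so is the fibre local ring at `q`. -/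
theorem closedCM_fibre_of_cm (q : Ideal B) [q.IsPrime]
    (hB : LocCoh.IsCohenMacaulayLocalRing (Localization.AtPrime q))
    (hA : LocCoh.IsCohenMacaulayLocalRing (Localization.AtPrime (q.comap (algebraMap A B)))) :
    ClosedCM (EGA4.FibLocRing A B q) := by
  rw [isCohenMacaulayLocalRing_iff_closedCM] at hA hB
  obtain ⟨h1, h2, -⟩ := exists_local_data A B q
  have hA' : (maximalIdeal (Localization.AtPrime (q.comap (algebraMap A B)))).height = _ := hA
  have hB' : (maximalIdeal (Localization.AtPrime q)).height = _ := hB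
  rw [SerreNormal.height_maximalIdeal_atPrime] at hA' hB'
  intro _
  rw [h1, h2, ← hA'] at hB'
  exact ENat.add_right_injective_of_ne_top Ideal.height_ne_top_of_isPrime hB'

end conv

section T

variable (R R' B B' : Type u) [CommRing R] [CommRing R'] [CommRing B] [CommRing B']
  [IsNoetherianRing R] [IsNoetherianRing R'] [IsNoetherianRing B] [IsNoetherianRing B']
  [IsLocalRing B] [IsLocalRing B']
  [Algebra R R'] [Algebra R B] [Algebra R' B'] [Algebra B B'] [Algebra R B']
  [IsScalarTower R B B'] [IsScalarTower R R' B']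
  [Module.Flat R' B'] [Module.Flat B B'] [IsLocalHom (algebraMap B B')]

/-- **Theorem T**: descent of CM formal fibres. -/
theorem hasCMFormalFibres_descent
    (hB : ∀ (r : Ideal B) [r.IsPrime], (r.comap (algebraMap R B)).map (algebraMap R B) = r)
    (hB' : ∀ (r : Ideal B') [r.IsPrime],
      (r.comap (algebraMap R' B')).map (algebraMap R' B') = r)
    (hfib : ∀ (r' : Ideal R') [r'.IsPrime], ClosedCM (EGA4.FibLocRing R R' r'))
    (h' : EGA4.HasCMFormalFibres B') : EGA4.HasCMFormalFibres B := by
  letI : Algebra (Cpl B) (Cpl B') := (ComplFlat.cplMap B B').toAlgebra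
  haveI : IsScalarTower B (Cpl B) (Cpl B') := ComplFlat.cplMap_isScalarTower B B'
  haveI : Module.FaithfullyFlat (Cpl B) (Cpl B') := ComplFlat.cplMap_faithfullyFlat B B'
  haveI : IsNoetherianRing (Cpl B) := ComplEtale.isNoetherianRing_completion B
  haveI : IsNoetherianRing (Cpl B') := ComplEtale.isNoetherianRing_completion B'
  haveI : Module.Flat R' (Cpl B') := Module.Flat.trans R' B' (Cpl B')
  haveI : IsScalarTower R (Cpl B) (Cpl B') := by
    refine IsScalarTower.of_algebraMap_eq' ?_
    have h1 := ComplFlat.cplMap_comp B B'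
    have h2 : algebraMap (Cpl B) (Cpl B') = ComplFlat.cplMap B B' := rfl
    rw [h2, IsScalarTower.algebraMap_eq R B (Cpl B), ← RingHom.comp_assoc, h1,
      RingHom.comp_assoc, ← IsScalarTower.algebraMap_eq R B B',
      ← IsScalarTower.algebraMap_eq R B' (Cpl B')]
  haveI : IsScalarTower R R' (Cpl B') := by
    refine IsScalarTower.of_algebraMap_eq' ?_
    rw [IsScalarTower.algebraMap_eq R' B' (Cpl B'), RingHom.comp_assoc,
      ← IsScalarTower.algebraMap_eq R R' B', ← IsScalarTower.algebraMap_eq R B' (Cpl B')]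
  intro p hp
  change LocCoh.IsCohenMacaulayRing (p.Fiber (Cpl B))
  rw [isCohenMacaulayRing_fiber_iff B (Cpl B) p]
  intro t htp ht
  obtain ⟨u, hup, hut, hu0, hud0⟩ := exists_prime_fibre_dim_zero (Cpl B) (Cpl B') t
  haveI := hup
  subst hut
  -- (a) R → B → Cpl B
  obtain ⟨hd_a, hh_a⟩ := fibLocRing_trans R B (Cpl B) (u.comap (algebraMap (Cpl B) (Cpl B')))
  obtain ⟨hfa_h, hfa_d⟩ := fib_field R B
    ((u.comap (algebraMap (Cpl B) (Cpl B'))).comap (algebraMap B (Cpl B))) (hB _)
  rw [hfa_d, zero_add] at hd_a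
  rw [hfa_h, zero_add] at hh_a
  -- (b) R → Cpl B → Cpl B'
  obtain ⟨hd_b, hh_b⟩ := fibLocRing_trans R (Cpl B) (Cpl B') u
  rw [hud0, add_zero] at hd_b
  rw [hu0, add_zero] at hh_b
  -- (c1) R → R' → Cpl B'
  obtain ⟨hd_c1, hh_c1⟩ := fibLocRing_trans R R' (Cpl B') u
  -- (c2) R' → B' → Cpl B'
  obtain ⟨hd_c2, hh_c2⟩ := fibLocRing_trans R' B' (Cpl B') u
  obtain ⟨hfc_h, hfc_d⟩ := fib_field R' B' (u.comap (algebraMap B' (Cpl B'))) (hB' _)
  rw [hfc_d, zero_add] at hd_c2
  rw [hfc_h, zero_add] at hh_c2
  have hcm1 : (maximalIdeal (EGA4.FibLocRing R R' (u.comap (algebraMap R' (Cpl B'))))).height = _ :=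
    hfib _
  have hcm2 : (maximalIdeal (EGA4.FibLocRing B' (Cpl B') u)).height = _ :=
    (isCohenMacaulayRing_fiber_iff B' (Cpl B') (u.comap (algebraMap B' (Cpl B')))).mp
      (h' _) u rfl
  intro _
  rw [← hh_a, ← hd_a, ← hh_b, ← hd_b, hh_c1, hd_c1, hh_c2, hd_c2, hcm1, hcm2]

end T

end Groth.Agent.Lib.Helper14.CMFormal
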