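import Mathlib

set_option autoImplicit false
universe u

namespace Groth.Agent.Lib.Helper14.QuotFiber

open TensorProduct

/-- Base change along a map with bijective residue field extension does not change the fibre
ring. -/
theorem nonempty_fiber_ringEquiv (A B A' B' : Type*) [CommRing A] [CommRing B]
    [CommRing A'] [CommRing B'] [Algebra A B] [Algebra A A'] [Algebra A' B'] [Algebra B B']
    [Algebra A B'] [IsScalarTower A A' B'] [IsScalarTower A B B'] [Algebra.IsPushout A A' B B']
    (p : Ideal A) [p.IsPrime] (P : Ideal A') [P.IsPrime] [P.LiesOver p]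
    (H : Function.Bijective (Ideal.ResidueField.mapₐ p P (Algebra.ofId _ _) (P.over_def p))) :
    Nonempty (P.Fiber B' ≃+* p.Fiber B) := by
  letI := Localization.AtPrime.algebraOfLiesOver p P
  let e : P.Fiber (A' ⊗[A] B) ≃ₐ[p.ResidueField] p.Fiber B :=
    ((Algebra.TensorProduct.cancelBaseChange _ _ P.ResidueField _ _).restrictScalars _).trans
      (Algebra.TensorProduct.congr (.symm <| .ofBijective (Algebra.ofId _ _) H) .refl)
  let e0 : P.Fiber (A' ⊗[A] B) ≃ₐ[P.ResidueField] P.Fiber B' :=
    Algebra.TensorProduct.congr AlgEquiv.refl (Algebra.IsPushout.equiv A A' B B')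
  exact ⟨e0.symm.toRingEquiv.trans e.toRingEquiv⟩

theorem residueField_mapₐ_bijective_of_surjective (A A' : Type*) [CommRing A] [CommRing A']
    [Algebra A A'] (hs : Function.Surjective (algebraMap A A'))
    (p : Ideal A) [p.IsPrime] (P : Ideal A') [P.IsPrime] [P.LiesOver p] :
    Function.Bijective (Ideal.ResidueField.mapₐ p P (Algebra.ofId _ _) (P.over_def p)) :=
  (RingHom.surjectiveOnStalks_of_surjective hs).residueFieldMap_bijective p P (P.over_def p)

end Groth.Agent.Lib.Helper14.QuotFiber
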