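import Mathlib
import Groth.Prelude.Def_EGA4b
import Groth.Agent.Lib.Helper14.CMFormal1
import Groth.Agent.Lib.Helper14.CMLocus
import Groth.Agent.S4755
import Groth.Agent.Lib.Helper14.EssFTLocal

/-!
# Cohen–Macaulay formal fibres: CM rings and surjections (helper14)

* `hasCMFormalFibres_of_cm`: a Noetherian local ring all of whose localizations are CM has CM
  formal fibres.
-/

set_option autoImplicit false
set_option linter.unusedSectionVars false
set_option linter.style.haveILetI false
set_option maxHeartbeats 800000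
universe u
open IsLocalRing EGA4 TensorProduct Groth.Agent.Lib.Helper4 Groth.Agent.Lib.Helper4.FlatRing
  Groth.Agent.Lib.Helper4.FlatFibre

namespace Groth.Agent.Lib.Helper14.CMFormal

section P1

variable (S : Type u) [CommRing S] [IsNoetherianRing S] [IsLocalRing S]

theorem closedCM_of_fib_field (R B : Type u) [CommRing R] [CommRing B] [IsNoetherianRing R]
    [IsNoetherianRing B] [Algebra R B] (r : Ideal B) [r.IsPrime]
    (hr : (r.comap (algebraMap R B)).map (algebraMap R B) = r) :
    ClosedCM (EGA4.FibLocRing R B r) := by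
  obtain ⟨h1, h2⟩ := fib_field R B r hr
  intro _
  rw [h1, h2]

/-- a Noetherian local ring all of whose localizations are CM has CM formal fibres. -/
theorem hasCMFormalFibres_of_cm
    (hS : ∀ (r : Ideal S) [r.IsPrime],
      LocCoh.IsCohenMacaulayLocalRing (Localization.AtPrime r)) :
    EGA4.HasCMFormalFibres S := by
  haveI : IsNoetherianRing (Cpl S) := ComplEtale.isNoetherianRing_completion S
  have hopen := CMLocus.isOpen_cmLocus_of_complete (Cpl S)
  -- the closed point is in the CM locus
  have hmax : LocCoh.IsCohenMacaulayLocalRing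
      (Localization.AtPrime (maximalIdeal (Cpl S))) := by
    have hF : ClosedCM (EGA4.FibLocRing S (Cpl S) (maximalIdeal (Cpl S))) := by
      apply closedCM_of_fib_field
      rw [IsLocalRing.maximalIdeal_comap, ← AdicCompletion.maximalIdeal_eq_map]
    exact (CMLocus.cm_atPrime_iff_of_fibre S (Cpl S) (maximalIdeal (Cpl S)) hF).mpr (hS _)
  intro p hp
  change LocCoh.IsCohenMacaulayRing (p.Fiber (Cpl S))
  rw [isCohenMacaulayRing_fiber_iff S (Cpl S) p]
  intro t htp ht
  refine closedCM_fibre_of_cm S (Cpl S) t ?_ (hS _)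
  have hspec : (⟨t, htp⟩ : PrimeSpectrum (Cpl S)) ⤳ closedPoint (Cpl S) := by
    rw [← PrimeSpectrum.le_iff_specializes]
    exact IsLocalRing.le_maximalIdeal htp.ne_top
  exact hopen.stableUnderGeneralization hspec hmax

/-- localizations of CM rings have CM formal fibres. -/
theorem hasCMFormalFibres_atPrime_of_cm (R : Type u) [CommRing R] [LocCoh.IsCohenMacaulayRing R]
    (Q : Ideal R) [Q.IsPrime] : EGA4.HasCMFormalFibres (Localization.AtPrime Q) := by
  apply hasCMFormalFibres_of_cm
  intro r hr
  have hF : ClosedCM (EGA4.FibLocRing R (Localization.AtPrime Q) r) :=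
    closedCM_of_fib_field R _ r (IsLocalization.map_under Q.primeCompl _ r)
  exact (CMLocus.cm_atPrime_iff_of_fibre R (Localization.AtPrime Q) r hF).mpr
    (LocCoh.IsCohenMacaulayRing.isCohenMacaulayLocalRing_localization _)

end P1

section surj

variable (X Y : Type u) [CommRing X] [CommRing Y] [IsNoetherianRing X] [IsNoetherianRing Y]
  [IsLocalRing X] [IsLocalRing Y]

/-- CM formal fibres transfer along ring isomorphisms. -/
theorem hasCMFormalFibres_of_ringEquiv (e : X ≃+* Y) (hX : EGA4.HasCMFormalFibres X) :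
    EGA4.HasCMFormalFibres Y := by
  letI : Algebra Y X := e.symm.toRingHom.toAlgebra
  have hbij : Function.Bijective (algebraMap Y X) := e.symm.bijective
  haveI : Module.Flat Y X := RingHom.Flat.of_bijective hbij
  haveI : IsLocalHom (algebraMap Y X) := by
    change IsLocalHom e.symm.toRingHom
    exact ⟨fun a ha => by
      have : IsUnit (e.symm a) := ha
      simpa using this⟩
  refine hasCMFormalFibres_descent Y X Y X ?_ ?_ ?_ hX
  · intro r _
    simp [Algebra.algebraMap_self, Ideal.map_id, Ideal.comap_id]
  · intro r _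
    simp [Algebra.algebraMap_self, Ideal.map_id, Ideal.comap_id]
  · intro r' _
    exact closedCM_of_fib_field Y X r' (Ideal.map_comap_of_surjective _ hbij.2 r')

/-- CM formal fibres pass to quotients (surjective form of `S4755`). -/
theorem hasCMFormalFibres_of_surjective (f : X →+* Y) (hf : Function.Surjective f)
    (hX : EGA4.HasCMFormalFibres X) : EGA4.HasCMFormalFibres Y := by
  let e : (X ⧸ RingHom.ker f) ≃+* Y := RingHom.quotientKerEquivOfSurjective hf
  haveI : Nontrivial (X ⧸ RingHom.ker f) := e.toEquiv.nontrivial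
  exact hasCMFormalFibres_of_ringEquiv _ _ e (Groth.Agent.S4755.result X hX (RingHom.ker f))

end surj

section caller2

/-- localizations of polynomial rings over a complete Noetherian local ring have CM formal
fibres. -/
theorem hasCMFormalFibres_mvPolynomial_atPrime_of_complete (C : Type u) [CommRing C]
    [IsLocalRing C] [IsNoetherianRing C] [IsAdicComplete (maximalIdeal C) C] (n : ℕ)
    (Q : Ideal (MvPolynomial (Fin n) C)) [Q.IsPrime] :
    EGA4.HasCMFormalFibres (Localization.AtPrime Q) := by
  obtain ⟨R, hR, hreg, hloc, ψ, hψ⟩ := FEChain2.exists_regular_surjective C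
  haveI : LocCoh.IsCohenMacaulayRing R := CMFlat.cm_of_isRegularRing R
  haveI : LocCoh.IsCohenMacaulayRing (MvPolynomial (Fin n) R) := CMFlat.cm_mvPolynomial n
  have hΦ : Function.Surjective (MvPolynomial.map (σ := Fin n) ψ) :=
    MvPolynomial.map_surjective ψ hψ
  have hloc := RingHom.surjective_localRingHom_of_surjective _ hΦ Q
  exact hasCMFormalFibres_of_surjective _ _ _ hloc
    (hasCMFormalFibres_atPrime_of_cm (MvPolynomial (Fin n) R) _)

end caller2

section caller1

/-- fibre local rings of polynomial rings are CM. -/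
theorem closedCM_fibLocRing_mvPolynomial (K : Type u) [CommRing K] [IsNoetherianRing K] (n : ℕ)
    (r : Ideal (MvPolynomial (Fin n) K)) [r.IsPrime] :
    ClosedCM (EGA4.FibLocRing K (MvPolynomial (Fin n) K) r) := by
  obtain ⟨p, hp⟩ : ∃ p : Ideal K, p = r.comap (algebraMap K (MvPolynomial (Fin n) K)) := ⟨_, rfl⟩
  haveI : p.IsPrime := by
    rw [hp]
    infer_instance
  have e : p.Fiber (MvPolynomial (Fin n) K) ≃ₐ[p.ResidueField]
      MvPolynomial (Fin n) p.ResidueField := MvPolynomial.algebraTensorAlgEquiv K p.ResidueField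
  haveI : IsRegularRing (p.Fiber (MvPolynomial (Fin n) K)) :=
    IsRegularRing.of_ringEquiv e.symm.toRingEquiv
  have hcm := CMFlat.cm_of_isRegularRing (p.Fiber (MvPolynomial (Fin n) K))
  intro _
  exact (isCohenMacaulayRing_fiber_iff K (MvPolynomial (Fin n) K) p).mp hcm r hp.symm

variable (A : Type u) [CommRing A] [IsNoetherianRing A] [IsLocalRing A]

attribute [local instance] MvPolynomial.algebraMvPolynomial in
/-- localizations of polynomial rings over a local ring with CM formal fibres have CM formal
fibres. -/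
theorem hasCMFormalFibres_mvPolynomial_atPrime (hA : EGA4.HasCMFormalFibres A) (n : ℕ)
    (Q : Ideal (MvPolynomial (Fin n) A)) [Q.IsPrime] :
    EGA4.HasCMFormalFibres (Localization.AtPrime Q) := by
  haveI : IsNoetherianRing (Cpl A) := ComplEtale.isNoetherianRing_completion A
  haveI : Module.FaithfullyFlat A (Cpl A) := Module.FaithfullyFlat.of_flat_of_isLocalHom
  haveI : Module.FaithfullyFlat (MvPolynomial (Fin n) A) (MvPolynomial (Fin n) (Cpl A)) :=
    Module.FaithfullyFlat.of_linearEquiv (MvPolynomial (Fin n) A)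
      (MvPolynomial (Fin n) A ⊗[A] Cpl A)
      (Algebra.IsPushout.equiv A (MvPolynomial (Fin n) A) (Cpl A)
        (MvPolynomial (Fin n) (Cpl A))).symm.toLinearEquiv
  obtain ⟨⟨Q', hQ'⟩, hQ'Q⟩ :=
    PrimeSpectrum.comap_surjective_of_faithfullyFlat (A := MvPolynomial (Fin n) A)
      (B := MvPolynomial (Fin n) (Cpl A)) ⟨Q, inferInstance⟩
  haveI := hQ'
  have hover : Q'.comap (algebraMap (MvPolynomial (Fin n) A) (MvPolynomial (Fin n) (Cpl A))) = Q :=
    congrArg PrimeSpectrum.asIdeal hQ'Q
  haveI : Q'.LiesOver Q := ⟨hover.symm⟩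
  letI := Localization.AtPrime.algebraOfLiesOver Q Q'
  haveI : IsLocalHom (algebraMap (Localization.AtPrime Q) (Localization.AtPrime Q')) :=
    Localization.isLocalHom_localRingHom Q Q' (algebraMap _ _) Ideal.LiesOver.over
  haveI : IsScalarTower A (MvPolynomial (Fin n) A) (MvPolynomial (Fin n) (Cpl A)) := by
    refine IsScalarTower.of_algebraMap_eq' ?_
    ext x
    simp [MvPolynomial.algebraMap_eq]
  refine hasCMFormalFibres_descent (MvPolynomial (Fin n) A) (MvPolynomial (Fin n) (Cpl A))
    (Localization.AtPrime Q) (Localization.AtPrime Q') ?_ ?_ ?_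
    (hasCMFormalFibres_mvPolynomial_atPrime_of_complete (Cpl A) n Q')
  · intro r _
    exact IsLocalization.map_under Q.primeCompl _ r
  · intro r _
    exact IsLocalization.map_under Q'.primeCompl _ r
  · intro r' _
    obtain ⟨hd1, hh1⟩ := fibLocRing_trans A (MvPolynomial (Fin n) A)
      (MvPolynomial (Fin n) (Cpl A)) r'
    obtain ⟨hd2, hh2⟩ := fibLocRing_trans A (Cpl A) (MvPolynomial (Fin n) (Cpl A)) r'
    have hc1 : (maximalIdeal (EGA4.FibLocRing A (MvPolynomial (Fin n) A)
        (r'.comap (algebraMap (MvPolynomial (Fin n) A) (MvPolynomial (Fin n) (Cpl A)))))).height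
          = _ := closedCM_fibLocRing_mvPolynomial A n _
    have hc2 : (maximalIdeal (EGA4.FibLocRing (Cpl A) (MvPolynomial (Fin n) (Cpl A)) r')).height
          = _ := closedCM_fibLocRing_mvPolynomial (Cpl A) n r'
    have hc3 : (maximalIdeal (EGA4.FibLocRing A (Cpl A)
        (r'.comap (algebraMap (Cpl A) (MvPolynomial (Fin n) (Cpl A)))))).height = _ :=
      (isCohenMacaulayRing_fiber_iff A (Cpl A) _).mp (hA _) _ rfl
    intro _
    rw [hd2, ← hc2, ← hc3, ← hh2, hh1, hc1] at hd1
    have hfin : LocCoh.depth (EGA4.FibLocRing A (MvPolynomial (Fin n) A)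
        (r'.comap (algebraMap (MvPolynomial (Fin n) A) (MvPolynomial (Fin n) (Cpl A)))))
        (EGA4.FibLocRing A (MvPolynomial (Fin n) A)
        (r'.comap (algebraMap (MvPolynomial (Fin n) A) (MvPolynomial (Fin n) (Cpl A))))) ≠ ⊤ := by
      rw [← hc1]
      exact Ideal.height_ne_top_of_isPrime
    exact ENat.add_right_injective_of_ne_top hfin hd1

end caller1

section final

/-- a local algebra essentially of finite type is a quotient of a localization of a polynomial
ring. -/
theorem exists_mvPolynomial_atPrime_surjective (A : Type u) [CommRing A]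
    (B : Type u) [CommRing B] [IsLocalRing B] [Algebra A B] [Algebra.EssFiniteType A B] :
    ∃ (n : ℕ) (Q : Ideal (MvPolynomial (Fin n) A)) (_ : Q.IsPrime)
      (g : Localization.AtPrime Q →+* B), Function.Surjective g := by
  have hft : Algebra.FiniteType A (Algebra.EssFiniteType.subalgebra A B) := inferInstance
  obtain ⟨n, π, hπ⟩ := Algebra.FiniteType.iff_quotient_mvPolynomial''.mp hft
  let ψ : MvPolynomial (Fin n) A →ₐ[A] B :=
    (Algebra.EssFiniteType.subalgebra A B).val.comp π
  have hsurj : Function.Surjective (atPrimeLift ψ) := by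
    apply atPrimeLift_surjective
    intro b
    obtain ⟨⟨b0, s0⟩, hb⟩ := IsLocalization.surj (essPrime A B).primeCompl b
    obtain ⟨x, hx⟩ := hπ b0
    obtain ⟨s, hs⟩ := hπ (s0 : Algebra.EssFiniteType.subalgebra A B)
    refine ⟨x, s, ?_, ?_⟩
    · have : ψ s = algebraMap (Algebra.EssFiniteType.subalgebra A B) B s0 := by
        simp only [ψ, AlgHom.comp_apply, hs]
        rfl
      rw [this]
      exact IsLocalization.map_units B s0
    · have h1 : ψ s = algebraMap (Algebra.EssFiniteType.subalgebra A B) B s0 := by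
        simp only [ψ, AlgHom.comp_apply, hs]
        rfl
      have h2 : ψ x = algebraMap (Algebra.EssFiniteType.subalgebra A B) B b0 := by
        simp only [ψ, AlgHom.comp_apply, hx]
        rfl
      rw [h1, h2]
      exact hb
  exact ⟨n, comapMax ψ, inferInstance, (atPrimeLift ψ).toRingHom, hsurj⟩

/-- **S2642** -/
theorem hasCMFormalFibres_of_essFiniteType (A : Type u) [CommRing A] [IsNoetherianRing A]
    [IsLocalRing A] (hA : EGA4.HasCMFormalFibres A) (B : Type u) [CommRing B]
    [IsNoetherianRing B] [IsLocalRing B] [Algebra A B] [Algebra.EssFiniteType A B] :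
    EGA4.HasCMFormalFibres B := by
  obtain ⟨n, Q, hQ, g, hg⟩ := exists_mvPolynomial_atPrime_surjective A B
  exact hasCMFormalFibres_of_surjective _ _ g hg (hasCMFormalFibres_mvPolynomial_atPrime A hA n Q)

end final

end Groth.Agent.Lib.Helper14.CMFormal
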