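import Mathlib
import Groth.Prelude.Def_EGA4b
import Groth.Agent.Lib.Helper14.ComplQuot
import Groth.Agent.Lib.Helper8.ComplDim
import Groth.Agent.Lib.Helper4.CM2
import Groth.Agent.Lib.Helper4.CMChain
import Groth.Agent.Lib.Helper4.FlatLocal2

/-!
# A local ring with a full-support Cohen–Macaulay module is formally strictly catenary
-/

set_option autoImplicit false
universe u

namespace Groth.Agent.Lib.Helper14.CMFormalCat

open IsLocalRing TensorProduct EGA4 Groth.Agent.Lib.Helper4 RingTheory.Sequence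
open Groth.Agent.Lib.Helper14.ComplFlat Groth.Agent.Lib.Helper14.ComplQuot

section key

variable {A : Type u} [CommRing A] {B : Type u} [CommRing B] [Algebra A B] [Module.Flat A B]
  {N : Type u} [AddCommGroup N] [Module A N]

/-- For flat `B`, the annihilator of `1 ⊗ n` is the extension of the annihilator of `n`. -/
theorem tmul_eq_zero_iff (p : Ideal A) (n : N)
    (hp : ∀ a : A, a ∈ p ↔ a • n = 0) (b : B) :
    b ⊗ₜ[A] n = (0 : B ⊗[A] N) ↔ b ∈ p.map (algebraMap A B) := by
  constructor
  · intro h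
    have hle : p ≤ LinearMap.ker (LinearMap.toSpanSingleton A N n) := by
      intro a ha
      rw [LinearMap.mem_ker, LinearMap.toSpanSingleton_apply]
      exact (hp a).mp ha
    set ι : (A ⧸ p) →ₗ[A] N := Submodule.liftQ p (LinearMap.toSpanSingleton A N n) hle with hι
    have hinj : Function.Injective ι := by
      rw [← LinearMap.ker_eq_bot, hι, Submodule.ker_liftQ_eq_bot]
      intro a ha
      rw [LinearMap.mem_ker, LinearMap.toSpanSingleton_apply] at ha
      exact (hp a).mpr ha
    have hinj' := Module.Flat.lTensor_preserves_injective_linearMap (M := B) ι hinj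
    have h1 : (LinearMap.lTensor B ι) (b ⊗ₜ[A] (Ideal.Quotient.mk p 1)) = 0 := by
      rw [LinearMap.lTensor_tmul, hι]
      change b ⊗ₜ[A] (Submodule.liftQ p (LinearMap.toSpanSingleton A N n) hle
        (Submodule.Quotient.mk 1)) = 0
      rw [Submodule.liftQ_apply, LinearMap.toSpanSingleton_apply, one_smul]
      exact h
    have h2 : b ⊗ₜ[A] (Ideal.Quotient.mk p 1) = (0 : B ⊗[A] (A ⧸ p)) :=
      hinj' (by rw [h1, map_zero])
    have h3 := congrArg (tensorQuotEquivQuotMapSMul A B B p) h2
    rw [tensorQuotEquivQuotMapSMul_tmul, map_zero, one_smul, Submodule.Quotient.mk_eq_zero,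
      smul_eq_mul, Ideal.mul_top] at h3
    exact h3
  · intro h
    induction h using Submodule.span_induction with
    | mem x hx =>
      obtain ⟨a, ha, rfl⟩ := hx
      rw [Algebra.algebraMap_eq_smul_one, TensorProduct.smul_tmul, (hp a).mp ha,
        TensorProduct.tmul_zero]
    | zero => exact TensorProduct.zero_tmul _ _
    | add x y _ _ hx hy => rw [TensorProduct.add_tmul, hx, hy, add_zero]
    | smul r x _ hx =>
      rw [smul_eq_mul, ← smul_eq_mul, ← TensorProduct.smul_tmul', hx, smul_zero]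

end key

section main

variable (A : Type u) [CommRing A] [IsNoetherianRing A] [IsLocalRing A]
  (M : Type u) [AddCommGroup M] [Module A M] [Module.Finite A M]

theorem main (hCM : LocCoh.IsCohenMacaulayModule A M) (hsupp : Module.support A M = Set.univ) :
    EGA4.IsFormallyStrictlyCatenary A := by
  intro p _
  haveI : IsNoetherianRing (Cpl A) := Groth.Agent.Lib.Helper8.isNoetherianRing_adicCompletion A
  -- the regular sequence in `p`
  set pp : PrimeSpectrum A := ⟨p, inferInstance⟩ with hpp
  have hpsupp : pp ∈ Module.support A M := by rw [hsupp]; trivial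
  have hht := cm_height_add_ringKrullDim_quotient hCM hsupp pp
  have hfin : p.height ≠ ⊤ := Ideal.height_ne_top_of_isPrime
  obtain ⟨r, hr⟩ := ENat.ne_top_iff_exists.mp hfin
  have hr' : Module.supportDim A (M ⧸ (pp.asIdeal • (⊤ : Submodule A M))) + r =
      Module.supportDim A M := by
    rw [supportDim_quot_prime_eq hpsupp, supportDim_eq_ringKrullDim_of_support_eq_univ hsupp,
      ← hht, add_comm]
    congr 1
    change ((r : ℕ∞) : WithBot ℕ∞) = _
    rw [hr]
  obtain ⟨⟨xs, hlen, hxsp, hreg⟩, hall⟩ := cm_prime_regular_sequence hCM pp hpsupp r hr'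
  obtain ⟨hd1, hd2, hpass, -⟩ := hall xs hlen hxsp hreg
  set N := M ⧸ (Ideal.ofList xs • (⊤ : Submodule A M)) with hN
  have hple : p ≤ maximalIdeal A := IsLocalRing.le_maximalIdeal (Ideal.IsPrime.ne_top inferInstance)
  have hNCM : LocCoh.IsCohenMacaulayModule A N :=
    cm_quot_ofList hCM xs (fun x hx => hple (hxsp x hx)) hreg
  have hdepthN : ((LocCoh.depth A N : ℕ∞) : WithBot ℕ∞) = ringKrullDim (A ⧸ p) := by
    rw [← hNCM, hd1, hd2]
  -- the element of `N` with annihilator `p`
  obtain ⟨-, n, hn⟩ := isAssociatedPrime_iff.mp hpass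
  have hpn : ∀ a : A, a ∈ p ↔ a • n = 0 := by
    intro a
    change a ∈ pp.asIdeal ↔ _
    rw [hn, Submodule.mem_colon_singleton, Submodule.mem_bot]
  -- depth of the completion
  set T := Cpl A ⊗[A] N with hT
  have hdT := depth_tensor_eq (R := A) (S := Cpl A) N (Cpl A)
  have hdT' : LocCoh.depth A N ≤ LocCoh.depth (Cpl A) T := by
    change LocCoh.depth A N ≤ LocCoh.depth (Cpl A) (Cpl A ⊗[A] N)
    rw [hdT]; exact le_self_add
  -- the map of completions
  set ψ := cplMap A (A ⧸ p) with hψ
  have hψs : Function.Surjective ψ := cplMap_surjective A p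
  have hψk : RingHom.ker ψ = p.map (algebraMap A (Cpl A)) := ker_cplMap A p
  have hdimD : ringKrullDim (Cpl (A ⧸ p)) = ringKrullDim (A ⧸ p) :=
    Groth.Agent.Lib.Helper8.ringKrullDim_adicCompletion (A ⧸ p)
  intro P' hP'
  haveI hP'prime : P'.IsPrime := IsAssociatedPrime.isPrime hP'
  apply le_antisymm (ringKrullDim_quotient_le P')
  obtain ⟨-, y', hy'⟩ := isAssociatedPrime_iff.mp hP'
  obtain ⟨y, rfl⟩ := hψs y'
  set Q : Ideal (Cpl A) := P'.comap ψ with hQ
  haveI : Q.IsPrime := Ideal.comap_isPrime ψ P'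
  have hQass : Q ∈ associatedPrimes (Cpl A) T := by
    rw [AssociatedPrimes.mem_iff, isAssociatedPrime_iff]
    refine ⟨inferInstance, y ⊗ₜ[A] n, ?_⟩
    ext a
    rw [hQ, Ideal.mem_comap, hy', Submodule.mem_colon_singleton, Submodule.mem_bot,
      Submodule.mem_colon_singleton, Submodule.mem_bot, smul_eq_mul, ← map_mul,
      ← RingHom.mem_ker, hψk, TensorProduct.smul_tmul', smul_eq_mul,
      tmul_eq_zero_iff p n hpn]
  have h1 := depth_le_ringKrullDim_quotient hQass
  -- `D̂/P' ≅ Â/Q`
  have hsurj : Function.Surjective ((Ideal.Quotient.mk P').comp ψ) :=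
    Ideal.Quotient.mk_surjective.comp hψs
  have hker : RingHom.ker ((Ideal.Quotient.mk P').comp ψ) = Q := by
    rw [← RingHom.comap_ker, Ideal.mk_ker]
  have e : (Cpl A ⧸ Q) ≃+* (Cpl (A ⧸ p) ⧸ P') :=
    (Ideal.quotEquivOfEq hker.symm).trans (RingHom.quotientKerEquivOfSurjective hsurj)
  rw [← ringKrullDim_eq_of_ringEquiv e, hdimD, ← hdepthN]
  refine le_trans ?_ h1
  exact_mod_cast hdT'

end main

end Groth.Agent.Lib.Helper14.CMFormalCat
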