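import Mathlib
import Groth.Agent.Lib.Helper14.CMEquidim
import Groth.Agent.Lib.Helper12.EquidimOpen2
import Groth.Agent.S2082

/-!
# Flatness criteria for a Cohen–Macaulay scheme over a regular base (EGA IV 15.4.2)
-/

set_option autoImplicit false
set_option linter.style.haveILetI false
universe u

open AlgebraicGeometry CategoryTheory Limits IsLocalRing

namespace Groth.Agent.Lib.Helper14.CMRegTFAE

open Groth.Agent.Lib.Helper6

variable {X Y : Scheme.{u}} [IsLocallyNoetherian Y] (f : X ⟶ Y) [LocallyOfFiniteType f] (x : X)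

include f in
theorem isLocallyNoetherian_source : IsLocallyNoetherian X :=
  LocallyOfFiniteType.isLocallyNoetherian f

/-- flat + `O_{X,x}` Cohen–Macaulay implies the fibre is Cohen–Macaulay at `x`. -/
theorem isCMAt_of_flat_of_cm (hfl : (f.stalkMap x).hom.Flat)
    (hCM : LocCoh.IsCohenMacaulayLocalRing (X.presheaf.stalk x)) : MoreMor.IsCMAt f x := by
  haveI := isLocallyNoetherian_source f
  rw [Groth.Agent.Lib.Helper4.CMHomSch.isCMAt_iff]
  refine ⟨hfl, ?_⟩
  letI := (f.stalkMap x).hom.toAlgebra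
  haveI : Module.Flat (Y.presheaf.stalk (f x)) (X.presheaf.stalk x) := hfl
  haveI : IsLocalHom (algebraMap (Y.presheaf.stalk (f x)) (X.presheaf.stalk x)) :=
    inferInstanceAs (IsLocalHom (f.stalkMap x).hom)
  exact ((Groth.Agent.Lib.Helper4.CMHom.cm_iff_of_flat (A := Y.presheaf.stalk (f x))
    (B := X.presheaf.stalk x) _ rfl).1 hCM).2

/-- flat at `x` implies universally open on a neighbourhood. -/
theorem exists_universallyOpen_of_flat (hfl : (f.stalkMap x).hom.Flat) :
    ∃ U : X.Opens, x ∈ U ∧ UniversallyOpen (U.ι ≫ f) := by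
  haveI : LocallyOfFinitePresentation f :=
    LocallyOfFinitePresentation.iff_locallyOfFiniteType.2 inferInstance
  let U : X.Opens := ⟨{u | (f.stalkMap u).hom.Flat},
    Groth.Agent.Lib.Helper14.FlatOpen.isOpen_flat_stalkMap f⟩
  refine ⟨U, hfl, ?_⟩
  haveI : Flat (U.ι ≫ f) := by
    apply Flat.of_stalkMap
    intro u
    rw [Scheme.Hom.stalkMap_comp]
    exact RingHom.Flat.comp u.2 (Flat.stalkMap U.ι u)
  infer_instance

theorem isOpenAt_of_universallyOpen (U : X.Opens) (hU : UniversallyOpen (U.ι ≫ f)) (p : X)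
    (hp : p ∈ U) : EGA43.IsOpenAt f.base p := by
  intro N hN
  have h1 : U.ι ⁻¹' N ∈ nhds (⟨p, hp⟩ : U) := U.ι.continuous.continuousAt.preimage_mem_nhds hN
  have h2 := (U.ι ≫ f).isOpenMap.image_mem_nhds h1
  refine Filter.mem_of_superset h2 ?_
  rintro _ ⟨u, hu, rfl⟩
  exact ⟨U.ι u, hu, rfl⟩

theorem tfae (hreg : IsRegularLocalRing (Y.presheaf.stalk (f.base x)))
    (hCM : LocCoh.IsCohenMacaulayLocalRing (X.presheaf.stalk x)) :
    List.TFAE [
      (f.stalkMap x).hom.Flat ∧ LocCoh.IsCohenMacaulayLocalRing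
        ((f.fiber (f.base x)).presheaf.stalk (f.asFiber x)),
      (f.stalkMap x).hom.Flat,
      ∃ U : X.Opens, x ∈ U ∧ UniversallyOpen (U.ι ≫ f),
      (∀ z : ↥(f.fiber (f.base x)), f.asFiber x ∈ closure {z} →
          (∀ z' : ↥(f.fiber (f.base x)), z ∈ closure {z'} → z' = z) →
          EGA43.IsOpenAt f.base ((f.fiberι (f.base x)).base z)),
      ringKrullDim (X.presheaf.stalk x) =
        ringKrullDim (Y.presheaf.stalk (f.base x)) +
          ringKrullDim ((f.fiber (f.base x)).presheaf.stalk (f.asFiber x)) ] := by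
  tfae_have 1 → 2 := fun h => h.1
  tfae_have 2 → 1 := fun h => isCMAt_of_flat_of_cm f x h hCM
  tfae_have 2 → 3 := fun h => exists_universallyOpen_of_flat f x h
  tfae_have 3 → 4 := by
    rintro ⟨U, hxU, hU⟩ z hz hzmax
    refine isOpenAt_of_universallyOpen f U hU _ ?_
    have h1 : z ⤳ f.asFiber x := specializes_iff_mem_closure.2 hz
    have h2 : f.fiberι (f.base x) z ⤳ x := by
      have := h1.map (f.fiberι (f.base x)).continuous
      rwa [f.fiberι_asFiber] at this
    exact h2.mem_open U.2 hxU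
  tfae_have 4 → 5 := by
    intro h
    refine Groth.Agent.Lib.Helper12.EquidimOpen.dim_formula_of_isOpenAt f x ?_
    intro z hz hzx hzmax
    have hmem : z ∈ Set.range (f.fiberι (f.base x)) := by
      rw [f.range_fiberι]
      exact hz
    obtain ⟨z₀, rfl⟩ := hmem
    refine h z₀ ?_ ?_
    · rw [← specializes_iff_mem_closure]
      rw [← (f.fiberι (f.base x)).isEmbedding.isInducing.specializes_iff, f.fiberι_asFiber]
      exact hzx
    · intro z' hz'
      have h1 : z' ⤳ z₀ := specializes_iff_mem_closure.2 hz'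
      have h2 := h1.map (f.fiberι (f.base x)).continuous
      have h3 : f (f.fiberι (f.base x) z') = f (f.fiberι (f.base x) z₀) := by
        have a1 : f.fiberι (f.base x) z' ∈ Set.range (f.fiberι (f.base x)) := ⟨z', rfl⟩
        rw [f.range_fiberι] at a1
        exact a1.trans hz.symm
      exact (f.fiberι (f.base x)).isEmbedding.injective (hzmax _ h3 h2)
  tfae_have 5 → 2 := by
    intro h
    haveI := isLocallyNoetherian_source f
    letI := (f.stalkMap x).hom.toAlgebra
    haveI : IsLocalHom (algebraMap (Y.presheaf.stalk (f x)) (X.presheaf.stalk x)) :=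
      inferInstanceAs (IsLocalHom (f.stalkMap x).hom)
    haveI := hreg
    haveI := hCM
    have h1 : ringKrullDim ((f.fiber (f.base x)).presheaf.stalk (f.asFiber x)) =
        ringKrullDim (X.presheaf.stalk x ⧸ (maximalIdeal (Y.presheaf.stalk (f x))).map
          (algebraMap (Y.presheaf.stalk (f x)) (X.presheaf.stalk x))) :=
      ringKrullDim_eq_of_ringEquiv (fiberStalkEquiv f x)
    rw [h1] at h
    exact Groth.Agent.S2082.result h
  tfae_finish

end Groth.Agent.Lib.Helper14.CMRegTFAE
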