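import Mathlib

set_option autoImplicit false
universe u
open Polynomial

/-!
# Trace on differentials of `R[x]/(x^p - a)` in characteristic `p` (helper14)

`ell`, `ell_derivative`, `exists_phi` (universal `dΦ` identity), `exists_exact`,
`ell_pow_mul_derivative` (Cartier-type identity), `red`, `main`.
-/

namespace Groth.Agent.Lib.Helper14.CartierTrace

section ell
variable {R : Type u} [CommRing R] (p : ℕ) (b : R)

/-- `ℓ_b(W) = Σ_m W_{mp+p-1} b^m` -/
noncomputable def ell : R[X] →ₗ[R] R :=
  Polynomial.lsum (fun n => if n % p = p - 1 then (b ^ (n / p)) • LinearMap.id else 0)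

lemma ell_monomial (n : ℕ) (c : R) :
    ell p b (monomial n c) = if n % p = p - 1 then b ^ (n / p) * c else 0 := by
  unfold ell
  rw [Polynomial.lsum_apply, Polynomial.sum_monomial_index]
  · split_ifs <;> simp
  · split_ifs <;> simp

variable [hp : Fact p.Prime] [CharP R p]

lemma ell_derivative (Q : R[X]) : ell p b (derivative Q) = 0 := by
  induction Q using Polynomial.induction_on' with
  | add f g hf hg => rw [derivative_add, map_add, hf, hg, add_zero]
  | monomial n c =>
    rw [derivative_monomial, ell_monomial]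
    split_ifs with h
    · have hn : p ∣ n := by
        have hp1 : 1 ≤ p := hp.out.pos
        rcases Nat.eq_zero_or_pos n with rfl | hpos
        · exact dvd_zero p
        · have : (n - 1) % p + 1 = p := by omega
          have h2 : n = p * ((n - 1) / p) + ((n - 1) % p + 1) := by
            have := Nat.div_add_mod (n - 1) p
            omega
          rw [this] at h2
          exact ⟨(n - 1) / p + 1, by rw [mul_add, mul_one]; exact h2⟩
      rw [(CharP.cast_eq_zero_iff R p n).mpr hn, mul_zero, mul_zero]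
    · rfl

end ell

section univ

/-- In `Ω_{ℤ[u,v]/ℤ}`: `dΦ = (u+v)^(p-1) d(u+v) - u^(p-1) du - v^(p-1) dv` for
`pΦ = (u+v)^p - u^p - v^p`. -/
theorem exists_phi (p : ℕ) [hp : Fact p.Prime] :
    ∃ Φ : MvPolynomial (Fin 2) ℤ,
      KaehlerDifferential.D ℤ (MvPolynomial (Fin 2) ℤ) Φ =
        (MvPolynomial.X 0 + MvPolynomial.X 1 : MvPolynomial (Fin 2) ℤ) ^ (p - 1) •
            KaehlerDifferential.D ℤ _ (MvPolynomial.X 0 + MvPolynomial.X 1 : MvPolynomial (Fin 2) ℤ)
          - (MvPolynomial.X 0 : MvPolynomial (Fin 2) ℤ) ^ (p - 1) •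
            KaehlerDifferential.D ℤ _ (MvPolynomial.X 0 : MvPolynomial (Fin 2) ℤ)
          - (MvPolynomial.X 1 : MvPolynomial (Fin 2) ℤ) ^ (p - 1) •
            KaehlerDifferential.D ℤ _ (MvPolynomial.X 1 : MvPolynomial (Fin 2) ℤ) := by
  set u : MvPolynomial (Fin 2) ℤ := MvPolynomial.X 0 with hu
  set v : MvPolynomial (Fin 2) ℤ := MvPolynomial.X 1 with hv
  have hdvd : MvPolynomial.C ((p : ℕ) : ℤ) ∣ (u + v) ^ p - u ^ p - v ^ p := by
    rw [MvPolynomial.C_dvd_iff_zmod]
    simp only [map_sub, map_pow, map_add, hu, hv, MvPolynomial.map_X]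
    rw [add_pow_char]
    ring
  obtain ⟨Φ, hΦ⟩ := hdvd
  refine ⟨Φ, ?_⟩
  set d := KaehlerDifferential.D ℤ (MvPolynomial (Fin 2) ℤ) with hd
  have h1 : d ((u + v) ^ p - u ^ p - v ^ p) =
      p • ((u + v) ^ (p - 1) • d (u + v) - u ^ (p - 1) • d u - v ^ (p - 1) • d v) := by
    rw [map_sub, map_sub, Derivation.leibniz_pow, Derivation.leibniz_pow, Derivation.leibniz_pow,
      smul_sub, smul_sub]
  have h2 : d (MvPolynomial.C ((p : ℕ) : ℤ) * Φ) = p • d Φ := by
    rw [Derivation.leibniz]
    have : d (MvPolynomial.C ((p : ℕ) : ℤ)) = 0 := by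
      rw [← MvPolynomial.algebraMap_eq]
      exact d.map_algebraMap _
    rw [this, smul_zero, add_zero, ← Nat.cast_smul_eq_nsmul (MvPolynomial (Fin 2) ℤ)]
    congr 1
  rw [hΦ, h2] at h1
  -- cancel `p`
  let B := KaehlerDifferential.mvPolynomialBasis ℤ (Fin 2)
  apply B.repr.injective
  have h3 := congrArg B.repr h1
  rw [map_nsmul, map_nsmul] at h3
  refine Finsupp.ext (fun i => ?_)
  have h4 := DFunLike.congr_fun h3 i
  rw [Finsupp.smul_apply, Finsupp.smul_apply] at h4
  exact smul_right_injective (MvPolynomial (Fin 2) ℤ) hp.out.ne_zero h4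


theorem exists_exact {R : Type u} [CommRing R] (p : ℕ) [Fact p.Prime] (G H : R[X]) :
    ∃ V : R[X], derivative V =
      (G + H) ^ (p - 1) * derivative (G + H) - G ^ (p - 1) * derivative G -
        H ^ (p - 1) * derivative H := by
  obtain ⟨Φ, hΦ⟩ := exists_phi p
  let ψ : MvPolynomial (Fin 2) ℤ →ₐ[ℤ] R[X] := MvPolynomial.aeval ![G, H]
  letI : Algebra (MvPolynomial (Fin 2) ℤ) R[X] := ψ.toRingHom.toAlgebra
  have hsmul : ∀ (w : MvPolynomial (Fin 2) ℤ) (z : R[X]), w • z = ψ w * z := fun w z => rfl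
  let δ : Derivation ℤ (MvPolynomial (Fin 2) ℤ) R[X] := Derivation.mk'
    ((derivative (R := R)).toAddMonoidHom.toIntLinearMap.comp ψ.toLinearMap) (by
      intro a b
      simp only [LinearMap.comp_apply, AlgHom.toLinearMap_apply, AddMonoidHom.coe_toIntLinearMap,
        LinearMap.toAddMonoidHom_coe, map_mul, derivative_mul, hsmul]
      ring)
  have hδ : ∀ z, δ z = derivative (ψ z) := fun z => rfl
  refine ⟨ψ Φ, ?_⟩
  have h := congrArg δ.liftKaehlerDifferential hΦ
  simp only [Derivation.liftKaehlerDifferential_comp_D, map_sub, map_smul, hsmul, hδ, map_add,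
    map_pow] at h
  have h0 : ψ (MvPolynomial.X 0) = G := by simp [ψ]
  have h1 : ψ (MvPolynomial.X 1) = H := by simp [ψ]
  rw [h0, h1] at h
  rw [h, derivative_add]

end univ

section K
variable {R : Type u} [CommRing R] (p : ℕ) (b : R) [hp : Fact p.Prime] [CharP R p]

theorem ell_pow_mul_derivative (G : R[X]) :
    ell p b (G ^ (p - 1) * derivative G) = eval b (derivative (G.map (frobenius R p))) := by
  induction G using Polynomial.induction_on' with
  | add f g hf hg =>
    obtain ⟨V, hV⟩ := exists_exact p f g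
    have h1 : (f + g) ^ (p - 1) * derivative (f + g) =
        derivative V + f ^ (p - 1) * derivative f + g ^ (p - 1) * derivative g := by
      rw [hV]; ring
    rw [h1, map_add, map_add, ell_derivative, zero_add, hf, hg, Polynomial.map_add, derivative_add,
      eval_add]
  | monomial n c =>
    rw [Polynomial.map_monomial, derivative_monomial, derivative_monomial, monomial_pow,
      monomial_mul_monomial, ell_monomial, eval_monomial, frobenius_def]
    rcases Nat.eq_zero_or_pos n with rfl | hpos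
    · simp
    · have hp1 : 1 ≤ p := hp.out.pos
      have hexp : n * (p - 1) + (n - 1) = (n - 1) * p + (p - 1) := by
        obtain ⟨m, rfl⟩ := Nat.exists_eq_add_of_le hpos
        obtain ⟨q, rfl⟩ := Nat.exists_eq_add_of_le hp1
        simp only [Nat.add_sub_cancel_left]
        ring
      have hmod : (n * (p - 1) + (n - 1)) % p = p - 1 := by
        rw [hexp, Nat.mul_add_mod_of_lt (by omega)]
      have hdiv : (n * (p - 1) + (n - 1)) / p = n - 1 := by
        rw [hexp, mul_comm, Nat.mul_add_div hp.out.pos, Nat.div_eq_of_lt (by omega), add_zero]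
      rw [if_pos hmod, hdiv]
      have : c ^ (p - 1) * (c * (n : R)) = c ^ p * n := by
        rw [← mul_assoc, ← pow_succ, Nat.sub_add_cancel hp1]
      rw [this]
      ring

end K


section red
variable {R : Type u} [CommRing R] (p : ℕ) [hp : Fact p.Prime]
  {S : Type*} [CommRing S] [Algebra R S] {N : Type*} [AddCommGroup N] [Module R N] [Module S N]
  [IsScalarTower R S N] {M' : Type*} [AddCommGroup M'] [Module R M']

include hp in
theorem red (z : S) (e : R) (hz : z ^ p = algebraMap R S e) (ω : N) (T : N →ₗ[R] M') (v : M')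
    (hA : ∀ i : ℕ, i + 2 ≤ p → T (z ^ i • ω) = 0) (hB : T (z ^ (p - 1) • ω) = v) (W : R[X]) :
    T (aeval z W • ω) = ell p e W • v := by
  induction W using Polynomial.induction_on' with
  | add f g hf hg => rw [map_add, add_smul, map_add, hf, hg, map_add, add_smul]
  | monomial n c =>
    have hn : n = p * (n / p) + n % p := (Nat.div_add_mod n p).symm
    have hlt : n % p < p := Nat.mod_lt _ hp.out.pos
    have h1 : aeval z (monomial n c) • ω = (e ^ (n / p) * c) • (z ^ (n % p) • ω) := by
      rw [aeval_monomial]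
      conv_lhs => rw [hn, pow_add, pow_mul, hz]
      rw [← map_pow, ← mul_assoc, ← map_mul, mul_smul, algebraMap_smul, mul_comm]
    rw [h1, map_smul, ell_monomial]
    split_ifs with h
    · rw [h, hB]
    · rw [hA _ (by omega), smul_zero, zero_smul]

end red


section main
variable (p : ℕ) [hp : Fact p.Prime] (R : Type u) [CommRing R] [CharP R p]

omit hp [CharP R p] in
lemma root_pow (b : R) :
    (AdjoinRoot.root (X ^ p - C b : R[X])) ^ p = algebraMap R (AdjoinRoot (X ^ p - C b : R[X])) b := by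
  have h := AdjoinRoot.eval₂_root (X ^ p - C b : R[X])
  rw [eval₂_sub, eval₂_pow, eval₂_X, eval₂_C, sub_eq_zero] at h
  exact h

omit [CharP R p] in
include hp in
lemma of_injective (b : R) :
    Function.Injective (algebraMap R (AdjoinRoot (X ^ p - C b : R[X]))) := by
  rw [injective_iff_map_eq_zero]
  intro r hr
  have hmonic : (X ^ p - C b : R[X]).Monic := monic_X_pow_sub_C b hp.out.ne_zero
  have h1 : AdjoinRoot.mk (X ^ p - C b : R[X]) (C r) = 0 := hr
  rw [AdjoinRoot.mk_eq_zero] at h1
  by_contra hne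
  haveI : Nontrivial R := nontrivial_of_ne r 0 hne
  have hdeg : (C r : R[X]).degree < (X ^ p - C b : R[X]).degree := by
    rw [degree_C hne, degree_X_pow_sub_C hp.out.pos]
    exact_mod_cast hp.out.pos
  exact hmonic.not_dvd_of_degree_lt (by simpa using hne) hdeg h1

lemma d_eval_frob (b : R) (G : R[X]) :
    KaehlerDifferential.D ℤ R (eval b (G.map (frobenius R p))) =
      eval b (derivative (G.map (frobenius R p))) • KaehlerDifferential.D ℤ R b := by
  induction G using Polynomial.induction_on' with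
  | add f g hf hg =>
    rw [Polynomial.map_add, eval_add, map_add, hf, hg, derivative_add, eval_add, add_smul]
  | monomial n c =>
    rw [Polynomial.map_monomial, derivative_monomial, eval_monomial, eval_monomial, frobenius_def,
      Derivation.leibniz, Derivation.leibniz_pow, Derivation.leibniz_pow]
    have : (p : ℕ) • (c ^ (p - 1) • KaehlerDifferential.D ℤ R c) = 0 := by
      rw [← Nat.cast_smul_eq_nsmul R, CharP.cast_eq_zero, zero_smul]
    rw [this, smul_zero, add_zero, ← Nat.cast_smul_eq_nsmul R, smul_smul, smul_smul]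

include hp in
lemma isUnit_natCast (i : ℕ) (h0 : 0 < i) (hi : i < p) : IsUnit ((i : ℕ) : R) := by
  have h1 : ((i : ℕ) : ZMod p) ≠ 0 := by
    rw [Ne, ZMod.natCast_eq_zero_iff]
    exact Nat.not_dvd_of_pos_of_lt h0 hi
  have h2 : IsUnit ((i : ℕ) : ZMod p) := isUnit_iff_ne_zero.mpr h1
  have h3 := h2.map (ZMod.castHom (dvd_refl p) R)
  rwa [map_natCast] at h3

theorem main (a b : R)
    (φ : AdjoinRoot (X ^ p - C a : R[X]) →ₐ[R] AdjoinRoot (X ^ p - C b : R[X]))
    (Tx : Ω[AdjoinRoot (X ^ p - C a : R[X])⁄R] →ₗ[R] Ω[R⁄ℤ])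
    (Ty : Ω[AdjoinRoot (X ^ p - C b : R[X])⁄R] →ₗ[R] Ω[R⁄ℤ])
    (hTx : ∀ i : ℕ, i + 2 ≤ p →
      Tx (AdjoinRoot.root (X ^ p - C a) ^ i • KaehlerDifferential.D R _ (AdjoinRoot.root (X ^ p - C a))) = 0)
    (hTx' : Tx (AdjoinRoot.root (X ^ p - C a) ^ (p - 1) • KaehlerDifferential.D R _ (AdjoinRoot.root (X ^ p - C a))) =
      KaehlerDifferential.D ℤ R a)
    (hTy : ∀ i : ℕ, i + 2 ≤ p →
      Ty (AdjoinRoot.root (X ^ p - C b) ^ i • KaehlerDifferential.D R _ (AdjoinRoot.root (X ^ p - C b))) = 0)
    (hTy' : Ty (AdjoinRoot.root (X ^ p - C b) ^ (p - 1) • KaehlerDifferential.D R _ (AdjoinRoot.root (X ^ p - C b))) =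
      KaehlerDifferential.D ℤ R b)
    (s t : AdjoinRoot (X ^ p - C a : R[X])) :
    Tx (s • KaehlerDifferential.D R _ t) = Ty (φ s • KaehlerDifferential.D R _ (φ t)) := by
  set x := AdjoinRoot.root (X ^ p - C a : R[X]) with hx
  set y := AdjoinRoot.root (X ^ p - C b : R[X]) with hy
  set g := φ x with hg
  have hp1 : 1 ≤ p := hp.out.pos
  obtain ⟨Ss, rfl⟩ := AdjoinRoot.mk_surjective s
  obtain ⟨St, rfl⟩ := AdjoinRoot.mk_surjective t
  obtain ⟨G, hG⟩ := AdjoinRoot.mk_surjective g
  rw [← AdjoinRoot.aeval_eq] at hG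
  rw [← AdjoinRoot.aeval_eq, ← AdjoinRoot.aeval_eq]
  -- `g ^ p = a`
  have hgp : g ^ p = algebraMap R _ a := by
    rw [hg, ← map_pow, root_pow, AlgHom.commutes]
  -- `a = eval b (G^(p))`
  have ha : a = eval b (G.map (frobenius R p)) := by
    apply of_injective p R b
    have e1 : G ^ p = expand R p (G.map (frobenius R p)) := by
      rw [← map_expand, map_frobenius_expand]
    rw [← hgp, ← hG, ← map_pow, e1, expand_aeval, root_pow, aeval_algebraMap_apply,
      coe_aeval_eq_eval]
  set da := KaehlerDifferential.D ℤ R a with hda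
  have hL : ∀ U : R[X], Tx (aeval x U • KaehlerDifferential.D R _ x) = ell p a U • da :=
    red p x a (root_pow p R a) _ Tx da hTx hTx'
  have hyred : ∀ W : R[X], Ty (aeval y W • KaehlerDifferential.D R _ y) =
      ell p b W • KaehlerDifferential.D ℤ R b :=
    red p y b (root_pow p R b) _ Ty _ hTy hTy'
  have hgpow : ∀ i : ℕ, g ^ i • KaehlerDifferential.D R _ g =
      aeval y (G ^ i * derivative G) • KaehlerDifferential.D R _ y := by
    intro i
    rw [← hG, Derivation.map_aeval, ← map_pow, smul_smul, ← map_mul]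
  have hA : ∀ i : ℕ, i + 2 ≤ p → Ty (g ^ i • KaehlerDifferential.D R _ g) = 0 := by
    intro i hi
    rw [hgpow, hyred]
    have hunit := isUnit_natCast p R (i + 1) (by omega) (by omega)
    have h1 : ((i + 1 : ℕ) : R) * ell p b (G ^ i * derivative G) = 0 := by
      have h2 : derivative (G ^ (i + 1)) = C ((i + 1 : ℕ) : R) * (G ^ i * derivative G) := by
        rw [derivative_pow, Nat.add_sub_cancel, mul_assoc]
      rw [← smul_eq_mul, ← map_smul, smul_eq_C_mul, ← h2, ell_derivative]
    rw [hunit.mul_right_eq_zero] at h1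
    rw [h1, zero_smul]
  have hB : Ty (g ^ (p - 1) • KaehlerDifferential.D R _ g) = da := by
    rw [hgpow, hyred, ell_pow_mul_derivative, ← d_eval_frob, ← ha]
  have hR : ∀ U : R[X], Ty (aeval g U • KaehlerDifferential.D R _ g) = ell p a U • da :=
    red p g a hgp _ Ty da hA hB
  have e1 : aeval x Ss • KaehlerDifferential.D R _ (aeval x St) =
      aeval x (Ss * derivative St) • KaehlerDifferential.D R _ x := by
    rw [Derivation.map_aeval, smul_smul, ← map_mul]
  have e2 : φ (aeval x Ss) • KaehlerDifferential.D R _ (φ (aeval x St)) =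
      aeval g (Ss * derivative St) • KaehlerDifferential.D R _ g := by
    rw [← aeval_algHom_apply, ← aeval_algHom_apply, Derivation.map_aeval, smul_smul, ← map_mul]
  rw [e1, e2, hL, hR]

end main

end Groth.Agent.Lib.Helper14.CartierTrace
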