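import Mathlib
import Groth.Prelude.Def_EGA4b
import Groth.Agent.Lib.Helper14.FEChain2
import Groth.Agent.Lib.Helper14.ComplFlat

/-!
# Formal equidimensionality: descent along flat local homomorphisms and localization (helper14)
-/

set_option autoImplicit false
set_option linter.style.haveILetI false
set_option linter.unusedSectionVars false
universe u
open IsLocalRing EGA4

namespace Groth.Agent.Lib.Helper14.FEChain3

open Groth.Agent.Lib.Helper14.ComplFlat

section descent
variable (A A' : Type u) [CommRing A] [CommRing A'] [IsLocalRing A] [IsLocalRing A']
  [IsNoetherianRing A] [IsNoetherianRing A'] [Algebra A A'] [IsLocalHom (algebraMap A A')]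
  [Module.Flat A A']

/-- Formal equidimensionality descends along flat local homomorphisms. -/
theorem isFormallyEquidim_of_flat (h : IsFormallyEquidim A') : IsFormallyEquidim A := by
  haveI : IsNoetherianRing (Cpl A) := ComplEtale.isNoetherianRing_completion A
  haveI : IsNoetherianRing (Cpl A') := ComplEtale.isNoetherianRing_completion A'
  letI := (cplMap A A').toAlgebra
  haveI : IsLocalHom (algebraMap (Cpl A) (Cpl A')) :=
    isLocalHom_of_comp A A' (cplMap A A') (cplMap_comp A A')
  haveI : Module.Flat (Cpl A) (Cpl A') := cplMap_flat A A'
  exact (FEChain1.isEquidim_and_isCatenary (Cpl A) (Cpl A') h (FEChain2.isCatenary_cpl A')).1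

end descent

section global
variable (S S' : Type u) [CommRing S] [CommRing S'] [IsNoetherianRing S] [IsNoetherianRing S']
  [Algebra S S'] [Module.FaithfullyFlat S S']

/-- If all local rings of a faithfully flat extension are formally equidimensional, so are those
of the base. -/
theorem isFormallyEquidim_atPrime_of_faithfullyFlat
    (h : ∀ (q' : Ideal S') [q'.IsPrime], IsFormallyEquidim (Localization.AtPrime q'))
    (q : Ideal S) [q.IsPrime] : IsFormallyEquidim (Localization.AtPrime q) := by
  obtain ⟨⟨q', hq'⟩, hq'q⟩ :=
    PrimeSpectrum.comap_surjective_of_faithfullyFlat (A := S) (B := S') ⟨q, inferInstance⟩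
  haveI := hq'
  have hover : q'.comap (algebraMap S S') = q := congrArg PrimeSpectrum.asIdeal hq'q
  haveI : q'.LiesOver q := ⟨hover.symm⟩
  letI := Localization.AtPrime.algebraOfLiesOver q q'
  haveI : IsLocalHom (algebraMap (Localization.AtPrime q) (Localization.AtPrime q')) :=
    Localization.isLocalHom_localRingHom q q' (algebraMap S S') Ideal.LiesOver.over
  exact isFormallyEquidim_of_flat (Localization.AtPrime q) (Localization.AtPrime q') (h q')

end global

end Groth.Agent.Lib.Helper14.FEChain3
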