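import Mathlib
import Groth.Prelude.Def_EGA4b
import Groth.Agent.Lib.Helper14.FEChain3
import Groth.Agent.Lib.Helper14.FormalEquidim
import Groth.Agent.Lib.Helper4.CMChain
import Groth.Agent.S2635

/-!
# Local rings of quotients of Cohen–Macaulay rings are formally equidimensional, when the
quotient is "equidimensional relative to a local Cohen–Macaulay base" (helper14)
-/

set_option autoImplicit false
set_option linter.style.haveILetI false
set_option linter.unusedSectionVars false
universe u
open IsLocalRing EGA4

namespace Groth.Agent.Lib.Helper14.FEChain4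

open Groth.Agent.Lib.Helper14.FormalEquidim

theorem withBot_add_left_cancel {x y : WithBot ℕ∞} {h : ℕ∞} (hh : h ≠ ⊤)
    (he : (h : WithBot ℕ∞) + x = (h : WithBot ℕ∞) + y) : x = y := by
  rw [add_comm _ x, add_comm _ y] at he
  exact FEChain1.withBot_add_right_cancel WithBot.coe_ne_bot
    (by intro h1; exact hh (WithBot.coe_injective h1)) he

section lemmaE
variable {T U : Type u} [CommRing T] [CommRing U] [IsLocalRing T] [IsNoetherianRing T]

/-- quotient of a local CM ring: equidimensional if all minimal primes pull back to primes of the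
same height. -/
theorem isEquidim_of_height_const (hCM : LocCoh.IsCohenMacaulayModule T T) (g : T →+* U)
    (hg : Function.Surjective g)
    (h : ∀ Q ∈ minimalPrimes U, ∀ Q0 ∈ minimalPrimes U, (Q.comap g).height = (Q0.comap g).height) :
    IsEquidim U := by
  have hsupp : Module.support T T = Set.univ := by
    rw [Module.support_of_algebra]
    ext x
    simp only [PrimeSpectrum.mem_zeroLocus, Set.mem_univ, iff_true]
    intro a ha
    have : a = 0 := ha
    rw [this]; exact x.asIdeal.zero_mem
  have key : ∀ Q ∈ minimalPrimes U, ∀ Q0 ∈ minimalPrimes U,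
      ringKrullDim (U ⧸ Q) = ringKrullDim (U ⧸ Q0) := by
    intro Q hQ Q0 hQ0
    haveI := hQ.1.1
    haveI := hQ0.1.1
    rw [← ringKrullDim_eq_of_ringEquiv (quotComapEquiv g hg Q),
      ← ringKrullDim_eq_of_ringEquiv (quotComapEquiv g hg Q0)]
    have h1 := Groth.Agent.Lib.Helper4.cm_height_add_ringKrullDim_quotient hCM hsupp
      ⟨Q.comap g, Ideal.comap_isPrime _ _⟩
    have h2 := Groth.Agent.Lib.Helper4.cm_height_add_ringKrullDim_quotient hCM hsupp
      ⟨Q0.comap g, Ideal.comap_isPrime _ _⟩
    simp only [] at h1 h2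
    rw [h Q hQ Q0 hQ0, ← h2] at h1
    exact withBot_add_left_cancel (Ideal.height_ne_top_of_isPrime) h1
  intro Q0 hQ0
  rw [Groth.Agent.Lib.Helper22.EquidimFlat.ringKrullDim_eq_of_forall_minimalPrimes Q0 hQ0
    (fun Q hQ => key Q hQ Q0 hQ0)]

end lemmaE

section K0
variable (R C S S' : Type u) [CommRing R] [CommRing C] [CommRing S] [CommRing S']
  [LocCoh.IsCohenMacaulayLocalRing R] (ψ : R →+* C) (hψ : Function.Surjective ψ)
  (hC : IsEquidim C)
  [Algebra R S] [Module.Flat R S] [LocCoh.IsCohenMacaulayRing S]
  [Algebra C S'] [Module.Flat C S'] [IsNoetherianRing S']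
  (φ : S →+* S') (hφ : Function.Surjective φ)
  (hker : RingHom.ker φ = (RingHom.ker ψ).map (algebraMap R S))
  (hcomm : φ.comp (algebraMap R S) = (algebraMap C S').comp ψ)

include hψ hC hφ hker hcomm in
/-- the height of the pullback to `S` of a minimal prime of `S'`. -/
theorem height_comap_minimal (Q1 : Ideal S') (hQ1 : Q1 ∈ minimalPrimes S') :
    ((Q1.comap φ).height : WithBot ℕ∞) + ringKrullDim C = ringKrullDim R := by
  haveI : IsNoetherianRing R := inferInstance
  haveI : IsLocalRing R := inferInstance
  haveI : IsNoetherianRing S := inferInstance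
  haveI hQ1p : Q1.IsPrime := hQ1.1.1
  have hp1 : Q1.comap (algebraMap C S') ∈ minimalPrimes C := comap_mem_minimalPrimes hQ1
  set p1 := Q1.comap (algebraMap C S') with hp1def
  haveI hp1p : p1.IsPrime := hp1.1.1
  set p0 := p1.comap ψ with hp0def
  haveI hp0p : p0.IsPrime := Ideal.comap_isPrime _ _
  set P' := Q1.comap φ with hP'def
  haveI hP'p : P'.IsPrime := Ideal.comap_isPrime _ _
  have hkerle : RingHom.ker φ ≤ p0.map (algebraMap R S) := by
    rw [hker]
    apply Ideal.map_mono
    intro x hx
    rw [hp0def, Ideal.mem_comap, RingHom.mem_ker.mp hx]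
    exact p1.zero_mem
  have hmin : P' ∈ (p0.map (algebraMap R S)).minimalPrimes := by
    refine ⟨⟨hP'p, ?_⟩, ?_⟩
    · rw [Ideal.map_le_iff_le_comap]
      intro x hx
      rw [Ideal.mem_comap, hP'def, Ideal.mem_comap]
      have : φ (algebraMap R S x) = algebraMap C S' (ψ x) := by
        have := congrArg (fun f : R →+* S' => f x) hcomm
        simpa using this
      rw [this]
      exact hx
    · rintro P2 ⟨hP2p, hP2le⟩ hP2P'
      haveI := hP2p
      have hk2 : RingHom.ker φ ≤ P2 := hkerle.trans hP2le
      haveI : (P2.map φ).IsPrime := Ideal.map_isPrime_of_surjective hφ hk2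
      have h1 : P2.map φ ≤ Q1 := (Ideal.map_mono hP2P').trans Ideal.map_comap_le
      have h2 : Q1 ≤ P2.map φ := hQ1.2 ⟨inferInstance, bot_le⟩ h1
      have h3 : P' ≤ (P2.map φ).comap φ := Ideal.comap_mono h2
      rw [Ideal.comap_map_of_surjective φ hφ, ← RingHom.ker_eq_comap_bot,
        sup_eq_left.mpr hk2] at h3
      exact h3
  have hht : P'.height = p0.height :=
    Groth.Agent.Lib.Helper22.EquidimFlat.height_eq_of_mem_minimalPrimes p0 P' hmin
  have hCM : LocCoh.IsCohenMacaulayModule R R :=
    LocCoh.IsCohenMacaulayLocalRing.supportDim_eq_depth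
  have hsupp : Module.support R R = Set.univ := by
    rw [Module.support_of_algebra]
    ext x
    simp only [PrimeSpectrum.mem_zeroLocus, Set.mem_univ, iff_true]
    intro a ha
    have : a = 0 := ha
    rw [this]; exact x.asIdeal.zero_mem
  have h1 := Groth.Agent.Lib.Helper4.cm_height_add_ringKrullDim_quotient hCM hsupp ⟨p0, hp0p⟩
  simp only [] at h1
  rw [ringKrullDim_eq_of_ringEquiv (quotComapEquiv ψ hψ p1), hC p1 hp1] at h1
  rw [hht]
  exact h1

include hψ hC hφ hker hcomm in
/-- **K0**: all local rings of `S'` are formally equidimensional. -/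
theorem isFormallyEquidim_atPrime (q' : Ideal S') [q'.IsPrime] :
    IsFormallyEquidim (Localization.AtPrime q') := by
  haveI : IsNoetherianRing R := inferInstance
  haveI : IsLocalRing R := inferInstance
  haveI : IsNoetherianRing S := inferInstance
  haveI : Nontrivial C := by
    haveI : Nontrivial S' := ⟨⟨0, 1, fun h => (Ideal.IsPrime.ne_top (I := q') inferInstance)
      ((Ideal.eq_top_iff_one _).mpr (h ▸ q'.zero_mem))⟩⟩
    exact (algebraMap C S').domain_nontrivial
  haveI : IsLocalRing C := IsLocalRing.of_surjective' ψ hψ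
  haveI : IsNoetherianRing C := isNoetherianRing_of_surjective R C ψ hψ
  set q'' := q'.comap φ with hq''
  haveI : q''.IsPrime := Ideal.comap_isPrime _ _
  let g := Localization.localRingHom q'' q' φ rfl
  have hg : Function.Surjective g := RingHom.surjective_localRingHom_of_surjective φ hφ q'
  haveI hTCM : LocCoh.IsCohenMacaulayLocalRing (Localization.AtPrime q'') :=
    LocCoh.IsCohenMacaulayRing.isCohenMacaulayLocalRing_localization q''
  haveI : IsNoetherianRing (Localization.AtPrime q'') := inferInstance
  have hfc : IsFormallyCatenary (Localization.AtPrime q') := by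
    letI := g.toAlgebra
    exact Groth.Agent.S2635.result (Localization.AtPrime q'') (Localization.AtPrime q') hg
  rw [result_iff]
  refine ⟨?_, fun p _ _ => hfc p⟩
  apply isEquidim_of_height_const
    (LocCoh.IsCohenMacaulayLocalRing.supportDim_eq_depth (R := Localization.AtPrime q'')) g hg
  have key : ∀ Q ∈ minimalPrimes (Localization.AtPrime q'),
      ((Q.comap g).height : WithBot ℕ∞) + ringKrullDim C = ringKrullDim R := by
    intro Q hQ
    haveI := hQ.1.1
    have hQ1 : Q.comap (algebraMap S' (Localization.AtPrime q')) ∈ minimalPrimes S' :=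
      comap_mem_minimalPrimes hQ
    have h1 := height_comap_minimal R C S S' ψ hψ hC φ hφ hker hcomm _ hQ1
    have h2 : (Q.comap (algebraMap S' (Localization.AtPrime q'))).comap φ =
        (Q.comap g).comap (algebraMap S (Localization.AtPrime q'')) := by
      rw [Ideal.comap_comap, Ideal.comap_comap]
      congr 1
      ext x
      simp only [RingHom.comp_apply]
      exact (Localization.localRingHom_to_map q'' q' φ rfl x).symm
    rw [h2] at h1
    have h3 := IsLocalization.height_under q''.primeCompl (Q.comap g)
    rw [Ideal.under_def] at h3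
    rw [h3] at h1
    exact h1
  intro Q hQ Q0 hQ0
  have e1 := key Q hQ
  have e2 := key Q0 hQ0
  rw [← e2] at e1
  have := FEChain1.withBot_add_right_cancel (ringKrullDim_ne_bot (R := C)) ringKrullDim_ne_top e1
  exact_mod_cast this

end K0

end Groth.Agent.Lib.Helper14.FEChain4
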