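import Mathlib
import Groth.Prelude.Def_EGA4b
import Groth.Agent.Lib.Helper14.FEChain4
import Groth.Agent.Lib.Helper14.CMFlat
import Groth.Agent.Lib.Helper4.RegCM

/-!
# Formal equidimensionality localizes and passes to polynomial rings (helper14)
-/

set_option autoImplicit false
set_option linter.style.haveILetI false
set_option linter.unusedSectionVars false
universe u
open IsLocalRing EGA4 TensorProduct

namespace Groth.Agent.Lib.Helper14.FEChain5

section
variable (A : Type u) [CommRing A] [IsNoetherianRing A] [IsLocalRing A]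

/-- **(i)** formal equidimensionality localizes. -/
theorem isFormallyEquidim_localization (h : IsFormallyEquidim A) (p : Ideal A) [p.IsPrime] :
    IsFormallyEquidim (Localization.AtPrime p) := by
  haveI : IsNoetherianRing (Cpl A) := ComplEtale.isNoetherianRing_completion A
  obtain ⟨R, hR, hreg, hloc, ψ, hψ⟩ := FEChain2.exists_regular_surjective (Cpl A)
  haveI : IsRegularLocalRing R := IsRegularLocalRing.of_isRegularRing_of_isLocalRing R
  haveI : LocCoh.IsCohenMacaulayLocalRing R :=
    Groth.Agent.Lib.Helper4.RegCM.isCohenMacaulayLocalRing R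
  haveI : LocCoh.IsCohenMacaulayRing R := CMFlat.cm_of_isRegularRing R
  have hloc' : ∀ (q' : Ideal (Cpl A)) [q'.IsPrime], IsFormallyEquidim (Localization.AtPrime q') := by
    intro q' _
    exact FEChain4.isFormallyEquidim_atPrime R (Cpl A) R (Cpl A) ψ hψ h ψ hψ
      (by rw [Algebra.algebraMap_self, Ideal.map_id]) (RingHom.ext fun x => rfl) q'
  haveI : Module.FaithfullyFlat A (Cpl A) := Module.FaithfullyFlat.of_flat_of_isLocalHom
  exact FEChain3.isFormallyEquidim_atPrime_of_faithfullyFlat A (Cpl A) hloc' p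

attribute [local instance] MvPolynomial.algebraMvPolynomial in
/-- **FE-poly** -/
theorem isFormallyEquidim_mvPolynomial_atPrime (h : IsFormallyEquidim A) (n : ℕ)
    (q : Ideal (MvPolynomial (Fin n) A)) [q.IsPrime] :
    IsFormallyEquidim (Localization.AtPrime q) := by
  haveI : IsNoetherianRing (Cpl A) := ComplEtale.isNoetherianRing_completion A
  obtain ⟨R, hR, hreg, hloc, ψ, hψ⟩ := FEChain2.exists_regular_surjective (Cpl A)
  haveI : IsRegularLocalRing R := IsRegularLocalRing.of_isRegularRing_of_isLocalRing R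
  haveI : LocCoh.IsCohenMacaulayLocalRing R :=
    Groth.Agent.Lib.Helper4.RegCM.isCohenMacaulayLocalRing R
  haveI : LocCoh.IsCohenMacaulayRing R := CMFlat.cm_of_isRegularRing R
  haveI : LocCoh.IsCohenMacaulayRing (MvPolynomial (Fin n) R) := CMFlat.cm_mvPolynomial n
  have hloc' : ∀ (q' : Ideal (MvPolynomial (Fin n) (Cpl A))) [q'.IsPrime],
      IsFormallyEquidim (Localization.AtPrime q') := by
    intro q' _
    refine FEChain4.isFormallyEquidim_atPrime R (Cpl A) (MvPolynomial (Fin n) R)
      (MvPolynomial (Fin n) (Cpl A)) ψ hψ h (MvPolynomial.map ψ)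
      (MvPolynomial.map_surjective ψ hψ) ?_ ?_ q'
    · rw [MvPolynomial.ker_map, MvPolynomial.algebraMap_eq]
    · ext x
      simp [MvPolynomial.algebraMap_eq]
  haveI : Module.FaithfullyFlat A (Cpl A) := Module.FaithfullyFlat.of_flat_of_isLocalHom
  haveI : Module.FaithfullyFlat (MvPolynomial (Fin n) A) (MvPolynomial (Fin n) (Cpl A)) :=
    Module.FaithfullyFlat.of_linearEquiv (MvPolynomial (Fin n) A)
      (MvPolynomial (Fin n) A ⊗[A] Cpl A)
      (Algebra.IsPushout.equiv A (MvPolynomial (Fin n) A) (Cpl A)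
        (MvPolynomial (Fin n) (Cpl A))).symm.toLinearEquiv
  exact FEChain3.isFormallyEquidim_atPrime_of_faithfullyFlat (MvPolynomial (Fin n) A)
    (MvPolynomial (Fin n) (Cpl A)) hloc' q

end

end Groth.Agent.Lib.Helper14.FEChain5
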