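import Mathlib
import Groth.Prelude.Def_EGA4b
import Groth.Agent.Lib.Helper14.FEChain5
import Groth.Agent.Lib.Helper14.EssFTLocal

/-!
# Formally catenary local rings: polynomial rings, universally catenary (helper14)
-/

set_option autoImplicit false
set_option linter.style.haveILetI false
set_option linter.unusedSectionVars false
universe u
open IsLocalRing EGA4 TensorProduct

namespace Groth.Agent.Lib.Helper14.FEChain6

theorem isEquidim_of_isDomain (T : Type u) [CommRing T] [IsDomain T] : IsEquidim T := by
  intro p hp
  have : p = ⊥ := by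
    rw [IsDomain.minimalPrimes_eq_singleton_bot] at hp
    exact hp
  rw [this]
  exact ringKrullDim_eq_of_ringEquiv (RingEquiv.quotientBot T)

/-- **Lemma Q''**: a domain quotient of a formally equidimensional local ring is formally
equidimensional. -/
theorem isFormallyEquidim_of_surjective_of_isDomain (B T : Type u) [CommRing B] [CommRing T]
    [IsLocalRing B] [IsNoetherianRing B] [IsLocalRing T] [IsDomain T]
    (hB : IsFormallyEquidim B) (g : B →+* T) (hg : Function.Surjective g) :
    IsFormallyEquidim T := by
  haveI : IsNoetherianRing T := isNoetherianRing_of_surjective B T g hg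
  haveI : Nontrivial (B ⧸ RingHom.ker g) :=
    Ideal.Quotient.nontrivial_iff.mpr (RingHom.ker_ne_top g)
  let e : (B ⧸ RingHom.ker g) ≃+* T := RingHom.quotientKerEquivOfSurjective hg
  have h1 : IsEquidim (B ⧸ RingHom.ker g) :=
    EquidimTransfer.isEquidim_of_ringEquiv e.symm (isEquidim_of_isDomain T)
  have h2 : IsFormallyEquidim (B ⧸ RingHom.ker g) :=
    ((FEChain2.main B hB).2 (RingHom.ker g)).mp h1
  obtain ⟨ec⟩ := EquidimTransfer.nonempty_cpl_equiv (B ⧸ RingHom.ker g) T e
  exact EquidimTransfer.isEquidim_of_ringEquiv ec h2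

section LG

/-- Catenarity can be tested on the localizations at primes. -/
theorem isCatenary_of_forall_atPrime (R : Type u) [CommRing R]
    (h : ∀ (q : Ideal R) [q.IsPrime], CAlg.IsCatenary (Localization.AtPrime q)) :
    CAlg.IsCatenary R := by
  have hrange : ∀ (q : Ideal R) [q.IsPrime],
      Set.range (primeSpectrumEmbeddingOfIsLocalization q.primeCompl (Localization.AtPrime q)) =
        {p | p.asIdeal ≤ q} := by
    intro q _
    have : Set.range (primeSpectrumEmbeddingOfIsLocalization q.primeCompl
        (Localization.AtPrime q)) = { p | Disjoint (q.primeCompl : Set R) p.asIdeal } :=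
      PrimeSpectrum.localization_comap_range (Localization.AtPrime q) q.primeCompl
    rw [this]
    ext p
    simp only [Set.mem_setOf_eq]
    constructor
    · intro hd x hx
      by_contra hxq
      exact Set.disjoint_left.mp hd hxq hx
    · intro hle
      rw [Set.disjoint_left]
      intro x hx hxp
      exact hx (hle hxp)
  have hconn : ∀ (q : Ideal R) [q.IsPrime],
      (Set.range (primeSpectrumEmbeddingOfIsLocalization q.primeCompl
        (Localization.AtPrime q))).OrdConnected := by
    intro q _
    rw [hrange]
    apply IsLowerSet.ordConnected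
    intro a b hab ha
    exact le_trans (show b.asIdeal ≤ a.asIdeal from hab) ha
  have le_last : ∀ (s : LTSeries (PrimeSpectrum R)) (i : Fin (s.length + 1)), s i ≤ s.last := by
    intro s i
    exact s.strictMono.monotone (Fin.le_last i)
  have hmem : ∀ (q : Ideal R) [q.IsPrime] (s : LTSeries (PrimeSpectrum R)), s.last.asIdeal ≤ q →
      ∀ i, s i ∈ Set.range (primeSpectrumEmbeddingOfIsLocalization q.primeCompl
        (Localization.AtPrime q)) := by
    intro q _ s hs i
    rw [hrange]
    exact le_trans (show (s i).asIdeal ≤ s.last.asIdeal from le_last s i) hs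
  refine ⟨?_, ?_⟩
  · intro P Q hPQ
    haveI := Q.2
    set e := primeSpectrumEmbeddingOfIsLocalization Q.asIdeal.primeCompl
      (Localization.AtPrime Q.asIdeal)
    have hP : P ∈ Set.range e := by
      rw [hrange]; exact hPQ
    have hQ : Q ∈ Set.range e := by
      rw [hrange]; exact le_refl Q.asIdeal
    obtain ⟨P', hP'⟩ := hP
    obtain ⟨Q', hQ'⟩ := hQ
    have hP'Q' : P' ≤ Q' := by
      rw [← e.le_iff_le, hP', hQ']
      exact hPQ
    obtain ⟨n, hn⟩ := (h Q.asIdeal).1 P' Q' hP'Q'
    refine ⟨n, fun s hs hl => ?_⟩
    obtain ⟨s', rfl⟩ := exists_ltSeries_map_eq e s (hmem Q.asIdeal s (by rw [hl]))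
    have := hn s' (e.injective (by rw [hP']; simpa using hs))
      (e.injective (by rw [hQ']; simpa using hl))
    simpa using this
  · intro s t hh hl hs ht
    obtain ⟨q, hq⟩ : ∃ q : PrimeSpectrum R, q = s.last := ⟨_, rfl⟩
    haveI := q.2
    set e := primeSpectrumEmbeddingOfIsLocalization q.asIdeal.primeCompl
      (Localization.AtPrime q.asIdeal)
    have hs_mem := hmem q.asIdeal s (by rw [hq])
    have ht_mem := hmem q.asIdeal t (by rw [← hl, hq])
    obtain ⟨s', rfl⟩ := exists_ltSeries_map_eq e s hs_mem
    obtain ⟨t', rfl⟩ := exists_ltSeries_map_eq e t ht_mem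
    have := (h q.asIdeal).2 s' t' (e.injective (by simpa using hh))
      (e.injective (by simpa using hl))
      (fun i => ((hconn q.asIdeal).apply_covBy_apply_iff e).mp (hs i))
      (fun i => ((hconn q.asIdeal).apply_covBy_apply_iff e).mp (ht i))
    simpa using this

end LG

section star
variable (A : Type u) [CommRing A] [IsNoetherianRing A] [IsLocalRing A]

/-- **★** the local rings of a polynomial ring over a formally catenary local ring are formally
catenary. -/
theorem isFormallyCatenary_mvPolynomial_atPrime (hA : IsFormallyCatenary A) (n : ℕ)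
    (q : Ideal (MvPolynomial (Fin n) A)) [q.IsPrime] :
    IsFormallyCatenary (Localization.AtPrime q) := by
  intro Q0 hQ0
  let f0 : MvPolynomial (Fin n) A →+* (Localization.AtPrime q ⧸ Q0) :=
    (Ideal.Quotient.mk Q0).comp (algebraMap _ (Localization.AtPrime q))
  set p0 : Ideal A := RingHom.ker (f0.comp MvPolynomial.C) with hp0
  haveI hp0p : p0.IsPrime := RingHom.ker_isPrime _
  have hD : IsFormallyEquidim (A ⧸ p0) := hA p0
  let ι : (A ⧸ p0) →+* (Localization.AtPrime q ⧸ Q0) :=
    Ideal.Quotient.lift p0 (f0.comp MvPolynomial.C) (fun a ha => ha)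
  let f : MvPolynomial (Fin n) (A ⧸ p0) →+* (Localization.AtPrime q ⧸ Q0) :=
    MvPolynomial.eval₂Hom ι (fun i => f0 (MvPolynomial.X i))
  have hcomp : f.comp (MvPolynomial.map (Ideal.Quotient.mk p0)) = f0 := by
    apply MvPolynomial.ringHom_ext
    · intro a
      simp [f, ι]
    · intro i
      simp [f]
  set 𝔮 : Ideal (MvPolynomial (Fin n) (A ⧸ p0)) :=
    (maximalIdeal (Localization.AtPrime q ⧸ Q0)).comap f with h𝔮
  haveI : 𝔮.IsPrime := Ideal.comap_isPrime _ _
  have hunit : ∀ y : 𝔮.primeCompl, IsUnit (f y) := by
    intro y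
    by_contra hy
    exact y.2 (show f y ∈ maximalIdeal _ from hy)
  let g : Localization.AtPrime 𝔮 →+* (Localization.AtPrime q ⧸ Q0) :=
    IsLocalization.lift (M := 𝔮.primeCompl) hunit
  have hg : Function.Surjective g := by
    rw [IsLocalization.lift_surjective_iff]
    intro v
    obtain ⟨w, rfl⟩ := Ideal.Quotient.mk_surjective v
    obtain ⟨s, t, rfl⟩ := IsLocalization.exists_mk'_eq q.primeCompl w
    have ht : IsUnit (f0 t) :=
      (IsLocalization.map_units (Localization.AtPrime q) t).map (Ideal.Quotient.mk Q0)
    have hft : f (MvPolynomial.map (Ideal.Quotient.mk p0) (t : MvPolynomial (Fin n) A)) = f0 t := by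
      rw [← hcomp]; rfl
    have hfs : f (MvPolynomial.map (Ideal.Quotient.mk p0) s) = f0 s := by
      rw [← hcomp]; rfl
    refine ⟨(MvPolynomial.map (Ideal.Quotient.mk p0) s,
      ⟨MvPolynomial.map (Ideal.Quotient.mk p0) (t : MvPolynomial (Fin n) A), ?_⟩), ?_⟩
    · intro hmem
      have : f (MvPolynomial.map (Ideal.Quotient.mk p0) (t : MvPolynomial (Fin n) A)) ∈
          maximalIdeal (Localization.AtPrime q ⧸ Q0) := hmem
      rw [hft] at this
      exact this ht
    · simp only []
      rw [hft, hfs]
      simp only [f0, RingHom.comp_apply]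
      rw [← map_mul, IsLocalization.mk'_spec]
  exact isFormallyEquidim_of_surjective_of_isDomain (Localization.AtPrime 𝔮) _
    (FEChain5.isFormallyEquidim_mvPolynomial_atPrime (A ⧸ p0) hD n 𝔮) g hg

end star

section final

/-- a formally catenary Noetherian local ring is catenary. -/
theorem isCatenary_of_isFormallyCatenary (B : Type u) [CommRing B] [IsNoetherianRing B]
    [IsLocalRing B] (hB : IsFormallyCatenary B) : CAlg.IsCatenary B := by
  apply isCatenary_of_forall_minimalPrimes
  intro p hp
  haveI := hp.1.1
  exact (FEChain2.main (B ⧸ p) (hB p)).1.2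

/-- **Lemma Q**: quotients of formally catenary local rings are formally catenary. -/
theorem isFormallyCatenary_of_surjective (T B : Type u) [CommRing T] [CommRing B]
    [IsLocalRing T] [IsNoetherianRing T] [IsLocalRing B] (hT : IsFormallyCatenary T)
    (g : T →+* B) (hg : Function.Surjective g) : IsFormallyCatenary B := by
  haveI : IsNoetherianRing B := isNoetherianRing_of_surjective T B g hg
  intro p _
  haveI : (p.comap g).IsPrime := Ideal.comap_isPrime _ _
  have h1 : IsFormallyEquidim (T ⧸ p.comap g) := hT (p.comap g)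
  obtain ⟨ec⟩ := EquidimTransfer.nonempty_cpl_equiv (T ⧸ p.comap g) (B ⧸ p)
    (FormalEquidim.quotComapEquiv g hg p)
  exact EquidimTransfer.isEquidim_of_ringEquiv ec h1

/-- **S2636** -/
theorem isUniversallyCatenary_of_isFormallyCatenary (A : Type u) [CommRing A]
    [IsNoetherianRing A] [IsLocalRing A] (hA : IsFormallyCatenary A) :
    CAlg.IsUniversallyCatenary A := by
  refine ⟨inferInstance, ?_⟩
  intro S _ _ hft
  obtain ⟨n, f, hf⟩ := Algebra.FiniteType.iff_quotient_mvPolynomial''.mp hft
  refine isCatenary_of_surjective f.toRingHom hf ?_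
  apply isCatenary_of_forall_atPrime
  intro q _
  exact isCatenary_of_isFormallyCatenary _ (isFormallyCatenary_mvPolynomial_atPrime A hA n q)

/-- a local ring essentially of finite type over a formally catenary local ring is formally
catenary. -/
theorem isFormallyCatenary_of_essFiniteType (A : Type u) [CommRing A]
    [IsNoetherianRing A] [IsLocalRing A] (hA : IsFormallyCatenary A)
    (B : Type u) [CommRing B] [IsLocalRing B] [Algebra A B]
    [Algebra.EssFiniteType A B] : IsFormallyCatenary B := by
  have hft : Algebra.FiniteType A (Algebra.EssFiniteType.subalgebra A B) := inferInstance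
  obtain ⟨n, π, hπ⟩ := Algebra.FiniteType.iff_quotient_mvPolynomial''.mp hft
  let ψ : MvPolynomial (Fin n) A →ₐ[A] B :=
    (Algebra.EssFiniteType.subalgebra A B).val.comp π
  have hsurj : Function.Surjective (atPrimeLift ψ) := by
    apply atPrimeLift_surjective
    intro b
    obtain ⟨⟨b0, s0⟩, hb⟩ := IsLocalization.surj (essPrime A B).primeCompl b
    obtain ⟨x, hx⟩ := hπ b0
    obtain ⟨s, hs⟩ := hπ (s0 : Algebra.EssFiniteType.subalgebra A B)
    refine ⟨x, s, ?_, ?_⟩
    · have : ψ s = algebraMap (Algebra.EssFiniteType.subalgebra A B) B s0 := by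
        simp only [ψ, AlgHom.comp_apply, hs]
        rfl
      rw [this]
      exact IsLocalization.map_units B s0
    · have h1 : ψ s = algebraMap (Algebra.EssFiniteType.subalgebra A B) B s0 := by
        simp only [ψ, AlgHom.comp_apply, hs]
        rfl
      have h2 : ψ x = algebraMap (Algebra.EssFiniteType.subalgebra A B) B b0 := by
        simp only [ψ, AlgHom.comp_apply, hx]
        rfl
      rw [h1, h2]
      exact hb
  exact isFormallyCatenary_of_surjective _ B
    (isFormallyCatenary_mvPolynomial_atPrime A hA n (comapMax ψ)) (atPrimeLift ψ).toRingHom hsurj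

/-- **S2634** -/
theorem isFormallyEquidim_of_essFiniteType (A : Type u) [CommRing A]
    [IsNoetherianRing A] [IsLocalRing A] (hA : IsFormallyCatenary A)
    (B : Type u) [CommRing B] [IsNoetherianRing B] [IsLocalRing B] [Algebra A B]
    [Algebra.EssFiniteType A B] (hB : IsEquidim B) : IsFormallyEquidim B := by
  rw [FormalEquidim.result_iff]
  exact ⟨hB, fun p _ _ => isFormallyCatenary_of_essFiniteType A hA B p⟩

end final

end Groth.Agent.Lib.Helper14.FEChain6
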