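import Mathlib.Algebra.Algebra.Hom
import Mathlib.Order.Directed
import Mathlib.Algebra.Algebra.Basic

/-!
# Universal property of an elementwise-encoded directed colimit of algebras

A directed family of `R`-algebras `G i` with transition maps `f i j h` and compatible maps
`g i : G i →ₐ[R] S` which are jointly surjective and whose kernels die in the system
(no functoriality of `f` is assumed).  Then `S` has the universal property of the colimit:
`exists_algHom_of_compatible`, `algHom_ext_of_colimit`.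
-/

set_option autoImplicit false

namespace Groth.Agent.Lib.Helper14

section

variable {ι : Type*} [Preorder ι] [IsDirected ι (· ≤ ·)] [Nonempty ι]
  (R : Type*) [CommRing R] (G : ι → Type*) [∀ i, CommRing (G i)] [∀ i, Algebra R (G i)]
  (f : ∀ i j, i ≤ j → (G i →ₐ[R] G j)) (S : Type*) [CommRing S] [Algebra R S]
  (g : ∀ i, G i →ₐ[R] S) (hg : ∀ i j (h : i ≤ j), (g j).comp (f i j h) = g i)
  (hsurj : ∀ s : S, ∃ i, ∃ x : G i, g i x = s)
  (hker : ∀ i (x : G i), g i x = 0 → ∃ j, ∃ h : i ≤ j, f i j h x = 0)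

include hsurj in
theorem algHom_ext_of_colimit {B : Type*} [Semiring B] [Algebra R B] {Φ Ψ : S →ₐ[R] B}
    (h : ∀ i, Φ.comp (g i) = Ψ.comp (g i)) : Φ = Ψ := by
  ext s
  obtain ⟨i, x, rfl⟩ := hsurj s
  exact DFunLike.congr_fun (h i) x

include hg hsurj hker in
theorem exists_algHom_of_compatible {B : Type*} [CommRing B] [Algebra R B]
    (ψ : ∀ i, G i →ₐ[R] B) (hψ : ∀ i j (h : i ≤ j), (ψ j).comp (f i j h) = ψ i) :
    ∃ Ψ : S →ₐ[R] B, ∀ i, Ψ.comp (g i) = ψ i := by
  classical
  have hgx : ∀ i j (h : i ≤ j) (x : G i), g j (f i j h x) = g i x := fun i j h x =>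
    DFunLike.congr_fun (hg i j h) x
  have hψx : ∀ i j (h : i ≤ j) (x : G i), ψ j (f i j h x) = ψ i x := fun i j h x =>
    DFunLike.congr_fun (hψ i j h) x
  -- well-definedness
  have hwd : ∀ (i j : ι) (x : G i) (y : G j), g i x = g j y → ψ i x = ψ j y := by
    intro i j x y hxy
    obtain ⟨k, hik, hjk⟩ := exists_ge_ge i j
    have h0 : g k (f i k hik x - f j k hjk y) = 0 := by
      rw [map_sub, hgx, hgx, hxy, sub_self]
    obtain ⟨l, hkl, hl⟩ := hker k _ h0
    have h1 : ψ k (f i k hik x - f j k hjk y) = 0 := by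
      rw [← hψx k l hkl, hl, map_zero]
    rw [map_sub, hψx, hψx, sub_eq_zero] at h1
    exact h1
  choose idx rep hrep using hsurj
  let Ψ₀ : S → B := fun s => ψ (idx s) (rep s)
  have hΨ₀ : ∀ i (x : G i), Ψ₀ (g i x) = ψ i x := fun i x =>
    hwd _ _ _ _ (hrep (g i x))
  -- common index for two elements
  have hpair : ∀ s t : S, ∃ (k : ι) (x y : G k), g k x = s ∧ g k y = t := by
    intro s t
    obtain ⟨k, hik, hjk⟩ := exists_ge_ge (idx s) (idx t)
    exact ⟨k, f _ k hik (rep s), f _ k hjk (rep t), by rw [hgx, hrep], by rw [hgx, hrep]⟩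
  obtain ⟨i₀⟩ := (inferInstance : Nonempty ι)
  refine ⟨{ toFun := Ψ₀
            map_one' := ?_
            map_mul' := ?_
            map_zero' := ?_
            map_add' := ?_
            commutes' := ?_ }, ?_⟩
  · rw [← map_one (g i₀), hΨ₀, map_one]
  · intro s t
    obtain ⟨k, x, y, rfl, rfl⟩ := hpair s t
    rw [← map_mul, hΨ₀, hΨ₀, hΨ₀, map_mul]
  · rw [← map_zero (g i₀), hΨ₀, map_zero]
  · intro s t
    obtain ⟨k, x, y, rfl, rfl⟩ := hpair s t
    rw [← map_add, hΨ₀, hΨ₀, hΨ₀, map_add]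
  · intro r
    change Ψ₀ (algebraMap R S r) = algebraMap R B r
    rw [← AlgHom.commutes (g i₀), hΨ₀, AlgHom.commutes]
  · intro i
    ext x
    exact hΨ₀ i x

end

end Groth.Agent.Lib.Helper14
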