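import Groth.Agent.Lib.Helper14.NormalSmoothAsc
import Groth.Agent.Lib.Helper14.NormalRing
import Groth.Agent.Lib.Helper4.SerreNormal
import Groth.Agent.Lib.Helper4.FlatLocal3
import Groth.Agent.Lib.Helper4.SkRing

/-!
# Normality of a flat extension from a finite overring (Stacks 0BG8 style)

`B → B'` flat map of Noetherian rings, `B` normal, `B ⊆ C` finite, `B' ⊗[B] C` normal.  Then `B'` is
normal.  Serre's criterion on `B'`: depth at primes over height `≥ 2` comes from `B`; at primes over
height `≤ 1` we descend normality from a localization of `B' ⊗[B] C_{Q₁}` (faithfully flat).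
-/

set_option autoImplicit false
universe u
open IsLocalRing TensorProduct

namespace Groth.Agent.Lib.Helper14.ComplNormalSub

open Groth.Agent.Lib.Helper4

section serre
variable {B B' : Type u} [CommRing B] [CommRing B'] [Algebra B B'] [Module.Flat B B']
  [IsNoetherianRing B] [IsNoetherianRing B']

/-- Serre-criterion step: a flat Noetherian algebra over a normal Noetherian ring is normal as
soon as its local rings at primes lying over primes of height `≤ 1` are normal domains. -/
theorem isNormalRing_of_flat_of_codim_one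
    (hB : ∀ (p : Ideal B) [p.IsPrime], IsDomain (Localization.AtPrime p) ∧
      IsIntegrallyClosed (Localization.AtPrime p))
    (H : ∀ (q : Ideal B') [q.IsPrime], (q.comap (algebraMap B B')).height ≤ 1 →
      IsDomain (Localization.AtPrime q) ∧ IsIntegrallyClosed (Localization.AtPrime q)) :
    ∀ (q : Ideal B') [q.IsPrime], IsDomain (Localization.AtPrime q) ∧
      IsIntegrallyClosed (Localization.AtPrime q) := by
  rw [SerreNormal.serre_criterion]
  obtain ⟨-, hS2B⟩ := (SerreNormal.serre_criterion B).mp hB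
  have hht : ∀ (q : Ideal B') [q.IsPrime], (q.comap (algebraMap B B')).height ≤ q.height := by
    intro q _
    haveI : q.LiesOver (q.comap (algebraMap B B')) := ⟨rfl⟩
    rw [Ideal.height_eq_height_add_of_liesOver_of_hasGoingDown (q.comap (algebraMap B B')) q]
    exact le_self_add
  refine ⟨?_, ?_⟩
  · intro q _ hq
    obtain ⟨h1, h2⟩ := H q ((hht q).trans hq)
    haveI := h1
    haveI := h2
    apply SerreNormal.isRegularLocalRing_of_normal_of_dim_le_one
    rw [IsLocalization.AtPrime.ringKrullDim_eq_height q (Localization.AtPrime q)]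
    exact_mod_cast hq
  · rw [hasSk_self_iff']
    intro q _
    by_cases hp : (q.comap (algebraMap B B')).height ≤ 1
    · obtain ⟨h1, h2⟩ := H q hp
      haveI := h1
      haveI := h2
      have h3 := SerreNormal.min_two_le_depth_of_normal (Localization.AtPrime q)
      rwa [SerreNormal.height_maximalIdeal_atPrime] at h3
    · set p := q.comap (algebraMap B B') with hpdef
      haveI : q.LiesOver p := ⟨rfl⟩
      have h2 : (2 : ℕ∞) ≤ p.height := by
        rw [not_le] at hp
        have h3 := Order.add_one_le_of_lt hp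
        rwa [one_add_one_eq_two] at h3
      have hS := (hasSk_self_iff' 2).mp hS2B p
      rw [min_eq_left (by exact_mod_cast h2)] at hS
      letI := Localization.AtPrime.algebraOfLiesOver p q
      haveI : IsLocalHom (algebraMap (Localization.AtPrime p) (Localization.AtPrime q)) :=
        Localization.isLocalHom_localRingHom p q (algebraMap B B') Ideal.LiesOver.over
      have hd := depth_self_eq_add (A := Localization.AtPrime p) (B := Localization.AtPrime q)
      calc min ((2 : ℕ) : ℕ∞) q.height ≤ ((2 : ℕ) : ℕ∞) := min_le_left _ _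
        _ ≤ LocCoh.depth (Localization.AtPrime p) (Localization.AtPrime p) := hS
        _ ≤ LocCoh.depth (Localization.AtPrime q) (Localization.AtPrime q) := by
            rw [hd]; exact le_self_add

end serre

variable {B B' C : Type u} [CommRing B] [CommRing B'] [CommRing C] [Algebra B B'] [Algebra B C]
  [Module.Flat B B']

attribute [local instance] Algebra.TensorProduct.rightAlgebra

theorem comap_map_le (k : Ideal B) (Q₀ : Ideal C) (hk : Q₀.comap (algebraMap B C) = k) :
    (Q₀.map (algebraMap C (B' ⊗[B] C))).comap (algebraMap B' (B' ⊗[B] C)) ≤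
      k.map (algebraMap B B') := by
  intro x hx
  rw [Ideal.mem_comap] at hx
  let g : C →ₐ[B] C ⧸ Q₀ := Ideal.Quotient.mkₐ B Q₀
  have hg : Function.Surjective g := Ideal.Quotient.mkₐ_surjective B Q₀
  have hker := Algebra.TensorProduct.lTensor_ker (A := B') g hg
  have hkg : RingHom.ker g = Q₀ := Ideal.Quotient.mkₐ_ker B Q₀
  rw [hkg] at hker
  have h1 : (Algebra.TensorProduct.map (AlgHom.id B B') g) (x ⊗ₜ[B] (1 : C)) = 0 := by
    rw [← RingHom.mem_ker, hker]
    exact hx
  rw [Algebra.TensorProduct.map_tmul, AlgHom.id_apply, map_one] at h1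
  let j : (B ⧸ k) →ₗ[B] (C ⧸ Q₀) :=
    Submodule.liftQ k (g.toLinearMap ∘ₗ Algebra.linearMap B C) (by
      intro b hb
      rw [LinearMap.mem_ker, LinearMap.comp_apply, Algebra.linearMap_apply]
      show g (algebraMap B C b) = 0
      rw [← hk] at hb
      exact Ideal.Quotient.eq_zero_iff_mem.mpr hb)
  have hj1 : ∀ b : B, j (Ideal.Quotient.mk k b) = Ideal.Quotient.mk Q₀ (algebraMap B C b) :=
    fun b => rfl
  have hj : Function.Injective j := by
    rw [← LinearMap.ker_eq_bot, LinearMap.ker_eq_bot']
    intro y hy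
    obtain ⟨b, rfl⟩ := Ideal.Quotient.mk_surjective y
    rw [hj1, Ideal.Quotient.eq_zero_iff_mem] at hy
    rw [Ideal.Quotient.eq_zero_iff_mem, ← hk]
    exact hy
  have h2 := Module.Flat.lTensor_preserves_injective_linearMap (M := B') j hj
  have h3 : x ⊗ₜ[B] (1 : B ⧸ k) = 0 := by
    apply h2
    rw [LinearMap.lTensor_tmul, map_zero]
    have : j (1 : B ⧸ k) = 1 := by
      have h := hj1 1
      rw [map_one (Ideal.Quotient.mk k), map_one (algebraMap B C), map_one (Ideal.Quotient.mk Q₀)] at h
      exact h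
    rw [this]
    exact h1
  have h4 := congrArg (TensorProduct.tensorQuotEquivQuotSMul B' k) h3
  have h5 : (1 : B ⧸ k) = Ideal.Quotient.mk k 1 := rfl
  rw [h5, TensorProduct.tensorQuotEquivQuotSMul_tmul_mk, map_zero, one_smul,
    Submodule.Quotient.mk_eq_zero, Ideal.smul_top_eq_map] at h4
  exact h4

/-- A Noetherian normal local domain of dimension at most one is a principal ideal ring. -/
theorem isPrincipalIdealRing_of_normal_of_height_le_one (R : Type u) [CommRing R] [IsDomain R]
    [IsNoetherianRing R] [IsLocalRing R] [IsIntegrallyClosed R]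
    (h : (maximalIdeal R).height ≤ 1) : IsPrincipalIdealRing R := by
  have hprimes : ∀ P : Ideal R, P ≠ ⊥ → P.IsPrime → P = maximalIdeal R := by
    intro P hP0 hPp
    by_contra hne
    have hlt : P < maximalIdeal R := lt_of_le_of_ne (le_maximalIdeal hPp.ne_top) hne
    have hbot : (⊥ : Ideal R) < P := bot_lt_iff_ne_bot.mpr hP0
    haveI : (⊥ : Ideal R).IsPrime := Ideal.isPrime_bot
    have h1 : (⊥ : Ideal R).height < P.height := Ideal.height_strict_mono_of_isPrime hbot
    have h2 : P.height < (maximalIdeal R).height := Ideal.height_strict_mono_of_isPrime hlt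
    have h4 : P.height < 1 := lt_of_lt_of_le h2 h
    have h5 : P.height = 0 := Order.lt_one_iff.mp h4
    rw [h5] at h1
    exact not_lt_zero h1
  have h30 : (IsIntegrallyClosed R ∧
      ∀ P : Ideal R, P ≠ ⊥ → P.IsPrime → P = maximalIdeal R) → IsPrincipalIdealRing R :=
    ((tfae_of_isNoetherianRing_of_isLocalRing_of_isDomain R).out 3 0).mp
  exact h30 ⟨inferInstance, hprimes⟩

variable [IsNoetherianRing B] [IsNoetherianRing B'] [Module.Finite B C]

omit [IsNoetherianRing B] [IsNoetherianRing B'] in
theorem exists_good_prime (hinj : Function.Injective (algebraMap B C))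
    (q : Ideal B') [q.IsPrime] [IsDomain (Localization.AtPrime (q.comap (algebraMap B B')))] :
    ∃ (Q' : Ideal (B' ⊗[B] C)) (Q₀ : Ideal C), Q'.IsPrime ∧ Q₀.IsPrime ∧
      Q'.comap (algebraMap B' (B' ⊗[B] C)) = q ∧
      Q₀ ≤ Q'.comap (algebraMap C (B' ⊗[B] C)) ∧
      Q₀.comap (algebraMap B C) =
        RingHom.ker (algebraMap B (Localization.AtPrime (q.comap (algebraMap B B')))) := by
  set p := q.comap (algebraMap B B') with hp
  set k : Ideal B := RingHom.ker (algebraMap B (Localization.AtPrime p)) with hkdef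
  haveI hkprime : k.IsPrime := RingHom.ker_isPrime _
  have hkp : k ≤ p := by
    intro x hx
    rw [hkdef, RingHom.mem_ker, IsLocalization.map_eq_zero_iff p.primeCompl] at hx
    obtain ⟨m, hm⟩ := hx
    have h1 : (m : B) * x ∈ p := by rw [hm]; exact zero_mem _
    exact (Ideal.IsPrime.mem_or_mem inferInstance h1).resolve_left m.2
  haveI : Algebra.IsIntegral B C := Algebra.IsIntegral.of_finite B C
  obtain ⟨Q₀, -, hQ₀prime, hQ₀k⟩ := Ideal.exists_ideal_over_prime_of_isIntegral
    (S := C) k ⊥ (by
      rw [← RingHom.ker_eq_comap_bot, (RingHom.injective_iff_ker_eq_bot _).mp hinj]; exact bot_le)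
  haveI : Algebra.IsIntegral B' (B' ⊗[B] C) := Algebra.IsIntegral.of_finite _ _
  have hle : (Q₀.map (algebraMap C (B' ⊗[B] C))).comap (algebraMap B' (B' ⊗[B] C)) ≤ q := by
    refine (comap_map_le k Q₀ hQ₀k).trans ?_
    rw [Ideal.map_le_iff_le_comap]
    exact hkp
  obtain ⟨Q', hQ'ge, hQ'prime, hQ'q⟩ := Ideal.exists_ideal_over_prime_of_isIntegral q _ hle
  refine ⟨Q', Q₀, hQ'prime, hQ₀prime, hQ'q, ?_, hQ₀k⟩
  rw [← Ideal.map_le_iff_le_comap]
  exact hQ'ge

theorem normal_at_of_codim_one (hinj : Function.Injective (algebraMap B C))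
    (hB : EGA4.IsNormalRing B) (hC' : EGA4.IsNormalRing (B' ⊗[B] C))
    (q : Ideal B') [q.IsPrime] (hq : (q.comap (algebraMap B B')).height ≤ 1) :
    IsDomain (Localization.AtPrime q) ∧ IsIntegrallyClosed (Localization.AtPrime q) := by
  set p := q.comap (algebraMap B B') with hp
  obtain ⟨hBpd, hBpic⟩ := hB p
  haveI := hBpd
  haveI := hBpic
  obtain ⟨Q', Q₀, hQ'prime, hQ₀prime, hQ'q, hQ₀le, hQ₀k⟩ := exists_good_prime (C := C) hinj q
  haveI := hQ'prime
  haveI := hQ₀prime
  set Q₁ := Q'.comap (algebraMap C (B' ⊗[B] C)) with hQ₁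
  have hQ₁p : Q₁.comap (algebraMap B C) = p := by
    rw [hQ₁, Ideal.comap_comap, hp, ← hQ'q, Ideal.comap_comap]
    congr 1
    rw [← IsScalarTower.algebraMap_eq, ← IsScalarTower.algebraMap_eq]
  haveI : Q₁.LiesOver p := ⟨hQ₁p.symm⟩
  haveI : Q'.LiesOver Q₁ := ⟨rfl⟩
  -- `T = C_{Q₁}` is a domain
  have hTdom : IsDomain (Localization.AtPrime Q₁) := by
    haveI : Module.Flat C (B' ⊗[B] C) := by
      have h : Algebra.IsPushout B C B' (B' ⊗[B] C) := inferInstance
      exact Module.Flat.isBaseChange (R := B) (S := C) (M := B') _ h.out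
    letI := Localization.AtPrime.algebraOfLiesOver Q₁ Q'
    haveI : IsLocalHom (algebraMap (Localization.AtPrime Q₁) (Localization.AtPrime Q')) :=
      Localization.isLocalHom_localRingHom Q₁ Q' (algebraMap C _) Ideal.LiesOver.over
    haveI : Module.FaithfullyFlat (Localization.AtPrime Q₁) (Localization.AtPrime Q') :=
      Module.FaithfullyFlat.of_flat_of_isLocalHom
    obtain ⟨h1, h2⟩ := hC' Q'
    haveI := h1
    haveI := h2
    exact (NormalSmoothAsc.isDomain_isIntegrallyClosed_of_faithfullyFlat
      (Localization.AtPrime Q₁) (Localization.AtPrime Q')).1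
  haveI := hTdom
  letI algBpT := Localization.AtPrime.algebraOfLiesOver p Q₁
  have key : ∀ b : B, algebraMap B (Localization.AtPrime Q₁) b = 0 →
      algebraMap B (Localization.AtPrime p) b = 0 := by
    intro b hb
    rw [IsScalarTower.algebraMap_apply B C (Localization.AtPrime Q₁),
      IsLocalization.map_eq_zero_iff Q₁.primeCompl] at hb
    obtain ⟨t, ht⟩ := hb
    have h1 : (t : C) * algebraMap B C b ∈ Q₀ := by rw [ht]; exact zero_mem _
    have h2 : (t : C) ∉ Q₀ := fun h => t.2 (hQ₀le h)
    have h3 : algebraMap B C b ∈ Q₀ := (hQ₀prime.mem_or_mem h1).resolve_left h2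
    have h4 : b ∈ Q₀.comap (algebraMap B C) := h3
    rw [hQ₀k, RingHom.mem_ker] at h4
    exact h4
  have hinjT : Function.Injective
      (algebraMap (Localization.AtPrime p) (Localization.AtPrime Q₁)) := by
    rw [injective_iff_map_eq_zero]
    intro x hx
    obtain ⟨b, s, rfl⟩ := IsLocalization.exists_mk'_eq p.primeCompl x
    have h1 := IsLocalization.mk'_spec (Localization.AtPrime p) b s
    have h2 := congrArg (algebraMap (Localization.AtPrime p) (Localization.AtPrime Q₁)) h1
    rw [map_mul, hx, zero_mul, ← IsScalarTower.algebraMap_apply] at h2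
    have h3 := key b h2.symm
    rw [h3] at h1
    exact (IsUnit.mul_left_eq_zero (IsLocalization.map_units _ s)).mp h1
  haveI hPID : IsPrincipalIdealRing (Localization.AtPrime p) :=
    isPrincipalIdealRing_of_normal_of_height_le_one _ (by
      rw [Groth.Agent.Lib.Helper4.SerreNormal.height_maximalIdeal_atPrime]; exact hq)
  haveI hflatBp : Module.Flat (Localization.AtPrime p) (Localization.AtPrime Q₁) := by
    rw [Module.Flat.flat_iff_torsion_eq_bot_of_isBezout, eq_bot_iff]
    rintro m ⟨⟨r, hr⟩, h⟩
    have h1 : algebraMap (Localization.AtPrime p) (Localization.AtPrime Q₁) r * m = 0 := by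
      rw [← Algebra.smul_def]; exact h
    rcases mul_eq_zero.mp h1 with h2 | h2
    · have h3 : r = 0 := hinjT (by rw [h2, map_zero])
      exact absurd h3 (nonZeroDivisors.ne_zero hr)
    · exact h2
  haveI hflatB : Module.Flat B (Localization.AtPrime Q₁) :=
    (Module.flat_iff_of_isLocalization (Localization.AtPrime p) p.primeCompl _).mp hflatBp
  -- `T' = B' ⊗ T`
  letI algC'T' : Algebra (B' ⊗[B] C) (B' ⊗[B] Localization.AtPrime Q₁) :=
    (Algebra.TensorProduct.map (AlgHom.id B B')
      (IsScalarTower.toAlgHom B C (Localization.AtPrime Q₁))).toAlgebra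
  haveI : IsScalarTower B' (B' ⊗[B] C) (B' ⊗[B] Localization.AtPrime Q₁) :=
    .of_algebraMap_eq <| by intro; simp [RingHom.algebraMap_toAlgebra]
  haveI hloc : IsLocalization
      (Q₁.primeCompl.map (Algebra.TensorProduct.includeRight (R := B) (A := B')))
      (B' ⊗[B] Localization.AtPrime Q₁) :=
    IsLocalization.tensorProduct_tensorProduct_right B B' Q₁.primeCompl
      (Localization.AtPrime Q₁) (by ext; simp [RingHom.algebraMap_toAlgebra])
  have hT'normal : EGA4.IsNormalRing (B' ⊗[B] Localization.AtPrime Q₁) :=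
    Groth.Agent.Lib.Helper14.isNormalRing_of_isLocalization
      (Q₁.primeCompl.map (Algebra.TensorProduct.includeRight (R := B) (A := B'))) _ hC'
  have hdisj : Disjoint
      (↑(Q₁.primeCompl.map (Algebra.TensorProduct.includeRight (R := B) (A := B'))) :
        Set (B' ⊗[B] C)) (Q' : Set (B' ⊗[B] C)) := by
    rw [Set.disjoint_left]
    rintro x ⟨c, hc, rfl⟩ hx
    exact hc hx
  haveI hQ''prime : (Q'.map (algebraMap (B' ⊗[B] C) (B' ⊗[B] Localization.AtPrime Q₁))).IsPrime :=
    IsLocalization.isPrime_of_isPrime_disjoint _ _ _ hQ'prime hdisj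
  have hcomap : Ideal.comap (algebraMap (B' ⊗[B] C) (B' ⊗[B] Localization.AtPrime Q₁))
      (Q'.map (algebraMap (B' ⊗[B] C) (B' ⊗[B] Localization.AtPrime Q₁))) = Q' :=
    IsLocalization.comap_map_of_isPrime_disjoint
      (Q₁.primeCompl.map (Algebra.TensorProduct.includeRight (R := B) (A := B')))
      (B' ⊗[B] Localization.AtPrime Q₁) hQ'prime hdisj
  haveI : (Q'.map (algebraMap (B' ⊗[B] C) (B' ⊗[B] Localization.AtPrime Q₁))).LiesOver q := ⟨by
    rw [Ideal.under_def, IsScalarTower.algebraMap_eq B' (B' ⊗[B] C)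
      (B' ⊗[B] Localization.AtPrime Q₁), ← Ideal.comap_comap, hcomap, hQ'q]⟩
  obtain ⟨hE1, hE2⟩ := hT'normal (Q'.map (algebraMap (B' ⊗[B] C) (B' ⊗[B] Localization.AtPrime Q₁)))
  haveI := hE1
  haveI := hE2
  letI := Localization.AtPrime.algebraOfLiesOver q
    (Q'.map (algebraMap (B' ⊗[B] C) (B' ⊗[B] Localization.AtPrime Q₁)))
  haveI : IsLocalHom (algebraMap (Localization.AtPrime q) (Localization.AtPrime
      (Q'.map (algebraMap (B' ⊗[B] C) (B' ⊗[B] Localization.AtPrime Q₁))))) :=
    Localization.isLocalHom_localRingHom q _ (algebraMap B' _) Ideal.LiesOver.over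
  haveI hfl1 : Module.Flat B' (B' ⊗[B] Localization.AtPrime Q₁) := inferInstance
  haveI hfl2 : Module.Flat (Localization.AtPrime q) (Localization.AtPrime
      (Q'.map (algebraMap (B' ⊗[B] C) (B' ⊗[B] Localization.AtPrime Q₁)))) := inferInstance
  haveI := Module.FaithfullyFlat.of_flat_of_isLocalHom (A := Localization.AtPrime q)
    (B := Localization.AtPrime
      (Q'.map (algebraMap (B' ⊗[B] C) (B' ⊗[B] Localization.AtPrime Q₁))))
  exact NormalSmoothAsc.isDomain_isIntegrallyClosed_of_faithfullyFlat _ (Localization.AtPrime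
      (Q'.map (algebraMap (B' ⊗[B] C) (B' ⊗[B] Localization.AtPrime Q₁))))

/-- **Main abstract statement.** -/
theorem isNormalRing_of_flat_of_tensor (hinj : Function.Injective (algebraMap B C))
    (hB : EGA4.IsNormalRing B) (hC' : EGA4.IsNormalRing (B' ⊗[B] C)) : EGA4.IsNormalRing B' :=
  isNormalRing_of_flat_of_codim_one hB
    (fun q _ hq => normal_at_of_codim_one (C := C) hinj hB hC' q hq)

end Groth.Agent.Lib.Helper14.ComplNormalSub
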