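import Groth.Agent.Lib.Helper27.NagAU4

/-!
# The `𝔪`-adic completion of a finite algebra over a Noetherian local ring

For a Noetherian local ring `(A, 𝔪)` and a finite `A`-algebra `C`, the `𝔪C`-adic completion of `C`
is `Â ⊗[A] C` (as a `C`-algebra).  Variant of `Helper27.NagAU.exists_bijective_algHom`, which uses
the Jacobson radical of `C` instead of `𝔪C`.
-/

set_option autoImplicit false
set_option linter.style.haveILetI false
set_option linter.unusedSectionVars false
universe u
open TensorProduct

namespace Groth.Agent.Lib.Helper14.ComplTensorFinite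

variable (A : Type u) [CommRing A] [IsNoetherianRing A] [IsLocalRing A] (C : Type u) [CommRing C]
  [Algebra A C] [Module.Finite A C]

open IsLocalRing Groth.Agent.Lib.Helper15 Groth.Agent.Lib.Helper27.NagAU

attribute [local instance] Algebra.TensorProduct.rightAlgebra
attribute [local instance] Groth.Agent.Lib.Helper27.NagAU.instNoeth

theorem map_map_eq :
    ((maximalIdeal A).map (algebraMap A (AdicCompletion (maximalIdeal A) A))).map
        (algebraMap (AdicCompletion (maximalIdeal A) A)
          (AdicCompletion (maximalIdeal A) A ⊗[A] C)) =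
      ((maximalIdeal A).map (algebraMap A C)).map
        (algebraMap C (AdicCompletion (maximalIdeal A) A ⊗[A] C)) := by
  rw [Ideal.map_map, Ideal.map_map]
  congr 1
  ext a
  simp only [RingHom.comp_apply]
  rw [← IsScalarTower.algebraMap_apply, ← IsScalarTower.algebraMap_apply]

theorem isAdicComplete_tensor :
    IsAdicComplete (((maximalIdeal A).map (algebraMap A C)).map
      (algebraMap C (AdicCompletion (maximalIdeal A) A ⊗[A] C)))
      (AdicCompletion (maximalIdeal A) A ⊗[A] C) := by
  haveI hc := FiniteComplete.isAdicComplete_mS (AdicCompletion (maximalIdeal A) A)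
    (AdicCompletion (maximalIdeal A) A ⊗[A] C)
  have hmS : FiniteComplete.mS (AdicCompletion (maximalIdeal A) A)
      (AdicCompletion (maximalIdeal A) A ⊗[A] C) =
      ((maximalIdeal A).map (algebraMap A C)).map
        (algebraMap C (AdicCompletion (maximalIdeal A) A ⊗[A] C)) := by
    rw [FiniteComplete.mS, AdicCompletion.maximalIdeal_eq_map]
    exact map_map_eq A C
  rw [← hmS]
  exact hc

theorem exists_sub_mem_map (y : AdicCompletion (maximalIdeal A) A ⊗[A] C) :
    ∃ c : C, algebraMap C (AdicCompletion (maximalIdeal A) A ⊗[A] C) c - y ∈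
      ((maximalIdeal A).map (algebraMap A C)).map
        (algebraMap C (AdicCompletion (maximalIdeal A) A ⊗[A] C)) := by
  induction y using TensorProduct.induction_on with
  | zero => exact ⟨0, by simp⟩
  | tmul α c₀ =>
    obtain ⟨a, ha⟩ := Groth.Agent.Lib.Helper14.ComplQuot.exists_sub_mem_maximalIdeal A α
    refine ⟨a • c₀, ?_⟩
    have h1 : algebraMap C (AdicCompletion (maximalIdeal A) A ⊗[A] C) (a • c₀) - α ⊗ₜ[A] c₀ =
        -(algebraMap (AdicCompletion (maximalIdeal A) A) (AdicCompletion (maximalIdeal A) A ⊗[A] C)
          (α - algebraMap A (AdicCompletion (maximalIdeal A) A) a) *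
          algebraMap C (AdicCompletion (maximalIdeal A) A ⊗[A] C) c₀) := by
      have e1 : algebraMap C (AdicCompletion (maximalIdeal A) A ⊗[A] C) (a • c₀) =
          (1 : AdicCompletion (maximalIdeal A) A) ⊗ₜ[A] (a • c₀) := rfl
      have e2 : algebraMap C (AdicCompletion (maximalIdeal A) A ⊗[A] C) c₀ =
          (1 : AdicCompletion (maximalIdeal A) A) ⊗ₜ[A] c₀ := rfl
      rw [e1, e2, Algebra.TensorProduct.algebraMap_apply, Algebra.algebraMap_self, RingHom.id_apply,
        Algebra.TensorProduct.tmul_mul_tmul, mul_one, one_mul, TensorProduct.sub_tmul,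
        TensorProduct.tmul_smul, Algebra.algebraMap_eq_smul_one, ← TensorProduct.smul_tmul']
      simp
    rw [h1]
    refine neg_mem (Ideal.mul_mem_right _ _ ?_)
    rw [AdicCompletion.maximalIdeal_eq_map (R := A)] at ha
    rw [← map_map_eq A C]
    exact Ideal.mem_map_of_mem _ ha
  | add x y hx hy =>
    obtain ⟨c1, h1⟩ := hx
    obtain ⟨c2, h2⟩ := hy
    refine ⟨c1 + c2, ?_⟩
    have : algebraMap C (AdicCompletion (maximalIdeal A) A ⊗[A] C) (c1 + c2) - (x + y) =
        (algebraMap C (AdicCompletion (maximalIdeal A) A ⊗[A] C) c1 - x) +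
        (algebraMap C (AdicCompletion (maximalIdeal A) A ⊗[A] C) c2 - y) := by
      rw [map_add]; ring
    rw [this]
    exact add_mem h1 h2

/-- `Ĉ ≃ Â ⊗[A] C` for a finite algebra `C` over a Noetherian local ring. -/
theorem exists_bijective_algHom :
    ∃ lam : AdicCompletion ((maximalIdeal A).map (algebraMap A C)) C →ₐ[C]
      AdicCompletion (maximalIdeal A) A ⊗[A] C, Function.Bijective lam := by
  haveI := isAdicComplete_tensor A C
  haveI : IsNoetherianRing C := IsNoetherianRing.of_finite A C
  let lam : AdicCompletion ((maximalIdeal A).map (algebraMap A C)) C →ₐ[C]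
      AdicCompletion (maximalIdeal A) A ⊗[A] C := CS.liftMap ((maximalIdeal A).map (algebraMap A C))
  have hsurj : Function.Surjective lam :=
    CS.liftMap_surjective _ (IsNoetherian.noetherian _) (exists_sub_mem_map A C)
  have hinj : Function.Injective lam := by
    rw [injective_iff_map_eq_zero]
    intro z hz
    obtain ⟨a, rfl⟩ := AdicCompletion.mk_surjective _ _ z
    apply AdicCompletion.ext_evalₐ
    intro n
    rw [map_zero, AdicCompletion.evalₐ_mk, Ideal.Quotient.eq_zero_iff_mem]
    have h1 : Ideal.Quotient.mk ((((maximalIdeal A).map (algebraMap A C)).map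
        (algebraMap C (AdicCompletion (maximalIdeal A) A ⊗[A] C))) ^ n)
        (lam (AdicCompletion.mk _ _ a)) = CS.levelMap ((maximalIdeal A).map (algebraMap A C)) n
          (AdicCompletion.mk _ _ a) :=
      IsAdicComplete.mk_liftAlgHom _ _ _ n _
    rw [hz, map_zero, CS.levelMap_mk] at h1
    have h2 := Ideal.Quotient.eq_zero_iff_mem.mp h1.symm
    rw [← Ideal.map_pow] at h2
    exact mem_of_algebraMap_mem_map A C _ _ h2
  exact ⟨lam, hinj, hsurj⟩

/-- Ring-isomorphism form, stated without the right algebra structure. -/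
theorem nonempty_ringEquiv :
    Nonempty (AdicCompletion ((maximalIdeal A).map (algebraMap A C)) C ≃+*
      AdicCompletion (maximalIdeal A) A ⊗[A] C) := by
  obtain ⟨lam, hlam⟩ := exists_bijective_algHom A C
  exact ⟨RingEquiv.ofBijective lam.toRingHom hlam⟩

end Groth.Agent.Lib.Helper14.ComplTensorFinite
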