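import Mathlib

/-!
# The fibre of relative differentials at a rational point and the tangent map

For a local homomorphism `A → B` of local `k`-algebras with residue fields `k`,
`κ_B ⊗ Ω_{B/A}` is the cokernel of `m_A/m_A² → m_B/m_B²`.
-/

set_option autoImplicit false

universe u

open TensorProduct KaehlerDifferential IsLocalRing

namespace Groth.Agent.Lib.Helper14.CotFibre

variable (k : Type u) [Field k] (A B : Type u) [CommRing A] [CommRing B]
  [IsLocalRing A] [IsLocalRing B]
  [Algebra k A] [Algebra k B] [Algebra A B] [IsScalarTower k A B]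

section eps

variable (hB : Function.Bijective (algebraMap k (ResidueField B)))

/-- The residue section `B → k`. -/
noncomputable def eps : B →ₐ[k] k :=
  ((AlgEquiv.ofBijective (Algebra.ofId k (ResidueField B)) hB).symm :
    ResidueField B →ₐ[k] k).comp (IsScalarTower.toAlgHom k B (ResidueField B))

theorem algebraMap_eps (b : B) :
    algebraMap k (ResidueField B) (eps k B hB b) = residue B b := by
  have := (AlgEquiv.ofBijective (Algebra.ofId k (ResidueField B)) hB).apply_symm_apply
    (algebraMap B (ResidueField B) b)
  exact this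

theorem sub_eps_mem (b : B) : b - algebraMap k B (eps k B hB b) ∈ maximalIdeal B := by
  rw [← residue_eq_zero_iff, map_sub, ← algebraMap_eps k B hB b, sub_eq_zero,
    IsScalarTower.algebraMap_apply k B (ResidueField B)]
  rfl

theorem eps_eq_zero_of_mem {b : B} (hb : b ∈ maximalIdeal B) : eps k B hB b = 0 := by
  apply hB.injective
  rw [algebraMap_eps, map_zero, residue_eq_zero_iff]
  exact hb

end eps

/-- The comparison of cotangent spaces `m/m² → ker/ker²`. -/
noncomputable def jmap :
    (maximalIdeal B).Cotangent →ₗ[B]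
      (RingHom.ker (algebraMap B (ResidueField B))).Cotangent :=
  Ideal.mapCotangent (maximalIdeal B) (RingHom.ker (algebraMap B (ResidueField B)))
    (AlgHom.id B B) (by
      intro x hx
      rw [Ideal.mem_comap, RingHom.mem_ker]
      exact (residue_eq_zero_iff x).mpr hx)

/-- `δ : m_B/m_B² → κ ⊗ Ω_{B/A}`, `x ↦ 1 ⊗ dx`. -/
noncomputable def delta :
    (maximalIdeal B).Cotangent →ₗ[B] (ResidueField B) ⊗[B] Ω[B⁄A] :=
  (kerCotangentToTensor A B (ResidueField B)) ∘ₗ jmap B

theorem delta_toCotangent (x : maximalIdeal B) :
    delta A B ((maximalIdeal B).toCotangent x) = 1 ⊗ₜ D A B x.1 := rfl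

section surj

variable (hB : Function.Bijective (algebraMap k (ResidueField B)))
include hB

theorem algebraMap_residueField_surjective :
    Function.Surjective (algebraMap A (ResidueField B)) := by
  intro x
  obtain ⟨c, rfl⟩ := hB.surjective x
  refine ⟨algebraMap k A c, ?_⟩
  rw [← IsScalarTower.algebraMap_apply]

theorem delta_surjective : Function.Surjective (delta A B) := by
  haveI : Subsingleton Ω[ResidueField B⁄A] :=
    KaehlerDifferential.subsingleton_of_surjective A (ResidueField B)
      (algebraMap_residueField_surjective k A B hB)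
  have hex := exact_kerCotangentToTensor_mapBaseChange A B (ResidueField B)
    (residue_surjective (R := B))
  intro y
  obtain ⟨z, rfl⟩ := (hex y).mp (Subsingleton.elim _ _)
  obtain ⟨⟨x, hx⟩, rfl⟩ := Ideal.toCotangent_surjective _ z
  refine ⟨(maximalIdeal B).toCotangent ⟨x, ?_⟩, rfl⟩
  rw [RingHom.mem_ker] at hx
  exact (residue_eq_zero_iff x).mp hx

end surj

section ker

variable (hle : maximalIdeal A ≤ Ideal.comap (IsScalarTower.toAlgHom k A B) (maximalIdeal B))
  (hA : Function.Bijective (algebraMap k (ResidueField A)))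
  (hB : Function.Bijective (algebraMap k (ResidueField B)))

theorem smul_eq_eps_smul (b : B) (v : (maximalIdeal B).Cotangent) :
    b • v = eps k B hB b • v := by
  have h := Ideal.Cotangent.smul_eq_zero_of_mem (sub_eps_mem k B hB b) v
  rw [sub_smul, sub_eq_zero, algebraMap_smul] at h
  exact h

/-- The range of the tangent map as a `B`-submodule. -/
noncomputable def RB : Submodule B (maximalIdeal B).Cotangent where
  carrier := LinearMap.range (Ideal.mapCotangent (maximalIdeal A) (maximalIdeal B)
    (IsScalarTower.toAlgHom k A B) hle)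
  add_mem' := fun ha hb => Submodule.add_mem _ ha hb
  zero_mem' := Submodule.zero_mem _
  smul_mem' := fun b v hv => by
    rw [smul_eq_eps_smul k B hB b v]
    exact Submodule.smul_mem _ _ hv

theorem mem_RB_iff (v : (maximalIdeal B).Cotangent) :
    v ∈ RB k A B hle hB ↔ v ∈ LinearMap.range (Ideal.mapCotangent (maximalIdeal A) (maximalIdeal B)
      (IsScalarTower.toAlgHom k A B) hle) := Iff.rfl

/-- The function underlying the derivation. -/
noncomputable def dfun (b : B) : (maximalIdeal B).Cotangent ⧸ RB k A B hle hB :=
  (RB k A B hle hB).mkQ ((maximalIdeal B).toCotangent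
    ⟨b - algebraMap k B (eps k B hB b), sub_eps_mem k B hB b⟩)

theorem dfun_add (b b' : B) :
    dfun k A B hle hB (b + b') = dfun k A B hle hB b + dfun k A B hle hB b' := by
  unfold dfun
  rw [← map_add, ← map_add]
  congr 2
  apply Subtype.ext
  simp only [map_add, Submodule.coe_add]
  ring

theorem dfun_mul (b b' : B) :
    dfun k A B hle hB (b * b') = b • dfun k A B hle hB b' + b' • dfun k A B hle hB b := by
  unfold dfun
  have key : (⟨b * b' - algebraMap k B (eps k B hB (b * b')), sub_eps_mem k B hB (b * b')⟩ :
      maximalIdeal B) =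
      b • (⟨b' - algebraMap k B (eps k B hB b'), sub_eps_mem k B hB b'⟩ : maximalIdeal B) +
      b' • (⟨b - algebraMap k B (eps k B hB b), sub_eps_mem k B hB b⟩ : maximalIdeal B) -
      (b - algebraMap k B (eps k B hB b)) •
        (⟨b' - algebraMap k B (eps k B hB b'), sub_eps_mem k B hB b'⟩ : maximalIdeal B) := by
    apply Subtype.ext
    simp only [map_mul, Submodule.coe_sub, Submodule.coe_add, Submodule.coe_smul, smul_eq_mul]
    ring
  rw [key, map_sub, map_add, map_smul, map_smul, map_smul,
    Ideal.Cotangent.smul_eq_zero_of_mem (sub_eps_mem k B hB b), sub_zero, map_add, map_smul,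
    map_smul]

include hA in
theorem dfun_algebraMap (a : A) : dfun k A B hle hB (algebraMap A B a) = 0 := by
  unfold dfun
  rw [Submodule.mkQ_apply, Submodule.Quotient.mk_eq_zero, mem_RB_iff]
  obtain ⟨c', hc'⟩ := hA.surjective (residue A a)
  have h1 : a - algebraMap k A c' ∈ maximalIdeal A := by
    rw [← residue_eq_zero_iff, map_sub, ← hc', sub_eq_zero,
      IsScalarTower.algebraMap_apply k A (ResidueField A)]
    rfl
  have h2 : algebraMap A B a - algebraMap k B c' ∈ maximalIdeal B := by
    have := hle h1
    rw [Ideal.mem_comap] at this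
    simpa [IsScalarTower.algebraMap_apply k A B] using this
  have h3 : eps k B hB (algebraMap A B a) = c' := by
    apply hB.injective
    rw [algebraMap_eps]
    have := (residue_eq_zero_iff _).mpr h2
    rw [map_sub, sub_eq_zero] at this
    rw [this, IsScalarTower.algebraMap_apply k B (ResidueField B)]
    rfl
  refine ⟨(maximalIdeal A).toCotangent ⟨a - algebraMap k A c', h1⟩, ?_⟩
  rw [Ideal.mapCotangent_toCotangent]
  congr 1
  apply Subtype.ext
  simp [h3, IsScalarTower.algebraMap_apply k A B]

/-- The derivation `B → (m_B/m_B²)/im(m_A/m_A²)`, `b ↦ [b - ε b]`. -/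
noncomputable def der : Derivation A B ((maximalIdeal B).Cotangent ⧸ RB k A B hle hB) :=
  Derivation.mk'
    { toFun := dfun k A B hle hB
      map_add' := dfun_add k A B hle hB
      map_smul' := fun a b => by
        rw [Algebra.smul_def, dfun_mul, dfun_algebraMap k A B hle hA hB, smul_zero, add_zero,
          algebraMap_smul, RingHom.id_apply] }
    (dfun_mul k A B hle hB)

theorem der_apply (b : B) : der k A B hle hA hB b = dfun k A B hle hB b := rfl

include hA hB in
theorem ker_delta_le (v : (maximalIdeal B).Cotangent) (hv : delta A B v = 0) :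
    v ∈ LinearMap.range (Ideal.mapCotangent (maximalIdeal A) (maximalIdeal B)
      (IsScalarTower.toAlgHom k A B) hle) := by
  obtain ⟨x, rfl⟩ := Ideal.toCotangent_surjective _ v
  rw [delta_toCotangent] at hv
  have h1 : D A B x.1 ∈ (maximalIdeal B) • (⊤ : Submodule B Ω[B⁄A]) := by
    have hv' : ((1 : B ⧸ maximalIdeal B) ⊗ₜ[B] (D A B x.1) :
        (B ⧸ maximalIdeal B) ⊗[B] Ω[B⁄A]) = 0 := hv
    have := congrArg (TensorProduct.quotTensorEquivQuotSMul Ω[B⁄A] (maximalIdeal B)) hv'
    rw [map_zero, TensorProduct.quotTensorEquivQuotSMul_mk_one_tmul,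
      Submodule.Quotient.mk_eq_zero] at this
    exact this
  have h2 : (der k A B hle hA hB).liftKaehlerDifferential (D A B x.1) = 0 := by
    refine Submodule.smul_induction_on h1 ?_ ?_
    · intro b hb ω _
      rw [map_smul]
      obtain ⟨v', hv'⟩ := Submodule.mkQ_surjective _
        ((der k A B hle hA hB).liftKaehlerDifferential ω)
      rw [← hv', ← map_smul, Ideal.Cotangent.smul_eq_zero_of_mem hb, map_zero]
    · intro x y hx hy
      rw [map_add, hx, hy, add_zero]
  rw [Derivation.liftKaehlerDifferential_comp_D, der_apply] at h2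
  unfold dfun at h2
  rw [Submodule.mkQ_apply, Submodule.Quotient.mk_eq_zero, mem_RB_iff] at h2
  convert h2 using 2
  apply Subtype.ext
  simp [eps_eq_zero_of_mem k B hB x.2]

theorem range_le_ker_delta (v : (maximalIdeal B).Cotangent)
    (hv : v ∈ LinearMap.range (Ideal.mapCotangent (maximalIdeal A) (maximalIdeal B)
      (IsScalarTower.toAlgHom k A B) hle)) : delta A B v = 0 := by
  obtain ⟨w, rfl⟩ := hv
  obtain ⟨a, rfl⟩ := Ideal.toCotangent_surjective _ w
  rw [Ideal.mapCotangent_toCotangent, delta_toCotangent]
  have : (IsScalarTower.toAlgHom k A B) a.1 = algebraMap A B a.1 := rfl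
  simp only [this, Derivation.map_algebraMap, tmul_zero]

end ker

end Groth.Agent.Lib.Helper14.CotFibre
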