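import Groth.Agent.Lib.Helper14.CotFibre

/-!
# Dimension count for the fibre of relative differentials at a rational point
-/

set_option autoImplicit false

universe u

open TensorProduct KaehlerDifferential IsLocalRing

namespace Groth.Agent.Lib.Helper14.CotFibre

variable (k : Type u) [Field k] (A B : Type u) [CommRing A] [CommRing B]
  [IsLocalRing A] [IsLocalRing B]
  [Algebra k A] [Algebra k B] [Algebra A B] [IsScalarTower k A B]
  (hle : maximalIdeal A ≤ Ideal.comap (IsScalarTower.toAlgHom k A B) (maximalIdeal B))
  (hA : Function.Bijective (algebraMap k (ResidueField A)))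
  (hB : Function.Bijective (algebraMap k (ResidueField B)))

include hB in
theorem finite_cotangent [IsNoetherianRing B] : Module.Finite k (maximalIdeal B).Cotangent := by
  obtain ⟨s, hs⟩ := (inferInstance : Module.Finite (ResidueField B) (CotangentSpace B)).fg_top
  refine ⟨⟨s, ?_⟩⟩
  rw [eq_top_iff]
  intro v hv0
  clear hv0
  have hv : v ∈ Submodule.span (ResidueField B) (s : Set (CotangentSpace B)) := by
    rw [hs]; trivial
  induction hv using Submodule.span_induction with
  | mem x hx => exact Submodule.subset_span hx
  | zero => exact Submodule.zero_mem _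
  | add x y _ _ hx hy => exact Submodule.add_mem _ hx hy
  | smul a x _ hx =>
    obtain ⟨c, rfl⟩ := hB.surjective a
    have : (algebraMap k (ResidueField B) c) • x = c • x := by
      rw [IsScalarTower.algebraMap_apply k B (ResidueField B), algebraMap_smul, algebraMap_smul]
    rw [this]
    exact Submodule.smul_mem _ _ hx

include hle hA hB in
theorem main [IsNoetherianRing B] :
    Module.finrank (ResidueField B) ((ResidueField B) ⊗[B] Ω[B⁄A]) +
      Module.finrank k ↥(LinearMap.range (Ideal.mapCotangent (maximalIdeal A) (maximalIdeal B)
        (IsScalarTower.toAlgHom k A B) hle)) =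
      Module.finrank k (CotangentSpace B) := by
  haveI := finite_cotangent k B hB
  have hker : LinearMap.ker ((delta A B).restrictScalars k) =
      LinearMap.range (Ideal.mapCotangent (maximalIdeal A) (maximalIdeal B)
        (IsScalarTower.toAlgHom k A B) hle) := by
    ext v
    rw [LinearMap.mem_ker, LinearMap.restrictScalars_apply]
    exact ⟨ker_delta_le k A B hle hA hB v, range_le_ker_delta k A B hle v⟩
  have hrange : LinearMap.range ((delta A B).restrictScalars k) = ⊤ := by
    rw [LinearMap.range_eq_top]
    exact delta_surjective k A B hB
  have h1 := LinearMap.finrank_range_add_finrank_ker ((delta A B).restrictScalars k)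
  rw [hker, hrange, finrank_top] at h1
  have h2 : Module.finrank k (ResidueField B) = 1 := by
    rw [← (LinearEquiv.ofBijective (Algebra.linearMap k (ResidueField B)) hB).finrank_eq,
      Module.finrank_self]
  have h3 := Module.finrank_mul_finrank k (ResidueField B) ((ResidueField B) ⊗[B] Ω[B⁄A])
  rw [h2, one_mul] at h3
  rw [h3]
  exact h1

end Groth.Agent.Lib.Helper14.CotFibre
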