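import Groth.Agent.Lib.Helper14.DepthTwoSections
import Groth.Prelude.Def_FEt
import Mathlib

/-!
# Finite étale covers and depth ≥ 2 (helper14)
-/

set_option autoImplicit false

universe u

open AlgebraicGeometry CategoryTheory Opposite TopologicalSpace CategoryTheory.Limits

namespace Groth.Agent.Lib.Helper14.DepthTwoFEt

open Groth.Agent.Lib.Helper14.DepthTwoSections RingTheory.Sequence

section algebra

variable {S : Type*} [CommRing S]

theorem pair_of_isWeaklyRegular {x y : S} (h : IsWeaklyRegular S [x, y]) :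
    (∀ a, x * a = 0 → a = 0) ∧ (∀ a b, y * a = x * b → ∃ c, a = x * c) := by
  rw [isWeaklyRegular_cons_iff] at h
  obtain ⟨hx, hreg2⟩ := h
  rw [isWeaklyRegular_cons_iff] at hreg2
  have hy := hreg2.1
  refine ⟨?_, ?_⟩
  · intro a ha
    exact hx (by simpa using ha)
  · intro a b hab
    have h0 : (Submodule.Quotient.mk a : QuotSMulTop x S) = 0 := by
      apply hy
      show y • (Submodule.Quotient.mk a : QuotSMulTop x S) = y • 0
      rw [smul_zero, ← Submodule.Quotient.mk_smul, Submodule.Quotient.mk_eq_zero, smul_eq_mul, hab]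
      exact Submodule.smul_mem_pointwise_smul b x ⊤ Submodule.mem_top
    rw [Submodule.Quotient.mk_eq_zero] at h0
    obtain ⟨c, -, hc⟩ := h0
    exact ⟨c, by simpa using hc.symm⟩

theorem isWeaklyRegular_map_of_flat {R : Type*} [CommRing R] (φ : R →+* S) (hφ : φ.Flat)
    {a b : R} (h : IsWeaklyRegular R [a, b]) : IsWeaklyRegular S [φ a, φ b] := by
  algebraize [φ]
  exact h.of_flat (S := S)

end algebra

section sheaf

/-- Hartogs for a flat morphism of affine schemes. -/
theorem bijective_res_preimage_of_flat {X Y : Scheme.{u}} [IsAffine X] [IsAffine Y] (f : Y ⟶ X)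
    [Flat f] (a b : Γ(X, ⊤)) (hab : IsWeaklyRegular Γ(X, ⊤) [a, b]) (U : X.Opens)
    (ha : X.basicOpen a ≤ U) (hb : X.basicOpen b ≤ U) (W : Y.Opens) (hW : W = f ⁻¹ᵁ U) :
    Function.Bijective (res (le_top : W ≤ ⊤)) := by
  subst hW
  have hflat : f.appTop.hom.Flat := HasRingHomProperty.appTop (P := @Flat) f inferInstance
  obtain ⟨hx, hy⟩ := pair_of_isWeaklyRegular (isWeaklyRegular_map_of_flat _ hflat hab)
  refine bijective_res_of_regular _ _ _ hx hy ?_ ?_
  · rw [← Scheme.preimage_basicOpen_top]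
    exact fun p hp => ha hp
  · rw [← Scheme.preimage_basicOpen_top]
    exact fun p hp => hb hp

theorem bijective_appTop_pullback_fst {X Y : Scheme.{u}} [IsAffine X] [IsAffine Y] (f : Y ⟶ X)
    [Flat f] (a b : Γ(X, ⊤)) (hab : IsWeaklyRegular Γ(X, ⊤) [a, b]) (U : X.Opens)
    (ha : X.basicOpen a ≤ U) (hb : X.basicOpen b ≤ U) :
    Function.Bijective (pullback.fst f U.ι).appTop.hom := by
  have h1 : pullback.fst f U.ι = (pullbackRestrictIsoRestrict f U).hom ≫ (f ⁻¹ᵁ U).ι :=
    (pullbackRestrictIsoRestrict_hom_ι f U).symm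
  rw [h1, Scheme.Hom.comp_appTop, CommRingCat.hom_comp, RingHom.coe_comp]
  refine Function.Bijective.comp ?_ ?_
  · have : IsIso ((pullbackRestrictIsoRestrict f U).hom.app ⊤) := inferInstance
    exact (ConcreteCategory.isIso_iff_bijective _).mp this
  · exact bijective_res_preimage_of_flat f a b hab U ha hb _ (Scheme.Opens.ι_image_top _)

/-- morphism to an affine scheme from a map on global sections -/
noncomputable def homOfAppTop {X Y : Scheme.{u}} [IsAffine Y] (ψ : Γ(Y, ⊤) ⟶ Γ(X, ⊤)) : X ⟶ Y :=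
  X.toSpecΓ ≫ Spec.map ψ ≫ Y.isoSpec.inv

theorem homOfAppTop_appTop {X Y : Scheme.{u}} [IsAffine Y] (ψ : Γ(Y, ⊤) ⟶ Γ(X, ⊤)) :
    (homOfAppTop ψ).appTop = ψ := by
  have h3 : Y.isoSpec.inv.appTop = (Scheme.ΓSpecIso Γ(Y, ⊤)).inv := by
    have h4 : Y.isoSpec.inv.appTop ≫ Y.isoSpec.hom.appTop = 𝟙 _ := by
      rw [← Scheme.Hom.comp_appTop, Iso.hom_inv_id]; rfl
    have h5 : Y.isoSpec.hom.appTop = (Scheme.ΓSpecIso Γ(Y, ⊤)).hom := Scheme.toSpecΓ_appTop Y
    rw [h5] at h4
    exact (Iso.eq_comp_inv _).mpr h4 |>.trans (Category.id_comp _)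
  simp only [homOfAppTop, Scheme.Hom.comp_appTop, h3, Scheme.toSpecΓ_appTop, Category.assoc]
  rw [Scheme.ΓSpecIso_naturality, Iso.inv_hom_id_assoc]

end sheaf

section specA

open Groth.Agent.Lib.Helper4

variable (A : Type u) [CommRing A] [IsNoetherianRing A] [IsLocalRing A]

theorem exists_regular_pair_spec (hA : (2 : ℕ∞) ≤ LocCoh.depth A A) :
    ∃ a b : Γ(Spec (CommRingCat.of A), ⊤), IsWeaklyRegular Γ(Spec (CommRingCat.of A), ⊤) [a, b] ∧
      (Spec (CommRingCat.of A)).basicOpen a ≤ FEt.puncturedSpec A ∧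
      (Spec (CommRingCat.of A)).basicOpen b ≤ FEt.puncturedSpec A := by
  have hne : IsLocalRing.maximalIdeal A • (⊤ : Submodule A A) ≠ ⊤ := maximalIdeal_smul_top_ne_top
  obtain ⟨rs, hlen, hmem, hreg⟩ := exists_isWeaklyRegular_of_le_idealDepth
    (IsLocalRing.maximalIdeal A) hne 2 (by exact_mod_cast hA)
  rcases rs with _ | ⟨a, _ | ⟨b, _ | ⟨z, l⟩⟩⟩
  · simp at hlen
  · simp at hlen
  · let e : A ≃+* Γ(Spec (CommRingCat.of A), ⊤) :=
      (Scheme.ΓSpecIso (CommRingCat.of A)).symm.commRingCatIsoToRingEquiv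
    have hD : ∀ c ∈ IsLocalRing.maximalIdeal A,
        (Spec (CommRingCat.of A)).basicOpen (e c) ≤ FEt.puncturedSpec A := by
      intro c hc
      have : e c = (Scheme.ΓSpecIso (CommRingCat.of A)).inv c := rfl
      rw [this, basicOpen_eq_of_affine]
      intro P hP
      show P ∈ ({IsLocalRing.closedPoint A}ᶜ : Set (PrimeSpectrum A))
      intro hmem'
      apply hP
      have := congrArg PrimeSpectrum.asIdeal (Set.mem_singleton_iff.mp hmem')
      rw [IsLocalRing.closedPoint] at this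
      simp only at this
      rw [this]
      exact hc
    exact ⟨e a, e b, isWeaklyRegular_map_of_flat e.toRingHom (RingHom.Flat.of_bijective e.bijective) hreg,
      hD a (hmem a (by simp)), hD b (hmem b (by simp))⟩
  · simp at hlen

variable {A}

theorem isAffine_left (Y : FEt.Cat (Spec (CommRingCat.of A))) : IsAffine Y.left := by
  let f : Y.left ⟶ Spec (CommRingCat.of A) := Y.hom
  haveI : IsFinite f := Y.prop.1
  exact isAffine_of_isAffineHom f

theorem bijective_fst_appTop (hA : (2 : ℕ∞) ≤ LocCoh.depth A A) (Y : FEt.Cat (Spec (CommRingCat.of A))) :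
    Function.Bijective (pullback.fst Y.hom (FEt.puncturedSpec A).ι).appTop.hom := by
  haveI := isAffine_left Y
  let f : Y.left ⟶ Spec (CommRingCat.of A) := Y.hom
  haveI : Etale f := Y.prop.2
  obtain ⟨a, b, hab, ha, hb⟩ := exists_regular_pair_spec A hA
  exact bijective_appTop_pullback_fst f a b hab _ ha hb

end specA

end Groth.Agent.Lib.Helper14.DepthTwoFEt
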