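import Groth.Agent.Lib.Helper14.DepthTwoFEt
import Groth.Agent.Lib.Helper4.FlatFibre
import Groth.Agent.S0063
import Mathlib

/-!
# Global version of the depth ≥ 2 full faithfulness (helper14)
-/

set_option autoImplicit false

universe u

open AlgebraicGeometry CategoryTheory Opposite TopologicalSpace CategoryTheory.Limits

namespace Groth.Agent.Lib.Helper14.DepthTwoGlobal

open Groth.Agent.Lib.Helper14.DepthTwoSections Groth.Agent.Lib.Helper14.DepthTwoFEt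
  RingTheory.Sequence

section extension

/-- extension of morphisms to affine targets across an open with the same global sections -/
theorem exists_extension_to_affine {S S₀ Z : Scheme.{u}} [IsAffine Z] (j : S₀ ⟶ S)
    (hbij : Function.Bijective j.appTop.hom) (k : S₀ ⟶ Z) :
    ∃ k' : S ⟶ Z, j ≫ k' = k := by
  let e := RingEquiv.ofBijective j.appTop.hom hbij
  let ψ : Γ(Z, ⊤) ⟶ Γ(S, ⊤) := CommRingCat.ofHom (e.symm.toRingHom.comp k.appTop.hom)
  refine ⟨homOfAppTop ψ, ?_⟩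
  apply ext_of_isAffine
  rw [Scheme.Hom.comp_appTop, homOfAppTop_appTop]
  ext x
  exact e.apply_symm_apply _

theorem extension_to_affine_unique {S S₀ Z : Scheme.{u}} [IsAffine Z] (j : S₀ ⟶ S)
    (hinj : Function.Injective j.appTop.hom) (a b : S ⟶ Z) (h : j ≫ a = j ≫ b) :
    a = b := by
  apply ext_of_isAffine
  have h2 := congrArg Scheme.Hom.appTop h
  rw [Scheme.Hom.comp_appTop, Scheme.Hom.comp_appTop] at h2
  ext x
  apply hinj
  exact congrArg (fun t => t.hom x) h2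

end extension

section uniq

/-- Two morphisms into an étale separated scheme over a base which agree on a dense subset
coincide. -/
theorem eq_of_comp_eq_of_denseRange {X Y' P P₀ : Scheme.{u}} (π' : Y' ⟶ X) [IsSeparated π']
    [Etale π'] (a b : P ⟶ Y') (hab : a ≫ π' = b ≫ π') (j : P₀ ⟶ P) (hj : DenseRange j.base)
    (h : j ≫ a = j ≫ b) : a = b := by
  let X' : Over X := Over.mk π'
  let Y₁ : Over X := Over.mk (a ≫ π')
  let a' : Y₁ ⟶ X' := Over.homMk a rfl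
  let b' : Y₁ ⟶ X' := Over.homMk b hab.symm
  have hsep : IsSeparated X'.hom := ‹_›
  have hdiag : IsOpenImmersion (pullback.diagonal X'.hom) :=
    inferInstanceAs (IsOpenImmersion (pullback.diagonal π'))
  have hcl : IsClosedImmersion (equalizer.ι a' b').left := inferInstance
  have hop : IsOpenImmersion (equalizer.ι a' b').left :=
    Groth.Agent.S0063.isOpenImmersion_equalizer_ι_left a' b'
  let P' : Over X := Over.mk (j ≫ a ≫ π')
  let p' : P' ⟶ Y₁ := Over.homMk j rfl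
  have hp : p' ≫ a' = p' ≫ b' := by ext1; exact h
  have hsub : Set.range j.base ⊆ Set.range (equalizer.ι a' b').left.base := by
    rintro _ ⟨z, rfl⟩
    refine ⟨(equalizer.lift p' hp).left.base z, ?_⟩
    rw [← Scheme.Hom.comp_apply, ← Over.comp_left, equalizer.lift_ι]
    rfl
  have huniv : Set.range (equalizer.ι a' b').left.base = Set.univ := by
    have hclosed : IsClosed (Set.range (equalizer.ι a' b').left.base) :=
      (Scheme.Hom.isClosedEmbedding _).isClosed_range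
    rw [← hclosed.closure_eq]
    exact (hj.mono hsub).closure_eq
  have hsurj : Surjective (equalizer.ι a' b').left := ⟨Set.range_eq_univ.mp huniv⟩
  have hiso : IsIso (equalizer.ι a' b').left :=
    (isIso_iff_isOpenImmersion_and_surjective _).mpr ⟨hop, hsurj⟩
  rw [← cancel_epi (equalizer.ι a' b').left]
  exact congr($(equalizer.condition a' b').left)

end uniq

section hartogs

variable {Y : Scheme.{u}} {T : Y.Opens} (hT : IsAffineOpen T)

include hT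

lemma exists_res_eq' (g : Γ(Y, T)) (t : Γ(Y, Y.basicOpen g)) :
    ∃ (n : ℕ) (a : Γ(Y, T)), t * res (Y.basicOpen_le g) g ^ n = res (Y.basicOpen_le g) a := by
  haveI := hT.isLocalization_basicOpen g
  obtain ⟨n, a, h⟩ := IsLocalization.Away.surj (S := Γ(Y, Y.basicOpen g)) g t
  exact ⟨n, a, h⟩

lemma exists_pow_mul_eq' (g : Γ(Y, T)) (a b : Γ(Y, T))
    (h : res (Y.basicOpen_le g) a = res (Y.basicOpen_le g) b) : ∃ n : ℕ, g ^ n * a = g ^ n * b := by
  haveI := hT.isLocalization_basicOpen g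
  exact IsLocalization.Away.exists_of_eq (S := Γ(Y, Y.basicOpen g)) g h

lemma isUnit_res' (g : Γ(Y, T)) : IsUnit (res (Y.basicOpen_le g) g) := by
  haveI := hT.isLocalization_basicOpen g
  exact IsLocalization.Away.algebraMap_isUnit (S := Γ(Y, Y.basicOpen g)) g

theorem res_basicOpen_injective' (U : Y.Opens) (hUT : U ≤ T) (x : Γ(Y, T))
    (hx : ∀ a, x * a = 0 → a = 0)
    (hxU : Y.basicOpen x ≤ U) (t : Γ(Y, U)) (ht : res hxU t = 0) : t = 0 := by
  let ι := {g : Γ(Y, T) // Y.basicOpen g ≤ U}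
  have hcover : U ≤ ⨆ i : ι, Y.basicOpen i.1 := by
    intro p hp
    obtain ⟨g, hg1, hg2⟩ := hT.exists_basicOpen_le (V := U) ⟨p, hp⟩ (hUT hp)
    exact Opens.mem_iSup.mpr ⟨⟨g, hg1⟩, hg2⟩
  refine TopCat.Sheaf.eq_of_locally_eq' Y.sheaf (fun i : ι => Y.basicOpen i.1) U
    (fun i => homOfLE i.2) hcover t 0 ?_
  rintro ⟨g, hg⟩
  show res hg t = res hg 0
  rw [map_zero]
  obtain ⟨n, e, he⟩ := exists_res_eq' hT g (res hg t)
  have hW1 : Y.basicOpen (g * x) ≤ Y.basicOpen g := by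
    rw [Scheme.basicOpen_mul]; exact inf_le_left
  have hW2 : Y.basicOpen (g * x) ≤ Y.basicOpen x := by
    rw [Scheme.basicOpen_mul]; exact inf_le_right
  have h1 : res (Y.basicOpen_le (g * x)) e = 0 := by
    have := congrArg (res hW1) he
    rw [map_mul, map_pow, res_res, res_res, res_res] at this
    rw [← this]
    have h2 : res (hW1.trans hg) t = res hW2 (res hxU t) := by rw [res_res]
    rw [h2, ht, map_zero, zero_mul]
  obtain ⟨N, hN⟩ := exists_pow_mul_eq' hT (g * x) e 0 (by rw [h1, map_zero])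
  rw [mul_zero, mul_pow, mul_comm (g ^ N), mul_assoc] at hN
  have h3 : g ^ N * e = 0 := eq_zero_of_pow_mul x hx N _ hN
  have h4 : res (Y.basicOpen_le g) g ^ N * res (Y.basicOpen_le g) e = 0 := by
    rw [← map_pow, ← map_mul, h3, map_zero]
  have h5 : res (Y.basicOpen_le g) e = 0 :=
    ((isUnit_res' hT g).pow N).mul_right_eq_zero.mp h4
  rw [h5] at he
  exact ((isUnit_res' hT g).pow n).mul_left_eq_zero.mp he

/-- Hartogs-type extension on an affine open. -/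
theorem bijective_res_of_regular' (U : Y.Opens) (hUT : U ≤ T) (x y : Γ(Y, T))
    (hx : ∀ a, x * a = 0 → a = 0)
    (hy : ∀ a b, y * a = x * b → ∃ c, a = x * c)
    (hxU : Y.basicOpen x ≤ U) (hyU : Y.basicOpen y ≤ U) :
    Function.Bijective (res hUT) := by
  constructor
  · rw [injective_iff_map_eq_zero]
    intro a ha
    have h1 : res (Y.basicOpen_le x) a = 0 := by
      have : res (Y.basicOpen_le x) a = res hxU (res hUT a) := by rw [res_res]
      rw [this, ha, map_zero]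
    obtain ⟨N, hN⟩ := exists_pow_mul_eq' hT x a 0 (by rw [h1, map_zero])
    rw [mul_zero] at hN
    exact eq_zero_of_pow_mul x hx N a hN
  · intro s
    obtain ⟨n, a, ha⟩ := exists_res_eq' hT x (res hxU s)
    obtain ⟨m, b, hb⟩ := exists_res_eq' hT y (res hyU s)
    have hW1 : Y.basicOpen (x * y) ≤ Y.basicOpen x := by
      rw [Scheme.basicOpen_mul]; exact inf_le_left
    have hW2 : Y.basicOpen (x * y) ≤ Y.basicOpen y := by
      rw [Scheme.basicOpen_mul]; exact inf_le_right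
    have ha' := congrArg (res hW1) ha
    have hb' := congrArg (res hW2) hb
    rw [map_mul, map_pow, res_res, res_res, res_res] at ha' hb'
    have h1 : res (Y.basicOpen_le (x * y)) (a * y ^ m) =
        res (Y.basicOpen_le (x * y)) (b * x ^ n) := by
      rw [map_mul, map_mul, map_pow, map_pow, ← ha', ← hb']
      ring
    obtain ⟨N, hN⟩ := exists_pow_mul_eq' hT (x * y) _ _ h1
    have h2 : y ^ (N + m) * a = x ^ n * (y ^ N * b) := by
      have h3 : x ^ N * (y ^ (N + m) * a - x ^ n * (y ^ N * b)) = 0 := by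
        rw [pow_add]
        linear_combination hN
      have := eq_zero_of_pow_mul x hx N _ h3
      linear_combination this
    obtain ⟨c, hc⟩ := exists_eq_pow_mul_of_pow_mul x y hx hy n (N + m) a _ h2
    refine ⟨c, ?_⟩
    have h4 : res hxU (s - res hUT c) = 0 := by
      rw [map_sub, res_res, sub_eq_zero]
      have h5 : res hxU s * res (Y.basicOpen_le x) x ^ n =
          res (Y.basicOpen_le x) c * res (Y.basicOpen_le x) x ^ n := by
        rw [ha, hc, map_mul, map_pow, mul_comm]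
      exact ((isUnit_res' hT x).pow n).mul_left_injective h5
    have := res_basicOpen_injective' hT U hUT x hx hxU _ h4
    exact (sub_eq_zero.mp this).symm

end hartogs

section regularPair

open Groth.Agent.Lib.Helper4 Groth.Agent.Lib.Helper28

lemma isWeaklyRegular_one_one (R : Type*) [CommRing R] : IsWeaklyRegular R [(1 : R), 1] := by
  rw [isWeaklyRegular_cons_iff]
  refine ⟨fun a b h => by simpa using h, ?_⟩
  rw [isWeaklyRegular_cons_iff]
  exact ⟨fun a b h => by simpa using h, IsWeaklyRegular.nil _ _⟩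

variable {X : Scheme.{u}} [IsLocallyNoetherian X] (U : X.Opens)

theorem exists_regular_pair_affineOpen
    (hdepth : ∀ x : X, x ∉ U →
      (2 : ℕ∞) ≤ LocCoh.depth (X.presheaf.stalk x) (X.presheaf.stalk x))
    {W : X.Opens} (hW : IsAffineOpen W) :
    ∃ a b : Γ(X, W), IsWeaklyRegular Γ(X, W) [a, b] ∧ X.basicOpen a ≤ U ∧ X.basicOpen b ≤ U := by
  haveI : IsNoetherianRing Γ(X, W) := IsLocallyNoetherian.component_noetherian ⟨W, hW⟩
  let Z : Set (PrimeSpectrum Γ(X, W)) := {y | hW.fromSpec.base y ∉ U}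
  have hZ : IsClosed Z := by
    have : Z = (hW.fromSpec.base ⁻¹' (U : Set X))ᶜ := rfl
    rw [this]
    exact (U.isOpen.preimage hW.fromSpec.continuous).isClosed_compl
  set I := PrimeSpectrum.vanishingIdeal Z with hIdef
  have hzl : PrimeSpectrum.zeroLocus (I : Set Γ(X, W)) = Z := by
    rw [PrimeSpectrum.zeroLocus_vanishingIdeal_eq_closure, hZ.closure_eq]
  have hmemW : ∀ y : PrimeSpectrum Γ(X, W), hW.fromSpec.base y ∈ W := by
    intro y
    have : hW.fromSpec.base y ∈ hW.fromSpec.opensRange := ⟨y, rfl⟩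
    rwa [hW.opensRange_fromSpec] at this
  have hbasic : ∀ a ∈ I, X.basicOpen a ≤ U := by
    intro a ha x hx
    by_contra hxU
    have hxW : x ∈ W := X.basicOpen_le a hx
    set y := hW.primeIdealOf ⟨x, hxW⟩ with hy'
    have hy : hW.fromSpec.base y = x := hW.fromSpec_primeIdealOf ⟨x, hxW⟩
    have hyZ : y ∈ Z := by
      show hW.fromSpec.base y ∉ U
      rw [hy]; exact hxU
    have hay : a ∈ y.asIdeal := (PrimeSpectrum.mem_vanishingIdeal _ _).mp ha y hyZ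
    have : y ∈ PrimeSpectrum.basicOpen a := by
      rw [← hW.fromSpec_preimage_basicOpen]
      show hW.fromSpec.base y ∈ X.basicOpen a
      rw [hy]; exact hx
    exact this hay
  by_cases hI : I • (⊤ : Submodule Γ(X, W) Γ(X, W)) = ⊤
  · have h1 : (1 : Γ(X, W)) ∈ I := by
      have : I = ⊤ := by simpa using hI
      rw [this]; trivial
    exact ⟨1, 1, isWeaklyRegular_one_one _, hbasic 1 h1, hbasic 1 h1⟩
  · have h2 : ((2 : ℕ) : ℕ∞) ≤ LocCoh.idealDepth I Γ(X, W) := by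
      refine le_idealDepth_of_forall_localization I 2 ?_
      intro p _ hIp _
      let y : PrimeSpectrum Γ(X, W) := ⟨p, inferInstance⟩
      have hyZ : y ∈ Z := by
        rw [← hzl]
        exact hIp
      letI := TopCat.Presheaf.algebra_section_stalk X.presheaf ⟨hW.fromSpec.base y, hmemW y⟩
      haveI hloc : IsLocalization p.primeCompl (X.presheaf.stalk (hW.fromSpec.base y)) :=
        hW.isLocalization_stalk' y (hmemW y)
      let e : Localization.AtPrime p ≃+* X.presheaf.stalk (hW.fromSpec.base y) :=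
        (IsLocalization.algEquiv p.primeCompl (Localization.AtPrime p)
          (X.presheaf.stalk (hW.fromSpec.base y))).toRingEquiv
      have h3 := hdepth _ hyZ
      rw [← Groth.Agent.Lib.Helper4.FlatFibre.depth_eq_of_ringEquiv e] at h3
      have e' : LocalizedModule p.primeCompl Γ(X, W) ≃ₗ[Localization.AtPrime p]
          Localization.AtPrime p :=
        LinearEquiv.extendScalarsOfIsLocalization p.primeCompl (Localization.AtPrime p)
          (IsLocalizedModule.iso p.primeCompl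
            (Algebra.linearMap Γ(X, W) (Localization.AtPrime p)))
      unfold LocCoh.depth at h3 ⊢
      rw [idealDepth_congr _ e']
      exact_mod_cast h3
    obtain ⟨rs, hlen, hmem, hreg⟩ := exists_isWeaklyRegular_of_le_idealDepth I hI 2 h2
    rcases rs with _ | ⟨a, _ | ⟨b, _ | ⟨z, l⟩⟩⟩
    · simp at hlen
    · simp at hlen
    · exact ⟨a, b, hreg, hbasic a (hmem a (by simp)), hbasic b (hmem b (by simp))⟩
    · simp at hlen

end regularPair

section localExt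

lemma bijective_res_congr {Y : Scheme.{u}} {A A' B B' : Y.Opens} (hA : A = A') (hB : B = B')
    (h : A ≤ B) (h' : A' ≤ B') (hb : Function.Bijective (res h)) : Function.Bijective (res h') := by
  subst hA hB
  exact hb

variable {X Y Y' : Scheme.{u}} [IsLocallyNoetherian X] (π : Y ⟶ X) (π' : Y' ⟶ X)
  [IsFinite π] [Etale π] [IsFinite π'] (U : X.Opens)
  (hdepth : ∀ x : X, x ∉ U →
    (2 : ℕ∞) ≤ LocCoh.depth (X.presheaf.stalk x) (X.presheaf.stalk x))
  (h : ((π ⁻¹ᵁ U : Y.Opens) : Scheme.{u}) ⟶ Y') (hh : h ≫ π' = (π ⁻¹ᵁ U).ι ≫ π)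

include hdepth hh

theorem exists_local_extension (W : X.Opens) (hW : IsAffineOpen W) :
    ∃ φW : ((π ⁻¹ᵁ W : Y.Opens) : Scheme.{u}) ⟶ Y', φW ≫ π' = (π ⁻¹ᵁ W).ι ≫ π ∧
      ∀ (Q : Scheme.{u}) (q₁ : Q ⟶ ((π ⁻¹ᵁ W : Y.Opens) : Scheme.{u}))
        (q₂ : Q ⟶ ((π ⁻¹ᵁ U : Y.Opens) : Scheme.{u})),
        q₁ ≫ (π ⁻¹ᵁ W).ι = q₂ ≫ (π ⁻¹ᵁ U).ι → q₁ ≫ φW = q₂ ≫ h := by
  have hT : IsAffineOpen (π ⁻¹ᵁ W) := hW.preimage π
  have hT' : IsAffineOpen (π' ⁻¹ᵁ W) := hW.preimage π'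
  haveI : IsAffine ((π ⁻¹ᵁ W : Y.Opens) : Scheme.{u}) := hT
  haveI : IsAffine ((π' ⁻¹ᵁ W : Y'.Opens) : Scheme.{u}) := hT'
  haveI : IsAffine (W : Scheme.{u}) := hW
  obtain ⟨a, b, hab, ha, hb⟩ := exists_regular_pair_affineOpen U hdepth hW
  have hfl : (π.app W).hom.Flat := by
    have := HasRingHomProperty.appLE (P := @Flat) π inferInstance ⟨W, hW⟩ ⟨π ⁻¹ᵁ W, hT⟩ le_rfl
    rwa [← Scheme.Hom.app_eq_appLE] at this
  obtain ⟨hx, hy⟩ := pair_of_isWeaklyRegular (isWeaklyRegular_map_of_flat _ hfl hab)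
  have hxU : Y.basicOpen (π.app W a) ≤ π ⁻¹ᵁ W ⊓ π ⁻¹ᵁ U := by
    rw [← Scheme.preimage_basicOpen]
    exact le_inf (fun p hp => X.basicOpen_le a hp) (fun p hp => ha hp)
  have hyU : Y.basicOpen (π.app W b) ≤ π ⁻¹ᵁ W ⊓ π ⁻¹ᵁ U := by
    rw [← Scheme.preimage_basicOpen]
    exact le_inf (fun p hp => X.basicOpen_le b hp) (fun p hp => hb hp)
  have hbij0 := bijective_res_of_regular' hT (π ⁻¹ᵁ W ⊓ π ⁻¹ᵁ U) inf_le_left _ _ hx hy hxU hyU
  let j : ((π ⁻¹ᵁ W ⊓ π ⁻¹ᵁ U : Y.Opens) : Scheme.{u}) ⟶ ((π ⁻¹ᵁ W : Y.Opens) : Scheme.{u}) := Y.homOfLE inf_le_left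
  let jV : ((π ⁻¹ᵁ W ⊓ π ⁻¹ᵁ U : Y.Opens) : Scheme.{u}) ⟶ ((π ⁻¹ᵁ U : Y.Opens) : Scheme.{u}) := Y.homOfLE inf_le_right
  have hbij : Function.Bijective j.appTop.hom := by
    have : j.appTop = Y.presheaf.map (homOfLE <| Y.ι_image_homOfLE_le_ι_image inf_le_left ⊤).op :=
      Scheme.homOfLE_appTop _
    rw [this]
    exact bijective_res_congr (Scheme.Opens.ι_image_top _).symm (Scheme.Opens.ι_image_top _).symm
      _ _ hbij0
  -- the map `T ⊓ V → T'`
  have hrange : Set.range (jV ≫ h).base ⊆ Set.range (π' ⁻¹ᵁ W).ι.base := by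
    rintro _ ⟨z, rfl⟩
    rw [Scheme.Opens.range_ι]
    show (jV ≫ h).base z ∈ π' ⁻¹ᵁ W
    show π'.base ((jV ≫ h).base z) ∈ W
    have h1 : π'.base ((jV ≫ h).base z) = ((jV ≫ h) ≫ π').base z := by
      simp only [Scheme.Hom.comp_apply]
    rw [h1, Category.assoc, hh, ← Category.assoc, Scheme.homOfLE_ι]
    exact z.2.1
  let kW : ((π ⁻¹ᵁ W ⊓ π ⁻¹ᵁ U : Y.Opens) : Scheme.{u}) ⟶ ((π' ⁻¹ᵁ W : Y'.Opens) : Scheme.{u}) :=
    IsOpenImmersion.lift (π' ⁻¹ᵁ W).ι (jV ≫ h) hrange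
  have hkW : kW ≫ (π' ⁻¹ᵁ W).ι = jV ≫ h := IsOpenImmersion.lift_fac _ _ _
  obtain ⟨φb, hφb⟩ := exists_extension_to_affine j hbij kW
  refine ⟨φb ≫ (π' ⁻¹ᵁ W).ι, ?_, ?_⟩
  · -- compatibility with the structure maps
    have h1 : φb ≫ (π' ∣_ W) = (π ∣_ W) := by
      apply extension_to_affine_unique j hbij.1
      rw [← cancel_mono W.ι]
      simp only [Category.assoc]
      rw [morphismRestrict_ι, morphismRestrict_ι, ← Category.assoc, hφb, ← Category.assoc, hkW,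
        Category.assoc, hh, ← Category.assoc, Scheme.homOfLE_ι, ← Category.assoc,
        Scheme.homOfLE_ι]
    rw [Category.assoc, ← morphismRestrict_ι, ← Category.assoc, h1, morphismRestrict_ι]
  · intro Q q₁ q₂ hq
    have hr : Set.range (q₁ ≫ (π ⁻¹ᵁ W).ι).base ⊆ Set.range (π ⁻¹ᵁ W ⊓ π ⁻¹ᵁ U).ι.base := by
      rintro _ ⟨z, rfl⟩
      rw [Scheme.Opens.range_ι]
      refine ⟨?_, ?_⟩
      · rw [Scheme.Hom.comp_apply]
        exact (q₁.base z).2
      · rw [hq, Scheme.Hom.comp_apply]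
        exact (q₂.base z).2
    let l : Q ⟶ ((π ⁻¹ᵁ W ⊓ π ⁻¹ᵁ U : Y.Opens) : Scheme.{u}) := IsOpenImmersion.lift (π ⁻¹ᵁ W ⊓ π ⁻¹ᵁ U).ι (q₁ ≫ (π ⁻¹ᵁ W).ι) hr
    have hl : l ≫ (π ⁻¹ᵁ W ⊓ π ⁻¹ᵁ U).ι = q₁ ≫ (π ⁻¹ᵁ W).ι := IsOpenImmersion.lift_fac _ _ _
    have hl1 : l ≫ j = q₁ := by
      rw [← cancel_mono (π ⁻¹ᵁ W).ι, Category.assoc, Scheme.homOfLE_ι, hl]
    have hl2 : l ≫ jV = q₂ := by
      rw [← cancel_mono (π ⁻¹ᵁ U).ι, Category.assoc, Scheme.homOfLE_ι, hl, hq]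
    rw [← hl1, ← hl2, Category.assoc, Category.assoc, ← Category.assoc j, hφb, hkW]

theorem exists_global_extension [Etale π'] (hU : Dense (U : Set X)) :
    ∃ φ : Y ⟶ Y', (π ⁻¹ᵁ U).ι ≫ φ = h ∧ φ ≫ π' = π := by
  choose φW hφW1 hφW2 using fun W : X.affineOpens =>
    exists_local_extension π π' U hdepth h hh W.1 W.2
  let 𝒰 : Y.OpenCover := Y.openCoverOfIsOpenCover (fun W : X.affineOpens => π ⁻¹ᵁ W.1)
    (.comap (iSup_affineOpens_eq_top X) π.base.hom)
  have hcompat : ∀ W W' : X.affineOpens,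
      pullback.fst (𝒰.f W) (𝒰.f W') ≫ φW W = pullback.snd (𝒰.f W) (𝒰.f W') ≫ φW W' := by
    intro W W'
    let P₀ : (pullback (𝒰.f W) (𝒰.f W')).Opens :=
      (pullback.fst (𝒰.f W) (𝒰.f W') ≫ (π ⁻¹ᵁ W.1).ι ≫ π) ⁻¹ᵁ U
    refine eq_of_comp_eq_of_denseRange π' _ _ ?_ P₀.ι ?_ ?_
    · calc (pullback.fst (𝒰.f W) (𝒰.f W') ≫ φW W) ≫ π'
          = pullback.fst (𝒰.f W) (𝒰.f W') ≫ (φW W ≫ π') := Category.assoc _ _ _
        _ = pullback.fst (𝒰.f W) (𝒰.f W') ≫ ((π ⁻¹ᵁ W.1).ι ≫ π) :=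
            congrArg (fun t => pullback.fst (𝒰.f W) (𝒰.f W') ≫ t) (hφW1 W)
        _ = (pullback.fst (𝒰.f W) (𝒰.f W') ≫ 𝒰.f W) ≫ π := (Category.assoc _ _ _).symm
        _ = (pullback.snd (𝒰.f W) (𝒰.f W') ≫ 𝒰.f W') ≫ π := by rw [pullback.condition]
        _ = pullback.snd (𝒰.f W) (𝒰.f W') ≫ ((π ⁻¹ᵁ W'.1).ι ≫ π) := Category.assoc _ _ _
        _ = pullback.snd (𝒰.f W) (𝒰.f W') ≫ (φW W' ≫ π') :=
            congrArg (fun t => pullback.snd (𝒰.f W) (𝒰.f W') ≫ t) (hφW1 W').symm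
        _ = (pullback.snd (𝒰.f W) (𝒰.f W') ≫ φW W') ≫ π' := (Category.assoc _ _ _).symm
    · rw [DenseRange, Scheme.Opens.range_ι]
      haveI : IsOpenImmersion (pullback.fst (𝒰.f W) (𝒰.f W')) := inferInstance
      haveI : Etale (pullback.fst (𝒰.f W) (𝒰.f W')) := inferInstance
      haveI : Etale ((π ⁻¹ᵁ W.1).ι) := inferInstance
      haveI : Etale ((π ⁻¹ᵁ W.1).ι ≫ π) := inferInstance
      haveI : Etale (pullback.fst (𝒰.f W) (𝒰.f W') ≫ (π ⁻¹ᵁ W.1).ι ≫ π) :=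
        MorphismProperty.comp_mem (W := @Etale) _ _ ‹Etale (pullback.fst (𝒰.f W) (𝒰.f W'))›
          ‹Etale ((π ⁻¹ᵁ W.1).ι ≫ π)›
      exact hU.preimage (Scheme.Hom.isOpenMap _)
    · have hr : Set.range (P₀.ι ≫ pullback.fst (𝒰.f W) (𝒰.f W') ≫ (π ⁻¹ᵁ W.1).ι).base ⊆
          Set.range (π ⁻¹ᵁ U).ι.base := by
        rintro _ ⟨z, rfl⟩
        rw [Scheme.Opens.range_ι]
        exact z.2
      let q₂ : (P₀ : Scheme.{u}) ⟶ ((π ⁻¹ᵁ U : Y.Opens) : Scheme.{u}) :=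
        IsOpenImmersion.lift (π ⁻¹ᵁ U).ι
          (P₀.ι ≫ pullback.fst (𝒰.f W) (𝒰.f W') ≫ (π ⁻¹ᵁ W.1).ι) hr
      have hq₂ : q₂ ≫ (π ⁻¹ᵁ U).ι = P₀.ι ≫ pullback.fst (𝒰.f W) (𝒰.f W') ≫ (π ⁻¹ᵁ W.1).ι :=
        IsOpenImmersion.lift_fac _ _ _
      have e1 := hφW2 W _ (P₀.ι ≫ pullback.fst (𝒰.f W) (𝒰.f W')) q₂
        ((Category.assoc _ _ _).trans hq₂.symm)
      have e2 := hφW2 W' _ (P₀.ι ≫ pullback.snd (𝒰.f W) (𝒰.f W')) q₂
        (((Category.assoc _ _ _).trans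
          (congrArg (fun t => P₀.ι ≫ t) (pullback.condition (f := 𝒰.f W) (g := 𝒰.f W')).symm)).trans
          hq₂.symm)
      exact ((Category.assoc _ _ _).symm.trans (e1.trans e2.symm)).trans (Category.assoc _ _ _)
  let φ := 𝒰.glueMorphisms φW hcompat
  have hφ : ∀ W, 𝒰.f W ≫ φ = φW W := 𝒰.ι_glueMorphisms _ _
  refine ⟨φ, ?_, ?_⟩
  · apply Scheme.Cover.hom_ext (𝒰.pullback₁ (π ⁻¹ᵁ U).ι)
    intro W
    show pullback.fst (π ⁻¹ᵁ U).ι (𝒰.f W) ≫ (π ⁻¹ᵁ U).ι ≫ φ =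
      pullback.fst (π ⁻¹ᵁ U).ι (𝒰.f W) ≫ h
    have e1 := hφW2 W _ (pullback.snd (π ⁻¹ᵁ U).ι (𝒰.f W)) (pullback.fst (π ⁻¹ᵁ U).ι (𝒰.f W))
      (pullback.condition (f := (π ⁻¹ᵁ U).ι) (g := 𝒰.f W)).symm
    calc pullback.fst (π ⁻¹ᵁ U).ι (𝒰.f W) ≫ (π ⁻¹ᵁ U).ι ≫ φ
        = (pullback.fst (π ⁻¹ᵁ U).ι (𝒰.f W) ≫ (π ⁻¹ᵁ U).ι) ≫ φ := (Category.assoc _ _ _).symm
      _ = (pullback.snd (π ⁻¹ᵁ U).ι (𝒰.f W) ≫ 𝒰.f W) ≫ φ := by rw [pullback.condition]
      _ = pullback.snd (π ⁻¹ᵁ U).ι (𝒰.f W) ≫ (𝒰.f W ≫ φ) := Category.assoc _ _ _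
      _ = pullback.snd (π ⁻¹ᵁ U).ι (𝒰.f W) ≫ φW W :=
          congrArg (fun t => pullback.snd (π ⁻¹ᵁ U).ι (𝒰.f W) ≫ t) (hφ W)
      _ = pullback.fst (π ⁻¹ᵁ U).ι (𝒰.f W) ≫ h := e1
  · apply 𝒰.hom_ext
    intro W
    exact ((Category.assoc _ _ _).symm.trans (congrArg (fun t => t ≫ π') (hφ W))).trans (hφW1 W)

end localExt

end Groth.Agent.Lib.Helper14.DepthTwoGlobal
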