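import Groth.Agent.Lib.Helper28.DepthLoc
import Mathlib

/-!
# Sections over the complement of a "depth ≥ 2" closed subset of an affine scheme (helper14)
-/

set_option autoImplicit false

universe u

open AlgebraicGeometry CategoryTheory Opposite TopologicalSpace

namespace Groth.Agent.Lib.Helper14.DepthTwoSections

section algebra

variable {R : Type*} [CommRing R]

theorem exists_eq_pow_mul_of_mul (x y : R) (hx : ∀ a, x * a = 0 → a = 0)
    (hy : ∀ a b, y * a = x * b → ∃ c, a = x * c) :
    ∀ (n : ℕ) (a b : R), y * a = x ^ n * b → ∃ c, a = x ^ n * c := by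
  intro n
  induction n with
  | zero => intro a b _; exact ⟨a, by simp⟩
  | succ n ih =>
    intro a b h
    obtain ⟨a', rfl⟩ := hy a (x ^ n * b) (by rw [h]; ring)
    have h2 : y * a' = x ^ n * b := by
      have h3 : x * (y * a' - x ^ n * b) = 0 := by linear_combination h
      have := hx _ h3
      linear_combination this
    obtain ⟨c, rfl⟩ := ih a' b h2
    exact ⟨c, by ring⟩

theorem exists_eq_pow_mul_of_pow_mul (x y : R) (hx : ∀ a, x * a = 0 → a = 0)
    (hy : ∀ a b, y * a = x * b → ∃ c, a = x * c) (n : ℕ) :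
    ∀ (N : ℕ) (a b : R), y ^ N * a = x ^ n * b → ∃ c, a = x ^ n * c := by
  intro N
  induction N with
  | zero => intro a b h; exact ⟨b, by simpa using h⟩
  | succ N ih =>
    intro a b h
    obtain ⟨c, hc⟩ := exists_eq_pow_mul_of_mul x y hx hy n (y ^ N * a) b (by rw [← h]; ring)
    exact ih a c hc

theorem eq_zero_of_pow_mul (x : R) (hx : ∀ a, x * a = 0 → a = 0) :
    ∀ (n : ℕ) (a : R), x ^ n * a = 0 → a = 0 := by
  intro n
  induction n with
  | zero => intro a h; simpa using h
  | succ n ih =>
    intro a h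
    exact ih a (hx _ (by rw [← h]; ring))

end algebra

section sheaf

variable {X : Scheme.{u}}

/-- restriction maps of the structure sheaf as ring homs -/
noncomputable abbrev res {U V : X.Opens} (h : U ≤ V) : Γ(X, V) →+* Γ(X, U) :=
  (X.presheaf.map (homOfLE h).op).hom

lemma res_res {U V W : X.Opens} (h : U ≤ V) (h' : V ≤ W) (s : Γ(X, W)) :
    res h (res h' s) = res (h.trans h') s := by
  simp only [res]
  rw [← CommRingCat.comp_apply, ← Functor.map_comp]
  rfl

variable [IsAffine X]

lemma algebraMap_basicOpen (g : Γ(X, ⊤)) :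
    algebraMap Γ(X, ⊤) Γ(X, X.basicOpen g) = res (X.basicOpen_le g) := rfl

/-- Every section over `D(g)` is a fraction. -/
lemma exists_res_eq (g : Γ(X, ⊤)) (t : Γ(X, X.basicOpen g)) :
    ∃ (n : ℕ) (a : Γ(X, ⊤)), t * res (X.basicOpen_le g) g ^ n = res (X.basicOpen_le g) a := by
  obtain ⟨n, a, h⟩ := IsLocalization.Away.surj (S := Γ(X, X.basicOpen g)) g t
  exact ⟨n, a, h⟩

lemma exists_pow_mul_eq (g : Γ(X, ⊤)) (a b : Γ(X, ⊤))
    (h : res (X.basicOpen_le g) a = res (X.basicOpen_le g) b) : ∃ n : ℕ, g ^ n * a = g ^ n * b :=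
  IsLocalization.Away.exists_of_eq (S := Γ(X, X.basicOpen g)) g h

lemma isUnit_res (g : Γ(X, ⊤)) : IsUnit (res (X.basicOpen_le g) g) :=
  IsLocalization.Away.algebraMap_isUnit (S := Γ(X, X.basicOpen g)) g

/-- If `x` is a nonzerodivisor on global sections and `D(x) ⊆ U`, then restriction
`Γ(U) → Γ(D(x))` is injective. -/
theorem res_basicOpen_injective (U : X.Opens) (x : Γ(X, ⊤)) (hx : ∀ a, x * a = 0 → a = 0)
    (hxU : X.basicOpen x ≤ U) (t : Γ(X, U)) (ht : res hxU t = 0) : t = 0 := by
  let ι := {g : Γ(X, ⊤) // X.basicOpen g ≤ U}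
  have hcover : U ≤ ⨆ i : ι, X.basicOpen i.1 := by
    intro p hp
    obtain ⟨V, ⟨g, rfl⟩, hpV, hVU⟩ := Opens.isBasis_iff_nbhd.mp (isBasis_basicOpen X) hp
    exact Opens.mem_iSup.mpr ⟨⟨g, hVU⟩, hpV⟩
  refine TopCat.Sheaf.eq_of_locally_eq' X.sheaf (fun i : ι => X.basicOpen i.1) U
    (fun i => homOfLE i.2) hcover t 0 ?_
  rintro ⟨g, hg⟩
  show res hg t = res hg 0
  rw [map_zero]
  obtain ⟨n, e, he⟩ := exists_res_eq g (res hg t)
  -- restrict to D(g * x)
  have hW1 : X.basicOpen (g * x) ≤ X.basicOpen g := by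
    rw [Scheme.basicOpen_mul]; exact inf_le_left
  have hW2 : X.basicOpen (g * x) ≤ X.basicOpen x := by
    rw [Scheme.basicOpen_mul]; exact inf_le_right
  have h1 : res (X.basicOpen_le (g * x)) e = 0 := by
    have := congrArg (res hW1) he
    rw [map_mul, map_pow, res_res, res_res, res_res] at this
    rw [← this]
    have h2 : res (hW1.trans hg) t = res hW2 (res hxU t) := by rw [res_res]
    rw [h2, ht, map_zero, zero_mul]
  obtain ⟨N, hN⟩ := exists_pow_mul_eq (g * x) e 0 (by rw [h1, map_zero])
  rw [mul_zero, mul_pow, mul_comm (g ^ N), mul_assoc] at hN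
  have h3 : g ^ N * e = 0 := eq_zero_of_pow_mul x hx N _ hN
  have h4 : res (X.basicOpen_le g) g ^ N * res (X.basicOpen_le g) e = 0 := by
    rw [← map_pow, ← map_mul, h3, map_zero]
  have h5 : res (X.basicOpen_le g) e = 0 :=
    ((isUnit_res g).pow N).mul_right_eq_zero.mp h4
  rw [h5] at he
  exact ((isUnit_res g).pow n).mul_left_eq_zero.mp he

/-- **Hartogs-type extension.** Let `X` be an affine scheme, `x, y` global functions with `x` a
nonzerodivisor and `y` a nonzerodivisor modulo `x`. If `U` is an open containing `D(x)` and `D(y)`,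
then restriction `Γ(X, ⊤) → Γ(X, U)` is bijective. -/
theorem bijective_res_of_regular (U : X.Opens) (x y : Γ(X, ⊤)) (hx : ∀ a, x * a = 0 → a = 0)
    (hy : ∀ a b, y * a = x * b → ∃ c, a = x * c)
    (hxU : X.basicOpen x ≤ U) (hyU : X.basicOpen y ≤ U) :
    Function.Bijective (res (le_top : U ≤ ⊤)) := by
  constructor
  · rw [injective_iff_map_eq_zero]
    intro a ha
    have h1 : res (X.basicOpen_le x) a = 0 := by
      have : res (X.basicOpen_le x) a = res hxU (res le_top a) := by rw [res_res]
      rw [this, ha, map_zero]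
    obtain ⟨N, hN⟩ := exists_pow_mul_eq x a 0 (by rw [h1, map_zero])
    rw [mul_zero] at hN
    exact eq_zero_of_pow_mul x hx N a hN
  · intro s
    obtain ⟨n, a, ha⟩ := exists_res_eq x (res hxU s)
    obtain ⟨m, b, hb⟩ := exists_res_eq y (res hyU s)
    have hW1 : X.basicOpen (x * y) ≤ X.basicOpen x := by
      rw [Scheme.basicOpen_mul]; exact inf_le_left
    have hW2 : X.basicOpen (x * y) ≤ X.basicOpen y := by
      rw [Scheme.basicOpen_mul]; exact inf_le_right
    have ha' := congrArg (res hW1) ha
    have hb' := congrArg (res hW2) hb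
    rw [map_mul, map_pow, res_res, res_res, res_res] at ha' hb'
    have h1 : res (X.basicOpen_le (x * y)) (a * y ^ m) = res (X.basicOpen_le (x * y)) (b * x ^ n) := by
      rw [map_mul, map_mul, map_pow, map_pow, ← ha', ← hb']
      ring
    obtain ⟨N, hN⟩ := exists_pow_mul_eq (x * y) _ _ h1
    have h2 : y ^ (N + m) * a = x ^ n * (y ^ N * b) := by
      have h3 : x ^ N * (y ^ (N + m) * a - x ^ n * (y ^ N * b)) = 0 := by
        rw [pow_add]
        linear_combination hN
      have := eq_zero_of_pow_mul x hx N _ h3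
      linear_combination this
    obtain ⟨c, hc⟩ := exists_eq_pow_mul_of_pow_mul x y hx hy n (N + m) a _ h2
    refine ⟨c, ?_⟩
    have h4 : res hxU (s - res le_top c) = 0 := by
      rw [map_sub, res_res, sub_eq_zero]
      have h5 : res hxU s * res (X.basicOpen_le x) x ^ n =
          res (X.basicOpen_le x) c * res (X.basicOpen_le x) x ^ n := by
        rw [ha, hc, map_mul, map_pow, mul_comm]
      exact ((isUnit_res x).pow n).mul_left_injective h5
    have := res_basicOpen_injective U x hx hxU _ h4
    exact (sub_eq_zero.mp this).symm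

end sheaf

section regular

open Groth.Agent.Lib.Helper4 Groth.Agent.Lib.Helper28 RingTheory.Sequence

variable (A B : Type u) [CommRing A] [IsNoetherianRing A] [IsLocalRing A] [CommRing B] [Algebra A B]
    [Module.Finite A B]

/-- primes of a finite algebra over a local ring containing `𝔪B` are maximal -/
theorem isMaximal_of_map_maximalIdeal_le (p : Ideal B) [p.IsPrime]
    (hp : (IsLocalRing.maximalIdeal A).map (algebraMap A B) ≤ p) : p.IsMaximal := by
  haveI : Algebra.IsIntegral A B := Algebra.IsIntegral.of_finite A B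
  have hle : IsLocalRing.maximalIdeal A ≤ p.comap (algebraMap A B) := Ideal.map_le_iff_le_comap.mp hp
  have hne : p.comap (algebraMap A B) ≠ ⊤ := (Ideal.IsPrime.comap (algebraMap A B)).ne_top
  have heq : IsLocalRing.maximalIdeal A = p.comap (algebraMap A B) :=
    (IsLocalRing.maximalIdeal.isMaximal A).eq_of_le hne hle
  exact Ideal.isMaximal_of_isIntegral_of_isMaximal_comap p (heq ▸ IsLocalRing.maximalIdeal.isMaximal A)

theorem exists_regular_pair
    (h : ∀ (m : Ideal B) (_ : m.IsMaximal),
      (2 : ℕ∞) ≤ LocCoh.depth (Localization.AtPrime m) (Localization.AtPrime m)) :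
    ∃ x ∈ (IsLocalRing.maximalIdeal A).map (algebraMap A B),
      ∃ y ∈ (IsLocalRing.maximalIdeal A).map (algebraMap A B),
      (∀ a, x * a = 0 → a = 0) ∧ (∀ a b, y * a = x * b → ∃ c, a = x * c) := by
  haveI : IsNoetherianRing B := IsNoetherianRing.of_finite A B
  set J := (IsLocalRing.maximalIdeal A).map (algebraMap A B) with hJdef
  by_cases hJ : J • (⊤ : Submodule B B) = ⊤
  · have h1 : (1 : B) ∈ J := by
      have : J = ⊤ := by simpa using hJ
      rw [this]; trivial
    exact ⟨1, h1, 1, h1, fun a ha => by simpa using ha, fun a b hab => ⟨a, by simp⟩⟩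
  · have h2 : ((2 : ℕ) : ℕ∞) ≤ LocCoh.idealDepth J B := by
      refine le_idealDepth_of_forall_localization J 2 ?_
      intro p _ hJp _
      haveI := isMaximal_of_map_maximalIdeal_le A B p hJp
      have e : LocalizedModule p.primeCompl B ≃ₗ[Localization.AtPrime p] Localization.AtPrime p :=
        LinearEquiv.extendScalarsOfIsLocalization p.primeCompl (Localization.AtPrime p)
          (IsLocalizedModule.iso p.primeCompl (Algebra.linearMap B (Localization.AtPrime p)))
      have := h p inferInstance
      unfold LocCoh.depth at this ⊢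
      rw [idealDepth_congr _ e]
      exact_mod_cast this
    obtain ⟨rs, hlen, hmem, hreg⟩ := exists_isWeaklyRegular_of_le_idealDepth J hJ 2 h2
    rcases rs with _ | ⟨x, _ | ⟨y, _ | ⟨z, l⟩⟩⟩
    · simp at hlen
    · simp at hlen
    · rw [isWeaklyRegular_cons_iff] at hreg
      obtain ⟨hx, hreg2⟩ := hreg
      rw [isWeaklyRegular_cons_iff] at hreg2
      have hy := hreg2.1
      refine ⟨x, hmem x (by simp), y, hmem y (by simp), ?_, ?_⟩
      · intro a ha
        exact hx (by simpa using ha)
      · intro a b hab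
        have h0 : (Submodule.Quotient.mk a : QuotSMulTop x B) = 0 := by
          apply hy
          show y • (Submodule.Quotient.mk a : QuotSMulTop x B) = y • 0
          rw [smul_zero, ← Submodule.Quotient.mk_smul, Submodule.Quotient.mk_eq_zero, smul_eq_mul, hab]
          exact Submodule.smul_mem_pointwise_smul b x ⊤ Submodule.mem_top
        rw [Submodule.Quotient.mk_eq_zero] at h0
        obtain ⟨c, -, hc⟩ := h0
        exact ⟨c, by simpa using hc.symm⟩
    · simp at hlen

end regular

end Groth.Agent.Lib.Helper14.DepthTwoSections
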