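import Mathlib

/-!
`det (P(U))` depends only on the characteristic polynomial of `U`:
`det (aeval U P) = (-1)^(n m) * Res(P, charpoly U; m, n)`.
-/

namespace Groth.Agent.Lib.Helper14.DetAeval

open Polynomial Matrix

universe u

theorem mapMatrix_aeval {R S : Type*} [CommRing R] [CommRing S] (φ : R →+* S) {n : ℕ}
    (U : Matrix (Fin n) (Fin n) R) (P : R[X]) :
    aeval (U.map φ) (P.map φ) = (aeval U P).map φ := by
  have h1 : (aeval U P).map φ = φ.mapMatrix (aeval U P) := rfl
  rw [h1, aeval_def, aeval_def, hom_eval₂, eval₂_map]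
  congr 1
  ext r i j
  by_cases h : i = j <;> simp [Matrix.algebraMap_matrix_apply, h]

theorem det_aeval_X_sub_C {K : Type*} [CommRing K] {n : ℕ} (U : Matrix (Fin n) (Fin n) K) (a : K) :
    (aeval U (X - C a)).det = (-1) ^ n * U.charpoly.eval a := by
  rw [Matrix.eval_charpoly, map_sub, aeval_X, aeval_C]
  have : U - algebraMap K (Matrix (Fin n) (Fin n) K) a = -(Matrix.scalar (Fin n) a - U) := by
    rw [neg_sub]; rfl
  rw [this, Matrix.det_neg, Fintype.card_fin]

theorem charpoly_natDegree_fin {R : Type*} [CommRing R] [Nontrivial R] {n : ℕ}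
    (U : Matrix (Fin n) (Fin n) R) : U.charpoly.natDegree = n := by
  rw [Matrix.charpoly_natDegree_eq_dim, Fintype.card_fin]

theorem charpoly_coeff_fin {R : Type*} [CommRing R] [Nontrivial R] {n : ℕ}
    (U : Matrix (Fin n) (Fin n) R) : U.charpoly.coeff n = 1 := by
  have := (Matrix.charpoly_monic U).coeff_natDegree
  rwa [charpoly_natDegree_fin] at this

theorem det_aeval_eq {R : Type u} [CommRing R] (P : R[X]) :
    ∀ (m n : ℕ) (U : Matrix (Fin n) (Fin n) R), P.natDegree ≤ m →
      (aeval U P).det = (-1) ^ (n * m) * resultant P U.charpoly m n := by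
  refine induction_of_Splits_of_injective_of_surjective P
    (P := fun {R} _ P => ∀ (m n : ℕ) (U : Matrix (Fin n) (Fin n) R), P.natDegree ≤ m →
      (aeval U P).det = (-1) ^ (n * m) * resultant P U.charpoly m n) ?_ ?_ ?_
  · -- split case
    intro K _ p hp m n U hm
    obtain ⟨k, rfl⟩ : ∃ k, m = p.natDegree + k := Nat.exists_eq_add_of_le hm
    have hχn : U.charpoly.natDegree = n := charpoly_natDegree_fin U
    have hχc : U.charpoly.coeff n = 1 := charpoly_coeff_fin U
    rw [resultant_add_left_deg _ _ _ _ _ le_rfl, hχc, one_pow, mul_one,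
      resultant_eq_prod_eval p U.charpoly n hχn.le hp]
    -- left hand side
    have hL : (aeval U p).det =
        p.leadingCoeff ^ n * ((-1) ^ (n * p.natDegree) * (p.roots.map U.charpoly.eval).prod) := by
      let ψ : K[X] →* K := (Matrix.detMonoidHom (n := Fin n) (R := K)).comp
        ((aeval U : K[X] →ₐ[K] Matrix (Fin n) (Fin n) K) : K[X] →* Matrix (Fin n) (Fin n) K)
      have hψ : ∀ q, ψ q = (aeval U q).det := fun q => rfl
      have hC : ψ (C p.leadingCoeff) = p.leadingCoeff ^ n := by
        rw [hψ, aeval_C, Algebra.algebraMap_eq_smul_one, Matrix.det_smul, Matrix.det_one, mul_one,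
          Fintype.card_fin]
      rw [← hψ]
      conv_lhs => rw [hp.eq_prod_roots]
      rw [map_mul, hC, map_multiset_prod, Multiset.map_map]
      have : (p.roots.map (ψ ∘ fun a => X - C a)) =
          (p.roots.map fun a => (-1) ^ n * U.charpoly.eval a) := by
        apply Multiset.map_congr rfl
        intro a _
        exact det_aeval_X_sub_C U a
      rw [this, Multiset.prod_map_mul, Multiset.map_const', Multiset.prod_replicate,
        ← hp.natDegree_eq_card_roots, ← pow_mul]
    rw [hL]
    have hsign : ((-1 : K) ^ (n * (p.natDegree + k))) * ((-1) ^ (n * k)) = (-1) ^ (n * p.natDegree) := by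
      rw [← pow_add]
      have : n * (p.natDegree + k) + n * k = n * p.natDegree + 2 * (n * k) := by ring
      rw [this, pow_add, pow_mul (-1 : K) 2, neg_one_sq, one_pow, mul_one]
    rw [← mul_assoc ((-1 : K) ^ (n * (p.natDegree + k))), hsign]
    ring
  · -- injective case
    intro R S _ _ φ hφ p IH m n U hm
    apply hφ
    have h := IH m n (U.map φ) (natDegree_map_le.trans hm)
    rw [mapMatrix_aeval, Matrix.charpoly_map, resultant_map_map] at h
    have h2 : ((aeval U p).map φ).det = φ ((aeval U p).det) := by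
      rw [RingHom.map_det]; rfl
    rw [h2] at h
    rw [h, map_mul, map_pow, map_neg, map_one]
  · -- surjective case
    intro R S _ _ φ hφ p IH m n U hm
    obtain ⟨q, hq, hqdeg⟩ := Polynomial.mem_lifts_and_degree_eq
      ((Polynomial.mem_lifts p).mpr (Polynomial.map_surjective φ hφ p))
    obtain ⟨U', hU'⟩ : ∃ U' : Matrix (Fin n) (Fin n) R, U'.map φ = U :=
      ⟨U.map (Function.surjInv hφ), by ext i j; simp [Function.surjInv_eq]⟩
    have h := IH q m n U' (by rw [natDegree_eq_of_degree_eq hqdeg]; exact hm)
    have h3 := congrArg φ h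
    rw [RingHom.map_det, map_mul, map_pow, map_neg, map_one, ← resultant_map_map,
      ← Matrix.charpoly_map] at h3
    have h4 : φ.mapMatrix (aeval U' q) = aeval (U'.map φ) (q.map φ) := (mapMatrix_aeval φ U' q).symm
    rw [h4, hq, hU'] at h3
    exact h3

/-- The determinant of `P(U)` depends only on the characteristic polynomial. -/
theorem det_aeval_congr {R : Type u} [CommRing R] (P : R[X]) {n₁ n₂ : ℕ}
    (U : Matrix (Fin n₁) (Fin n₁) R) (V : Matrix (Fin n₂) (Fin n₂) R) (hn : n₁ = n₂)
    (h : U.charpoly = V.charpoly) : (aeval U P).det = (aeval V P).det := by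
  rw [det_aeval_eq P P.natDegree n₁ U le_rfl, det_aeval_eq P P.natDegree n₂ V le_rfl, h, hn]

end Groth.Agent.Lib.Helper14.DetAeval
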