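import Mathlib
import Groth.Agent.Lib.Helper21.KDiffSmoothB

/-!
# Cotangent spaces and adic formal smoothness in characteristic `p` (helper14)

Let `k` be a field of characteristic `p`, `A₀ → A` a local homomorphism of local `k`-algebras with
`A` formally smooth over `k` for the `𝔪_A`-adic topology.  If `d_{A₀/k}(𝔪₀) ⊆ 𝔪₀ Ω_{A₀/k}` then
`𝔪₀/𝔪₀² ⊗ K → 𝔪/𝔪²` is injective; we state it in terms of linear independence
(`linearIndependent_toCotangent_map`).
-/

set_option autoImplicit false
set_option linter.style.haveILetI false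
set_option linter.unusedSectionVars false

namespace Groth.Agent.Lib.Helper14.DiffBasis

open IsLocalRing KaehlerDifferential TensorProduct

universe u

section Retraction

variable {R P A : Type*} [CommRing R] [CommRing P] [CommRing A] [Algebra R P] [Algebra P A]
  [Algebra R A] [IsScalarTower R P A]

theorem exists_retraction_of_formallySmooth [Algebra.FormallySmooth R A]
    (hf : Function.Surjective (algebraMap P A)) :
    ∃ l : A ⊗[P] Ω[P⁄R] →ₗ[P] (RingHom.ker (algebraMap P A)).Cotangent,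
      l ∘ₗ kerCotangentToTensor R P A = LinearMap.id := by
  have hsurj : Function.Surjective (IsScalarTower.toAlgHom R P A).kerSquareLift := by
    intro a
    obtain ⟨p, rfl⟩ := hf a
    exact ⟨Ideal.Quotient.mk _ p, rfl⟩
  have hnil : IsNilpotent (RingHom.ker
      ((IsScalarTower.toAlgHom R P A).kerSquareLift :
        P ⧸ (RingHom.ker (IsScalarTower.toAlgHom R P A).toRingHom ^ 2) →+* A)) := by
    refine ⟨2, ?_⟩
    have := (IsScalarTower.toAlgHom R P A).ker_kerSquareLift
    rw [show RingHom.ker ((IsScalarTower.toAlgHom R P A).kerSquareLift :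
        P ⧸ (RingHom.ker (IsScalarTower.toAlgHom R P A).toRingHom ^ 2) →+* A) =
        RingHom.ker (IsScalarTower.toAlgHom R P A).kerSquareLift.toRingHom from rfl, this,
      Ideal.cotangentIdeal_square, Ideal.zero_eq_bot]
  obtain ⟨l, hl⟩ := (retractionKerCotangentToTensorEquivSection (R := R) hf).symm
    ⟨Algebra.FormallySmooth.liftOfSurjective (AlgHom.id R A)
      (IsScalarTower.toAlgHom R P A).kerSquareLift hsurj hnil,
     Algebra.FormallySmooth.comp_liftOfSurjective _ _ hsurj hnil⟩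
  exact ⟨l, hl⟩

end Retraction

section Dual

theorem exists_retraction_aux {R A₀ K₀ : Type*} [CommRing R] [CommRing A₀] [CommRing K₀]
    [Algebra R A₀] [Algebra A₀ K₀] (I J : Ideal A₀) (hIJ : I = J)
    (l : K₀ ⊗[A₀] Ω[A₀⁄R] →ₗ[A₀] I.Cotangent)
    (hl : ∀ g : I, l (1 ⊗ₜ D R A₀ (g : A₀)) = I.toCotangent g) :
    ∃ l' : K₀ ⊗[A₀] Ω[A₀⁄R] →ₗ[A₀] J.Cotangent,
      ∀ g : J, l' (1 ⊗ₜ D R A₀ (g : A₀)) = J.toCotangent g := by
  subst hIJ
  exact ⟨l, hl⟩

theorem exists_retraction_maximalIdeal (p : ℕ) [Fact p.Prime] (A₀ : Type u) [CommRing A₀]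
    [IsLocalRing A₀] [Algebra (ZMod p) A₀] :
    ∃ l : ResidueField A₀ ⊗[A₀] Ω[A₀⁄ZMod p] →ₗ[A₀] CotangentSpace A₀,
      ∀ g : maximalIdeal A₀,
        l (1 ⊗ₜ D (ZMod p) A₀ (g : A₀)) = (maximalIdeal A₀).toCotangent g := by
  haveI : Algebra.FormallySmooth (ZMod p) (ResidueField A₀) := by
    apply Groth.Agent.Lib.Helper21.CohenStruct.formallySmooth_of_bot_eq_top
    rw [eq_top_iff]
    intro x _
    rw [← ZMod.natCast_zmod_val x]
    exact natCast_mem _ _
  obtain ⟨l, hl⟩ := exists_retraction_of_formallySmooth (R := ZMod p) (P := A₀)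
    (A := ResidueField A₀) residue_surjective
  refine exists_retraction_aux _ _ (IsLocalRing.ker_residue (R := A₀)) l (fun g => ?_)
  have := LinearMap.congr_fun hl ((RingHom.ker (algebraMap A₀ (ResidueField A₀))).toCotangent g)
  rwa [LinearMap.comp_apply, kerCotangentToTensor_toCotangent, LinearMap.id_apply] at this

theorem exists_derivation_dual (p : ℕ) [Fact p.Prime] (A₀ : Type u) [CommRing A₀]
    [IsLocalRing A₀] [CharP A₀ p] {r : ℕ} (g : Fin r → maximalIdeal A₀)
    (hg : LinearIndependent (ResidueField A₀) (fun i => (maximalIdeal A₀).toCotangent (g i)))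
    (j : Fin r) :
    ∃ E : Derivation ℤ A₀ (ResidueField A₀),
      ∀ i, E (g i : A₀) = if i = j then 1 else 0 := by
  classical
  letI := ZMod.algebra A₀ p
  obtain ⟨l, hl⟩ := exists_retraction_maximalIdeal p A₀
  obtain ⟨h, hh⟩ := (Finsupp.linearCombination (ResidueField A₀)
    (fun i => (maximalIdeal A₀).toCotangent (g i))).exists_leftInverse_of_injective
    (LinearMap.ker_eq_bot.2 hg)
  let lam : CotangentSpace A₀ →ₗ[ResidueField A₀] ResidueField A₀ := (Finsupp.lapply j) ∘ₗ h
  have hlam : ∀ i, lam ((maximalIdeal A₀).toCotangent (g i)) = if i = j then 1 else 0 := by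
    intro i
    have := LinearMap.congr_fun hh (Finsupp.single i 1)
    rw [LinearMap.comp_apply, Finsupp.linearCombination_single, one_smul,
      LinearMap.id_apply] at this
    show (h ((maximalIdeal A₀).toCotangent (g i))) j = _
    rw [this, Finsupp.single_apply]
  let Φ : Ω[A₀⁄ZMod p] →ₗ[A₀] ResidueField A₀ :=
    (lam.restrictScalars A₀) ∘ₗ l ∘ₗ (TensorProduct.mk A₀ (ResidueField A₀) Ω[A₀⁄ZMod p] 1)
  let E₀ : Derivation (ZMod p) A₀ (ResidueField A₀) := Φ.compDer (D (ZMod p) A₀)
  refine ⟨E₀.restrictScalars ℤ, fun i => ?_⟩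
  show lam (l (1 ⊗ₜ D (ZMod p) A₀ (g i : A₀))) = _
  rw [hl, hlam]

end Dual

end Groth.Agent.Lib.Helper14.DiffBasis
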