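import Mathlib
import Groth.Agent.Lib.Helper14.DiffBasisA

/-!
# Cotangent spaces and adic formal smoothness in characteristic `p`, II (helper14)
-/

set_option autoImplicit false
set_option linter.style.haveILetI false
set_option linter.unusedSectionVars false

namespace Groth.Agent.Lib.Helper14.DiffBasis

open IsLocalRing KaehlerDifferential TensorProduct

universe u

theorem derivation_eq_zero_of_mem_sq {A : Type*} [CommRing A] [IsLocalRing A]
    (δ : Derivation ℤ A (ResidueField A)) (z : A) (hz : z ∈ maximalIdeal A ^ 2) : δ z = 0 := by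
  rw [pow_two, ← Ideal.smul_eq_mul] at hz
  have hM : ∀ a ∈ maximalIdeal A, ∀ y : ResidueField A, a • y = 0 := by
    intro a ha y
    rw [Algebra.smul_def, ResidueField.algebraMap_eq, (residue_eq_zero_iff a).mpr ha, zero_mul]
  refine Submodule.smul_induction_on hz (fun a ha b hb => ?_) (fun y z hy hz => ?_)
  · rw [smul_eq_mul, Derivation.leibniz, hM a ha, hM b hb, add_zero]
  · rw [map_add, hy, hz, add_zero]

/-- Linear independence in the cotangent space from a dual family of derivations. -/
theorem linearIndependent_toCotangent_of_derivations {A : Type*} [CommRing A] [IsLocalRing A]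
    {r : ℕ} (x : Fin r → maximalIdeal A)
    (δ : Fin r → Derivation ℤ A (ResidueField A))
    (hδ : ∀ i j, δ j (x i : A) = if i = j then 1 else 0) :
    LinearIndependent (ResidueField A) (fun i => (maximalIdeal A).toCotangent (x i)) := by
  classical
  rw [Fintype.linearIndependent_iff]
  intro c hc j
  choose a ha using fun i => residue_surjective (c i)
  have h1 : (maximalIdeal A).toCotangent (∑ i, a i • x i) = 0 := by
    rw [map_sum, ← hc]
    refine Finset.sum_congr rfl fun i _ => ?_
    rw [map_smul, ← ha i]
    rfl
  rw [Ideal.toCotangent_eq_zero] at h1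
  have h2 := derivation_eq_zero_of_mem_sq (δ j) _ h1
  have hM : ∀ a ∈ maximalIdeal A, ∀ y : ResidueField A, a • y = 0 := by
    intro a ha y
    rw [Algebra.smul_def, ResidueField.algebraMap_eq, (residue_eq_zero_iff a).mpr ha, zero_mul]
  have h3 : ((∑ i, a i • x i : maximalIdeal A) : A) = ∑ i, a i * (x i : A) := by
    rw [Submodule.coe_sum]
    rfl
  rw [h3, map_sum] at h2
  have h4 : ∀ i, δ j (a i * (x i : A)) = if i = j then c i else 0 := by
    intro i
    rw [Derivation.leibniz, hδ, hM _ (x i).2, add_zero]
    split_ifs with h
    · rw [Algebra.smul_def, mul_one, ResidueField.algebraMap_eq, ha]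
    · rw [smul_zero]
  simp only [h4, Finset.sum_ite_eq', Finset.mem_univ, if_true] at h2
  exact h2

section Main

variable (k : Type u) [Field k]
  (A₀ A : Type u) [CommRing A₀] [CommRing A] [IsLocalRing A₀] [IsLocalRing A]
  [Algebra k A₀] [Algebra k A] [Algebra A₀ A] [IsScalarTower k A₀ A]
  [IsLocalHom (algebraMap A₀ A)]

/-- a `ℤ`-derivation `A₀ → κ(A₀)` pushed to `κ(A)` -/
noncomputable def pushDer (E : Derivation ℤ A₀ (ResidueField A₀)) :
    Derivation ℤ A₀ (ResidueField A) :=
  Derivation.mk'
    (AddMonoidHom.toIntLinearMap
      { toFun := fun a => algebraMap (ResidueField A₀) (ResidueField A) (E a)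
        map_zero' := by rw [map_zero, map_zero]
        map_add' := fun a b => by rw [map_add, map_add] })
    (fun a b => by
      show algebraMap (ResidueField A₀) (ResidueField A) (E (a * b)) =
        a • algebraMap (ResidueField A₀) (ResidueField A) (E b) +
        b • algebraMap (ResidueField A₀) (ResidueField A) (E a)
      rw [Derivation.leibniz, map_add, Algebra.smul_def, Algebra.smul_def, map_mul, map_mul,
        Algebra.smul_def, Algebra.smul_def]
      rfl)

theorem pushDer_apply (E : Derivation ℤ A₀ (ResidueField A₀)) (a : A₀) :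
    pushDer A₀ A E a = algebraMap (ResidueField A₀) (ResidueField A) (E a) := rfl

theorem smul_residueField_eq_zero (a : A₀) (ha : a ∈ maximalIdeal A₀) (y : ResidueField A) :
    a • y = 0 := by
  rw [Algebra.smul_def]
  have : algebraMap A₀ (ResidueField A) a = residue A (algebraMap A₀ A a) := rfl
  rw [this, (residue_eq_zero_iff _).mpr, zero_mul]
  have h2 : (maximalIdeal A₀).map (algebraMap A₀ A) ≤ maximalIdeal A :=
    ((local_hom_TFAE (algebraMap A₀ A)).out 0 2).1 ‹IsLocalHom (algebraMap A₀ A)›
  exact h2 (Ideal.mem_map_of_mem _ ha)

theorem linearIndependent_toCotangent_map (p : ℕ) [Fact p.Prime] [CharP k p]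
    (hfs : CAlgX.IsAdicFormallySmooth k A (maximalIdeal A))
    (hD : ∀ g ∈ maximalIdeal A₀,
      KaehlerDifferential.D k A₀ g ∈ (maximalIdeal A₀) • (⊤ : Submodule A₀ Ω[A₀⁄k]))
    {r : ℕ} (g : Fin r → maximalIdeal A₀)
    (hg : LinearIndependent (ResidueField A₀) (fun i => (maximalIdeal A₀).toCotangent (g i)))
    (x : Fin r → maximalIdeal A) (hx : ∀ i, (x i : A) = algebraMap A₀ A (g i)) :
    LinearIndependent (ResidueField A) (fun i => (maximalIdeal A).toCotangent (x i)) := by
  classical
  haveI : CharP A₀ p := charP_of_injective_algebraMap (algebraMap k A₀).injective p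
  -- dual derivations on `A₀`
  choose E hE using fun j => exists_derivation_dual p A₀ g hg j
  -- their restrictions to `k`
  let δ : Fin r → Derivation ℤ k (ResidueField A) := fun j =>
    Derivation.mk'
      (AddMonoidHom.toIntLinearMap
        { toFun := fun c => pushDer A₀ A (E j) (algebraMap k A₀ c)
          map_zero' := by rw [map_zero, map_zero]
          map_add' := fun a b => by rw [map_add, map_add] })
      (fun a b => by
        show pushDer A₀ A (E j) (algebraMap k A₀ (a * b)) =
          a • pushDer A₀ A (E j) (algebraMap k A₀ b) + b • pushDer A₀ A (E j) (algebraMap k A₀ a)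
        rw [map_mul, Derivation.leibniz, algebraMap_smul, algebraMap_smul])
  have hδ : ∀ j c, δ j c = pushDer A₀ A (E j) (algebraMap k A₀ c) := fun j c => rfl
  choose Dj hDj using fun j =>
    Groth.Agent.Lib.Helper21.KDiffSmooth.exists_derivation_of_isAdicFormallySmooth k A hfs (δ j)
  -- the key: `Dj j ∘ algebraMap = pushDer (E j)` on `𝔪₀`
  have key : ∀ j, ∀ a ∈ maximalIdeal A₀, Dj j (algebraMap A₀ A a) = pushDer A₀ A (E j) a := by
    intro j
    let η : Derivation k A₀ (ResidueField A) :=
      Derivation.mk'
        { toFun := fun a => Dj j (algebraMap A₀ A a) - pushDer A₀ A (E j) a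
          map_add' := fun a b => by rw [map_add, map_add, map_add]; abel
          map_smul' := fun c a => by
            have h0 : Dj j (algebraMap A₀ A (algebraMap k A₀ c)) -
                pushDer A₀ A (E j) (algebraMap k A₀ c) = 0 := by
              rw [← IsScalarTower.algebraMap_apply, hDj, hδ, sub_self]
            rw [RingHom.id_apply, Algebra.smul_def, map_mul, Derivation.leibniz,
              Derivation.leibniz, smul_sub, ← IsScalarTower.algebraMap_apply,
              algebraMap_smul, algebraMap_smul]
            have h1 : Dj j (algebraMap k A c) = pushDer A₀ A (E j) (algebraMap k A₀ c) := by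
              rw [hDj, hδ]
            rw [h1, algebraMap_smul]
            abel }
        (fun a b => by
          show Dj j (algebraMap A₀ A (a * b)) - pushDer A₀ A (E j) (a * b) =
            a • (Dj j (algebraMap A₀ A b) - pushDer A₀ A (E j) b) +
            b • (Dj j (algebraMap A₀ A a) - pushDer A₀ A (E j) a)
          rw [map_mul, Derivation.leibniz, Derivation.leibniz, algebraMap_smul, algebraMap_smul,
            smul_sub, smul_sub]
          abel)
    intro a ha
    have h1 : η a = 0 := by
      rw [← Derivation.liftKaehlerDifferential_comp_D η a]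
      refine Submodule.smul_induction_on (hD a ha) (fun b hb ω _ => ?_) (fun y z hy hz => ?_)
      · rw [map_smul, smul_residueField_eq_zero A₀ A b hb]
      · rw [map_add, hy, hz, add_zero]
    exact sub_eq_zero.mp h1
  refine linearIndependent_toCotangent_of_derivations x Dj (fun i j => ?_)
  rw [hx, key j _ (g i).2, pushDer_apply, hE]
  split_ifs
  · rw [map_one]
  · rw [map_zero]

end Main

end Groth.Agent.Lib.Helper14.DiffBasis
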