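import Mathlib

/-!
# Differentials of a localized polynomial ring at the maximal ideal (helper14)
-/

set_option autoImplicit false
set_option linter.style.haveILetI false
set_option linter.unusedSectionVars false

namespace Groth.Agent.Lib.Helper14.DiffBasis

open IsLocalRing KaehlerDifferential TensorProduct

universe u

/-- `Ω` of a localization of a polynomial ring is spanned by the `d X_i`. -/
theorem span_D_X_eq_top {k : Type*} [CommRing k] {ι : Type*} (M : Submonoid (MvPolynomial ι k))
    (A₀ : Type*) [CommRing A₀] [Algebra (MvPolynomial ι k) A₀] [Algebra k A₀]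
    [IsScalarTower k (MvPolynomial ι k) A₀] [IsLocalization M A₀] :
    Submodule.span A₀ (Set.range fun i : ι =>
      D k A₀ (algebraMap (MvPolynomial ι k) A₀ (MvPolynomial.X i))) = ⊤ := by
  set W := Submodule.span A₀ (Set.range fun i : ι =>
      D k A₀ (algebraMap (MvPolynomial ι k) A₀ (MvPolynomial.X i))) with hW
  have h1 : ∀ f : MvPolynomial ι k, D k A₀ (algebraMap (MvPolynomial ι k) A₀ f) ∈ W := by
    intro f
    induction f using MvPolynomial.induction_on with
    | C c =>
      rw [← MvPolynomial.algebraMap_eq, ← IsScalarTower.algebraMap_apply,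
        Derivation.map_algebraMap]
      exact W.zero_mem
    | add f g hf hg =>
      rw [map_add, map_add]
      exact W.add_mem hf hg
    | mul_X f i hf =>
      rw [map_mul, Derivation.leibniz]
      exact W.add_mem (W.smul_mem _ (Submodule.subset_span ⟨i, rfl⟩)) (W.smul_mem _ hf)
  have h2 : ∀ a : A₀, D k A₀ a ∈ W := by
    intro a
    obtain ⟨⟨f, s⟩, hfs⟩ := IsLocalization.surj M a
    have hu : IsUnit (algebraMap (MvPolynomial ι k) A₀ s) := IsLocalization.map_units A₀ s
    have h3 : D k A₀ (a * algebraMap (MvPolynomial ι k) A₀ s) ∈ W := by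
      rw [hfs]; exact h1 f
    rw [Derivation.leibniz] at h3
    have h4 : algebraMap (MvPolynomial ι k) A₀ s • D k A₀ a ∈ W := by
      have := W.sub_mem h3 (W.smul_mem a (h1 s))
      rwa [add_sub_cancel_left] at this
    obtain ⟨u, hu'⟩ := hu
    have h5 := W.smul_mem (↑u⁻¹ : A₀) h4
    rwa [← hu', smul_smul, Units.inv_mul, one_smul] at h5
  rw [eq_top_iff, ← KaehlerDifferential.span_range_derivation k A₀, Submodule.span_le]
  rintro _ ⟨a, rfl⟩
  exact h2 a

/-- If `Ω_{A₀/k}` is spanned by `d y_i` and the `d ρ(y_i)` are linearly independent in `Ω_{F/k}`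
for a local `k`-algebra map `ρ : A₀ → F` to a field, then `d(𝔪₀) ⊆ 𝔪₀ Ω`. -/
theorem D_mem_smul_top {k : Type*} [Field k] (A₀ : Type*) [CommRing A₀] [IsLocalRing A₀]
    [Algebra k A₀] {ι : Type*} [Finite ι] (y : ι → A₀)
    (hy : Submodule.span A₀ (Set.range fun i => D k A₀ (y i)) = ⊤)
    (F : Type*) [Field F] [Algebra k F] (ρ : A₀ →ₐ[k] F)
    (hρ : ∀ g ∈ maximalIdeal A₀, ρ g = 0)
    (hli : LinearIndependent F (fun i => D k F (ρ (y i)))) :
    ∀ g ∈ maximalIdeal A₀, D k A₀ g ∈ maximalIdeal A₀ • (⊤ : Submodule A₀ Ω[A₀⁄k]) := by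
  classical
  haveI := Fintype.ofFinite ι
  intro g hg
  letI : Algebra A₀ F := ρ.toRingHom.toAlgebra
  haveI : IsScalarTower k A₀ F := IsScalarTower.of_algebraMap_eq (fun c => (ρ.commutes c).symm)
  have hmem : D k A₀ g ∈ Submodule.span A₀ (Set.range fun i => D k A₀ (y i)) := by
    rw [hy]; exact Submodule.mem_top
  obtain ⟨a, ha⟩ := (Submodule.mem_span_range_iff_exists_fun A₀).mp hmem
  have h1 : KaehlerDifferential.map k k A₀ F (D k A₀ g) = 0 := by
    rw [KaehlerDifferential.map_D]
    show D k F (ρ g) = 0
    rw [hρ g hg, map_zero]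
  rw [← ha, map_sum] at h1
  have h2 : ∑ i, ρ (a i) • D k F (ρ (y i)) = 0 := by
    rw [← h1]
    refine Finset.sum_congr rfl fun i _ => ?_
    rw [map_smul, KaehlerDifferential.map_D]
    show ρ (a i) • _ = a i • D k F (ρ (y i))
    rw [← algebraMap_smul F (a i)]
    rfl
  have h3 := Fintype.linearIndependent_iff.mp hli _ h2
  have h4 : ∀ i, a i ∈ maximalIdeal A₀ := by
    intro i
    by_contra hni
    have hu : IsUnit (a i) := by
      by_contra hnu
      exact hni ((mem_maximalIdeal _).mpr hnu)
    exact (hu.map ρ).ne_zero (h3 i)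
  rw [← ha]
  exact Submodule.sum_mem _ fun i _ => Submodule.smul_mem_smul (h4 i) Submodule.mem_top

/-- A system of `dim R` generators of the maximal ideal of a regular local ring is linearly
independent in the cotangent space. -/
theorem linearIndependent_toCotangent_of_span_eq (R : Type*) [CommRing R] [IsRegularLocalRing R]
    (d : ℕ) (hd : ringKrullDim R = d) (g : Fin d → maximalIdeal R)
    (hg : Ideal.span (Set.range fun i => (g i : R)) = maximalIdeal R) :
    LinearIndependent (ResidueField R) (fun i => (maximalIdeal R).toCotangent (g i)) := by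
  have hfin : Module.finrank (ResidueField R) (CotangentSpace R) = d := by
    have := (IsRegularLocalRing.iff_finrank_cotangentSpace (R := R)).mp inferInstance
    rw [hd] at this
    exact_mod_cast this
  apply linearIndependent_of_top_le_span_of_card_eq_finrank
  · rw [top_le_iff, Set.range_comp', CotangentSpace.span_image_eq_top_iff]
    apply Submodule.map_injective_of_injective (maximalIdeal R).injective_subtype
    rw [Submodule.map_span, Submodule.map_top, Submodule.range_subtype, ← Set.range_comp]
    exact hg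
  · rw [Fintype.card_fin, hfin]

end Groth.Agent.Lib.Helper14.DiffBasis
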