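import Mathlib
import Groth.Agent.Lib.Helper14.DiffBasisB
import Groth.Agent.Lib.Helper14.DiffBasisC
import Groth.Agent.Lib.Helper9.RegLocal
import Groth.Agent.Lib.Helper4.RegCM
import Groth.Agent.S2599

/-!
# Flatness and regular fibre from a differential basis (helper14)
-/

set_option autoImplicit false
set_option linter.style.haveILetI false
set_option linter.unusedSectionVars false

namespace Groth.Agent.Lib.Helper14.DiffBasis

open IsLocalRing KaehlerDifferential TensorProduct

universe u

theorem main' (p : ℕ) [Fact p.Prime] (k : Type u) [Field k] [CharP k p] (A : Type u) [CommRing A]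
    [IsLocalRing A] [IsNoetherianRing A] [Algebra k A]
    (hfs : CAlgX.IsAdicFormallySmooth k A (maximalIdeal A))
    (F : IntermediateField k (ResidueField A)) (m : ℕ)
    [Algebra (MvPolynomial (Fin m) k) A] [IsScalarTower k (MvPolynomial (Fin m) k) A]
    (𝔭 : Ideal (MvPolynomial (Fin m) k)) [𝔭.IsPrime]
    (h𝔭 : 𝔭 = Ideal.comap (algebraMap (MvPolynomial (Fin m) k) A) (maximalIdeal A))
    (hφ : ∀ i : Fin m,
      residue A (algebraMap (MvPolynomial (Fin m) k) A (MvPolynomial.X i)) ∈ F)
    (hb : LinearIndependent F (fun i : Fin m =>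
      D k F ⟨residue A (algebraMap (MvPolynomial (Fin m) k) A (MvPolynomial.X i)), hφ i⟩)) :
    Module.Flat (MvPolynomial (Fin m) k) A ∧
      IsRegularLocalRing (A ⧸ Ideal.map (algebraMap (MvPolynomial (Fin m) k) A) 𝔭) := by
  classical
  set P := MvPolynomial (Fin m) k with hP
  set A₀ := Localization.AtPrime 𝔭 with hA₀
  have hnotmem : ∀ f : P, f ∉ 𝔭 → IsUnit (algebraMap P A f) := by
    intro f hf
    by_contra hn
    exact hf (by rw [h𝔭]; exact (mem_maximalIdeal _).mpr hn)
  have hunit : ∀ y : 𝔭.primeCompl, IsUnit (algebraMap P A y) := fun y => hnotmem y y.2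
  let ψ : A₀ →+* A := IsLocalization.lift hunit
  letI algA₀A : Algebra A₀ A := ψ.toAlgebra
  have hψ : ∀ f : P, algebraMap A₀ A (algebraMap P A₀ f) = algebraMap P A f :=
    fun f => IsLocalization.lift_eq hunit f
  haveI : IsScalarTower P A₀ A := IsScalarTower.of_algebraMap_eq (fun x => (hψ x).symm)
  haveI : IsScalarTower k A₀ A := IsScalarTower.of_algebraMap_eq (fun c => by
    rw [IsScalarTower.algebraMap_apply k P A₀, hψ, ← IsScalarTower.algebraMap_apply k P A])
  haveI : IsLocalHom (algebraMap A₀ A) := by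
    refine ⟨fun a ha => ?_⟩
    obtain ⟨⟨f, s⟩, hfs'⟩ := IsLocalization.surj 𝔭.primeCompl a
    have h1 : algebraMap A₀ A a * algebraMap P A s = algebraMap P A f := by
      rw [← hψ, ← hψ f, ← map_mul, hfs']
    have h2 : IsUnit (algebraMap P A f) := by
      rw [← h1]; exact ha.mul (hunit s)
    have h3 : f ∉ 𝔭 := by
      intro hf
      rw [h𝔭] at hf
      exact (mem_maximalIdeal _).mp hf h2
    have h4 : IsUnit (algebraMap P A₀ f) :=
      IsLocalization.map_units A₀ (⟨f, h3⟩ : 𝔭.primeCompl)
    rw [← hfs'] at h4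
    exact isUnit_of_mul_isUnit_left h4
  haveI : IsRegularLocalRing A₀ := inferInstance
  -- the map to `F`
  have hmemP : ∀ f : P, residue A (algebraMap P A f) ∈ F := by
    intro f
    induction f using MvPolynomial.induction_on with
    | C c =>
      rw [← MvPolynomial.algebraMap_eq, ← IsScalarTower.algebraMap_apply]
      exact F.algebraMap_mem c
    | add f g hf hg =>
      rw [map_add, map_add]
      exact F.add_mem hf hg
    | mul_X f i hf =>
      rw [map_mul, map_mul]
      exact F.mul_mem hf (hφ i)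
  have hmemF : ∀ a : A₀, residue A (algebraMap A₀ A a) ∈ F := by
    intro a
    obtain ⟨⟨f, s⟩, hfs'⟩ := IsLocalization.surj 𝔭.primeCompl a
    have h1 : algebraMap A₀ A a * algebraMap P A s = algebraMap P A f := by
      rw [← hψ, ← hψ f, ← map_mul, hfs']
    have h2 : residue A (algebraMap A₀ A a) * residue A (algebraMap P A s) =
        residue A (algebraMap P A f) := by rw [← map_mul, h1]
    have h3 : residue A (algebraMap P A s) ≠ 0 := ((hunit s).map (residue A)).ne_zero
    rw [eq_div_of_mul_eq h3 h2]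
    exact F.div_mem (hmemP f) (hmemP s)
  let ρ : A₀ →ₐ[k] F :=
    { toFun := fun a => ⟨residue A (algebraMap A₀ A a), hmemF a⟩
      map_one' := Subtype.ext (by simp)
      map_mul' := fun a b => Subtype.ext (by simp)
      map_zero' := Subtype.ext (by simp)
      map_add' := fun a b => Subtype.ext (by simp)
      commutes' := fun c => Subtype.ext (by
        show residue A (algebraMap A₀ A (algebraMap k A₀ c)) = algebraMap k (ResidueField A) c
        rw [← IsScalarTower.algebraMap_apply]
        rfl) }
  have hρ : ∀ g ∈ maximalIdeal A₀, ρ g = 0 := by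
    intro g hg
    apply Subtype.ext
    show residue A (algebraMap A₀ A g) = 0
    rw [residue_eq_zero_iff]
    exact map_maximalIdeal_le (algebraMap A₀ A) (Ideal.mem_map_of_mem _ hg)
  have hli : LinearIndependent F
      (fun i : Fin m => D k F (ρ (algebraMap P A₀ (MvPolynomial.X i)))) := by
    have : (fun i : Fin m => D k F (ρ (algebraMap P A₀ (MvPolynomial.X i)))) =
        fun i : Fin m => D k F ⟨residue A (algebraMap P A (MvPolynomial.X i)), hφ i⟩ := by
      funext i
      congr 1
      apply Subtype.ext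
      show residue A (algebraMap A₀ A (algebraMap P A₀ (MvPolynomial.X i))) = _
      rw [hψ]
    rw [this]
    exact hb
  have hD := D_mem_smul_top A₀ (fun i : Fin m => algebraMap P A₀ (MvPolynomial.X i))
    (span_D_X_eq_top 𝔭.primeCompl A₀) F ρ hρ hli
  -- regular system of parameters of `A₀`
  obtain ⟨d, hd⟩ := Groth.Agent.Lib.Helper4.RegCM.exists_nat_ringKrullDim A₀
  obtain ⟨x, hxspan, hxreg⟩ := Groth.Agent.Lib.Helper4.RegCM.exists_regular_system A₀ d hd
  let g : Fin d → maximalIdeal A₀ := fun i => ⟨x i, hxspan ▸ Ideal.subset_span ⟨i, rfl⟩⟩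
  have hg := linearIndependent_toCotangent_of_span_eq A₀ d hd g hxspan
  let xA : Fin d → maximalIdeal A := fun i =>
    ⟨algebraMap A₀ A (x i), map_maximalIdeal_le (algebraMap A₀ A) (Ideal.mem_map_of_mem _ (g i).2)⟩
  have hli' := linearIndependent_toCotangent_map k A₀ A p hfs hD g hg xA (fun i => rfl)
  haveI : IsRegularLocalRing A := (Groth.Agent.Lib.Helper21.KDiffSmooth.S2471_aux.mp hfs).1
  obtain ⟨hdim, hreg⟩ := Groth.Agent.Lib.Helper9.RegLocal.quotient_regular A d xA hli'
  -- ideal identities
  have hJ0 : Ideal.span (Set.range fun i => (xA i : A)) =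
      (maximalIdeal A₀).map (algebraMap A₀ A) := by
    rw [← hxspan, Ideal.map_span, ← Set.range_comp]
    rfl
  have hJ : Ideal.span (Set.range fun i => (xA i : A)) = Ideal.map (algebraMap P A) 𝔭 := by
    rw [hJ0, ← IsLocalization.AtPrime.map_eq_maximalIdeal 𝔭 A₀, Ideal.map_map,
      ← IsScalarTower.algebraMap_eq]
  refine ⟨?_, hJ ▸ hreg⟩
  -- flatness
  have hflat : Module.Flat A₀ A := by
    have hCM := Groth.Agent.Lib.Helper4.RegCM.isCohenMacaulayModule_self A
    refine Groth.Agent.S2599.result A₀ A A hCM ?_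
    have e : (EGA4.FibMod A₀ A A) ≃ₗ[A]
        A ⧸ Ideal.span (Set.range fun i => (xA i : A)) :=
      Submodule.quotEquivOfEq _ _ (by
        rw [hJ0, smul_eq_mul, Ideal.mul_top])
    rw [Module.supportDim_eq_of_equiv e, Module.supportDim_quotient_eq_ringKrullDim,
      Module.supportDim_self_eq_ringKrullDim, hd, ← hdim, add_comm]
  exact Module.Flat.trans P A₀ A

end Groth.Agent.Lib.Helper14.DiffBasis
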