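import Groth.Agent.Lib.Helper5.DiffOpAlt
import Mathlib

/-!
# The universal differential operator of order `≤ k` out of a module

Helper lemmas (helper14).
-/

set_option autoImplicit false
universe u

namespace Groth.Agent.Lib.Helper14

open Diff16 Groth.Agent.Lib.Helper5 TensorProduct

section

variable {A B : Type u} [CommRing A] [CommRing B] [Algebra A B]
variable {M N P : Type u} [AddCommGroup M] [Module A M] [Module B M] [IsScalarTower A B M]
  [AddCommGroup N] [Module A N] [Module B N] [IsScalarTower A B N]
  [AddCommGroup P] [Module A P] [Module B P] [IsScalarTower A B P]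

/-- The commutator of `α ∘ D` with `α` a `B`-linear map. -/
theorem commutator_linear_comp (α : N →ₗ[B] P) (D : M →ₗ[A] N) (b : B) :
    commutator A B M P (α.restrictScalars A ∘ₗ D) b =
      α.restrictScalars A ∘ₗ commutator A B M N D b := by
  ext m
  simp [commutator_apply]

theorem iterCommVanish_linear_comp (α : N →ₗ[B] P) (n : ℕ) (D : M →ₗ[A] N)
    (h : IterCommVanish (B := B) n D) : IterCommVanish (B := B) n (α.restrictScalars A ∘ₗ D) := by
  induction n generalizing D with
  | zero =>
    change _ = 0
    have : D = 0 := h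
    rw [this, LinearMap.comp_zero]
  | succ n ih =>
    intro c
    rw [commutator_linear_comp]
    exact ih _ (h c)

theorem iterCommVanish_of_linear_comp_injective (α : N →ₗ[B] P) (hα : Function.Injective α) (n : ℕ)
    (D : M →ₗ[A] N) (h : IterCommVanish (B := B) n (α.restrictScalars A ∘ₗ D)) :
    IterCommVanish (B := B) n D := by
  induction n generalizing D with
  | zero =>
    change _ = 0
    have h0 : α.restrictScalars A ∘ₗ D = 0 := h
    ext m
    apply hα
    have := LinearMap.congr_fun h0 m
    simpa using this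
  | succ n ih =>
    intro c
    apply ih
    rw [← commutator_linear_comp]
    exact h c

/-- Iterated commutator vanishing modulo an intersection of submodules. -/
theorem iterCommVanish_mkQ_sInf (𝒮 : Set (Submodule B N)) (n : ℕ) (D : M →ₗ[A] N)
    (h : ∀ K ∈ 𝒮, IterCommVanish (B := B) n (K.mkQ.restrictScalars A ∘ₗ D)) :
    IterCommVanish (B := B) n ((sInf 𝒮).mkQ.restrictScalars A ∘ₗ D) := by
  induction n generalizing D with
  | zero =>
    change _ = 0
    ext m
    simp only [LinearMap.coe_comp, LinearMap.coe_restrictScalars, Function.comp_apply,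
      Submodule.mkQ_apply, LinearMap.zero_apply, Submodule.Quotient.mk_eq_zero, Submodule.mem_sInf]
    intro K hK
    have h0 : K.mkQ.restrictScalars A ∘ₗ D = 0 := h K hK
    have := LinearMap.congr_fun h0 m
    simpa [Submodule.Quotient.mk_eq_zero] using this
  | succ n ih =>
    intro c
    rw [commutator_linear_comp]
    apply ih
    intro K hK
    rw [← commutator_linear_comp]
    exact h K hK c

end

/-- Existence of the universal differential operator of order `≤ k` out of a module `M`. -/
theorem exists_universal_isDiffOpLE (R S : Type u) [CommRing R] [CommRing S] [Algebra R S]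
    (M : Type u) [AddCommGroup M] [Module S M] [Module R M] [IsScalarTower R S M] (k : ℕ) :
    ∃ (P : Type u) (_ : AddCommGroup P) (_ : Module S P) (_ : Module R P) (_ : IsScalarTower R S P)
      (D : M →ₗ[R] P), Diff16.IsDiffOpLE R S M P k D ∧
        ∀ (N : Type u) [AddCommGroup N] [Module S N] [Module R N] [IsScalarTower R S N]
          (D' : M →ₗ[R] N),
          Diff16.IsDiffOpLE R S M N k D' → ∃! α : P →ₗ[S] N, α.restrictScalars R ∘ₗ D = D' := by
  classical
  let D₀ : M →ₗ[R] S ⊗[R] M := TensorProduct.mk R S M 1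
  let 𝒦 : Set (Submodule S (S ⊗[R] M)) :=
    {K | IterCommVanish (B := S) (k + 1) (K.mkQ.restrictScalars R ∘ₗ D₀)}
  let K : Submodule S (S ⊗[R] M) := sInf 𝒦
  have hK : IterCommVanish (B := S) (k + 1) (K.mkQ.restrictScalars R ∘ₗ D₀) :=
    iterCommVanish_mkQ_sInf 𝒦 (k + 1) D₀ (fun K' hK' => hK')
  refine ⟨(S ⊗[R] M) ⧸ K, inferInstance, inferInstance, inferInstance, inferInstance,
    K.mkQ.restrictScalars R ∘ₗ D₀, (isDiffOpLE_iff_iterCommVanish k _).mpr hK, ?_⟩
  intro N _ _ _ _ D' hD'
  let α' : S ⊗[R] M →ₗ[S] N := LinearMap.liftBaseChange S D'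
  have hα' : α'.restrictScalars R ∘ₗ D₀ = D' := by
    ext m
    simp [α', D₀]
  -- `K ≤ ker α'`
  have hker : K ≤ LinearMap.ker α' := by
    apply sInf_le
    change IterCommVanish (B := S) (k + 1) ((LinearMap.ker α').mkQ.restrictScalars R ∘ₗ D₀)
    let ι : ((S ⊗[R] M) ⧸ LinearMap.ker α') →ₗ[S] N := (LinearMap.ker α').liftQ α' le_rfl
    have hι : Function.Injective ι := by
      rw [← LinearMap.ker_eq_bot]
      exact Submodule.ker_liftQ_eq_bot _ _ _ le_rfl
    apply iterCommVanish_of_linear_comp_injective ι hι
    have : ι.restrictScalars R ∘ₗ ((LinearMap.ker α').mkQ.restrictScalars R ∘ₗ D₀) = D' := by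
      rw [← hα']
      ext m
      simp [ι]
    rw [this]
    exact (isDiffOpLE_iff_iterCommVanish k _).mp hD'
  refine ⟨K.liftQ α' hker, ?_, ?_⟩
  · change (K.liftQ α' hker).restrictScalars R ∘ₗ (K.mkQ.restrictScalars R ∘ₗ D₀) = D'
    rw [← hα']
    ext m
    simp
  · intro β hβ
    apply Submodule.linearMap_qext
    apply TensorProduct.AlgebraTensorModule.ext
    intro s m
    have h1 := LinearMap.congr_fun hβ m
    have h2 := LinearMap.congr_fun hα' m
    simp only [LinearMap.coe_comp, LinearMap.coe_restrictScalars, Function.comp_apply,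
      Submodule.mkQ_apply, D₀, TensorProduct.mk_apply] at h1 h2
    have hs : s ⊗ₜ[R] m = s • ((1 : S) ⊗ₜ[R] m) := by
      rw [TensorProduct.smul_tmul', smul_eq_mul, mul_one]
    simp only [LinearMap.coe_comp, Function.comp_apply, Submodule.mkQ_apply, Submodule.liftQ_apply]
    rw [hs, Submodule.Quotient.mk_smul, map_smul, map_smul, h1, h2]

end Groth.Agent.Lib.Helper14
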