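import Mathlib
import Groth.Prelude.Def_Found

/-!
# Geometric regularity over a directed union of subfields
-/

namespace Groth.Agent.Lib.Helper14.DirUnion

open TensorProduct Module

universe u

section
variable (k : Type u) [Field k] {ι : Type u}
    (K : ι → Type u) [∀ i, Field (K i)] [∀ i, Algebra (K i) k]

include K in
theorem exists_index_finset
    (hdir : ∀ i j, ∃ l, Set.range (algebraMap (K i) k) ⊆ Set.range (algebraMap (K l) k) ∧
      Set.range (algebraMap (K j) k) ⊆ Set.range (algebraMap (K l) k))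
    (hcov : ∀ x : k, ∃ i, x ∈ Set.range (algebraMap (K i) k)) (F : Finset k) :
    ∃ l, ∀ x ∈ F, x ∈ Set.range (algebraMap (K l) k) := by
  classical
  induction F using Finset.induction_on with
  | empty =>
    obtain ⟨i, _⟩ := hcov 0
    exact ⟨i, fun x hx => absurd hx (Finset.notMem_empty x)⟩
  | insert a s _ ih =>
    obtain ⟨i, hi⟩ := ih
    obtain ⟨j, hj⟩ := hcov a
    obtain ⟨l, hl1, hl2⟩ := hdir i j
    refine ⟨l, fun x hx => ?_⟩
    rcases Finset.mem_insert.mp hx with rfl | hx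
    · exact hl2 hj
    · exact hl1 (hi x hx)

end

theorem exists_descent {K₀ k k' : Type u} [Field K₀] [Field k] [Field k'] [Algebra K₀ k]
    [Algebra k k'] [Algebra K₀ k'] [IsScalarTower K₀ k k'] {n : ℕ} (b : Basis (Fin n) k k')
    (hone : ∀ c, b.repr 1 c ∈ Set.range (algebraMap K₀ k))
    (hmul : ∀ i j c, b.repr (b i * b j) c ∈ Set.range (algebraMap K₀ k)) :
    ∃ (B : IntermediateField K₀ k'), Module.Finite K₀ B ∧ Nonempty (k ⊗[K₀] B ≃ₐ[k] k') := by
  classical
  let B₀ : Submodule K₀ k' := Submodule.span K₀ (Set.range b)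
  have hb_mem : ∀ c, b c ∈ B₀ := fun c => Submodule.subset_span ⟨c, rfl⟩
  have hcomb : ∀ z : k', (∀ c, b.repr z c ∈ Set.range (algebraMap K₀ k)) → z ∈ B₀ := by
    intro z hz
    rw [← b.sum_repr z]
    refine Submodule.sum_mem _ (fun c _ => ?_)
    obtain ⟨u, hu⟩ := hz c
    rw [← hu, algebraMap_smul]
    exact Submodule.smul_mem _ _ (hb_mem c)
  have h1 : (1 : k') ∈ B₀ := hcomb 1 hone
  have hmul' : ∀ x y, x ∈ B₀ → y ∈ B₀ → x * y ∈ B₀ := by
    intro x y hx hy
    induction hx using Submodule.span_induction with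
    | mem x hx =>
      obtain ⟨i, rfl⟩ := hx
      induction hy using Submodule.span_induction with
      | mem y hy =>
        obtain ⟨j, rfl⟩ := hy
        exact hcomb _ (hmul i j)
      | zero => rw [mul_zero]; exact zero_mem _
      | add y z _ _ hy hz => rw [mul_add]; exact add_mem hy hz
      | smul r y _ hy => rw [mul_smul_comm]; exact Submodule.smul_mem _ _ hy
    | zero => rw [zero_mul]; exact zero_mem _
    | add x z _ _ hx hz => rw [add_mul]; exact add_mem hx hz
    | smul r x _ hx => rw [smul_mul_assoc]; exact Submodule.smul_mem _ _ hx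
  let Bsub : Subalgebra K₀ k' := B₀.toSubalgebra h1 hmul'
  haveI hfin : Module.Finite K₀ Bsub := by
    have : Module.Finite K₀ B₀ := Module.Finite.span_of_finite K₀ (Set.finite_range b)
    exact this
  have hfield : IsField Bsub :=
    isField_of_isIntegral_of_isField' (R := K₀) (Field.toIsField K₀)
  let B : IntermediateField K₀ k' := Subalgebra.toIntermediateField' Bsub hfield
  have hBmem : ∀ z, z ∈ B ↔ z ∈ B₀ := fun z => Iff.rfl
  refine ⟨B, hfin, ?_⟩
  let v : Fin n → B := fun c => ⟨b c, hb_mem c⟩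
  have hli : LinearIndependent K₀ v := by
    have h0 : LinearIndependent K₀ (b : Fin n → k') :=
      b.linearIndependent.restrict_scalars' K₀
    exact LinearIndependent.of_comp B.val.toLinearMap h0
  have hspan : ⊤ ≤ Submodule.span K₀ (Set.range v) := by
    rintro ⟨z, hz⟩ -
    have hz' : z ∈ B₀ := hz
    induction hz' using Submodule.span_induction with
    | mem z hz0 =>
      obtain ⟨c, rfl⟩ := hz0
      exact Submodule.subset_span ⟨c, rfl⟩
    | zero => exact zero_mem _
    | add x y hx hy ihx ihy =>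
      have : (⟨x + y, hz⟩ : B) = ⟨x, hx⟩ + ⟨y, hy⟩ := rfl
      rw [this]
      exact add_mem (ihx hx) (ihy hy)
    | smul r x hx ihx =>
      have : (⟨r • x, hz⟩ : B) = r • (⟨x, hx⟩ : B) := rfl
      rw [this]
      exact Submodule.smul_mem _ _ (ihx hx)
  let vB : Basis (Fin n) K₀ B := Basis.mk hli hspan
  let T : Basis (Fin n) k (k ⊗[K₀] B) := Algebra.TensorProduct.basis k vB
  let ψ : k ⊗[K₀] B →ₐ[k] k' :=
    Algebra.TensorProduct.lift (Algebra.ofId k k') B.val (fun _ _ => Commute.all _ _)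
  have hψ : ψ.toLinearMap = (T.equiv b (Equiv.refl _)).toLinearMap := by
    apply T.ext
    intro c
    have h1 : T c = (1 : k) ⊗ₜ[K₀] v c := by
      simp only [T, Algebra.TensorProduct.basis_apply, vB, Basis.mk_apply]
    rw [LinearEquiv.coe_coe, Basis.equiv_apply, Equiv.refl_apply, h1]
    change ψ ((1 : k) ⊗ₜ[K₀] v c) = b c
    simp only [ψ, Algebra.TensorProduct.lift_tmul, map_one, one_mul]
    rfl
  have hbij : Function.Bijective ψ := by
    have : (ψ : k ⊗[K₀] B → k') = (T.equiv b (Equiv.refl _)) := by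
      funext z
      exact congrArg (fun f => f z) hψ
    rw [this]
    exact (T.equiv b (Equiv.refl _)).bijective
  exact ⟨AlgEquiv.ofBijective ψ hbij⟩

theorem isRegularRing_transfer {K₀ k k' A : Type u} [Field K₀] [Field k] [Field k']
    [Algebra K₀ k] [Algebra k k'] [Algebra K₀ k'] [IsScalarTower K₀ k k'] [CommRing A]
    [Algebra k A] [Algebra K₀ A] [IsScalarTower K₀ k A] (B : Type u) [Field B] [Algebra K₀ B]
    (e : k ⊗[K₀] B ≃ₐ[k] k') [IsRegularRing (B ⊗[K₀] A)] : IsRegularRing (k' ⊗[k] A) := by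
  let e1 : (k ⊗[K₀] B) ⊗[k] A ≃ₐ[k] k' ⊗[k] A :=
    Algebra.TensorProduct.congr e (AlgEquiv.refl : A ≃ₐ[k] A)
  let e2 : (k ⊗[K₀] B) ⊗[k] A ≃ₐ[k] A ⊗[k] (k ⊗[K₀] B) :=
    Algebra.TensorProduct.comm k (k ⊗[K₀] B) A
  let e3 : A ⊗[k] (k ⊗[K₀] B) ≃ₐ[k] A ⊗[K₀] B :=
    Algebra.TensorProduct.cancelBaseChange K₀ k k A B
  let e4 : A ⊗[K₀] B ≃ₐ[K₀] B ⊗[K₀] A := Algebra.TensorProduct.comm K₀ A B
  let E : B ⊗[K₀] A ≃+* k' ⊗[k] A :=
    e4.symm.toRingEquiv.trans (e3.symm.toRingEquiv.trans (e2.symm.toRingEquiv.trans e1.toRingEquiv))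
  exact IsRegularRing.of_ringEquiv E

theorem isGeometricallyRegular_of_directed (k : Type u) [Field k] {ι : Type u}
    (K : ι → Type u) [∀ i, Field (K i)] [∀ i, Algebra (K i) k]
    (hdir : ∀ i j, ∃ l, Set.range (algebraMap (K i) k) ⊆ Set.range (algebraMap (K l) k) ∧
      Set.range (algebraMap (K j) k) ⊆ Set.range (algebraMap (K l) k))
    (hcov : ∀ x : k, ∃ i, x ∈ Set.range (algebraMap (K i) k))
    (A : Type u) [CommRing A] [Algebra k A] [∀ i, Algebra (K i) A]
    [∀ i, IsScalarTower (K i) k A] (h : ∀ i, CAlg.IsGeometricallyRegular (K i) A) :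
    CAlg.IsGeometricallyRegular k A := by
  classical
  intro k' _ _ hfin
  haveI := hfin
  let n := Module.finrank k k'
  let b : Basis (Fin n) k k' := Module.finBasis k k'
  let F : Finset k := (Finset.univ.image (fun c => b.repr 1 c)) ∪
    (Finset.univ.image (fun (t : Fin n × Fin n × Fin n) => b.repr (b t.1 * b t.2.1) t.2.2))
  obtain ⟨l, hl⟩ := exists_index_finset k K hdir hcov F
  letI : Algebra (K l) k' := ((algebraMap k k').comp (algebraMap (K l) k)).toAlgebra
  haveI : IsScalarTower (K l) k k' := IsScalarTower.of_algebraMap_eq' rfl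
  obtain ⟨B, hBfin, ⟨e⟩⟩ := exists_descent (K₀ := K l) b
    (fun c => hl _ (Finset.mem_union_left _ (Finset.mem_image.mpr ⟨c, Finset.mem_univ _, rfl⟩)))
    (fun i j c => hl _ (Finset.mem_union_right _
      (Finset.mem_image.mpr ⟨(i, j, c), Finset.mem_univ _, rfl⟩)))
  haveI hreg : IsRegularRing (B ⊗[K l] A) := h l B hBfin
  exact isRegularRing_transfer (K₀ := K l) B e

end Groth.Agent.Lib.Helper14.DirUnion
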