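import Mathlib.Topology.Sober
import Mathlib.Topology.Irreducible

/-!
# Dense range and irreducible components

If `f : X → Y` is continuous with dense range and `X` has finitely many irreducible components, every
irreducible component of `Y` is the closure of the image of one of `X`.
-/

set_option autoImplicit false

namespace Groth.Agent.Lib.Helper14

theorem irreducibleComponents_subset_image_of_denseRange {X Y : Type*} [TopologicalSpace X]
    [TopologicalSpace Y] (f : X → Y) (hf : Continuous f) (hd : DenseRange f)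
    (hX : (irreducibleComponents X).Finite) :
    irreducibleComponents Y ⊆ (fun C => closure (f '' C)) '' irreducibleComponents X := by
  classical
  intro T hT
  have hcov : (Set.univ : Set Y) = ⋃ C ∈ irreducibleComponents X, closure (f '' C) := by
    rw [← hX.closure_biUnion, ← Set.image_iUnion₂, ← Set.sUnion_eq_biUnion,
      sUnion_irreducibleComponents, Set.image_univ]
    exact hd.closure_range.symm
  let 𝒮 : Finset (Set Y) := hX.toFinset.image fun C => closure (f '' C)
  have h𝒮cl : ∀ z ∈ 𝒮, IsClosed z := by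
    intro z hz
    obtain ⟨C, -, rfl⟩ := Finset.mem_image.mp hz
    exact isClosed_closure
  have hT𝒮 : T ⊆ ⋃₀ (↑𝒮 : Set (Set Y)) := by
    intro y _
    have hy : y ∈ ⋃ C ∈ irreducibleComponents X, closure (f '' C) := hcov ▸ Set.mem_univ y
    obtain ⟨C, hC, hyC⟩ := Set.mem_iUnion₂.mp hy
    exact Set.mem_sUnion.mpr ⟨_, Finset.mem_coe.mpr
      (Finset.mem_image.mpr ⟨C, hX.mem_toFinset.mpr hC, rfl⟩), hyC⟩
  obtain ⟨z, hz, hTz⟩ := isIrreducible_iff_sUnion_isClosed.mp hT.1 𝒮 h𝒮cl hT𝒮
  obtain ⟨C, hC, rfl⟩ := Finset.mem_image.mp hz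
  rw [hX.mem_toFinset] at hC
  have hirr : IsIrreducible (closure (f '' C)) := (hC.1.image f hf.continuousOn).closure
  exact ⟨C, hC, Set.Subset.antisymm (hT.2 hirr hTz) hTz⟩

end Groth.Agent.Lib.Helper14
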