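import Mathlib
import Groth.Agent.Lib.Helper9.RegLocal
import Groth.Agent.Lib.Helper12.IntegralDim
import Groth.Agent.Lib.Helper26.RegularRing

/-!
# Eisenstein-type covers `A[T_i]/(T_i^{d_i} + Σ_{k<d_i} c_{ik} T_i^k)` of a regular local ring
-/

set_option autoImplicit false
universe u

namespace Groth.Agent.Lib.Helper14.EisCover

open IsLocalRing MvPolynomial

section general

variable (A : Type u) [CommRing A] {r : ℕ} (d : Fin r → ℕ) (c : Fin r → ℕ → A)

/-- The defining polynomials. -/
noncomputable abbrev F : Fin r → MvPolynomial (Fin r) A := fun i =>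
  MvPolynomial.X i ^ d i + (Finset.range (d i)).sum fun k => MvPolynomial.C (c i k) * MvPolynomial.X i ^ k

/-- The cover. -/
abbrev B : Type u := MvPolynomial (Fin r) A ⧸ Ideal.span (Set.range (F A d c))

/-- The class of `T_i`. -/
noncomputable def t (i : Fin r) : B A d c := Ideal.Quotient.mk _ (X i)

lemma algebraMap_eq (a : A) :
    algebraMap A (B A d c) a = Ideal.Quotient.mk _ (C a) := rfl

lemma eval_F {R : Type*} [CommRing R] (ψ : A →+* R) (v : Fin r → R) (i : Fin r) :
    MvPolynomial.eval₂Hom ψ v (F A d c i) =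
      v i ^ d i + (Finset.range (d i)).sum fun k => ψ (c i k) * v i ^ k := by
  simp [F]

/-- Ring homs out of the cover. -/
noncomputable def liftHom {R : Type*} [CommRing R] (ψ : A →+* R) (v : Fin r → R)
    (h : ∀ i, v i ^ d i + (Finset.range (d i)).sum (fun k => ψ (c i k) * v i ^ k) = 0) :
    B A d c →+* R :=
  Ideal.Quotient.lift _ (MvPolynomial.eval₂Hom ψ v) (by
    intro a ha
    have hle : Ideal.span (Set.range (F A d c)) ≤ RingHom.ker (MvPolynomial.eval₂Hom ψ v) := by
      refine Ideal.span_le.2 ?_
      rintro _ ⟨i, rfl⟩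
      rw [SetLike.mem_coe, RingHom.mem_ker, eval_F, h]
    exact hle ha)

lemma liftHom_algebraMap {R : Type*} [CommRing R] (ψ : A →+* R) (v : Fin r → R)
    (h : ∀ i, v i ^ d i + (Finset.range (d i)).sum (fun k => ψ (c i k) * v i ^ k) = 0) (a : A) :
    liftHom A d c ψ v h (algebraMap A _ a) = ψ a := by
  refine (Ideal.Quotient.lift_mk _ _ _).trans ?_
  simp

lemma liftHom_t {R : Type*} [CommRing R] (ψ : A →+* R) (v : Fin r → R)
    (h : ∀ i, v i ^ d i + (Finset.range (d i)).sum (fun k => ψ (c i k) * v i ^ k) = 0) (i : Fin r) :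
    liftHom A d c ψ v h (t A d c i) = v i := by
  refine (Ideal.Quotient.lift_mk _ _ _).trans ?_
  simp

lemma ringHom_ext {R : Type*} [CommRing R] (g g' : B A d c →+* R)
    (h1 : ∀ a, g (algebraMap A _ a) = g' (algebraMap A _ a))
    (h2 : ∀ i, g (t A d c i) = g' (t A d c i)) : g = g' := by
  refine Ideal.Quotient.ringHom_ext ?_
  refine MvPolynomial.ringHom_ext ?_ ?_
  · intro a; exact h1 a
  · intro i; exact h2 i

lemma t_rel (i : Fin r) : t A d c i ^ d i +
    (Finset.range (d i)).sum (fun k => algebraMap A (B A d c) (c i k) * t A d c i ^ k) = 0 := by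
  have h : Ideal.Quotient.mk (Ideal.span (Set.range (F A d c))) (F A d c i) = 0 :=
    Ideal.Quotient.eq_zero_iff_mem.2 (Ideal.subset_span ⟨i, rfl⟩)
  simp only [F, map_add, map_pow, map_sum, map_mul] at h
  exact h

lemma adjoin_t : Algebra.adjoin A (Set.range (t A d c)) = ⊤ := by
  have h := MvPolynomial.adjoin_range_X (R := A) (σ := Fin r)
  have h2 := congrArg (Subalgebra.map (Ideal.Quotient.mkₐ A (Ideal.span (Set.range (F A d c))))) h
  rw [AlgHom.map_adjoin, Algebra.map_top, ← Set.range_comp] at h2
  rw [show Set.range (t A d c) =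
    Set.range ((Ideal.Quotient.mkₐ A (Ideal.span (Set.range (F A d c)))) ∘ X) from rfl, h2]
  exact (AlgHom.range_eq_top _).2 (Ideal.Quotient.mkₐ_surjective A _)

/-- The one-variable polynomial. -/
noncomputable def P (i : Fin r) : Polynomial A :=
  Polynomial.X ^ d i + (Finset.range (d i)).sum fun k => Polynomial.C (c i k) * Polynomial.X ^ k

lemma P_monic (i : Fin r) : (P A d c i).Monic := by
  apply Polynomial.monic_X_pow_add
  refine (Polynomial.degree_sum_le _ _).trans_lt ?_
  rw [Finset.sup_lt_iff (by exact WithBot.bot_lt_coe _)]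
  intro k hk
  refine (Polynomial.degree_C_mul_X_pow_le _ _).trans_lt ?_
  exact_mod_cast Finset.mem_range.1 hk

lemma P_degree [Nontrivial A] (i : Fin r) : (P A d c i).degree = d i := by
  rw [P, Polynomial.degree_add_eq_left_of_degree_lt, Polynomial.degree_X_pow]
  rw [Polynomial.degree_X_pow]
  refine (Polynomial.degree_sum_le _ _).trans_lt ?_
  rw [Finset.sup_lt_iff (by exact WithBot.bot_lt_coe _)]
  intro k hk
  refine (Polynomial.degree_C_mul_X_pow_le _ _).trans_lt ?_
  exact_mod_cast Finset.mem_range.1 hk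

lemma eval₂_P {R : Type*} [CommRing R] (ψ : A →+* R) (z : R) (i : Fin r) :
    (P A d c i).eval₂ ψ z = z ^ d i + (Finset.range (d i)).sum fun k => ψ (c i k) * z ^ k := by
  simp [P, Polynomial.eval₂_finset_sum]

lemma isIntegral : Algebra.IsIntegral A (B A d c) := by
  refine ⟨fun b => ?_⟩
  have hb : b ∈ Algebra.adjoin A (Set.range (t A d c)) := by rw [adjoin_t]; trivial
  have hle : Algebra.adjoin A (Set.range (t A d c)) ≤ integralClosure A (B A d c) := by
    refine Algebra.adjoin_le ?_
    rintro _ ⟨i, rfl⟩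
    refine ⟨P A d c i, P_monic A d c i, ?_⟩
    rw [eval₂_P, t_rel]
  exact hle hb

end general


section loc

variable (A : Type u) [CommRing A] [IsLocalRing A] {r : ℕ} (d : Fin r → ℕ) (c : Fin r → ℕ → A)

/-- The augmentation to the residue field, `T_i ↦ 0`. -/
noncomputable def eps (hd : ∀ i, 1 ≤ d i) (hc : ∀ i k, c i k ∈ maximalIdeal A) :
    B A d c →+* ResidueField A :=
  liftHom A d c (residue A) (fun _ => 0) (by
    intro i
    have h0 : d i ≠ 0 := by have := hd i; omega
    rw [zero_pow h0, zero_add]
    refine Finset.sum_eq_zero fun k _ => ?_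
    rw [(residue_eq_zero_iff _).2 (hc i k), zero_mul])

variable (hd : ∀ i, 1 ≤ d i) (hc : ∀ i k, c i k ∈ maximalIdeal A)

lemma eps_algebraMap (a : A) :
    eps A d c hd hc (algebraMap A _ a) = residue A a :=
  liftHom_algebraMap A d c _ _ _ a

lemma eps_t (i : Fin r) : eps A d c hd hc (t A d c i) = 0 :=
  liftHom_t A d c _ _ _ i

lemma eps_surjective : Function.Surjective (eps A d c hd hc) := by
  intro x
  obtain ⟨a, rfl⟩ := residue_surjective x
  exact ⟨_, eps_algebraMap A d c hd hc a⟩

lemma ker_eps : RingHom.ker (eps A d c hd hc) =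
    Ideal.map (algebraMap A (B A d c)) (maximalIdeal A) ⊔
      Ideal.span (Set.range (t A d c)) := by
  apply le_antisymm
  · intro b hb
    obtain ⟨P, rfl⟩ := Ideal.Quotient.mk_surjective b
    have hP : P = C (constantCoeff P) + (P - C (constantCoeff P)) := by ring
    have hQ : P - C (constantCoeff P) ∈ Ideal.span (X '' (Set.univ : Set (Fin r))) := by
      rw [MvPolynomial.mem_ideal_span_X_image]
      intro m hm'
      by_contra hcon
      push_neg at hcon
      have hm0 : m = 0 := by
        ext i; exact hcon i (Set.mem_univ i)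
      rw [hm0, MvPolynomial.mem_support_iff, MvPolynomial.coeff_sub,
        ← MvPolynomial.constantCoeff_eq, MvPolynomial.constantCoeff_C, sub_self] at hm'
      exact hm' rfl
    have hQ' : Ideal.Quotient.mk (Ideal.span (Set.range (F A d c))) (P - C (constantCoeff P)) ∈
        Ideal.span (Set.range (t A d c)) := by
      have := Ideal.mem_map_of_mem (Ideal.Quotient.mk (Ideal.span (Set.range (F A d c)))) hQ
      rw [Ideal.map_span, Set.image_univ, ← Set.range_comp] at this
      exact this
    have hc' : constantCoeff P ∈ maximalIdeal A := by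
      rw [RingHom.mem_ker, hP, map_add, map_add] at hb
      have h2 : eps A d c hd hc
          (Ideal.Quotient.mk (Ideal.span (Set.range (F A d c))) (P - C (constantCoeff P))) = 0 := by
        have hle : Ideal.span (Set.range (t A d c)) ≤ RingHom.ker (eps A d c hd hc) := by
          refine Ideal.span_le.2 ?_
          rintro _ ⟨i, rfl⟩
          exact eps_t A d c hd hc i
        exact hle hQ'
      rw [h2, add_zero, ← algebraMap_eq, eps_algebraMap] at hb
      exact (residue_eq_zero_iff _).1 hb
    rw [hP, map_add]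
    refine Ideal.add_mem _ (Ideal.mem_sup_left ?_) (Ideal.mem_sup_right hQ')
    exact Ideal.mem_map_of_mem _ hc'
  · refine sup_le ?_ ?_
    · refine Ideal.map_le_iff_le_comap.2 ?_
      intro a ha
      rw [Ideal.mem_comap, RingHom.mem_ker, eps_algebraMap]
      exact (residue_eq_zero_iff _).2 ha
    · refine Ideal.span_le.2 ?_
      rintro _ ⟨i, rfl⟩
      exact eps_t A d c hd hc i

lemma ker_eps_isMaximal : (RingHom.ker (eps A d c hd hc)).IsMaximal :=
  RingHom.ker_isMaximal_of_surjective _ (eps_surjective A d c hd hc)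

lemma le_of_isMaximal (M : Ideal (B A d c)) [hM : M.IsMaximal] :
    RingHom.ker (eps A d c hd hc) ≤ M := by
  haveI := isIntegral A d c
  have h1 : (M.comap (algebraMap A (B A d c))).IsMaximal :=
    Ideal.isMaximal_comap_of_isIntegral_of_isMaximal M
  have h2 := IsLocalRing.eq_maximalIdeal h1
  have hcM : ∀ i k, algebraMap A (B A d c) (c i k) ∈ M := by
    intro i k
    have : c i k ∈ M.comap (algebraMap A (B A d c)) := by rw [h2]; exact hc i k
    exact this
  rw [ker_eps]
  refine sup_le ?_ ?_
  · rw [Ideal.map_le_iff_le_comap, h2]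
  · refine Ideal.span_le.2 ?_
    rintro _ ⟨i, rfl⟩
    have h3 : t A d c i ^ d i ∈ M := by
      have h4 := t_rel A d c i
      rw [add_eq_zero_iff_eq_neg] at h4
      rw [h4]
      refine M.neg_mem (M.sum_mem fun k _ => M.mul_mem_right _ (hcM i k))
    exact hM.isPrime.mem_of_pow_mem _ h3

include hd hc in
lemma isLocalRing : IsLocalRing (B A d c) := by
  refine IsLocalRing.of_unique_max_ideal ⟨_, ker_eps_isMaximal A d c hd hc, ?_⟩
  intro M hM
  haveI := hM
  exact ((ker_eps_isMaximal A d c hd hc).eq_of_le hM.ne_top (le_of_isMaximal A d c hd hc M)).symm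

include hd hc in
lemma eq_ker_eps (M : Ideal (B A d c)) [hM : M.IsMaximal] : M = RingHom.ker (eps A d c hd hc) :=
  ((ker_eps_isMaximal A d c hd hc).eq_of_le hM.ne_top (le_of_isMaximal A d c hd hc M)).symm

include hd hc in
lemma residue_surjective' (M : Ideal (B A d c)) [hM : M.IsMaximal] :
    Function.Surjective ((Ideal.Quotient.mk M).comp (algebraMap A (B A d c))) := by
  intro x
  obtain ⟨b, rfl⟩ := Ideal.Quotient.mk_surjective x
  obtain ⟨a, ha⟩ := residue_surjective (eps A d c hd hc b)
  refine ⟨a, ?_⟩
  rw [RingHom.comp_apply, Ideal.Quotient.eq, eq_ker_eps A d c hd hc M, RingHom.mem_ker, map_sub,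
    eps_algebraMap, ha, sub_self]

include hd hc in
lemma maximalIdeal_eq [IsLocalRing (B A d c)] :
    maximalIdeal (B A d c) =
      Ideal.map (algebraMap A (B A d c)) (maximalIdeal A) ⊔
        Ideal.span (Set.range (t A d c)) := by
  rw [← ker_eps A d c hd hc]
  exact (IsLocalRing.eq_maximalIdeal (ker_eps_isMaximal A d c hd hc)).symm

lemma maximalIdeal_eq_ker [IsLocalRing (B A d c)] :
    maximalIdeal (B A d c) = RingHom.ker (eps A d c hd hc) :=
  (IsLocalRing.eq_maximalIdeal (ker_eps_isMaximal A d c hd hc)).symm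

end loc


section inj

variable (A : Type u) [CommRing A] [IsDomain A] {r : ℕ} (d : Fin r → ℕ) (c : Fin r → ℕ → A)

lemma algebraMap_injective (hd : ∀ i, 1 ≤ d i) :
    Function.Injective (algebraMap A (B A d c)) := by
  classical
  let K := AlgebraicClosure (FractionRing A)
  have hinj : Function.Injective (algebraMap A K) := by
    rw [IsScalarTower.algebraMap_eq A (FractionRing A) K]
    exact (algebraMap (FractionRing A) K).injective.comp (IsFractionRing.injective A (FractionRing A))
  have hroot : ∀ i, ∃ z : K, z ^ d i +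
      (Finset.range (d i)).sum (fun k => algebraMap A K (c i k) * z ^ k) = 0 := by
    intro i
    obtain ⟨z, hz⟩ := IsAlgClosed.exists_eval₂_eq_zero_of_injective (algebraMap A K) hinj
      (P A d c i) (by
        rw [P_degree]
        have := hd i
        exact_mod_cast (by omega : d i ≠ 0))
    exact ⟨z, by rw [← eval₂_P]; exact hz⟩
  choose ρ hρ using hroot
  intro a b hab
  apply hinj
  rw [← liftHom_algebraMap A d c _ ρ hρ, ← liftHom_algebraMap A d c _ ρ hρ b, hab]

end inj

section c0

variable (A : Type u) [CommRing A] {r : ℕ} (d : Fin r → ℕ) (c : Fin r → ℕ → A)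

lemma c0_mem (hd : ∀ i, 1 ≤ d i) (i : Fin r) :
    algebraMap A (B A d c) (c i 0) ∈ Ideal.span (Set.range (t A d c)) := by
  have hti : t A d c i ∈ Ideal.span (Set.range (t A d c)) := Ideal.subset_span ⟨i, rfl⟩
  obtain ⟨m, hm⟩ : ∃ m, d i = m + 1 := ⟨d i - 1, by have := hd i; omega⟩
  have h := t_rel A d c i
  rw [hm, Finset.sum_range_succ', pow_zero, mul_one] at h
  have h2 : algebraMap A (B A d c) (c i 0) = -(t A d c i ^ (m + 1) +
      ∑ k ∈ Finset.range m, algebraMap A (B A d c) (c i (k + 1)) * t A d c i ^ (k + 1)) := by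
    linear_combination h
  rw [h2]
  refine neg_mem (Ideal.add_mem _ ?_ ?_)
  · exact Ideal.pow_mem_of_mem _ hti _ (by omega)
  · refine Ideal.sum_mem _ fun k _ => Ideal.mul_mem_left _ _ ?_
    exact Ideal.pow_mem_of_mem _ hti _ (by omega)

/-- The quotient by the `t_i` is `A/(c_{i0})`. -/
noncomputable def quotEquiv (hd : ∀ i, 1 ≤ d i) :
    (B A d c ⧸ Ideal.span (Set.range (t A d c))) ≃+*
      (A ⧸ Ideal.span (Set.range fun i => c i 0)) := by
  let Q := Ideal.span (Set.range fun i => c i 0)
  let J := Ideal.span (Set.range (t A d c))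
  let fwd0 : B A d c →+* A ⧸ Q := liftHom A d c (Ideal.Quotient.mk Q) (fun _ => 0) (by
    intro i
    have h0 : d i ≠ 0 := by have := hd i; omega
    rw [zero_pow h0, zero_add]
    refine Finset.sum_eq_zero fun k _ => ?_
    rcases Nat.eq_zero_or_pos k with hk | hk
    · subst hk
      rw [pow_zero, mul_one, Ideal.Quotient.eq_zero_iff_mem]
      exact Ideal.subset_span ⟨i, rfl⟩
    · rw [zero_pow (by omega), mul_zero])
  have hfwd0φ : ∀ a, fwd0 (algebraMap A _ a) = Ideal.Quotient.mk Q a :=
    fun a => liftHom_algebraMap A d c _ _ _ a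
  have hfwd0t : ∀ i, fwd0 (t A d c i) = 0 := fun i => liftHom_t A d c _ _ _ i
  let fwd : B A d c ⧸ J →+* A ⧸ Q := Ideal.Quotient.lift J fwd0 (by
    intro b hb
    have hle : J ≤ RingHom.ker fwd0 := by
      refine Ideal.span_le.2 ?_
      rintro _ ⟨i, rfl⟩
      exact hfwd0t i
    exact hle hb)
  let bwd : A ⧸ Q →+* B A d c ⧸ J :=
    Ideal.Quotient.lift Q ((Ideal.Quotient.mk J).comp (algebraMap A (B A d c))) (by
      intro a ha
      have hle : Q ≤ RingHom.ker ((Ideal.Quotient.mk J).comp (algebraMap A (B A d c))) := by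
        refine Ideal.span_le.2 ?_
        rintro _ ⟨i, rfl⟩
        rw [SetLike.mem_coe, RingHom.mem_ker, RingHom.comp_apply, Ideal.Quotient.eq_zero_iff_mem]
        exact c0_mem A d c hd i
      exact hle ha)
  refine RingEquiv.ofRingHom fwd bwd ?_ ?_
  · refine Ideal.Quotient.ringHom_ext ?_
    ext a
    simp only [RingHom.comp_apply, RingHom.id_apply]
    change fwd (bwd (Ideal.Quotient.mk Q a)) = _
    rw [show bwd (Ideal.Quotient.mk Q a) = Ideal.Quotient.mk J (algebraMap A (B A d c) a) from
      Ideal.Quotient.lift_mk _ _ _]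
    rw [show fwd (Ideal.Quotient.mk J (algebraMap A (B A d c) a)) = fwd0 (algebraMap A _ a) from
      Ideal.Quotient.lift_mk _ _ _, hfwd0φ]
  · refine Ideal.Quotient.ringHom_ext ?_
    refine ringHom_ext A d c (R := B A d c ⧸ J) _ _ ?_ ?_
    · intro a
      simp only [RingHom.comp_apply, RingHom.id_apply]
      rw [show fwd (Ideal.Quotient.mk J (algebraMap A (B A d c) a)) = fwd0 (algebraMap A _ a) from
        Ideal.Quotient.lift_mk _ _ _, hfwd0φ]
      exact Ideal.Quotient.lift_mk _ _ _
    · intro i
      simp only [RingHom.comp_apply, RingHom.id_apply]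
      rw [show fwd (Ideal.Quotient.mk J (t A d c i)) = fwd0 (t A d c i) from
        Ideal.Quotient.lift_mk _ _ _, hfwd0t, map_zero]
      have hti : t A d c i ∈ J := Ideal.subset_span ⟨i, rfl⟩
      exact (Ideal.Quotient.eq_zero_iff_mem.2 hti).symm

end c0


section theta

open DualNumber

variable (A : Type u) [CommRing A] [IsLocalRing A] {r : ℕ} (d : Fin r → ℕ) (c : Fin r → ℕ → A)

/-- The map to the dual numbers `T_i ↦ ε`, `T_j ↦ 0`. -/
noncomputable def theta (hd : ∀ i, 2 ≤ d i) (hc : ∀ i k, c i k ∈ maximalIdeal A) (i : Fin r) :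
    B A d c →+* DualNumber (ResidueField A) := by
  classical
  exact liftHom A d c ((TrivSqZeroExt.inlHom (ResidueField A) (ResidueField A)).comp (residue A))
    (fun j => if j = i then ε else 0) (by
      intro j
      have hsum : (Finset.range (d j)).sum (fun k =>
          ((TrivSqZeroExt.inlHom (ResidueField A) (ResidueField A)).comp (residue A)) (c j k) *
            (if j = i then (ε : DualNumber (ResidueField A)) else 0) ^ k) = 0 := by
        refine Finset.sum_eq_zero fun k _ => ?_
        rw [RingHom.comp_apply, (residue_eq_zero_iff _).2 (hc j k), map_zero, zero_mul]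
      rw [hsum, add_zero]
      obtain ⟨m, hm⟩ : ∃ m, d j = m + 2 := ⟨d j - 2, by have := hd j; omega⟩
      split_ifs
      · rw [hm, pow_add, pow_two, DualNumber.eps_mul_eps, mul_zero]
      · exact zero_pow (by omega))

variable (hd : ∀ i, 2 ≤ d i) (hc : ∀ i k, c i k ∈ maximalIdeal A)

lemma theta_algebraMap (i : Fin r) (a : A) :
    theta A d c hd hc i (algebraMap A _ a) = TrivSqZeroExt.inl (residue A a) := by
  classical
  exact liftHom_algebraMap A d c _ _ _ a

lemma theta_t (i j : Fin r) :
    theta A d c hd hc i (t A d c j) = if j = i then ε else 0 := by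
  classical
  unfold theta
  rw [liftHom_t]

lemma fst_theta (i : Fin r) (b : B A d c) :
    TrivSqZeroExt.fst (theta A d c hd hc i b) =
      eps A d c (fun i => le_trans one_le_two (hd i)) hc b := by
  classical
  have h : (TrivSqZeroExt.fstHom (ResidueField A) (ResidueField A) (ResidueField A)).toRingHom.comp
      (theta A d c hd hc i) = eps A d c (fun i => le_trans one_le_two (hd i)) hc := by
    refine ringHom_ext A d c _ _ ?_ ?_
    · intro a
      rw [RingHom.comp_apply, theta_algebraMap, eps_algebraMap]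
      rfl
    · intro j
      rw [RingHom.comp_apply, theta_t, eps_t]
      split_ifs
      · exact DualNumber.fst_eps
      · rfl
  exact RingHom.congr_fun h b

lemma theta_sq [IsLocalRing (B A d c)] (i : Fin r) (b : B A d c)
    (hb : b ∈ maximalIdeal (B A d c) ^ 2) : theta A d c hd hc i b = 0 := by
  rw [pow_two] at hb
  refine Submodule.mul_induction_on hb ?_ ?_
  · intro u hu v hv
    rw [maximalIdeal_eq_ker A d c (fun i => le_trans one_le_two (hd i)) hc, RingHom.mem_ker,
      ← fst_theta A d c hd hc i] at hu hv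
    rw [map_mul]
    refine TrivSqZeroExt.ext ?_ ?_
    · rw [TrivSqZeroExt.fst_mul, hu, zero_mul]; rfl
    · rw [DualNumber.snd_mul, hu, hv, zero_mul, mul_zero, add_zero]; rfl
  · intro u v hu hv
    rw [map_add, hu, hv, add_zero]

include hd hc in
lemma linearIndependent_t [IsLocalRing (B A d c)]
    (ht : ∀ i, t A d c i ∈ maximalIdeal (B A d c)) :
    LinearIndependent (ResidueField (B A d c))
      (fun i => (maximalIdeal (B A d c)).toCotangent ⟨t A d c i, ht i⟩) := by
  classical
  rw [Fintype.linearIndependent_iff]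
  intro g hg i
  choose b hb using fun j => residue_surjective (g j)
  have h1 : (maximalIdeal (B A d c)).toCotangent
      (∑ j, b j • (⟨t A d c j, ht j⟩ : maximalIdeal (B A d c))) = 0 := by
    rw [map_sum, ← hg]
    refine Finset.sum_congr rfl fun j _ => ?_
    rw [map_smul, ← hb j]
    exact (algebraMap_smul (ResidueField (B A d c)) (b j) _).symm
  rw [Ideal.toCotangent_eq_zero] at h1
  have h2 := theta_sq A d c hd hc i _ h1
  have h3 : ((∑ j, b j • (⟨t A d c j, ht j⟩ : maximalIdeal (B A d c)) :
      maximalIdeal (B A d c)) : B A d c) = ∑ j, b j * t A d c j := by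
    rw [Submodule.coe_sum]
    rfl
  rw [h3, map_sum, Finset.sum_eq_single i] at h2
  · rw [map_mul, theta_t, if_pos rfl] at h2
    have h4 := congrArg TrivSqZeroExt.snd h2
    rw [DualNumber.snd_mul, DualNumber.snd_eps, DualNumber.fst_eps, mul_one, mul_zero, add_zero,
      fst_theta] at h4
    have h5 : b i ∈ maximalIdeal (B A d c) := by
      rw [maximalIdeal_eq_ker A d c (fun i => le_trans one_le_two (hd i)) hc, RingHom.mem_ker]
      exact h4
    rw [← hb i]
    exact (residue_eq_zero_iff _).2 h5
  · intro j _ hji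
    rw [map_mul, theta_t, if_neg hji, mul_zero]
  · intro h; exact absurd (Finset.mem_univ i) h

end theta


section reg

variable (A : Type u) [CommRing A] [IsRegularLocalRing A] {r : ℕ} (d : Fin r → ℕ)
  (c : Fin r → ℕ → A)

lemma ringKrullDim_eq (hd : ∀ i, 1 ≤ d i) : ringKrullDim (B A d c) = ringKrullDim A := by
  haveI := Groth.Agent.Lib.Helper9.RegLocal.isDomain_of_isRegularLocalRing A
  haveI := isIntegral A d c
  exact le_antisymm Groth.Agent.Lib.Helper12.ringKrullDim_le_of_isIntegral
    (Groth.Agent.Lib.Helper12.ringKrullDim_le_of_isIntegral_of_injective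
      (algebraMap_injective A d c hd))

theorem regular_of_indep (hd : ∀ i, 1 ≤ d i) (hc : ∀ i k, c i k ∈ maximalIdeal A)
    (hf : LinearIndependent (ResidueField A)
      (fun i => (maximalIdeal A).toCotangent ⟨c i 0, hc i 0⟩)) :
    IsRegularLocalRing (B A d c) := by
  classical
  haveI := isLocalRing A d c hd hc
  -- extend `c i 0` to generators of the maximal ideal
  set x : Fin r → maximalIdeal A := fun i => ⟨c i 0, hc i 0⟩ with hx
  set W := Submodule.span (ResidueField A)
    (Set.range fun i => (maximalIdeal A).toCotangent (x i)) with hWdef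
  have hW : Module.finrank (ResidueField A) W = r := by
    rw [hWdef, finrank_span_eq_card hf, Fintype.card_fin]
  set e := Module.finrank (ResidueField A) (CotangentSpace A ⧸ W) with hedef
  have he : e + r = Module.finrank (ResidueField A) (CotangentSpace A) := by
    rw [← hW]; exact Submodule.finrank_quotient_add_finrank W
  let b := Module.finBasis (ResidueField A) (CotangentSpace A ⧸ W)
  have hlift : ∀ j : Fin e, ∃ y : maximalIdeal A,
      W.mkQ ((maximalIdeal A).toCotangent y) = b j := by
    intro j
    obtain ⟨v, hv⟩ := W.mkQ_surjective (b j)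
    obtain ⟨y, rfl⟩ := (maximalIdeal A).toCotangent_surjective v
    exact ⟨y, hv⟩
  choose y hy using hlift
  have hspan : W ⊔ Submodule.span (ResidueField A)
      (Set.range fun j => (maximalIdeal A).toCotangent (y j)) = ⊤ := by
    rw [← Submodule.map_mkQ_eq_top, Submodule.map_span, ← Set.range_comp]
    have : (W.mkQ ∘ fun j => (maximalIdeal A).toCotangent (y j)) = b := funext hy
    rw [this, b.span_eq]
  have hmA : Ideal.span (Set.range fun i => (x i : A)) ⊔
      Ideal.span (Set.range fun j => (y j : A)) = maximalIdeal A :=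
    (Groth.Agent.Lib.Helper9.RegLocal.span_cotangent_sup_eq_top_iff x y).1 hspan
  have hdA : ringKrullDim A = ((e + r : ℕ) : WithBot ℕ∞) := by
    rw [← IsRegularLocalRing.spanFinrank_maximalIdeal,
      spanFinrank_maximalIdeal_eq_finrank_cotangentSpace, he]
  set φ := algebraMap A (B A d c) with hφ
  have hmB : maximalIdeal (B A d c) =
      Ideal.span (Set.range (fun j => φ (y j : A)) ∪ Set.range (t A d c)) := by
    have hmap : Ideal.map φ (maximalIdeal A) =
        Ideal.span (Set.range fun i => φ (x i : A)) ⊔ Ideal.span (Set.range fun j => φ (y j : A)) := by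
      calc Ideal.map φ (maximalIdeal A) = Ideal.map φ (Ideal.span (Set.range fun i => (x i : A)) ⊔
            Ideal.span (Set.range fun j => (y j : A))) := congrArg _ hmA.symm
        _ = _ := by
          rw [Ideal.map_sup, Ideal.map_span, Ideal.map_span, ← Set.range_comp, ← Set.range_comp]
          rfl
    rw [maximalIdeal_eq A d c hd hc, hmap, Ideal.span_union]
    apply le_antisymm
    · refine sup_le (sup_le ?_ le_sup_left) le_sup_right
      refine Ideal.span_le.2 ?_
      rintro _ ⟨i, rfl⟩
      refine Ideal.mem_sup_right ?_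
      exact c0_mem A d c hd i
    · exact sup_le (le_sup_of_le_left le_sup_right) le_sup_right
  have hfin : (Set.range (fun j => φ (y j : A)) ∪ Set.range (t A d c)).Finite :=
    (Set.finite_range _).union (Set.finite_range _)
  have hcard : (Set.range (fun j => φ (y j : A)) ∪ Set.range (t A d c)).ncard ≤ e + r := by
    refine (Set.ncard_union_le _ _).trans (add_le_add ?_ ?_)
    · rw [← Set.image_univ]
      exact (Set.ncard_image_le Set.finite_univ).trans (by rw [Set.ncard_univ, Nat.card_fin])
    · rw [← Set.image_univ]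
      exact (Set.ncard_image_le Set.finite_univ).trans (by rw [Set.ncard_univ, Nat.card_fin])
  have h1 : (maximalIdeal (B A d c)).spanFinrank ≤ e + r := by
    rw [hmB]
    exact (Submodule.spanFinrank_span_le_ncard_of_finite hfin).trans hcard
  apply IsRegularLocalRing.of_spanFinrank_maximalIdeal_le
  rw [ringKrullDim_eq A d c hd, hdA]
  exact_mod_cast h1

theorem indep_of_regular (hd : ∀ i, 2 ≤ d i) (hc : ∀ i k, c i k ∈ maximalIdeal A)
    [hreg : IsRegularLocalRing (B A d c)] :
    LinearIndependent (ResidueField A)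
      (fun i => (maximalIdeal A).toCotangent ⟨c i 0, hc i 0⟩) := by
  classical
  have hd1 : ∀ i, 1 ≤ d i := fun i => le_trans one_le_two (hd i)
  have ht : ∀ i, t A d c i ∈ maximalIdeal (B A d c) := by
    intro i
    rw [maximalIdeal_eq A d c hd1 hc]
    exact Ideal.mem_sup_right (Ideal.subset_span ⟨i, rfl⟩)
  have hli := linearIndependent_t A d c hd hc ht
  obtain ⟨hdim, hregq⟩ := Groth.Agent.Lib.Helper9.RegLocal.quotient_regular (B A d c) r
    (fun i => ⟨t A d c i, ht i⟩) hli
  have hrange : (Set.range fun i => ((⟨t A d c i, ht i⟩ : maximalIdeal (B A d c)) : B A d c)) =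
      Set.range (t A d c) := rfl
  rw [hrange] at hdim hregq
  let e := quotEquiv A d c hd1
  haveI := hregq
  haveI : IsRegularLocalRing (A ⧸ Ideal.span (Set.range fun i => c i 0)) :=
    IsRegularLocalRing.of_ringEquiv (R := B A d c ⧸ Ideal.span (Set.range (t A d c))) e
  have hdim' : ringKrullDim (A ⧸ Ideal.span (Set.range fun i => c i 0)) + r = ringKrullDim A := by
    rw [← ringKrullDim_eq_of_ringEquiv (R := B A d c ⧸ Ideal.span (Set.range (t A d c))) e, hdim,
      ringKrullDim_eq A d c hd1]
  exact (Groth.Agent.Lib.Helper9.RegLocal.regular_of_quotient_regular A r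
    (fun i => ⟨c i 0, hc i 0⟩) hdim').2

theorem main (hd : ∀ i, 2 ≤ d i) (hc : ∀ i k, c i k ∈ maximalIdeal A) :
    IsLocalRing (B A d c) ∧
    (∀ (M : Ideal (B A d c)) [M.IsMaximal],
      Function.Surjective ((Ideal.Quotient.mk M).comp (algebraMap A (B A d c)))) ∧
    (IsRegularRing (B A d c) ↔
      LinearIndependent (ResidueField A)
        (fun i => (maximalIdeal A).toCotangent ⟨c i 0, hc i 0⟩)) := by
  have hd1 : ∀ i, 1 ≤ d i := fun i => le_trans one_le_two (hd i)
  haveI hloc := isLocalRing A d c hd1 hc
  refine ⟨hloc, ?_, ?_, ?_⟩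
  · intro M hM
    exact residue_surjective' A d c hd1 hc M
  · intro h
    haveI : IsRegularLocalRing (B A d c) := IsRegularLocalRing.of_isRegularRing_of_isLocalRing _
    exact indep_of_regular A d c hd hc
  · intro h
    haveI := regular_of_indep A d c hd1 hc h
    exact Groth.Agent.Lib.Helper26.RegularRing.isRegularRing_of_isRegularLocalRing _

end reg

end Groth.Agent.Lib.Helper14.EisCover
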