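import Mathlib

/-!
Helper lemmas for `S2032`: elementary standard elements give standard smooth localizations.
-/

namespace Groth.Agent.Lib.Helper14.ElemStd

open Polynomial

variable {B A : Type*} [CommRing B] [CommRing A]

/-- Cayley–Hamilton/Nakayama: if `ā • I ≤ I * I` for a f.g. ideal `I`, there is
`g₀ = ā ^ k + h`, `h ∈ I`, killing `I`. -/
theorem exists_killer (I : Ideal B) (hI : I.FG) (ā : B) (h : ∀ y ∈ I, ā * y ∈ I * I) :
    ∃ (k : ℕ) (g₀ : B), g₀ - ā ^ k ∈ I ∧ ∀ y ∈ I, g₀ * y = 0 := by
  classical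
  haveI : Module.Finite B I := Module.Finite.iff_fg.mpr hI
  let f : Module.End B I := algebraMap B (Module.End B I) ā
  have hf : LinearMap.range f ≤ I • (⊤ : Submodule B I) := by
    rintro _ ⟨y, rfl⟩
    rw [Submodule.mem_smul_top_iff]
    show ((ā • y : I) : B) ∈ I • I
    rw [Submodule.coe_smul, smul_eq_mul, smul_eq_mul]
    exact h y y.2
  obtain ⟨p, hp, -, hcoeff, hzero⟩ :=
    LinearMap.exists_monic_and_natDegree_eq_and_coeff_mem_pow_and_aeval_eq_zero B f I hf
  refine ⟨p.natDegree, p.eval ā, ?_, ?_⟩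
  · rw [Polynomial.eval_eq_sum_range, Finset.sum_range_succ, hp.coeff_natDegree, one_mul,
      add_sub_cancel_right]
    refine Ideal.sum_mem _ fun i hi => ?_
    have hi' : i < p.natDegree := Finset.mem_range.mp hi
    have : p.coeff i ∈ I := by
      have h1 := hcoeff i
      have h2 : I ^ (p.natDegree - i) ≤ I := by
        have : p.natDegree - i ≠ 0 := by omega
        exact Ideal.pow_le_self this
      exact h2 h1
    exact Ideal.mul_mem_right _ _ this
  · intro y hy
    have h1 : (Polynomial.aeval f p) ⟨y, hy⟩ = 0 := by rw [hzero]; rfl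
    have h2 : Polynomial.aeval f p = algebraMap B (Module.End B I) (p.eval ā) := by
      show Polynomial.aeval (algebraMap B (Module.End B I) ā) p = _
      rw [Polynomial.aeval_algebraMap_apply]
      rfl
    rw [h2] at h1
    have h3 := congrArg Subtype.val h1
    simpa [Module.algebraMap_end_apply] using h3

/-- The localization statement. -/
theorem isLocalization_away (π : B →+* A) (hπ : Function.Surjective π) (g : B)
    (hg : ∀ y ∈ RingHom.ker π, g * y = 0) (a : A) (k : ℕ) (hga : π g = a ^ (k + 1))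
    (A' : Type*) [CommRing A'] [Algebra A A'] [IsLocalization.Away a A'] [Algebra B A']
    (hcomp : ∀ b, algebraMap B A' b = algebraMap A A' (π b)) :
    IsLocalization.Away g A' := by
  have hunit : IsUnit (algebraMap A A' a) := IsLocalization.Away.algebraMap_isUnit a
  show IsLocalization (Submonoid.powers g) A'
  rw [isLocalization_iff]
  refine ⟨?_, ?_, ?_⟩
  · rintro ⟨_, m, rfl⟩
    show IsUnit (algebraMap B A' (g ^ m))
    rw [hcomp, map_pow, hga, map_pow, map_pow]
    exact (hunit.pow _).pow _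
  · intro z
    obtain ⟨⟨x₀, ⟨_, m, rfl⟩⟩, hx⟩ := IsLocalization.surj (Submonoid.powers a) z
    obtain ⟨b, hb⟩ := hπ (x₀ * a ^ (k * m))
    refine ⟨(b, ⟨g ^ m, m, rfl⟩), ?_⟩
    show z * algebraMap B A' (g ^ m) = algebraMap B A' b
    rw [hcomp, hcomp, hb, map_pow, hga, map_mul, ← hx]
    simp only [map_pow]
    ring
  · intro b b' hbb
    rw [hcomp, hcomp] at hbb
    obtain ⟨⟨_, m, rfl⟩, hm⟩ := IsLocalization.exists_of_eq (M := Submonoid.powers a) hbb
    have hm' : a ^ m * π (b - b') = 0 := by
      rw [map_sub, mul_sub, sub_eq_zero]; exact hm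
    have h1 : g ^ m * (b - b') ∈ RingHom.ker π := by
      rw [RingHom.mem_ker, map_mul, map_pow, hga, ← pow_mul]
      have : a ^ ((k + 1) * m) = a ^ (k * m) * a ^ m := by
        rw [← pow_add]; congr 1; ring
      rw [this, mul_assoc, hm', mul_zero]
    have h2 := hg _ h1
    refine ⟨⟨g ^ (m + 1), m + 1, rfl⟩, ?_⟩
    show g ^ (m + 1) * b = g ^ (m + 1) * b'
    rw [← sub_eq_zero, ← mul_sub, pow_succ', mul_assoc]
    exact h2

end Groth.Agent.Lib.Helper14.ElemStd
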