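import Mathlib

/-!
# Lifting complete orthogonal idempotents to an étale neighbourhood (helper14)
-/

set_option autoImplicit false
universe u

namespace Groth.Agent.Lib.Helper14

section PiIdeal

variable {A : Type u} [CommRing A] {ι : Type} [Fintype ι] [DecidableEq ι] (B : ι → Type u)
  [∀ j, CommRing (B j)] [∀ j, Algebra A (B j)] (I : Ideal A)

/-- Extension of an ideal to a finite product of algebras is computed componentwise. -/
lemma mem_map_pi_iff (w : Π j, B j) :
    w ∈ I.map (algebraMap A (Π j, B j)) ↔ ∀ j, w j ∈ I.map (algebraMap A (B j)) := by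
  constructor
  · intro hw j
    have h1 : Ideal.map (Pi.evalRingHom B j) (I.map (algebraMap A (Π j, B j))) =
        I.map (algebraMap A (B j)) := by
      rw [Ideal.map_map]
      rfl
    rw [← h1]
    exact Ideal.mem_map_of_mem (Pi.evalRingHom B j) hw
  · intro hw
    have hsum : w = ∑ j, Pi.single j (w j) := (Finset.univ_sum_single w).symm
    rw [hsum]
    refine Ideal.sum_mem _ fun j _ => ?_
    have h1 : w j ∈ (I • (⊤ : Submodule A (B j))) := by
      rw [Ideal.smul_top_eq_map]
      exact hw j
    have h2 : (LinearMap.single A B j) (w j) ∈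
        (I • (⊤ : Submodule A (B j))).map (LinearMap.single A B j) :=
      Submodule.mem_map_of_mem h1
    rw [Submodule.map_smul''] at h2
    have h3 : I • (⊤ : Submodule A (B j)).map (LinearMap.single A B j) ≤
        I • (⊤ : Submodule A (Π j, B j)) := Submodule.smul_mono le_rfl le_top
    have h4 := h3 h2
    rw [Ideal.smul_top_eq_map] at h4
    exact h4

end PiIdeal

section Main

variable {A : Type u} [CommRing A] (I : Ideal A)

/-- In `A_a`, if `a * b ∈ I` then `b ∈ I A_a`. -/
lemma algebraMap_mem_map_away_of_mul_mem (a b : A) (h : a * b ∈ I) :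
    algebraMap A (Localization.Away a) b ∈ I.map (algebraMap A (Localization.Away a)) := by
  have hu : IsUnit (algebraMap A (Localization.Away a) a) :=
    IsLocalization.Away.algebraMap_isUnit a
  have h1 : algebraMap A (Localization.Away a) (a * b) ∈
      I.map (algebraMap A (Localization.Away a)) := Ideal.mem_map_of_mem _ h
  rw [map_mul] at h1
  exact (Ideal.unit_mul_mem_iff_mem _ hu).mp h1

theorem exists_etale_lift_completeOrthogonalIdempotents (n : ℕ) (e : Fin n → A ⧸ I)
    (he : CompleteOrthogonalIdempotents e) :
    ∃ (A' : Type u) (_ : CommRing A') (_ : Algebra A A'), Algebra.Etale A A' ∧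
      Function.Bijective (Ideal.quotientMap (Ideal.map (algebraMap A A') I) (algebraMap A A')
        Ideal.le_comap_map) ∧
      ∃ e' : Fin n → A', CompleteOrthogonalIdempotents e' ∧
        ∀ j, Ideal.Quotient.mk (Ideal.map (algebraMap A A') I) (e' j) =
          Ideal.quotientMap (Ideal.map (algebraMap A A') I) (algebraMap A A') Ideal.le_comap_map
            (e j) := by
  classical
  choose a ha using fun j => Ideal.Quotient.mk_surjective (e j)
  let B : Fin n → Type u := fun j => Localization.Away (a j)
  -- basic facts about the lifts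
  have hsq : ∀ j, a j * (a j - 1) ∈ I := by
    intro j
    rw [← Ideal.Quotient.eq_zero_iff_mem, map_mul, map_sub, map_one, ha, mul_sub, mul_one,
      (he.idem j).eq, sub_self]
  have hortho : ∀ j k, j ≠ k → a j * a k ∈ I := by
    intro j k hjk
    rw [← Ideal.Quotient.eq_zero_iff_mem, map_mul, ha, ha]
    exact he.ortho hjk
  have hsum : ∑ j, a j - 1 ∈ I := by
    rw [← Ideal.Quotient.eq_zero_iff_mem, map_sub, map_sum, map_one]
    simp only [ha, he.complete, sub_self]
  -- componentwise facts
  have hjj : ∀ j, algebraMap A (B j) (a j) - 1 ∈ I.map (algebraMap A (B j)) := by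
    intro j
    have := algebraMap_mem_map_away_of_mul_mem I (a j) (a j - 1) (hsq j)
    simpa using this
  have hjk : ∀ j k, j ≠ k → algebraMap A (B j) (a k) ∈ I.map (algebraMap A (B j)) :=
    fun j k hjk => algebraMap_mem_map_away_of_mul_mem I (a j) (a k) (hortho j k hjk)
  refine ⟨Π j, B j, inferInstance, inferInstance, inferInstance, ⟨?_, ?_⟩, ?_⟩
  · -- injectivity
    rw [injective_iff_map_eq_zero]
    intro x hx
    obtain ⟨x, rfl⟩ := Ideal.Quotient.mk_surjective x
    rw [Ideal.quotientMap_mk, Ideal.Quotient.eq_zero_iff_mem, mem_map_pi_iff] at hx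
    -- `e j * x̄ = 0` for all `j`
    have hkill : ∀ j, e j * Ideal.Quotient.mk I x = 0 := by
      intro j
      have h1 : algebraMap A (B j) x ∈ I.map (algebraMap A (B j)) := hx j
      obtain ⟨⟨⟨c, hc⟩, ⟨_, m, rfl⟩⟩, h2⟩ :=
        (IsLocalization.mem_map_algebraMap_iff (Submonoid.powers (a j)) (B j)).mp h1
      simp only at h2
      rw [← map_mul] at h2
      obtain ⟨⟨_, k, rfl⟩, h3⟩ :=
        (IsLocalization.eq_iff_exists (Submonoid.powers (a j)) (B j)).mp h2
      simp only at h3
      have h4 : Ideal.Quotient.mk I (a j ^ k * (x * a j ^ m)) = 0 := by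
        rw [h3, map_mul, Ideal.Quotient.eq_zero_iff_mem.mpr hc, mul_zero]
      rw [map_mul, map_mul, map_pow, map_pow, ha] at h4
      have hpow : ∀ N : ℕ, e j * e j ^ N = e j := by
        intro N
        induction N with
        | zero => simp
        | succ N ih => rw [pow_succ, ← mul_assoc, ih, (he.idem j).eq]
      have h5 : e j * Ideal.Quotient.mk I x =
          (e j * e j ^ k) * Ideal.Quotient.mk I x * (e j * e j ^ m) := by
        rw [hpow, hpow]
        calc e j * Ideal.Quotient.mk I x = (e j * e j) * Ideal.Quotient.mk I x := by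
              rw [(he.idem j).eq]
          _ = e j * Ideal.Quotient.mk I x * e j := by ring
      have h6 : e j * e j ^ k * (Ideal.Quotient.mk I) x * (e j * e j ^ m) =
          e j * e j * (e j ^ k * ((Ideal.Quotient.mk I) x * e j ^ m)) := by ring
      rw [h5, h6, h4, mul_zero]
    calc Ideal.Quotient.mk I x = (∑ j, e j) * Ideal.Quotient.mk I x := by
          rw [he.complete, one_mul]
      _ = 0 := by
          rw [Finset.sum_mul]
          exact Finset.sum_eq_zero fun j _ => hkill j
  · -- surjectivity
    intro y
    obtain ⟨y, rfl⟩ := Ideal.Quotient.mk_surjective y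
    -- write the components as fractions
    choose m x hxm using fun j => IsLocalization.Away.surj (a j) (y j)
    refine ⟨Ideal.Quotient.mk I (∑ k, x k * a k), ?_⟩
    rw [Ideal.quotientMap_mk, Ideal.Quotient.eq, mem_map_pi_iff]
    intro j
    change algebraMap A (B j) (∑ k, x k * a k) - y j ∈ I.map (algebraMap A (B j))
    have hu : IsUnit (algebraMap A (B j) (a j) ^ m j) :=
      (IsLocalization.Away.algebraMap_isUnit (a j)).pow (m j)
    rw [← Ideal.unit_mul_mem_iff_mem _ hu, mul_sub, mul_comm _ (y j), hxm j]
    -- modulo `I B_j`, `a j = 1` and `a k = 0`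
    have h1 : algebraMap A (B j) (∑ k, x k * a k) - algebraMap A (B j) (x j) ∈
        I.map (algebraMap A (B j)) := by
      rw [map_sum, ← Finset.add_sum_erase _ _ (Finset.mem_univ j), map_mul]
      have h2 : algebraMap A (B j) (x j) * algebraMap A (B j) (a j) - algebraMap A (B j) (x j) ∈
          I.map (algebraMap A (B j)) := by
        have := Ideal.mul_mem_left _ (algebraMap A (B j) (x j)) (hjj j)
        rwa [mul_sub, mul_one] at this
      have h3 : ∑ k ∈ Finset.univ.erase j, algebraMap A (B j) (x k * a k) ∈
          I.map (algebraMap A (B j)) := by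
        refine Ideal.sum_mem _ fun k hk => ?_
        rw [map_mul]
        exact Ideal.mul_mem_left _ _ (hjk j k (Finset.ne_of_mem_erase hk).symm)
      have := Ideal.add_mem _ h2 h3
      convert this using 1
      ring
    have h4 : algebraMap A (B j) (a j) ^ m j - 1 ∈ I.map (algebraMap A (B j)) := by
      have hdvd : algebraMap A (B j) (a j) - 1 ∣ algebraMap A (B j) (a j) ^ m j - 1 := by
        simpa using sub_dvd_pow_sub_pow (algebraMap A (B j) (a j)) 1 (m j)
      exact Ideal.mem_of_dvd _ hdvd (hjj j)
    have h5 := Ideal.add_mem _ (Ideal.mul_mem_left _ (algebraMap A (B j) (a j) ^ m j) h1)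
      (Ideal.mul_mem_left _ (algebraMap A (B j) (x j)) h4)
    convert h5 using 1
    ring
  · refine ⟨fun j => Pi.single j 1, CompleteOrthogonalIdempotents.single B, ?_⟩
    intro j
    rw [← ha j, Ideal.quotientMap_mk, Ideal.Quotient.eq, mem_map_pi_iff]
    intro k
    change (Pi.single j (1 : B j) : Π j, B j) k - algebraMap A (B k) (a j) ∈
      I.map (algebraMap A (B k))
    by_cases hjk' : k = j
    · subst hjk'
      rw [Pi.single_eq_same]
      have := Ideal.neg_mem_iff _ |>.mpr (hjj k)
      convert this using 1
      ring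
    · rw [Pi.single_eq_of_ne hjk', zero_sub]
      exact (Ideal.neg_mem_iff _).mpr (hjk k j hjk')

end Main

end Groth.Agent.Lib.Helper14
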