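import Mathlib

/-!
# Descending a finitely presented algebra over a localization, with marked solutions (helper14)
-/

set_option autoImplicit false

namespace Groth.Agent.Lib.Helper14.EtaleSpread

open MvPolynomial

universe u

attribute [local instance] MvPolynomial.algebraMvPolynomial

set_option maxHeartbeats 1600000 in
/-- A finitely presented algebra `T` over a localization `Rp = M⁻¹R` is the localization of a
finitely presented `R`-algebra `B`; moreover a given solution in `T` of a polynomial system over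
`R` can be lifted to a solution in `B`. -/
theorem exists_descent {R : Type u} [CommRing R] (M : Submonoid R) (Rp : Type u) [CommRing Rp]
    [Algebra R Rp] [IsLocalization M Rp]
    (T : Type u) [CommRing T] [Algebra Rp T] [Algebra R T] [IsScalarTower R Rp T]
    [Algebra.FinitePresentation Rp T]
    {n l : ℕ} (F : Fin l → MvPolynomial (Fin n) R) (b'' : Fin n → T)
    (hb'' : ∀ j, aeval b'' (F j) = 0) :
    ∃ (B : Type u) (_ : CommRing B) (_ : Algebra R B) (_ : Algebra.FinitePresentation R B)
      (_ : Algebra B T) (_ : IsScalarTower R B T),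
      IsLocalization (Algebra.algebraMapSubmonoid B M) T ∧
      ∃ b : Fin n → B, (∀ i, algebraMap B T (b i) = b'' i) ∧ ∀ j, aeval b (F j) = 0 := by
  classical
  obtain ⟨k, f, hf, -⟩ := Algebra.FinitePresentation.out (R := Rp) (A := T)
  let σ := Fin n ⊕ Fin k
  let v : σ → T := Sum.elim b'' (fun i => f (X i))
  let π : MvPolynomial σ Rp →ₐ[Rp] T := aeval v
  have hπr : ∀ P : MvPolynomial (Fin k) Rp, π (rename Sum.inr P) = f P := by
    intro P
    show aeval v (rename Sum.inr P) = f P
    rw [aeval_rename]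
    have h1 : (aeval (v ∘ Sum.inr) : MvPolynomial (Fin k) Rp →ₐ[Rp] T) = f := by
      apply MvPolynomial.algHom_ext
      intro i
      rw [aeval_X]
      rfl
    rw [h1]
  have hπ : Function.Surjective π := by
    intro z
    obtain ⟨P, rfl⟩ := hf z
    exact ⟨rename Sum.inr P, hπr P⟩
  have hkerπ : (RingHom.ker π.toRingHom).FG :=
    Algebra.FinitePresentation.ker_fG_of_surjective π hπ
  obtain ⟨l', h, hh⟩ := Submodule.fg_iff_exists_fin_generating_family.mp hkerπ
  -- clear denominators
  obtain ⟨⟨c, hc⟩, hcint⟩ := IsLocalization.exist_integer_multiples_of_finite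
    (M.map (C (σ := σ))) h
  obtain ⟨s, hsM, rfl⟩ := hc
  have hH : ∀ i, ∃ H : MvPolynomial σ R,
      algebraMap (MvPolynomial σ R) (MvPolynomial σ Rp) H =
        algebraMap (MvPolynomial σ R) (MvPolynomial σ Rp) (C s) * h i := by
    intro i
    obtain ⟨H, hH⟩ := hcint i
    exact ⟨H, by rw [hH, Algebra.smul_def]⟩
  choose H hH using hH
  let G : Fin l → MvPolynomial σ R := fun j => rename Sum.inl (F j)
  let J : Ideal (MvPolynomial σ R) := Ideal.span (Set.range H ∪ Set.range G)
  have hJfg : J.FG := Submodule.fg_span ((Set.finite_range H).union (Set.finite_range G))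
  let β₀ : MvPolynomial σ R →ₐ[R] T := aeval v
  have hβ₀ : ∀ P : MvPolynomial σ R,
      π (algebraMap (MvPolynomial σ R) (MvPolynomial σ Rp) P) = β₀ P := by
    intro P
    show aeval v (MvPolynomial.map (algebraMap R Rp) P) = aeval v P
    exact aeval_map_algebraMap Rp v P
  have hhker : ∀ i, π (h i) = 0 := by
    intro i
    have : h i ∈ RingHom.ker π.toRingHom := by
      rw [← hh]
      exact Submodule.subset_span ⟨i, rfl⟩
    exact this
  have hβ₀J : ∀ P ∈ J, β₀ P = 0 := by
    have hle : J ≤ RingHom.ker β₀.toRingHom := by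
      rw [Ideal.span_le]
      rintro P (⟨i, rfl⟩ | ⟨j, rfl⟩)
      · show β₀ (H i) = 0
        rw [← hβ₀, hH, map_mul, hhker, mul_zero]
      · show aeval v (rename Sum.inl (F j)) = 0
        rw [aeval_rename]
        exact hb'' j
    exact fun P hP => hle hP
  let B := MvPolynomial σ R ⧸ J
  let β : B →ₐ[R] T := Ideal.Quotient.liftₐ J β₀ hβ₀J
  have hβ : ∀ P, β (Ideal.Quotient.mk J P) = β₀ P := fun _ => rfl
  letI algBT : Algebra B T := β.toRingHom.toAlgebra
  haveI : IsScalarTower R B T := IsScalarTower.of_algebraMap_eq fun r => (β.commutes r).symm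
  have hfp : Algebra.FinitePresentation R B := Algebra.FinitePresentation.quotient hJfg
  refine ⟨B, inferInstance, inferInstance, hfp, algBT, inferInstance, ?_, ?_⟩
  · -- the localization property
    have hunit : IsUnit (algebraMap (MvPolynomial σ R) (MvPolynomial σ Rp) (C s)) :=
      IsLocalization.map_units (MvPolynomial σ Rp)
        (⟨C s, Submonoid.mem_map_of_mem C hsM⟩ : M.map (C (σ := σ)))
    have hloc := IsLocalization.of_surjective (M.map (C (σ := σ))) (MvPolynomial σ Rp)
      (Ideal.Quotient.mk J) Ideal.Quotient.mk_surjective π.toRingHom hπ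
      (by
        ext P
        · show π (algebraMap (MvPolynomial σ R) (MvPolynomial σ Rp) (C P)) =
            algebraMap B T (Ideal.Quotient.mk J (C P))
          rw [hβ₀]
          rfl
        · show π (algebraMap (MvPolynomial σ R) (MvPolynomial σ Rp) (X P)) =
            algebraMap B T (Ideal.Quotient.mk J (X P))
          rw [hβ₀]
          rfl)
      (by
        rw [← hh, Ideal.mk_ker]
        show Ideal.span (Set.range h) ≤ _
        rw [Ideal.span_le]
        rintro _ ⟨i, rfl⟩
        obtain ⟨u, hu⟩ := hunit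
        have h1 : h i = (↑u⁻¹ : MvPolynomial σ Rp) *
            algebraMap (MvPolynomial σ R) (MvPolynomial σ Rp) (H i) := by
          rw [hH, ← hu, ← mul_assoc, Units.inv_mul, one_mul]
        rw [SetLike.mem_coe, h1]
        exact Ideal.mul_mem_left _ _
          (Ideal.mem_map_of_mem _ (Ideal.subset_span (Or.inl ⟨i, rfl⟩))))
    have hsub : (M.map (C (σ := σ))).map (Ideal.Quotient.mk J) =
        Algebra.algebraMapSubmonoid B M := by
      ext y
      constructor
      · rintro ⟨_, ⟨x, hx, rfl⟩, rfl⟩
        exact ⟨x, hx, rfl⟩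
      · rintro ⟨x, hx, rfl⟩
        exact ⟨C x, ⟨x, hx, rfl⟩, rfl⟩
    rw [← hsub]
    exact hloc
  · refine ⟨fun i => Ideal.Quotient.mk J (X (Sum.inl i)), fun i => ?_, fun j => ?_⟩
    · show β (Ideal.Quotient.mk J (X (Sum.inl i))) = b'' i
      rw [hβ]
      show aeval v (X (Sum.inl i)) = _
      rw [aeval_X]
      rfl
    · have h1 : (aeval fun i => Ideal.Quotient.mk J (X (Sum.inl i)) :
          MvPolynomial (Fin n) R →ₐ[R] B) =
          (Ideal.Quotient.mkₐ R J).comp (rename Sum.inl) := by
        apply MvPolynomial.algHom_ext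
        intro i
        rw [aeval_X, AlgHom.comp_apply, rename_X]
        rfl
      rw [h1, AlgHom.comp_apply]
      exact Ideal.Quotient.eq_zero_iff_mem.mpr (Ideal.subset_span (Or.inr ⟨j, rfl⟩))

open IsLocalRing

set_option maxHeartbeats 3200000 in
/-- étale neighbourhoods over a localization spread out to étale algebras over the ring -/
theorem spread {R : Type u} [CommRing R] [IsNoetherianRing R]
    (p : Ideal R) [p.IsPrime] {n m : ℕ}
    (F : Fin m → MvPolynomial (Fin n) R)
    (a : Fin n → AdicCompletion (maximalIdeal (Localization.AtPrime p)) (Localization.AtPrime p))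
    (N : ℕ)
    (h6825 : ∃ (T : Type u) (_ : CommRing T) (_ : Algebra (Localization.AtPrime p) T),
      Algebra.Etale (Localization.AtPrime p) T ∧
      ∃ (ψ : T →ₐ[Localization.AtPrime p]
          AdicCompletion (maximalIdeal (Localization.AtPrime p)) (Localization.AtPrime p))
        (m' : Ideal T), m'.IsMaximal ∧
        m'.comap (algebraMap (Localization.AtPrime p) T) = maximalIdeal (Localization.AtPrime p) ∧
        (∀ x : T, ∃ r : Localization.AtPrime p, x - algebraMap (Localization.AtPrime p) T r ∈ m') ∧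
        (∀ x ∈ m', ψ x ∈ (maximalIdeal (Localization.AtPrime p)).map
          (algebraMap (Localization.AtPrime p)
            (AdicCompletion (maximalIdeal (Localization.AtPrime p)) (Localization.AtPrime p)))) ∧
        ∃ b : Fin n → T,
          (∀ j, MvPolynomial.aeval b
            (MvPolynomial.map (algebraMap R (Localization.AtPrime p)) (F j)) = 0) ∧
          ∀ i, a i - ψ (b i) ∈ (maximalIdeal (Localization.AtPrime p) ^ N).map
            (algebraMap (Localization.AtPrime p)
              (AdicCompletion (maximalIdeal (Localization.AtPrime p)) (Localization.AtPrime p)))) :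
    ∃ (R' : Type u) (_ : CommRing R') (_ : Algebra R R'), Algebra.Etale R R' ∧
      ∃ (ψ : R' →+* AdicCompletion (maximalIdeal (Localization.AtPrime p)) (Localization.AtPrime p))
        (p' : Ideal R'), p'.IsPrime ∧
        (∀ r : R, ψ (algebraMap R R' r) =
          algebraMap (Localization.AtPrime p) _ (algebraMap R (Localization.AtPrime p) r)) ∧
        p'.comap (algebraMap R R') = p ∧
        (∀ x : R', ∃ r s : R, s ∉ p ∧ algebraMap R R' s * x - algebraMap R R' r ∈ p') ∧
        (∀ x ∈ p', ψ x ∈ (maximalIdeal (Localization.AtPrime p)).map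
          (algebraMap (Localization.AtPrime p)
            (AdicCompletion (maximalIdeal (Localization.AtPrime p)) (Localization.AtPrime p)))) ∧
        ∃ b : Fin n → R', (∀ j, MvPolynomial.aeval b (F j) = 0) ∧
          ∀ i, a i - ψ (b i) ∈ (maximalIdeal (Localization.AtPrime p) ^ N).map
            (algebraMap (Localization.AtPrime p)
              (AdicCompletion (maximalIdeal (Localization.AtPrime p)) (Localization.AtPrime p))) := by
  classical
  obtain ⟨T, iT, iRpT, hTet, ψ'', m'', hm''max, hm''comap, hres, hψm, b'', hb''0, hb''⟩ := h6825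
  let Rp := Localization.AtPrime p
  let Rh := AdicCompletion (maximalIdeal Rp) Rp
  haveI := hTet
  haveI := hm''max
  haveI hm''prime : m''.IsPrime := hm''max.isPrime
  letI algRT : Algebra R T := ((algebraMap Rp T).comp (algebraMap R Rp)).toAlgebra
  haveI : IsScalarTower R Rp T := IsScalarTower.of_algebraMap_eq fun _ => rfl
  have hb''0' : ∀ j, MvPolynomial.aeval b'' (F j) = 0 := fun j => by
    rw [← hb''0 j, MvPolynomial.aeval_map_algebraMap]
  haveI : Algebra.FinitePresentation Rp T := hTet.2
  obtain ⟨B, iB, iRB, hfpB, iBT, iTow, hloc, b, hbβ, hb0⟩ :=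
    exists_descent p.primeCompl Rp T F b'' hb''0'
  haveI := hfpB
  haveI := hloc
  -- the prime `q` of `B`
  let q : Ideal B := m''.comap (algebraMap B T)
  haveI hq : q.IsPrime := Ideal.comap_isPrime _ _
  -- `B` is étale at `q`
  haveI : Algebra.FormallyEtale R Rp := Algebra.FormallyEtale.of_isLocalization p.primeCompl
  haveI : Algebra.FormallyEtale Rp T := hTet.1
  haveI : Algebra.FormallyEtale R T := Algebra.FormallyEtale.comp R Rp T
  haveI : Algebra.FormallyEtale R (Localization.AtPrime m'') := inferInstance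
  haveI hatq : IsLocalization.AtPrime (Localization.AtPrime m'') q :=
    IsLocalization.isLocalization_isLocalization_atPrime_isLocalization
      (Algebra.algebraMapSubmonoid B p.primeCompl) (Localization.AtPrime m'') m''
  let e₀ : Localization.AtPrime m'' ≃ₐ[B] Localization.AtPrime q :=
    IsLocalization.algEquiv q.primeCompl (Localization.AtPrime m'') (Localization.AtPrime q)
  haveI : IsScalarTower R B (Localization.AtPrime m'') := IsScalarTower.of_algebraMap_eq fun r => by
    rw [IsScalarTower.algebraMap_apply R T (Localization.AtPrime m''),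
      IsScalarTower.algebraMap_apply R B T,
      ← IsScalarTower.algebraMap_apply B T (Localization.AtPrime m'')]
  haveI hEtAt : Algebra.IsEtaleAt R q :=
    Algebra.FormallyEtale.of_equiv (e₀.restrictScalars R)
  obtain ⟨f, hfq, hfet⟩ := Algebra.exists_etale_of_isEtaleAt (R := R) q
  let R' := Localization.Away f
  -- the map to the completion
  have hmaxeq : maximalIdeal Rh = (maximalIdeal Rp).map (algebraMap Rp Rh) :=
    AdicCompletion.maximalIdeal_eq_map
  have hpre : ∀ x : T, ψ'' x ∈ maximalIdeal Rh ↔ x ∈ m'' := by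
    intro x
    constructor
    · intro hx
      have hle : m'' ≤ (maximalIdeal Rh).comap ψ''.toRingHom := by
        intro y hy
        rw [Ideal.mem_comap, hmaxeq]
        exact hψm y hy
      have hne : (maximalIdeal Rh).comap ψ''.toRingHom ≠ ⊤ :=
        (Ideal.comap_isPrime ψ''.toRingHom (maximalIdeal Rh)).ne_top
      rw [hm''max.eq_of_le hne hle]
      exact hx
    · intro hx
      rw [hmaxeq]
      exact hψm x hx
  let ψB : B →+* Rh := ψ''.toRingHom.comp (algebraMap B T)
  have hψBf : IsUnit (ψB f) := by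
    have h1 : algebraMap B T f ∉ m'' := hfq
    have h2 : ψ'' (algebraMap B T f) ∉ maximalIdeal Rh := fun h => h1 ((hpre _).mp h)
    exact IsLocalRing.notMem_maximalIdeal.mp h2
  let ψ : R' →+* Rh := IsLocalization.Away.lift f hψBf
  have hψ : ∀ y : B, ψ (algebraMap B R' y) = ψB y := fun y => IsLocalization.Away.lift_eq f hψBf y
  have hψBR : ∀ r : R, ψB (algebraMap R B r) = algebraMap Rp Rh (algebraMap R Rp r) := by
    intro r
    show ψ'' (algebraMap B T (algebraMap R B r)) = _
    rw [← IsScalarTower.algebraMap_apply R B T, IsScalarTower.algebraMap_apply R Rp T,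
      AlgHom.commutes]
  have hψR : ∀ r : R, ψ (algebraMap R R' r) = algebraMap Rp Rh (algebraMap R Rp r) := by
    intro r
    rw [IsScalarTower.algebraMap_apply R B R', hψ, hψBR]
  let p' : Ideal R' := (maximalIdeal Rh).comap ψ
  have hp' : ∀ x : R', x ∈ p' ↔ ψ x ∈ maximalIdeal Rh := fun _ => Iff.rfl
  have hlocal : ∀ ρ : Rp, algebraMap Rp Rh ρ ∈ maximalIdeal Rh ↔ ρ ∈ maximalIdeal Rp := by
    intro ρ
    rw [mem_maximalIdeal, mem_maximalIdeal, mem_nonunits_iff, mem_nonunits_iff,
      isUnit_map_iff (algebraMap Rp Rh)]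
  -- residues
  have hresB : ∀ y : B, ∃ ρ : Rp, ψB y - algebraMap Rp Rh ρ ∈ maximalIdeal Rh := by
    intro y
    obtain ⟨ρ, hρ⟩ := hres (algebraMap B T y)
    refine ⟨ρ, ?_⟩
    have h1 := (hpre _).mpr hρ
    rw [map_sub, AlgHom.commutes] at h1
    exact h1
  have hresR' : ∀ x : R', ∃ ρ : Rp, ψ x - algebraMap Rp Rh ρ ∈ maximalIdeal Rh := by
    intro x
    obtain ⟨⟨y, ⟨_, k, rfl⟩⟩, hxy⟩ := IsLocalization.surj (Submonoid.powers f) x
    have hxy' : x * algebraMap B R' (f ^ k) = algebraMap B R' y := hxy
    obtain ⟨ρy, hρy⟩ := hresB y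
    obtain ⟨ρf, hρf⟩ := hresB f
    have hρfu : IsUnit ρf := by
      by_contra hnu
      have h1 : algebraMap Rp Rh ρf ∈ maximalIdeal Rh := (hlocal ρf).mpr hnu
      have h2 : ψB f ∈ maximalIdeal Rh := by
        have := add_mem hρf h1
        rwa [sub_add_cancel] at this
      exact (IsLocalRing.notMem_maximalIdeal.mpr hψBf) h2
    obtain ⟨u, hu⟩ := hρfu
    refine ⟨ρy * (↑u⁻¹ : Rp) ^ k, ?_⟩
    -- multiply by the unit `ψB f ^ k`
    have hunit : IsUnit (ψB f ^ k) := hψBf.pow k
    have h1 : (ψ x - algebraMap Rp Rh (ρy * (↑u⁻¹ : Rp) ^ k)) * ψB f ^ k ∈ maximalIdeal Rh := by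
      have h2 : ψ x * ψB f ^ k = ψB y := by
        rw [← hψ, ← map_pow, ← hψ, ← map_mul, ← map_pow, hxy']
      have h3 : (ψ x - algebraMap Rp Rh (ρy * (↑u⁻¹ : Rp) ^ k)) * ψB f ^ k =
          (ψB y - algebraMap Rp Rh ρy) -
            algebraMap Rp Rh (ρy * (↑u⁻¹ : Rp) ^ k) *
              (ψB f ^ k - algebraMap Rp Rh ρf ^ k) := by
        have h4 : algebraMap Rp Rh (ρy * (↑u⁻¹ : Rp) ^ k) * algebraMap Rp Rh ρf ^ k =
            algebraMap Rp Rh ρy := by
          rw [← map_pow, ← map_mul, mul_assoc, ← mul_pow, ← hu, Units.inv_mul, one_pow, mul_one]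
        rw [sub_mul, h2, mul_sub, h4]
        ring
      rw [h3]
      refine sub_mem hρy (Ideal.mul_mem_left _ _ ?_)
      -- `a^k - b^k ∈ (a - b)`
      have h5 : ψB f - algebraMap Rp Rh ρf ∣ ψB f ^ k - algebraMap Rp Rh ρf ^ k :=
        sub_dvd_pow_sub_pow _ _ k
      obtain ⟨w, hw⟩ := h5
      rw [hw]
      exact Ideal.mul_mem_right _ _ hρf
    obtain ⟨w, hw⟩ := hunit
    have h6 : ψ x - algebraMap Rp Rh (ρy * (↑u⁻¹ : Rp) ^ k) =
        (ψ x - algebraMap Rp Rh (ρy * (↑u⁻¹ : Rp) ^ k)) * ψB f ^ k * (↑w⁻¹ : Rh) := by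
      rw [← hw, mul_assoc, Units.mul_inv, mul_one]
    rw [h6]
    exact Ideal.mul_mem_right _ _ h1
  refine ⟨R', inferInstance, inferInstance, hfet, ψ, p', Ideal.comap_isPrime _ _, hψR, ?_, ?_, ?_,
    ?_⟩
  · -- `p'` lies over `p`
    ext r
    rw [Ideal.mem_comap, hp', hψR, hlocal]
    exact IsLocalization.AtPrime.to_map_mem_maximal_iff Rp p r
  · -- residue fields
    intro x
    obtain ⟨ρ, hρ⟩ := hresR' x
    obtain ⟨⟨r, s⟩, hrs⟩ := IsLocalization.surj p.primeCompl ρ
    refine ⟨r, s, s.2, ?_⟩
    rw [hp', map_sub, map_mul, hψR, hψR]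
    have h1 : algebraMap Rp Rh (algebraMap R Rp s) * ψ x - algebraMap Rp Rh (algebraMap R Rp r) =
        algebraMap Rp Rh (algebraMap R Rp s) * (ψ x - algebraMap Rp Rh ρ) := by
      have h2 : algebraMap Rp Rh (algebraMap R Rp r) =
          algebraMap Rp Rh (algebraMap R Rp s) * algebraMap Rp Rh ρ := by
        rw [← map_mul, mul_comm, hrs]
      rw [h2]
      ring
    rw [h1]
    exact Ideal.mul_mem_left _ _ hρ
  · intro x hx
    rw [← hmaxeq]
    exact hx
  · refine ⟨fun i => algebraMap B R' (b i), fun j => ?_, fun i => ?_⟩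
    · have h1 := MvPolynomial.aeval_algebraMap_apply (B := R') b (F j)
      rw [hb0 j, map_zero] at h1
      exact h1
    · rw [hψ]
      show a i - ψ'' (algebraMap B T (b i)) ∈ _
      rw [hbβ]
      exact hb'' i

end Groth.Agent.Lib.Helper14.EtaleSpread
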