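import Groth.Prelude.Def_DerCA
import Mathlib

/-!
# Extended alternating Čech complex: contractibility when an entry is a unit
(helper14)
-/

set_option autoImplicit false
universe u

open CategoryTheory Limits

namespace Groth.Agent.Lib.Helper14

section General

variable {C : Type*} [Category C] [Preadditive C] [HasBinaryBiproducts C] [HasZeroObject C]

/-- The mapping cone of a morphism which is an isomorphism in the homotopy category is
contractible. -/
lemma contr_mappingCone_of_isIso {K L : CochainComplex C ℤ} (φ : K ⟶ L)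
    (h : IsIso ((HomotopyCategory.quotient C (ComplexShape.up ℤ)).map φ)) :
    Nonempty (Homotopy (𝟙 (CochainComplex.mappingCone φ)) 0) := by
  rw [← HomotopyCategory.isZero_quotient_obj_iff]
  exact Pretriangulated.Triangle.isZero₃_of_isIso₁ _
    (HomotopyCategory.mappingCone_triangleh_distinguished φ) h

/-- The mapping cocone of a morphism which is an isomorphism in the homotopy category is
contractible. -/
lemma contr_mappingCocone_of_isIso {K L : CochainComplex C ℤ} (φ : K ⟶ L)
    (h : IsIso ((HomotopyCategory.quotient C (ComplexShape.up ℤ)).map φ)) :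
    Nonempty (Homotopy (𝟙 (CochainComplex.mappingCocone φ)) 0) := by
  obtain ⟨H⟩ := contr_mappingCone_of_isIso φ h
  have H' := H.shift (-1)
  have e1 : (𝟙 (CochainComplex.mappingCone φ))⟦(-1 : ℤ)⟧' = 𝟙 (CochainComplex.mappingCocone φ) :=
    (shiftFunctor (CochainComplex C ℤ) (-1 : ℤ)).map_id _
  have e2 : (0 : CochainComplex.mappingCone φ ⟶ CochainComplex.mappingCone φ)⟦(-1 : ℤ)⟧' =
      (0 : CochainComplex.mappingCocone φ ⟶ CochainComplex.mappingCocone φ) :=
    (shiftFunctor (CochainComplex C ℤ) (-1 : ℤ)).map_zero _ _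
  rw [e1, e2] at H'
  exact ⟨H'⟩

/-- Any morphism between contractible complexes is an isomorphism in the homotopy category. -/
lemma isIso_quotient_map_of_contr {K L : CochainComplex C ℤ} (φ : K ⟶ L)
    (hK : Nonempty (Homotopy (𝟙 K) 0)) (hL : Nonempty (Homotopy (𝟙 L) 0)) :
    IsIso ((HomotopyCategory.quotient C (ComplexShape.up ℤ)).map φ) := by
  rw [← HomotopyCategory.isZero_quotient_obj_iff] at hK hL
  exact ⟨⟨0, hK.eq_of_src _ _, hL.eq_of_src _ _⟩⟩

end General

section Loc

variable {R : Type u} [CommRing R]

lemma bijective_mkLinearMap_of_isUnit (S : Submonoid R) (hS : ∀ s ∈ S, IsUnit s) (M : Type u)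
    [AddCommGroup M] [Module R M] : Function.Bijective (LocalizedModule.mkLinearMap S M) := by
  have : IsLocalization S R := IsLocalization.of_le_isUnit (fun s hs => hS s hs)
  have : IsLocalizedModule S (LinearMap.id : M →ₗ[R] M) := isLocalizedModule_id S M R
  have h := IsLocalizedModule.iso_symm_comp S (LinearMap.id : M →ₗ[R] M)
  rw [← h]
  exact ((IsLocalizedModule.iso S (LinearMap.id : M →ₗ[R] M)).symm.bijective).comp
    Function.bijective_id

lemma isIso_locCxUnit_of_isUnit (S : Submonoid R) (hS : ∀ s ∈ S, IsUnit s) (K : DRing.Cx R) :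
    IsIso (DerCA.locCxUnit S K) := by
  have : ∀ n : ℤ, IsIso ((DerCA.locCxUnit S K).f n) := by
    intro n
    change IsIso ((DerCA.locUnit S).app (K.X n))
    rw [ConcreteCategory.isIso_iff_bijective]
    exact bijective_mkLinearMap_of_isUnit S hS (K.X n)
  exact HomologicalComplex.Hom.isIso_of_components _

lemma contr_locCx (S : Submonoid R) (K : DRing.Cx R) (hK : Nonempty (Homotopy (𝟙 K) 0)) :
    Nonempty (Homotopy (𝟙 ((DerCA.locCx S).obj K)) 0) := by
  obtain ⟨H⟩ := hK
  have H' := (DerCA.locFunctor S).mapHomotopy H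
  rw [CategoryTheory.Functor.map_id, CategoryTheory.Functor.map_zero] at H'
  exact ⟨H'⟩

/-- If some entry of the list is a unit, the extended Čech complex is contractible. -/
theorem extCech_contractible_of_unit_mem (fs : List R) (hf : ∃ f ∈ fs, IsUnit f)
    (M : ModuleCat.{u} R) : Nonempty (Homotopy (𝟙 (DerCA.extCech M fs)) 0) := by
  induction fs with
  | nil =>
    obtain ⟨f, hf, -⟩ := hf
    simp at hf
  | cons g gs ih =>
    change Nonempty (Homotopy (𝟙 (CochainComplex.mappingCocone
      (DerCA.locCxUnit (Submonoid.powers g) (DerCA.extCech M gs)))) 0)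
    apply contr_mappingCocone_of_isIso
    by_cases hg : IsUnit g
    · have := isIso_locCxUnit_of_isUnit (Submonoid.powers g) (by
        rintro s ⟨n, rfl⟩
        exact hg.pow n) (DerCA.extCech M gs)
      infer_instance
    · have hgs : ∃ f ∈ gs, IsUnit f := by
        obtain ⟨f, hfm, hfu⟩ := hf
        rcases List.mem_cons.mp hfm with rfl | hfm
        · exact absurd hfu hg
        · exact ⟨f, hfm, hfu⟩
      have hK := ih hgs
      exact isIso_quotient_map_of_contr _ hK (contr_locCx _ _ hK)

end Loc

end Groth.Agent.Lib.Helper14
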