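import Mathlib
import Groth.Prelude.Def_EGA4b
import Groth.Agent.Lib.Helper14.FEChain6
import Groth.Agent.Lib.Helper14.ComplQuot
import Groth.Agent.S0507
import Groth.Agent.S0508
import Groth.Agent.S0509
import Groth.Agent.S0511
import Groth.Agent.S13598

/-!
# Completions along flat local maps with trivial closed fibre; henselization (helper14)
-/

set_option autoImplicit false
set_option linter.style.haveILetI false
set_option linter.unusedSectionVars false
universe u
open IsLocalRing EGA4 TensorProduct

namespace Groth.Agent.Lib.Helper14.FEChain7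

open Groth.Agent.Lib.Helper14.ComplFlat Groth.Agent.Lib.Helper14.ComplQuot

section
variable (A A' : Type u) [CommRing A] [CommRing A'] [IsLocalRing A] [IsLocalRing A']
  [IsNoetherianRing A] [IsNoetherianRing A'] [Algebra A A'] [IsLocalHom (algebraMap A A')]

theorem map_maximalIdeal_cplMap'
    (hm : (maximalIdeal A).map (algebraMap A A') = maximalIdeal A') :
    (maximalIdeal (Cpl A)).map (cplMap A A') = maximalIdeal (Cpl A') := by
  rw [AdicCompletion.maximalIdeal_eq_map (R := A), Ideal.map_map, cplMap_comp, ← Ideal.map_map,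
    hm, ← AdicCompletion.maximalIdeal_eq_map (R := A')]

theorem cplMap_surjective'
    (hm : (maximalIdeal A).map (algebraMap A A') = maximalIdeal A')
    (hres : Function.Surjective (IsLocalRing.ResidueField.map (algebraMap A A'))) :
    Function.Surjective (cplMap A A') := by
  haveI h1 : IsPrecomplete (maximalIdeal (Cpl A)) (Cpl A) := by
    have := AdicCompletion.isAdicComplete_self (maximalIdeal A) (IsNoetherian.noetherian _)
    rw [← AdicCompletion.maximalIdeal_eq_map (R := A)] at this
    exact this.toIsPrecomplete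
  haveI h2 : IsHausdorff ((maximalIdeal (Cpl A)).map (cplMap A A')) (Cpl A') := by
    rw [map_maximalIdeal_cplMap' A A' hm]
    have := AdicCompletion.isAdicComplete_self (maximalIdeal A') (IsNoetherian.noetherian _)
    rw [← AdicCompletion.maximalIdeal_eq_map (R := A')] at this
    exact this.toIsHausdorff
  apply surjective_of_mk_map_comp_surjective (I := maximalIdeal (Cpl A)) (cplMap A A')
  intro y
  obtain ⟨y0, rfl⟩ := Ideal.Quotient.mk_surjective y
  obtain ⟨a', ha'⟩ := exists_sub_mem_maximalIdeal A' y0
  obtain ⟨ab, hab⟩ := hres (residue A' a')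
  obtain ⟨a, rfl⟩ := residue_surjective ab
  have hd : algebraMap A A' a - a' ∈ maximalIdeal A' := by
    rw [← Ideal.Quotient.eq]
    exact hab
  refine ⟨algebraMap A (Cpl A) a, ?_⟩
  rw [RingHom.comp_apply]
  have h3 := DFunLike.congr_fun (cplMap_comp A A') a
  simp only [RingHom.comp_apply] at h3
  rw [h3, Ideal.Quotient.eq, map_maximalIdeal_cplMap' A A' hm]
  have : algebraMap A' (Cpl A') (algebraMap A A' a) - y0 =
      algebraMap A' (Cpl A') (algebraMap A A' a - a') - (y0 - algebraMap A' (Cpl A') a') := by
    rw [map_sub]; ring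
  rw [this]
  refine Ideal.sub_mem _ ?_ ha'
  rw [AdicCompletion.maximalIdeal_eq_map (R := A')]
  exact Ideal.mem_map_of_mem _ hd

theorem nonempty_cpl_equiv_of_flat [Module.Flat A A']
    (hm : (maximalIdeal A).map (algebraMap A A') = maximalIdeal A')
    (hres : Function.Surjective (IsLocalRing.ResidueField.map (algebraMap A A'))) :
    Nonempty (Cpl A ≃+* Cpl A') := by
  have hinj : Function.Injective (cplMap A A') := by
    letI := (cplMap A A').toAlgebra
    haveI := cplMap_faithfullyFlat A A'
    exact FaithfulSMul.algebraMap_injective (Cpl A) (Cpl A')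
  exact ⟨RingEquiv.ofBijective _ ⟨hinj, cplMap_surjective' A A' hm hres⟩⟩

theorem isFormallyEquidim_iff_of_flat [Module.Flat A A']
    (hm : (maximalIdeal A).map (algebraMap A A') = maximalIdeal A')
    (hres : Function.Surjective (IsLocalRing.ResidueField.map (algebraMap A A'))) :
    IsFormallyEquidim A ↔ IsFormallyEquidim A' := by
  obtain ⟨e⟩ := nonempty_cpl_equiv_of_flat A A' hm hres
  exact ⟨fun h => EquidimTransfer.isEquidim_of_ringEquiv e h,
    fun h => EquidimTransfer.isEquidim_of_ringEquiv e.symm h⟩

end

section hens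
variable (R S : Type u) [CommRing R] [IsLocalRing R] [IsNoetherianRing R]
    [CommRing S] [IsLocalRing S] [Algebra R S] [IsLocalHom (algebraMap R S)]
    [Hensel.IsHenselization R S]

/-- **S5040** -/
theorem henselization_isFormallyCatenary (h : IsFormallyCatenary R) : IsFormallyCatenary S := by
  haveI : IsNoetherianRing S := (Groth.Agent.S0511.result R S).mp inferInstance
  intro P hP
  set p := P.comap (algebraMap R S) with hp
  haveI hpp : p.IsPrime := Ideal.comap_isPrime _ _
  have hpP : p.map (algebraMap R S) ≤ P := Ideal.map_comap_le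
  have hpne : p ≠ ⊤ := hpp.ne_top
  have hIle : p ≤ maximalIdeal R := IsLocalRing.le_maximalIdeal hpne
  haveI : Nontrivial (R ⧸ p) := Ideal.Quotient.nontrivial_iff.mpr hpne
  haveI : Nontrivial (S ⧸ p.map (algebraMap R S)) :=
    Ideal.Quotient.nontrivial_iff.mpr (ne_top_of_le_ne_top hP.ne_top hpP)
  have hcomp : (algebraMap (R ⧸ p) (S ⧸ p.map (algebraMap R S))).comp (Ideal.Quotient.mk p) =
      (Ideal.Quotient.mk (p.map (algebraMap R S))).comp (algebraMap R S) :=
    RingHom.ext fun x => rfl
  have hmap : (maximalIdeal (R ⧸ p)).map (algebraMap (R ⧸ p) (S ⧸ p.map (algebraMap R S))) =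
      ((maximalIdeal R).map (algebraMap R S)).map
        (Ideal.Quotient.mk (p.map (algebraMap R S))) := by
    rw [← IsLocalRing.map_maximalIdeal_of_surjective (Ideal.Quotient.mk p)
      Ideal.Quotient.mk_surjective, Ideal.map_map, Ideal.map_map, hcomp]
  haveI hloc : IsLocalHom (algebraMap (R ⧸ p) (S ⧸ p.map (algebraMap R S))) := by
    refine ((IsLocalRing.local_hom_TFAE _).out 0 2 rfl rfl).mpr ?_
    rw [hmap, ← IsLocalRing.map_maximalIdeal_of_surjective
      (Ideal.Quotient.mk (p.map (algebraMap R S))) Ideal.Quotient.mk_surjective]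
    exact Ideal.map_mono (IsLocalRing.map_maximalIdeal_le (algebraMap R S))
  haveI : Hensel.IsHenselization (R ⧸ p) (S ⧸ p.map (algebraMap R S)) :=
    Groth.Agent.S13598.result p hIle
  haveI : Module.FaithfullyFlat (R ⧸ p) (S ⧸ p.map (algebraMap R S)) :=
    Groth.Agent.S0509.result _ _
  have h1 : IsFormallyEquidim (S ⧸ p.map (algebraMap R S)) :=
    (isFormallyEquidim_iff_of_flat (R ⧸ p) (S ⧸ p.map (algebraMap R S))
      (Groth.Agent.S0507.result _ _) (Groth.Agent.S0508.result _ _).2).mp (h p)
  exact FEChain6.isFormallyEquidim_of_surjective_of_isDomain (S ⧸ p.map (algebraMap R S)) (S ⧸ P)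
    h1 (Ideal.Quotient.factor hpP) (Ideal.Quotient.factor_surjective hpP)

end hens

end Groth.Agent.Lib.Helper14.FEChain7
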