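import Mathlib
import Groth.Agent.Lib.Helper14.CMBaseChange

/-!
# Locally Noetherian fibres under base change

For a pullback square over `Spec K ⟶ Spec k`, local Noetherianity ascends along essentially finite
type maps `k ⟶ K` and descends along faithfully flat ones.
-/

set_option autoImplicit false
universe u

open AlgebraicGeometry CategoryTheory Limits

namespace Groth.Agent.Lib.Helper14.FibreNoeth

variable {F F' : Scheme.{u}} {k K : CommRingCat.{u}} {p : F ⟶ Spec k} {p' : F' ⟶ Spec K}
  {e : F' ⟶ F} {ψ : k ⟶ K}

theorem chart {P : MorphismProperty CommRingCat.{u}} [P.IsStableUnderCobaseChange]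
    [P.RespectsIso] (hψ : P ψ) (h : IsPullback e p' p (Spec.map ψ)) {U : Scheme.{u}} [IsAffine U]
    (j : U ⟶ F) : IsAffine (pullback e j) ∧ P (pullback.snd e j).appTop := by
  have h1 : IsPullback (pullback.snd e j) (pullback.fst e j ≫ p') (j ≫ p) (Spec.map ψ) :=
    (IsPullback.of_hasPullback e j).flip.paste_vert h
  haveI : IsAffine (pullback e j) := IsAffine.of_isPullback h1
  refine ⟨inferInstance, ?_⟩
  have h2 := isPushout_appTop_of_isPullback h1
  refine MorphismProperty.IsStableUnderCobaseChange.of_isPushout h2 ?_
  have h3 : (Spec.map ψ).appTop = (Scheme.ΓSpecIso k).hom ≫ ψ ≫ (Scheme.ΓSpecIso K).inv := by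
    rw [← Category.assoc, Iso.eq_comp_inv]
    exact Scheme.ΓSpecIso_naturality ψ
  rw [h3, P.cancel_left_of_respectsIso, P.cancel_right_of_respectsIso]
  exact hψ

theorem isLocallyNoetherian_of_essFiniteType (h : IsPullback e p' p (Spec.map ψ))
    (hψ : ψ.hom.EssFiniteType) [IsLocallyNoetherian F] : IsLocallyNoetherian F' := by
  haveI : (RingHom.toMorphismProperty RingHom.EssFiniteType).IsStableUnderCobaseChange :=
    RingHom.isStableUnderCobaseChange_toMorphismProperty_iff.2
      RingHom.EssFiniteType.isStableUnderBaseChange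
  haveI : (RingHom.toMorphismProperty RingHom.EssFiniteType).RespectsIso :=
    RingHom.toMorphismProperty_respectsIso_iff.1 RingHom.EssFiniteType.respectsIso
  have key := fun i => chart (P := RingHom.toMorphismProperty RingHom.EssFiniteType)
    (ψ := ψ) hψ h (F.affineCover.f i)
  haveI : ∀ i, IsAffine ((F.affineCover.pullback₁ e).X i) := fun i => (key i).1
  rw [isLocallyNoetherian_iff_of_affine_openCover (F.affineCover.pullback₁ e)]
  intro i
  have h1 : IsNoetherianRing Γ(F.affineCover.X i, ⊤) :=
    (isLocallyNoetherian_iff_of_affine_openCover F.affineCover).1 inferInstance i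
  have h2 : (pullback.snd e (F.affineCover.f i)).appTop.hom.EssFiniteType := (key i).2
  algebraize [(pullback.snd e (F.affineCover.f i)).appTop.hom]
  change IsNoetherianRing Γ(pullback e (F.affineCover.f i), ⊤)
  exact Algebra.EssFiniteType.isNoetherianRing Γ(F.affineCover.X i, ⊤) _

theorem isLocallyNoetherian_of_faithfullyFlat (h : IsPullback e p' p (Spec.map ψ))
    (hψ : ψ.hom.FaithfullyFlat) [IsLocallyNoetherian F'] : IsLocallyNoetherian F := by
  haveI : (RingHom.toMorphismProperty RingHom.FaithfullyFlat).IsStableUnderCobaseChange :=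
    RingHom.isStableUnderCobaseChange_toMorphismProperty_iff.2
      RingHom.FaithfullyFlat.isStableUnderBaseChange
  haveI : (RingHom.toMorphismProperty RingHom.FaithfullyFlat).RespectsIso :=
    RingHom.toMorphismProperty_respectsIso_iff.1 RingHom.FaithfullyFlat.respectsIso
  have key := fun i => chart (P := RingHom.toMorphismProperty RingHom.FaithfullyFlat)
    (ψ := ψ) hψ h (F.affineCover.f i)
  haveI : ∀ i, IsAffine ((F.affineCover.pullback₁ e).X i) := fun i => (key i).1
  rw [isLocallyNoetherian_iff_of_affine_openCover F.affineCover]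
  intro i
  have h1 : IsNoetherianRing Γ(pullback e (F.affineCover.f i), ⊤) :=
    (isLocallyNoetherian_iff_of_affine_openCover (F.affineCover.pullback₁ e)).1 inferInstance i
  have h2 : (pullback.snd e (F.affineCover.f i)).appTop.hom.FaithfullyFlat := (key i).2
  algebraize [(pullback.snd e (F.affineCover.f i)).appTop.hom]
  have h3 : IsNoetherian Γ(pullback e (F.affineCover.f i), ⊤)
      (TensorProduct Γ(F.affineCover.X i, ⊤) Γ(pullback e (F.affineCover.f i), ⊤)
        Γ(F.affineCover.X i, ⊤)) :=
    isNoetherian_of_linearEquiv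
      (TensorProduct.AlgebraTensorModule.rid Γ(F.affineCover.X i, ⊤)
        Γ(pullback e (F.affineCover.f i), ⊤) Γ(pullback e (F.affineCover.f i), ⊤)).symm
  exact Submodule.IsNoetherian.of_isNoetherian_tensorProduct_of_faithfullyFlat h3

end Groth.Agent.Lib.Helper14.FibreNoeth
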