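import Mathlib

/-!
# Finite group actions on local rings: triviality lemma

If a finite group `G` whose order is a unit acts on a Noetherian local ring `A`, `I` is a `G`-stable
ideal, and `G` acts trivially on `A/(I + m²)`, then `G` acts trivially on `A/I`.
-/

set_option autoImplicit false
universe u

namespace Groth.Agent.Lib.Helper14.FixedLocus

open IsLocalRing

variable {A : Type*} [CommRing A] {G : Type*} [Group G] [MulSemiringAction G A]

theorem smul_mem_maximalIdeal [IsLocalRing A] (g : G) {x : A} (hx : x ∈ maximalIdeal A) :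
    g • x ∈ maximalIdeal A := by
  rw [mem_maximalIdeal, mem_nonunits_iff] at hx ⊢
  intro hu
  apply hx
  have : x = g⁻¹ • (g • x) := by rw [inv_smul_smul]
  rw [this]
  exact hu.map (MulSemiringAction.toRingHom G A g⁻¹)

theorem smul_mem_maximalIdeal_pow [IsLocalRing A] (g : G) (n : ℕ) {x : A}
    (hx : x ∈ maximalIdeal A ^ n) : g • x ∈ maximalIdeal A ^ n := by
  have h1 : (maximalIdeal A ^ n).map (MulSemiringAction.toRingHom G A g) ≤ maximalIdeal A ^ n := by
    rw [Ideal.map_pow]
    apply Ideal.pow_right_mono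
    rw [Ideal.map_le_iff_le_comap]
    intro y hy
    exact smul_mem_maximalIdeal g hy
  exact h1 (Ideal.mem_map_of_mem _ hx)

/-- The difference operator `δ_g(a) = g • a - a`. -/
theorem delta_mul (g : G) (y m : A) :
    g • (y * m) - y * m = (g • y - y) * (g • m) + y * (g • m - m) := by
  rw [smul_mul']; ring

theorem delta_add (g : G) (y m : A) :
    g • (y + m) - (y + m) = (g • y - y) + (g • m - m) := by
  rw [smul_add]; ring

variable [IsLocalRing A]

section step

variable (I : Ideal A) (hI : ∀ (g : G), ∀ x ∈ I, g • x ∈ I)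
  (h2 : ∀ (g : G) (a : A), g • a - a ∈ I ⊔ maximalIdeal A ^ 2)
  (n : ℕ) (hn : ∀ (g : G) (a : A), g • a - a ∈ I ⊔ maximalIdeal A ^ (n + 1))

include h2 hn in
theorem delta_pow_mem (g : G) {x : A} (hx : x ∈ maximalIdeal A ^ (n + 1)) :
    g • x - x ∈ I ⊔ maximalIdeal A ^ (n + 2) := by
  rw [pow_succ] at hx
  refine Submodule.mul_induction_on hx ?_ ?_
  · intro y hy m hm
    rw [delta_mul]
    refine add_mem ?_ ?_
    · have h3 : (g • y - y) * (g • m) ∈ (I ⊔ maximalIdeal A ^ (n + 1)) * maximalIdeal A :=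
        Ideal.mul_mem_mul (hn g y) (smul_mem_maximalIdeal g hm)
      have h4 : (I ⊔ maximalIdeal A ^ (n + 1)) * maximalIdeal A ≤
          I ⊔ maximalIdeal A ^ (n + 2) := by
        rw [Ideal.sup_mul]
        refine sup_le_sup Ideal.mul_le_left ?_
        rw [← pow_succ]
      exact h4 h3
    · have h3 : y * (g • m - m) ∈ maximalIdeal A ^ n * (I ⊔ maximalIdeal A ^ 2) :=
        Ideal.mul_mem_mul hy (h2 g m)
      have h4 : maximalIdeal A ^ n * (I ⊔ maximalIdeal A ^ 2) ≤
          I ⊔ maximalIdeal A ^ (n + 2) := by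
        rw [Ideal.mul_sup]
        refine sup_le_sup Ideal.mul_le_right ?_
        rw [← pow_add]
      exact h4 h3
  · intro x y hx hy
    rw [delta_add]
    exact add_mem hx hy

include hI h2 hn in
theorem delta_sup_mem (g : G) {x : A} (hx : x ∈ I ⊔ maximalIdeal A ^ (n + 1)) :
    g • x - x ∈ I ⊔ maximalIdeal A ^ (n + 2) := by
  obtain ⟨i, hi, y, hy, rfl⟩ := Submodule.mem_sup.mp hx
  rw [delta_add]
  refine add_mem ?_ (delta_pow_mem I h2 n hn g hy)
  exact Ideal.mem_sup_left (sub_mem (hI g i hi) hi)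

include hI h2 hn in
theorem delta_pow_smul (g : G) (a : A) (j : ℕ) :
    (g ^ j) • a - a - j • (g • a - a) ∈ I ⊔ maximalIdeal A ^ (n + 2) := by
  induction j with
  | zero => simp
  | succ j ih =>
    have h3 : g • ((g ^ j) • a - a) - ((g ^ j) • a - a) ∈ I ⊔ maximalIdeal A ^ (n + 2) :=
      delta_sup_mem I hI h2 n hn g (hn (g ^ j) a)
    have h4 : (g ^ (j + 1)) • a - a - (j + 1) • (g • a - a) =
        (g • ((g ^ j) • a - a) - ((g ^ j) • a - a)) + ((g ^ j) • a - a - j • (g • a - a)) := by
      rw [pow_succ', mul_smul, succ_nsmul]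
      simp only [smul_sub]
      ring
    rw [h4]
    exact add_mem h3 ih

end step

/-- **Triviality lemma.** -/
theorem smul_sub_mem_of_sq [IsNoetherianRing A] [Finite G] (hN : IsUnit (Nat.card G : A))
    (I : Ideal A) (hI : ∀ (g : G), ∀ x ∈ I, g • x ∈ I)
    (h2 : ∀ (g : G) (a : A), g • a - a ∈ I ⊔ maximalIdeal A ^ 2) (g : G) (a : A) :
    g • a - a ∈ I := by
  have key : ∀ n : ℕ, ∀ (g : G) (a : A), g • a - a ∈ I ⊔ maximalIdeal A ^ (n + 1) := by
    intro n
    induction n with
    | zero =>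
      intro g a
      refine (sup_le_sup_left ?_ I) (h2 g a)
      exact Ideal.pow_le_pow_right (by norm_num)
    | succ n ih =>
      intro g a
      have h3 := delta_pow_smul I hI h2 n ih g a (Nat.card G)
      rw [pow_card_eq_one', one_smul, sub_self, zero_sub, neg_mem_iff, nsmul_eq_mul] at h3
      obtain ⟨u, hu⟩ := hN
      have h4 : g • a - a = (↑u⁻¹ : A) * ((Nat.card G : A) * (g • a - a)) := by
        rw [← mul_assoc, ← hu, Units.inv_mul, one_mul]
      rw [h4]
      exact Ideal.mul_mem_left _ _ h3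
  -- Krull intersection in A ⧸ I
  by_cases hItop : I = ⊤
  · rw [hItop]; trivial
  have hK := Ideal.iInf_pow_smul_eq_bot_of_isLocalRing (R := A) (M := A ⧸ I) (maximalIdeal A)
    (Ideal.IsPrime.ne_top inferInstance)
  have h5 : (Ideal.Quotient.mk I (g • a - a)) ∈
      (⨅ i : ℕ, maximalIdeal A ^ i • (⊤ : Submodule A (A ⧸ I))) := by
    rw [Submodule.mem_iInf]
    intro i
    have h6 : g • a - a ∈ I ⊔ maximalIdeal A ^ i := by
      refine (sup_le_sup_left ?_ I) (key i g a)
      exact Ideal.pow_le_pow_right (Nat.le_succ i)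
    obtain ⟨x, hx, y, hy, hxy⟩ := Submodule.mem_sup.mp h6
    rw [← hxy, map_add, Ideal.Quotient.eq_zero_iff_mem.mpr hx, zero_add]
    have h7 : Ideal.Quotient.mk I y = y • (1 : A ⧸ I) := by
      rw [Algebra.smul_def, mul_one]; rfl
    rw [h7]
    exact Submodule.smul_mem_smul hy Submodule.mem_top
  rw [hK, Submodule.mem_bot] at h5
  exact Ideal.Quotient.eq_zero_iff_mem.mp h5

end Groth.Agent.Lib.Helper14.FixedLocus
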