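import Mathlib
import Groth.Agent.Lib.Helper14.FixedLocus
import Groth.Agent.Lib.Helper9.RegLocal

/-!
# Fixed locus of a finite linearly reductive group acting on a regular local ring
-/

set_option autoImplicit false
universe u

namespace Groth.Agent.Lib.Helper14.FixedLocus

open IsLocalRing

section avg

variable (k : Type*) [Field k] {A : Type*} [CommRing A] [Algebra k A] [IsLocalRing A]
  {G : Type*} [Group G] [Fintype G] [MulSemiringAction G A] [SMulCommClass G k A]

theorem smul_sub_mem_maximalIdeal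
    (hres : Function.Surjective (algebraMap k (ResidueField A))) (g : G) (a : A) :
    g • a - a ∈ maximalIdeal A := by
  obtain ⟨c, hc⟩ := hres (residue A a)
  have h1 : a - algebraMap k A c ∈ maximalIdeal A := by
    rw [← Ideal.Quotient.eq_zero_iff_mem]
    change residue A (a - algebraMap k A c) = 0
    rw [map_sub, ← hc, sub_eq_zero]
    rfl
  have h2 : g • a - a = g • (a - algebraMap k A c) - (a - algebraMap k A c) := by
    rw [smul_sub, smul_algebraMap]; ring
  rw [h2]; exact sub_mem (smul_mem_maximalIdeal g h1) h1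

/-- The averaged projection onto `m²`. -/
noncomputable def avgProj (q0 : A →ₗ[k] A) : A →ₗ[k] A :=
  ((Fintype.card G : k)⁻¹) • ∑ g : G, (DistribSMul.toLinearMap k A g) ∘ₗ q0 ∘ₗ
    (DistribSMul.toLinearMap k A g⁻¹)

theorem avgProj_apply (q0 : A →ₗ[k] A) (a : A) :
    avgProj k (G := G) q0 a = ((Fintype.card G : k)⁻¹) • ∑ g : G, g • q0 (g⁻¹ • a) := by
  simp [avgProj, LinearMap.sum_apply]

theorem avgProj_smul (q0 : A →ₗ[k] A) (h : G) (a : A) :
    avgProj k (G := G) q0 (h • a) = h • avgProj k (G := G) q0 a := by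
  rw [avgProj_apply, avgProj_apply, smul_comm h ((Fintype.card G : k)⁻¹) (∑ g : G, g • q0 (g⁻¹ • a))]
  congr 1
  rw [Finset.smul_sum]
  refine (Fintype.sum_equiv (Equiv.mulLeft h) (fun g => h • g • q0 (g⁻¹ • a))
    (fun g => g • q0 (g⁻¹ • h • a)) fun g => ?_).symm
  simp only [Equiv.coe_mulLeft, mul_inv_rev, mul_smul, inv_smul_smul]

theorem avgProj_mem (q0 : A →ₗ[k] A) (n : ℕ) (hq : ∀ a, q0 a ∈ maximalIdeal A ^ n) (a : A) :
    avgProj k (G := G) q0 a ∈ maximalIdeal A ^ n := by
  rw [avgProj_apply, Algebra.smul_def]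
  refine Ideal.mul_mem_left _ _ (Ideal.sum_mem _ fun g _ => ?_)
  exact smul_mem_maximalIdeal_pow g n (hq _)

theorem avgProj_eq_self (hN : (Fintype.card G : k) ≠ 0) (q0 : A →ₗ[k] A) (n : ℕ)
    (hq : ∀ a ∈ maximalIdeal A ^ n, q0 a = a) (a : A) (ha : a ∈ maximalIdeal A ^ n) :
    avgProj k (G := G) q0 a = a := by
  rw [avgProj_apply]
  have h1 : ∀ g : G, g • q0 (g⁻¹ • a) = a := by
    intro g
    rw [hq _ (smul_mem_maximalIdeal_pow g⁻¹ n ha), smul_inv_smul]
  simp only [h1, Finset.sum_const, Finset.card_univ]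
  rw [← Nat.cast_smul_eq_nsmul k, smul_smul, inv_mul_cancel₀ hN, one_smul]

end avg

section main

variable (k : Type u) [Field k] (A : Type u) [CommRing A] [Algebra k A] [IsRegularLocalRing A]
  (G : Type u) [Group G] [Finite G] [MulSemiringAction G A] [SMulCommClass G k A]

theorem isRegularLocalRing_quotient_coinvariant
    (hres : Function.Surjective (algebraMap k (ResidueField A)))
    (hG : (Nat.card G : k) ≠ 0) :
    IsRegularLocalRing (A ⧸ Ideal.span {x : A | ∃ (g : G) (a : A), x = g • a - a}) := by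
  classical
  letI : Fintype G := Fintype.ofFinite G
  have hN : (Fintype.card G : k) ≠ 0 := by rwa [← Nat.card_eq_fintype_card]
  -- a `k`-linear projection onto `m²`
  set M2 : Submodule k A := (maximalIdeal A ^ 2).restrictScalars k with hM2
  obtain ⟨r0, hr0⟩ := LinearMap.exists_leftInverse_of_injective M2.subtype (Submodule.ker_subtype _)
  set q0 : A →ₗ[k] A := M2.subtype ∘ₗ r0 with hq0
  have hq0mem : ∀ a, q0 a ∈ maximalIdeal A ^ 2 := fun a => (r0 a).2
  have hq0id : ∀ a ∈ maximalIdeal A ^ 2, q0 a = a := by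
    intro a ha
    have := LinearMap.congr_fun hr0 ⟨a, ha⟩
    simp only [LinearMap.comp_apply, LinearMap.id_apply] at this
    simp only [hq0, LinearMap.comp_apply, Submodule.subtype_apply]
    exact congrArg Subtype.val this
  set q : A →ₗ[k] A := avgProj k (G := G) q0 with hq
  have hQ1 : ∀ (h : G) (a : A), q (h • a) = h • q a := avgProj_smul k q0
  have hQ2 : ∀ a, q a ∈ maximalIdeal A ^ 2 := avgProj_mem k q0 2 hq0mem
  have hQ3 : ∀ a ∈ maximalIdeal A ^ 2, q a = a := avgProj_eq_self k hN q0 2 hq0id
  set p : A →ₗ[k] A := LinearMap.id - q with hp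
  have hp_apply : ∀ a, p a = a - q a := fun a => rfl
  have hP1 : ∀ (h : G) (a : A), p (h • a) = h • p a := by
    intro h a; rw [hp_apply, hp_apply, hQ1, smul_sub]
  have hP2 : ∀ a, p (p a) = p a := by
    intro a
    have : q (p a) = 0 := by
      rw [hp_apply, map_sub, hQ3 _ (hQ2 a), sub_self]
    rw [hp_apply (p a), this, sub_zero]
  have hP3 : ∀ y ∈ LinearMap.range p, y ∈ maximalIdeal A ^ 2 → y = 0 := by
    rintro _ ⟨z, rfl⟩ hy
    have h1 := hP2 z
    rw [hp_apply (p z), hQ3 _ hy, sub_self] at h1
    exact h1.symm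
  -- the generating set
  set S1 : Set A := {x : A | ∃ (g : G) (a : A), x = g • p a - p a} with hS1
  set I1 : Ideal A := Ideal.span S1 with hI1
  set D1 : Submodule k A := Submodule.span k S1 with hD1
  have hD1range : D1 ≤ LinearMap.range p := by
    rw [hD1, Submodule.span_le]
    rintro _ ⟨g, a, rfl⟩
    exact ⟨g • a - a, by rw [map_sub, hP1]⟩
  have hD1M : ∀ y ∈ D1, y ∈ maximalIdeal A := by
    have : D1 ≤ (maximalIdeal A).restrictScalars k := by
      rw [hD1, Submodule.span_le]
      rintro _ ⟨g, a, rfl⟩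
      exact smul_sub_mem_maximalIdeal k hres g (p a)
    exact this
  have hD1I : ∀ y ∈ D1, y ∈ I1 := fun y hy => Submodule.span_le_restrictScalars k A S1 hy
  -- the map to the cotangent space
  let f : D1 →ₗ[k] (maximalIdeal A).Cotangent :=
    { toFun := fun y => (maximalIdeal A).toCotangent ⟨y.1, hD1M y.1 y.2⟩
      map_add' := fun y z => by
        rw [← map_add]; rfl
      map_smul' := fun c y => by
        rw [RingHom.id_apply, ← LinearMap.map_smul_of_tower]; rfl }
  have hf : Function.Injective f := by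
    rw [← LinearMap.ker_eq_bot, LinearMap.ker_eq_bot']
    intro y hy
    have h1 : (y : A) ∈ maximalIdeal A ^ 2 := (Ideal.toCotangent_eq_zero _ _).mp hy
    exact Subtype.ext (hP3 _ (hD1range y.2) h1)
  haveI : Module.Finite k (ResidueField A) :=
    Module.Finite.of_surjective (Algebra.linearMap k (ResidueField A)) hres
  haveI : IsScalarTower k (ResidueField A) (maximalIdeal A).Cotangent := by
    refine IsScalarTower.of_algebraMap_smul fun c v => ?_
    rw [IsScalarTower.algebraMap_apply k A (ResidueField A), algebraMap_smul, algebraMap_smul]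
  haveI : Module.Finite k (maximalIdeal A).Cotangent :=
    Module.Finite.trans (ResidueField A) (CotangentSpace A)
  haveI : Module.Finite k D1 := Module.Finite.of_injective f hf
  let b := Module.finBasis k D1
  set r := Module.finrank k D1 with hr
  let x : Fin r → maximalIdeal A := fun j => ⟨(b j : A), hD1M _ (b j).2⟩
  have hx_k : LinearIndependent k (fun j => (maximalIdeal A).toCotangent (x j)) :=
    b.linearIndependent.map' f (LinearMap.ker_eq_bot.mpr hf)
  have hx : LinearIndependent (ResidueField A) (fun j => (maximalIdeal A).toCotangent (x j)) := by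
    rw [linearIndependent_iff'] at hx_k ⊢
    intro s c hc i hi
    choose d hd using fun i => hres (c i)
    have h1 := hx_k s d (by
      rw [← hc]
      refine Finset.sum_congr rfl fun j _ => ?_
      rw [← hd j, algebraMap_smul]) i hi
    rw [← hd, h1, map_zero]
  have hI1eq : I1 = Ideal.span (Set.range fun j => (x j : A)) := by
    apply le_antisymm
    · rw [hI1, Ideal.span_le]
      intro s hs
      have hsD : s ∈ D1 := Submodule.subset_span hs
      have h1 := congrArg Subtype.val (b.sum_repr ⟨s, hsD⟩)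
      simp only [Submodule.coe_sum, Submodule.coe_smul] at h1
      rw [SetLike.mem_coe, ← h1]
      refine Ideal.sum_mem _ fun j _ => ?_
      rw [Algebra.smul_def]
      exact Ideal.mul_mem_left _ _ (Ideal.subset_span ⟨j, rfl⟩)
    · rw [Ideal.span_le]
      rintro _ ⟨j, rfl⟩
      exact hD1I _ (b j).2
  -- `G`-stability
  have hI1stable : ∀ (g : G), ∀ y ∈ I1, g • y ∈ I1 := by
    intro h y hy
    refine Submodule.span_induction ?_ ?_ ?_ ?_ hy
    · rintro _ ⟨g, a, rfl⟩
      refine Ideal.subset_span ⟨h * g * h⁻¹, h • a, ?_⟩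
      rw [smul_sub, hP1, ← mul_smul, ← mul_smul, inv_mul_cancel_right]
    · rw [smul_zero]; exact zero_mem _
    · intro y z _ _ hy hz
      rw [smul_add]; exact add_mem hy hz
    · intro c y _ hy
      rw [smul_eq_mul, smul_mul']
      exact Ideal.mul_mem_left _ _ hy
  have h2 : ∀ (g : G) (a : A), g • a - a ∈ I1 ⊔ maximalIdeal A ^ 2 := by
    intro g a
    have h3 : g • a - a = (g • p a - p a) + (g • q a - q a) := by
      rw [hp_apply]; simp only [smul_sub]; ring
    rw [h3]
    refine add_mem (Ideal.mem_sup_left (Ideal.subset_span ⟨g, a, rfl⟩)) (Ideal.mem_sup_right ?_)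
    exact sub_mem (smul_mem_maximalIdeal_pow g 2 (hQ2 a)) (hQ2 a)
  have hNA : IsUnit (Nat.card G : A) := by
    have : (Nat.card G : A) = algebraMap k A (Nat.card G : k) := by rw [map_natCast]
    rw [this]
    exact (IsUnit.mk0 _ hG).map _
  have hJ : Ideal.span {x : A | ∃ (g : G) (a : A), x = g • a - a} = I1 := by
    apply le_antisymm
    · rw [Ideal.span_le]
      rintro _ ⟨g, a, rfl⟩
      exact smul_sub_mem_of_sq hNA I1 hI1stable h2 g a
    · rw [hI1, Ideal.span_le]
      rintro _ ⟨g, a, rfl⟩
      exact Ideal.subset_span ⟨g, p a, rfl⟩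
  rw [hJ, hI1eq]
  exact (Groth.Agent.Lib.Helper9.RegLocal.quotient_regular A r x hx).2

end main

end Groth.Agent.Lib.Helper14.FixedLocus
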