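import Mathlib
import Groth.Prelude.Def_CInt
import Groth.Agent.Lib.Helper4.FlatRing
import Groth.Agent.Lib.Helper4.FlatFibre
import Groth.Agent.Lib.Helper6.FiberStalkIso

/-!
# Depth and dimension of stalks along a flat morphism of locally Noetherian schemes (helper14)
-/

set_option autoImplicit false
set_option linter.unusedSectionVars false
set_option linter.style.haveILetI false
universe u
open AlgebraicGeometry CategoryTheory IsLocalRing Groth.Agent.Lib.Helper4
  Groth.Agent.Lib.Helper4.FlatRing Groth.Agent.Lib.Helper4.FlatFibre Groth.Agent.Lib.Helper6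

namespace Groth.Agent.Lib.Helper14.FlatStalkDepth

variable {X S : Scheme.{u}} [IsLocallyNoetherian X] [IsLocallyNoetherian S] (f : X ⟶ S) [Flat f]
  (x : X)

theorem depth_dim_stalk_eq :
    LocCoh.depth (X.presheaf.stalk x) (X.presheaf.stalk x) =
      LocCoh.depth (S.presheaf.stalk (f.base x)) (S.presheaf.stalk (f.base x)) +
        LocCoh.depth (CInt.fiberStalk f x) (CInt.fiberStalk f x) ∧
    ringKrullDim (X.presheaf.stalk x) =
      ringKrullDim (S.presheaf.stalk (f.base x)) + ringKrullDim (CInt.fiberStalk f x) := by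
  letI : Algebra (S.presheaf.stalk (f.base x)) (X.presheaf.stalk x) :=
    (f.stalkMap x).hom.toAlgebra
  haveI : Module.Flat (S.presheaf.stalk (f.base x)) (X.presheaf.stalk x) := Flat.stalkMap f x
  haveI : IsLocalHom (algebraMap (S.presheaf.stalk (f.base x)) (X.presheaf.stalk x)) :=
    inferInstanceAs (IsLocalHom (f.stalkMap x).hom)
  haveI : Nontrivial (X.presheaf.stalk x ⧸ fiberIdeal f x) :=
    Ideal.Quotient.nontrivial_iff.mpr (fiberIdeal_ne_top f x)
  haveI : IsLocalRing (X.presheaf.stalk x ⧸ fiberIdeal f x) :=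
    IsLocalRing.of_surjective' (Ideal.Quotient.mk _) Ideal.Quotient.mk_surjective
  have hI : fiberIdeal f x = (maximalIdeal (S.presheaf.stalk (f.base x))).map
      (algebraMap (S.presheaf.stalk (f.base x)) (X.presheaf.stalk x)) := rfl
  have e := fiberStalkEquiv f x
  haveI : IsLocalRing (CInt.fiberStalk f x) := e.symm.isLocalRing
  constructor
  · rw [depth_eq_add_of_eq (fiberIdeal f x) hI]
    congr 1
    exact (depth_eq_of_ringEquiv e).symm
  · have h := dim_eq_add_fibRing (S.presheaf.stalk (f.base x)) (X.presheaf.stalk x)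
    rw [h]
    congr 1
    exact (ringKrullDim_eq_of_ringEquiv e).symm

end Groth.Agent.Lib.Helper14.FlatStalkDepth
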