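import Mathlib

/-!
Formal inverse function theorem for multivariate power series in finitely many variables:
an `R`-algebra endomorphism of `R[[X_1, …, X_n]]` sending the variables to series without constant
term and with invertible Jacobian at the origin is bijective.
-/

namespace Groth.Agent.Lib.Helper14.FormalIFT

open MvPowerSeries Finsupp

variable {σ : Type*} {R : Type*} [CommRing R]

/-- The order filtration: all coefficients in degree `< k` vanish. -/
def Fil (k : ℕ) (f : MvPowerSeries σ R) : Prop := ∀ m : σ →₀ ℕ, degree m < k → coeff m f = 0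

theorem fil_iff {k : ℕ} {f : MvPowerSeries σ R} : Fil k f ↔ (k : ℕ∞) ≤ f.order :=
  ⟨fun h => nat_le_order h,
    fun h m hm => coeff_of_lt_order (lt_of_lt_of_le (by exact_mod_cast hm) h)⟩

theorem Fil.mono {k l : ℕ} {f : MvPowerSeries σ R} (h : Fil k f) (hl : l ≤ k) : Fil l f :=
  fun m hm => h m (lt_of_lt_of_le hm hl)

theorem Fil.cast {k l : ℕ} {f : MvPowerSeries σ R} (h : Fil k f) (hl : k = l) : Fil l f :=
  hl ▸ h

theorem Fil.add {k : ℕ} {f g : MvPowerSeries σ R} (hf : Fil k f) (hg : Fil k g) :
    Fil k (f + g) := fun m hm => by rw [map_add, hf m hm, hg m hm, add_zero]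

theorem Fil.neg {k : ℕ} {f : MvPowerSeries σ R} (hf : Fil k f) : Fil k (-f) :=
  fun m hm => by rw [map_neg, hf m hm, neg_zero]

theorem Fil.sub {k : ℕ} {f g : MvPowerSeries σ R} (hf : Fil k f) (hg : Fil k g) :
    Fil k (f - g) := fun m hm => by rw [map_sub, hf m hm, hg m hm, sub_zero]

theorem fil_zero_right (k : ℕ) : Fil k (0 : MvPowerSeries σ R) := fun m _ => map_zero _

theorem fil_zero_left (f : MvPowerSeries σ R) : Fil 0 f := fun m hm => absurd hm (Nat.not_lt_zero _)

theorem Fil.mul {k l : ℕ} {f g : MvPowerSeries σ R} (hf : Fil k f) (hg : Fil l g) :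
    Fil (k + l) (f * g) := by
  rw [fil_iff] at *
  calc ((k + l : ℕ) : ℕ∞) = (k : ℕ∞) + l := by push_cast; rfl
    _ ≤ f.order + g.order := add_le_add hf hg
    _ ≤ (f * g).order := le_order_mul

theorem Fil.sum {k : ℕ} {ι : Type*} (s : Finset ι) (F : ι → MvPowerSeries σ R)
    (h : ∀ i ∈ s, Fil k (F i)) : Fil k (∑ i ∈ s, F i) :=
  fun m hm => by rw [map_sum]; exact Finset.sum_eq_zero (fun i hi => h i hi m hm)

theorem Fil.smul {k : ℕ} {f : MvPowerSeries σ R} (c : R) (hf : Fil k f) : Fil k (c • f) :=
  fun m hm => by rw [coeff_smul, hf m hm, mul_zero]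

theorem eq_zero_of_forall_fil {f : MvPowerSeries σ R} (h : ∀ k, Fil k f) : f = 0 := by
  ext m
  rw [h (degree m + 1) m (Nat.lt_succ_self _)]
  simp

theorem fil_one_of_constantCoeff {f : MvPowerSeries σ R} (h : constantCoeff f = 0) : Fil 1 f := by
  intro m hm
  have h0 : degree m = 0 := by omega
  have : m = 0 := (Finsupp.degree_eq_zero_iff m).mp h0
  rw [this, coeff_zero_eq_constantCoeff_apply, h]

/-- Keep the monomials satisfying a predicate. -/
noncomputable def filt (P : (σ →₀ ℕ) → Prop) [DecidablePred P] (f : MvPowerSeries σ R) :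
    MvPowerSeries σ R := fun m => if P m then coeff m f else 0

theorem coeff_filt (P : (σ →₀ ℕ) → Prop) [DecidablePred P] (f : MvPowerSeries σ R)
    (m : σ →₀ ℕ) : coeff m (filt P f) = if P m then coeff m f else 0 := rfl

theorem fil_filt (P : (σ →₀ ℕ) → Prop) [DecidablePred P] {k : ℕ} {f : MvPowerSeries σ R}
    (hf : Fil k f) : Fil k (filt P f) := by
  intro m hm
  rw [coeff_filt]
  split_ifs
  · exact hf m hm
  · rfl

/-- Decomposition: a series of order `≥ k + 1` all of whose monomials involve some variable in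
`s` is a combination of the `X i`, `i ∈ s`, with coefficients of order `≥ k`. -/
theorem exists_decomp [DecidableEq σ] (s : Finset σ) (k : ℕ) :
    ∀ f : MvPowerSeries σ R, Fil (k + 1) f →
      (∀ m : σ →₀ ℕ, (∀ i ∈ s, m i = 0) → coeff m f = 0) →
      ∃ g : σ → MvPowerSeries σ R, (∀ i, Fil k (g i)) ∧ f = ∑ i ∈ s, X i * g i := by
  induction s using Finset.induction_on with
  | empty =>
    intro f _ h
    refine ⟨fun _ => 0, fun _ => fil_zero_right k, ?_⟩
    ext m
    rw [h m (by simp)]
    simp
  | insert j s hj ih =>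
    intro f hf h
    set f₁ := filt (fun m : σ →₀ ℕ => m j ≠ 0) f with hf₁
    set f₂ := filt (fun m : σ →₀ ℕ => m j = 0) f with hf₂
    have hsplit : f = f₁ + f₂ := by
      ext m
      rw [map_add, hf₁, hf₂, coeff_filt, coeff_filt]
      by_cases hm : m j = 0
      · simp [hm]
      · simp [hm]
    have hdvd : (X j : MvPowerSeries σ R) ∣ f₁ := by
      rw [X_dvd_iff]
      intro m hm
      rw [hf₁, coeff_filt, if_neg (by simpa using hm)]
    obtain ⟨h₁, hh₁⟩ := hdvd
    have hfil₁ : Fil k h₁ := by
      intro m hm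
      have e1 : coeff (single j 1 + m) f₁ = coeff m h₁ := by
        rw [hh₁, X_def, coeff_add_monomial_mul, one_mul]
      rw [← e1]
      apply fil_filt _ hf
      rw [map_add, Finsupp.degree_single]
      omega
    have hfil₂ : Fil (k + 1) f₂ := fil_filt _ hf
    have hvan₂ : ∀ m : σ →₀ ℕ, (∀ i ∈ s, m i = 0) → coeff m f₂ = 0 := by
      intro m hm
      rw [hf₂, coeff_filt]
      split_ifs with hmj
      · apply h m
        intro i hi
        rcases Finset.mem_insert.mp hi with rfl | hi
        · exact hmj
        · exact hm i hi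
      · rfl
    obtain ⟨g', hg', hsum⟩ := ih f₂ hfil₂ hvan₂
    refine ⟨Function.update g' j h₁, ?_, ?_⟩
    · intro i
      by_cases hi : i = j
      · subst hi; rw [Function.update_self]; exact hfil₁
      · rw [Function.update_of_ne hi]; exact hg' i
    · rw [Finset.sum_insert hj, Function.update_self, hsplit, hh₁, hsum]
      congr 1
      apply Finset.sum_congr rfl
      intro i hi
      have : i ≠ j := fun e => hj (e ▸ hi)
      rw [Function.update_of_ne this]

/-- An algebra endomorphism sending the variables to series without constant term preserves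
the order filtration. -/
theorem fil_map [Fintype σ] [DecidableEq σ]
    (φ : MvPowerSeries σ R →ₐ[R] MvPowerSeries σ R)
    (h0 : ∀ i, constantCoeff (φ (X i)) = 0) :
    ∀ (k : ℕ) (f : MvPowerSeries σ R), Fil k f → Fil k (φ f) := by
  intro k
  induction k with
  | zero => intro f _; exact fil_zero_left _
  | succ k ih =>
    intro f hf
    obtain ⟨g, hg, hsum⟩ := exists_decomp (Finset.univ : Finset σ) k f hf (by
      intro m hm
      have : m = 0 := by
        ext i; simpa using hm i (Finset.mem_univ i)
      rw [this]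
      exact hf 0 (by simp))
    rw [hsum, map_sum]
    apply Fil.sum
    intro i _
    rw [map_mul]
    exact ((fil_one_of_constantCoeff (h0 i)).mul (ih _ (hg i))).cast (Nat.add_comm 1 k)

/-! ### Products -/

/-- `a` and `b` have order `≥ d` and agree modulo order `≥ d + 1`. -/
def Q (d : ℕ) (a b : MvPowerSeries σ R) : Prop := Fil d a ∧ Fil d b ∧ Fil (d + 1) (a - b)

theorem Q_one : Q 0 (1 : MvPowerSeries σ R) 1 :=
  ⟨fil_zero_left _, fil_zero_left _, by rw [sub_self]; exact fil_zero_right _⟩

theorem Q.mul {d e : ℕ} {a b a' b' : MvPowerSeries σ R} (h : Q d a b) (h' : Q e a' b') :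
    Q (d + e) (a * a') (b * b') := by
  refine ⟨h.1.mul h'.1, h.2.1.mul h'.2.1, ?_⟩
  have : a * a' - b * b' = a * (a' - b') + (a - b) * b' := by ring
  rw [this]
  exact ((h.1.mul h'.2.2).cast (by omega)).add ((h.2.2.mul h'.2.1).cast (by omega))

theorem Q.pow {d : ℕ} {a b : MvPowerSeries σ R} (h : Q d a b) (n : ℕ) :
    Q (n * d) (a ^ n) (b ^ n) := by
  induction n with
  | zero => simpa using Q_one
  | succ n ih =>
    rw [pow_succ, pow_succ, Nat.succ_mul]
    exact ih.mul h

theorem Q_prod {ι : Type*} [DecidableEq ι] (s : Finset ι) (e : ι → ℕ)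
    (a b : ι → MvPowerSeries σ R) (h : ∀ i ∈ s, Q (e i) (a i) (b i)) :
    Q (∑ i ∈ s, e i) (∏ i ∈ s, a i) (∏ i ∈ s, b i) := by
  induction s using Finset.induction_on with
  | empty => simpa using Q_one
  | insert j s hj ih =>
    rw [Finset.sum_insert hj, Finset.prod_insert hj, Finset.prod_insert hj]
    exact (h j (Finset.mem_insert_self j s)).mul
      (ih (fun i hi => h i (Finset.mem_insert_of_mem hi)))

/-- Evaluating a homogeneous polynomial of degree `k` at two families of series of positive order
agreeing modulo order `2` gives the same result modulo order `k + 1`. -/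
theorem fil_aeval_sub [Fintype σ] [DecidableEq σ] (u v : σ → MvPowerSeries σ R)
    (huv : ∀ i, Q 1 (u i) (v i)) {k : ℕ} (p : MvPolynomial σ R) (hp : p.IsHomogeneous k) :
    Fil (k + 1) (MvPolynomial.aeval u p - MvPolynomial.aeval v p) := by
  rw [MvPolynomial.aeval_def, MvPolynomial.aeval_def, MvPolynomial.eval₂_eq',
    MvPolynomial.eval₂_eq', ← Finset.sum_sub_distrib]
  apply Fil.sum
  intro d hd
  rw [← mul_sub, ← Algebra.smul_def]
  apply Fil.smul
  have hdk : degree d = k := by
    by_contra hne
    exact (MvPolynomial.mem_support_iff.mp hd) (hp.coeff_eq_zero hne)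
  have hQ := Q_prod (Finset.univ : Finset σ) (fun i => d i) (fun i => u i ^ d i)
    (fun i => v i ^ d i) (fun i _ => by simpa using (huv i).pow (d i))
  rw [← Finsupp.degree_eq_sum, hdk] at hQ
  exact hQ.2.2

/-! ### Linear substitutions of polynomials -/

/-- The linear substitution `X i ↦ ∑ j, J i j • X j`. -/
noncomputable def lin [Fintype σ] (J : Matrix σ σ R) : MvPolynomial σ R →ₐ[R] MvPolynomial σ R :=
  MvPolynomial.aeval (fun i => ∑ j, MvPolynomial.C (J i j) * MvPolynomial.X j)

theorem lin_X [Fintype σ] (J : Matrix σ σ R) (i : σ) :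
    lin J (MvPolynomial.X i) = ∑ j, MvPolynomial.C (J i j) * MvPolynomial.X j :=
  MvPolynomial.aeval_X _ _

theorem lin_comp [Fintype σ] (J K : Matrix σ σ R) : (lin J).comp (lin K) = lin (K * J) := by
  apply MvPolynomial.algHom_ext
  intro i
  rw [AlgHom.comp_apply, lin_X, lin_X, map_sum]
  simp only [map_mul, MvPolynomial.algHom_C, MvPolynomial.algebraMap_eq, lin_X, Matrix.mul_apply,
    map_sum, Finset.mul_sum, Finset.sum_mul]
  rw [Finset.sum_comm]
  apply Finset.sum_congr rfl
  intro j _
  apply Finset.sum_congr rfl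
  intro l _
  ring

theorem lin_one [Fintype σ] [DecidableEq σ] :
    lin (1 : Matrix σ σ R) = AlgHom.id R (MvPolynomial σ R) := by
  apply MvPolynomial.algHom_ext
  intro i
  rw [lin_X, AlgHom.id_apply, Finset.sum_eq_single i]
  · simp
  · intro j _ hj
    simp [Matrix.one_apply_ne' hj]
  · intro h; exact absurd (Finset.mem_univ i) h

theorem lin_lin_of_mul_eq_one [Fintype σ] [DecidableEq σ] {J K : Matrix σ σ R} (h : K * J = 1)
    (p : MvPolynomial σ R) : lin J (lin K p) = p := by
  have := lin_comp J K
  rw [h, lin_one] at this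
  exact congrArg (fun ψ => ψ p) this

theorem lin_isHomogeneous [Fintype σ] (J : Matrix σ σ R) {k : ℕ} {p : MvPolynomial σ R}
    (hp : p.IsHomogeneous k) : (lin J p).IsHomogeneous k := by
  have := hp.aeval (fun i => ∑ j, MvPolynomial.C (J i j) * MvPolynomial.X j) (n := 1)
    (fun i => MvPolynomial.IsHomogeneous.sum _ _ _
      (fun j _ => MvPolynomial.isHomogeneous_C_mul_X (J i j) j))
  rw [one_mul] at this
  exact this

/-- The coercion of polynomials to power series as an algebra homomorphism. -/
noncomputable def coeA : MvPolynomial σ R →ₐ[R] MvPowerSeries σ R :=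
  MvPolynomial.coeToMvPowerSeries.algHom R

theorem coeA_apply (p : MvPolynomial σ R) : coeA p = (p : MvPowerSeries σ R) := by
  simp [coeA]

/-- The linear forms as power series. -/
noncomputable def linForm [Fintype σ] (J : Matrix σ σ R) (i : σ) : MvPowerSeries σ R :=
  ∑ j, C (J i j) * X j

theorem coe_lin [Fintype σ] (J : Matrix σ σ R) (p : MvPolynomial σ R) :
    ((lin J p : MvPolynomial σ R) : MvPowerSeries σ R) = MvPolynomial.aeval (linForm J) p := by
  have : (coeA (σ := σ) (R := R)).comp (lin J) = MvPolynomial.aeval (linForm J) := by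
    apply MvPolynomial.algHom_ext
    intro i
    rw [AlgHom.comp_apply, lin_X, MvPolynomial.aeval_X, coeA_apply, linForm]
    rw [← coeA_apply, map_sum]
    apply Finset.sum_congr rfl
    intro j _
    rw [map_mul, coeA_apply, coeA_apply, MvPolynomial.coe_C, MvPolynomial.coe_X]
  rw [← this, AlgHom.comp_apply, coeA_apply]

theorem map_coe (φ : MvPowerSeries σ R →ₐ[R] MvPowerSeries σ R) (p : MvPolynomial σ R) :
    φ (p : MvPowerSeries σ R) = MvPolynomial.aeval (fun i => φ (X i)) p := by
  have : φ.comp (coeA (σ := σ) (R := R)) = MvPolynomial.aeval (fun i => φ (X i)) := by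
    apply MvPolynomial.algHom_ext
    intro i
    rw [AlgHom.comp_apply, MvPolynomial.aeval_X, coeA_apply, MvPolynomial.coe_X]
  rw [← this, AlgHom.comp_apply, coeA_apply]

theorem fil_one_linForm [Fintype σ] (J : Matrix σ σ R) (i : σ) : Fil 1 (linForm J i) := by
  apply fil_one_of_constantCoeff
  simp [linForm]

/-- `J` is the linear part of `φ`. -/
def IsLinPart [Fintype σ] (φ : MvPowerSeries σ R →ₐ[R] MvPowerSeries σ R) (J : Matrix σ σ R) :
    Prop := ∀ i, Fil 2 (φ (X i) - linForm J i)

theorem Q_of_isLinPart [Fintype σ] {φ : MvPowerSeries σ R →ₐ[R] MvPowerSeries σ R}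
    {J : Matrix σ σ R} (h0 : ∀ i, constantCoeff (φ (X i)) = 0) (hJ : IsLinPart φ J) (i : σ) :
    Q 1 (φ (X i)) (linForm J i) :=
  ⟨fil_one_of_constantCoeff (h0 i), fil_one_linForm J i, hJ i⟩

/-- `φ` agrees with its linear part on homogeneous polynomials, modulo higher order. -/
theorem fil_map_coe_sub [Fintype σ] [DecidableEq σ]
    {φ : MvPowerSeries σ R →ₐ[R] MvPowerSeries σ R} {J : Matrix σ σ R}
    (h0 : ∀ i, constantCoeff (φ (X i)) = 0) (hJ : IsLinPart φ J) {k : ℕ}
    (p : MvPolynomial σ R) (hp : p.IsHomogeneous k) :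
    Fil (k + 1) (φ (p : MvPowerSeries σ R) - ((lin J p : MvPolynomial σ R) : MvPowerSeries σ R)) := by
  rw [map_coe, coe_lin]
  exact fil_aeval_sub _ _ (Q_of_isLinPart h0 hJ) p hp

/-! ### Truncation -/

theorem isHomogeneous_truncTotal [Finite σ] {k : ℕ} {e : MvPowerSeries σ R} (he : Fil k e) :
    (truncTotal (k + 1) e).IsHomogeneous k := by
  intro d hd
  change Finsupp.weight (fun _ => 1) d = k
  rw [← Finsupp.degree_eq_weight_one]
  by_contra hne
  apply hd
  rcases lt_or_gt_of_ne hne with hlt | hgt
  · rw [coeff_truncTotal _ (by omega)]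
    exact he d hlt
  · exact coeff_truncTotal_eq_zero _ (by omega)

theorem fil_sub_truncTotal [Finite σ] (k : ℕ) (e : MvPowerSeries σ R) :
    Fil k (e - ((truncTotal k e : MvPolynomial σ R) : MvPowerSeries σ R)) := by
  intro m hm
  rw [map_sub, MvPolynomial.coeff_coe, coeff_truncTotal _ hm, sub_self]

theorem fil_coe_of_isHomogeneous {k : ℕ} {p : MvPolynomial σ R} (hp : p.IsHomogeneous k) :
    Fil k (p : MvPowerSeries σ R) := by
  intro m hm
  rw [MvPolynomial.coeff_coe]
  exact hp.coeff_eq_zero (by omega)

theorem eq_zero_of_isHomogeneous_of_fil {k : ℕ} {p : MvPolynomial σ R} (hp : p.IsHomogeneous k)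
    (h : Fil (k + 1) (p : MvPowerSeries σ R)) : p = 0 := by
  ext m
  rw [MvPolynomial.coeff_zero]
  by_cases hm : degree m = k
  · have := h m (by omega)
    rwa [MvPolynomial.coeff_coe] at this
  · exact hp.coeff_eq_zero hm

/-! ### Bijectivity -/

section Main

variable [Fintype σ] [DecidableEq σ] (φ : MvPowerSeries σ R →ₐ[R] MvPowerSeries σ R)
  (K : Matrix σ σ R)

/-- Successive approximations of a preimage of `h`. -/
noncomputable def approx (h : MvPowerSeries σ R) : ℕ → MvPowerSeries σ R
  | 0 => 0
  | k + 1 => approx h k +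
      ((lin K (truncTotal (k + 1) (h - φ (approx h k))) : MvPolynomial σ R) : MvPowerSeries σ R)

theorem approx_succ (h : MvPowerSeries σ R) (k : ℕ) :
    approx φ K h (k + 1) = approx φ K h k +
      ((lin K (truncTotal (k + 1) (h - φ (approx φ K h k))) : MvPolynomial σ R) :
        MvPowerSeries σ R) := rfl

variable {φ K} {J : Matrix σ σ R}

theorem fil_sub_map_approx (h0 : ∀ i, constantCoeff (φ (X i)) = 0) (hJ : IsLinPart φ J)
    (hKJ : K * J = 1) (h : MvPowerSeries σ R) : ∀ k, Fil k (h - φ (approx φ K h k))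
  | 0 => fil_zero_left _
  | k + 1 => by
    have ih := fil_sub_map_approx h0 hJ hKJ h k
    obtain ⟨e, he⟩ : ∃ e, e = h - φ (approx φ K h k) := ⟨_, rfl⟩
    rw [← he] at ih
    obtain ⟨p, hp⟩ : ∃ p, p = truncTotal (k + 1) e := ⟨_, rfl⟩
    have hp_hom : p.IsHomogeneous k := hp ▸ isHomogeneous_truncTotal ih
    have hq_hom : (lin K p).IsHomogeneous k := lin_isHomogeneous K hp_hom
    have h1 : Fil (k + 1) (e - (p : MvPowerSeries σ R)) := hp ▸ fil_sub_truncTotal (k + 1) e
    have h2 := fil_map_coe_sub h0 hJ (lin K p) hq_hom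
    rw [lin_lin_of_mul_eq_one hKJ] at h2
    have : h - φ (approx φ K h (k + 1)) =
        (e - (p : MvPowerSeries σ R)) -
          (φ ((lin K p : MvPolynomial σ R) : MvPowerSeries σ R) - (p : MvPowerSeries σ R)) := by
      rw [approx_succ, map_add, ← he, ← hp, he]; ring
    rw [this]
    exact h1.sub h2

theorem fil_approx_succ_sub (h0 : ∀ i, constantCoeff (φ (X i)) = 0) (hJ : IsLinPart φ J)
    (hKJ : K * J = 1) (h : MvPowerSeries σ R) (k : ℕ) :
    Fil k (approx φ K h (k + 1) - approx φ K h k) := by
  rw [approx_succ, add_sub_cancel_left]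
  exact fil_coe_of_isHomogeneous (lin_isHomogeneous K
    (isHomogeneous_truncTotal (fil_sub_map_approx h0 hJ hKJ h k)))

theorem fil_approx_sub (h0 : ∀ i, constantCoeff (φ (X i)) = 0) (hJ : IsLinPart φ J)
    (hKJ : K * J = 1) (h : MvPowerSeries σ R) (k l : ℕ) (hkl : k ≤ l) :
    Fil k (approx φ K h l - approx φ K h k) := by
  induction l, hkl using Nat.le_induction with
  | base => rw [sub_self]; exact fil_zero_right _
  | succ l hl ih =>
    have : approx φ K h (l + 1) - approx φ K h k =
        (approx φ K h (l + 1) - approx φ K h l) + (approx φ K h l - approx φ K h k) := by ring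
    rw [this]
    exact ((fil_approx_succ_sub h0 hJ hKJ h l).mono hl).add ih

variable (φ K) in
/-- The limit of the successive approximations. -/
noncomputable def approxLim (h : MvPowerSeries σ R) : MvPowerSeries σ R :=
  fun m => coeff m (approx φ K h (degree m + 1))

theorem fil_approxLim_sub (h0 : ∀ i, constantCoeff (φ (X i)) = 0) (hJ : IsLinPart φ J)
    (hKJ : K * J = 1) (h : MvPowerSeries σ R) (k : ℕ) :
    Fil k (approxLim φ K h - approx φ K h k) := by
  intro m hm
  have e1 : coeff m (approxLim φ K h) = coeff m (approx φ K h (degree m + 1)) := rfl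
  have e2 := fil_approx_sub h0 hJ hKJ h (degree m + 1) k (by omega) m (Nat.lt_succ_self _)
  rw [map_sub] at e2 ⊢
  rw [e1]
  rw [sub_eq_zero] at e2 ⊢
  exact e2.symm

theorem surjective_of_isLinPart (h0 : ∀ i, constantCoeff (φ (X i)) = 0) (hJ : IsLinPart φ J)
    (hKJ : K * J = 1) : Function.Surjective φ := by
  intro h
  refine ⟨approxLim φ K h, ?_⟩
  rw [← sub_eq_zero]
  apply eq_zero_of_forall_fil
  intro k
  have : φ (approxLim φ K h) - h =
      φ (approxLim φ K h - approx φ K h k) - (h - φ (approx φ K h k)) := by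
    rw [map_sub]; ring
  rw [this]
  exact (fil_map φ h0 k _ (fil_approxLim_sub h0 hJ hKJ h k)).sub (fil_sub_map_approx h0 hJ hKJ h k)

theorem injective_of_isLinPart (h0 : ∀ i, constantCoeff (φ (X i)) = 0) (hJ : IsLinPart φ J)
    (hJK : J * K = 1) : Function.Injective φ := by
  rw [injective_iff_map_eq_zero]
  intro f hf
  by_contra hne
  obtain ⟨d, hd, hord⟩ := exists_coeff_ne_zero_and_order (ne_zero_iff_order_finite.mp hne)
  obtain ⟨k, hk⟩ : ∃ k, k = degree d := ⟨_, rfl⟩
  rw [← hk] at hord
  have hfil : Fil k f := fil_iff.mpr (le_of_eq hord)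
  obtain ⟨p, hp⟩ : ∃ p, p = truncTotal (k + 1) f := ⟨_, rfl⟩
  have hp_hom : p.IsHomogeneous k := hp ▸ isHomogeneous_truncTotal hfil
  have hp_ne : p ≠ 0 := by
    intro hp0
    apply hd
    have := coeff_truncTotal f (show degree d < k + 1 by omega)
    rw [← this, ← hp, hp0, MvPolynomial.coeff_zero]
  have h1 : Fil (k + 1) (f - (p : MvPowerSeries σ R)) := hp ▸ fil_sub_truncTotal (k + 1) f
  have h2 := fil_map φ h0 (k + 1) _ h1
  rw [map_sub, hf, zero_sub] at h2
  have h3 := fil_map_coe_sub h0 hJ p hp_hom
  have h4 : Fil (k + 1) ((lin J p : MvPolynomial σ R) : MvPowerSeries σ R) := by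
    have : ((lin J p : MvPolynomial σ R) : MvPowerSeries σ R) =
        -(φ (p : MvPowerSeries σ R) - ((lin J p : MvPolynomial σ R) : MvPowerSeries σ R)) -
          (-(φ (p : MvPowerSeries σ R))) := by ring
    rw [this]
    exact h3.neg.sub h2
  have h5 : lin J p = 0 := eq_zero_of_isHomogeneous_of_fil (lin_isHomogeneous J hp_hom) h4
  apply hp_ne
  have := lin_lin_of_mul_eq_one hJK p
  rw [h5, map_zero] at this
  exact this.symm

theorem bijective_of_isLinPart (h0 : ∀ i, constantCoeff (φ (X i)) = 0) (hJ : IsLinPart φ J)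
    (hJK : J * K = 1) (hKJ : K * J = 1) : Function.Bijective φ :=
  ⟨injective_of_isLinPart h0 hJ hJK, surjective_of_isLinPart h0 hJ hKJ⟩

/-- Version with invertible determinant. -/
theorem bijective_of_isLinPart_of_isUnit_det (h0 : ∀ i, constantCoeff (φ (X i)) = 0)
    (hJ : IsLinPart φ J) (hdet : IsUnit J.det) : Function.Bijective φ :=
  bijective_of_isLinPart (K := J⁻¹) h0 hJ (Matrix.mul_nonsing_inv J hdet)
    (Matrix.nonsing_inv_mul J hdet)

/-- The Jacobian matrix at the origin is a linear part. -/
theorem isLinPart_jacobian (h0 : ∀ i, constantCoeff (φ (X i)) = 0) :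
    IsLinPart φ (Matrix.of fun i j : σ => coeff (Finsupp.single j 1) (φ (X i))) := by
  intro i m hm
  rw [map_sub, sub_eq_zero]
  by_cases hm0 : m = 0
  · rw [hm0]
    have := fil_one_linForm (Matrix.of fun i j : σ => coeff (Finsupp.single j 1) (φ (X i))) i 0
      (by simp)
    rw [this, coeff_zero_eq_constantCoeff_apply, h0 i]
  · obtain ⟨l, hl⟩ : ∃ l, m l ≠ 0 := by
      by_contra hcon
      push Not at hcon
      exact hm0 (Finsupp.ext hcon)
    have hle : Finsupp.single l 1 ≤ m := by
      rw [Finsupp.single_le_iff]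
      omega
    have hm' : m = Finsupp.single l 1 + (m - Finsupp.single l 1) :=
      (add_tsub_cancel_of_le hle).symm
    have hdeg : degree (m - Finsupp.single l 1) = 0 := by
      have := congrArg degree hm'
      rw [map_add, Finsupp.degree_single] at this
      omega
    have hz : m - Finsupp.single l 1 = 0 := (Finsupp.degree_eq_zero_iff _).mp hdeg
    rw [hz, add_zero] at hm'
    rw [hm', linForm, map_sum]
    simp only [coeff_C_mul, coeff_index_single_X, Matrix.of_apply, mul_ite, mul_one, mul_zero,
      Finset.sum_ite_eq, Finset.mem_univ, if_true]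

/-- Substitution automorphisms: a family of series without constant term and with invertible
linear part defines an automorphism. -/
theorem exists_algEquiv_of_isLinPart (a : σ → MvPowerSeries σ R)
    (ha : ∀ i, constantCoeff (a i) = 0) (J : Matrix σ σ R) (hJ : ∀ i, Fil 2 (a i - linForm J i))
    (hdet : IsUnit J.det) :
    ∃ ψ : MvPowerSeries σ R ≃ₐ[R] MvPowerSeries σ R, ∀ i, ψ (X i) = a i := by
  have hs : HasSubst a := hasSubst_of_constantCoeff_zero ha
  have hX : ∀ i, substAlgHom (R := R) hs (X i) = a i := fun i => substAlgHom_X hs i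
  have hbij : Function.Bijective (substAlgHom (R := R) hs) :=
    bijective_of_isLinPart_of_isUnit_det (J := J) (fun i => by rw [hX]; exact ha i)
      (fun i => by rw [hX]; exact hJ i) hdet
  exact ⟨AlgEquiv.ofBijective _ hbij, fun i => by rw [AlgEquiv.ofBijective_apply, hX]⟩

end Main

theorem fil_X (i : σ) : Fil 1 (X i : MvPowerSeries σ R) :=
  fil_one_of_constantCoeff (constantCoeff_X i)

theorem Fil.C_mul {k : ℕ} {f : MvPowerSeries σ R} (c : R) (hf : Fil k f) : Fil k (C c * f) :=
  fun m hm => by rw [coeff_C_mul, hf m hm, mul_zero]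

theorem Fil.pow {k : ℕ} {f : MvPowerSeries σ R} (hf : Fil k f) (n : ℕ) : Fil (n * k) (f ^ n) := by
  induction n with
  | zero => simpa using fil_zero_left _
  | succ n ih =>
    rw [pow_succ, Nat.succ_mul]
    exact ih.mul hf

theorem fil_X_pow (i : σ) (n : ℕ) : Fil n ((X i : MvPowerSeries σ R) ^ n) := by
  simpa using (fil_X (R := R) i).pow n

/-! ### Families generating the ideal of the variables -/

section Family

variable [Fintype σ] [DecidableEq σ]

theorem coeff_single_linForm (M : Matrix σ σ R) (l m : σ) :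
    coeff (Finsupp.single m 1) (linForm M l) = M l m := by
  rw [linForm, map_sum]
  simp only [coeff_C_mul, coeff_index_single_X, mul_ite, mul_one, mul_zero,
    Finset.sum_ite_eq, Finset.mem_univ, if_true]

/-- The Jacobian matrix of a family is a linear part of it. -/
theorem fil_two_sub_linForm (y : σ → MvPowerSeries σ R) (h0 : ∀ i, constantCoeff (y i) = 0) (i : σ) :
    Fil 2 (y i - linForm (Matrix.of fun i j : σ => coeff (Finsupp.single j 1) (y i)) i) := by
  intro m hm
  rw [map_sub, sub_eq_zero]
  by_cases hm0 : m = 0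
  · rw [hm0]
    have := fil_one_linForm (Matrix.of fun i j : σ => coeff (Finsupp.single j 1) (y i)) i 0
      (by simp)
    rw [this, coeff_zero_eq_constantCoeff_apply, h0 i]
  · obtain ⟨l, hl⟩ : ∃ l, m l ≠ 0 := by
      by_contra hcon
      push Not at hcon
      exact hm0 (Finsupp.ext hcon)
    have hle : Finsupp.single l 1 ≤ m := by
      rw [Finsupp.single_le_iff]
      omega
    have hm' : m = Finsupp.single l 1 + (m - Finsupp.single l 1) :=
      (add_tsub_cancel_of_le hle).symm
    have hdeg : degree (m - Finsupp.single l 1) = 0 := by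
      have := congrArg degree hm'
      rw [map_add, Finsupp.degree_single] at this
      omega
    have hz : m - Finsupp.single l 1 = 0 := (Finsupp.degree_eq_zero_iff _).mp hdeg
    rw [hz, add_zero] at hm'
    rw [hm', coeff_single_linForm, Matrix.of_apply]

/-- If the family `y` (without constant terms) generates every variable, its Jacobian matrix
has invertible determinant. -/
theorem isUnit_det_jacobian_of_X_mem (y : σ → MvPowerSeries σ R)
    (h0 : ∀ i, constantCoeff (y i) = 0)
    (hX : ∀ l, (X l : MvPowerSeries σ R) ∈ Ideal.span (Set.range y)) :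
    IsUnit (Matrix.of fun i j : σ => coeff (Finsupp.single j 1) (y i)).det := by
  choose c hc using fun l => Ideal.mem_span_range_iff_exists_fun.mp (hX l)
  set J : Matrix σ σ R := Matrix.of fun i j : σ => coeff (Finsupp.single j 1) (y i) with hJ
  apply Matrix.isUnit_det_of_left_inverse (B := Matrix.of fun l j => constantCoeff (c l j))
  ext l m
  have key : Fil 2 ((X l : MvPowerSeries σ R) -
      ∑ j, C (constantCoeff (c l j)) * linForm J j) := by
    rw [← hc l, ← Finset.sum_sub_distrib]
    apply Fil.sum
    intro j _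
    have : c l j * y j - C (constantCoeff (c l j)) * linForm J j =
        (c l j - C (constantCoeff (c l j))) * y j +
          C (constantCoeff (c l j)) * (y j - linForm J j) := by ring
    rw [this]
    refine ((fil_one_of_constantCoeff ?_).mul (fil_one_of_constantCoeff (h0 j))).add
      ((fil_two_sub_linForm y h0 j).C_mul _)
    rw [map_sub, constantCoeff_C, sub_self]
  have := key (Finsupp.single m 1) (by rw [Finsupp.degree_single]; norm_num)
  rw [map_sub, sub_eq_zero, map_sum] at this
  simp only [coeff_C_mul, coeff_single_linForm] at this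
  rw [Matrix.mul_apply]
  simp only [Matrix.of_apply]
  rw [← this, coeff_index_single_X, Matrix.one_apply]
  by_cases h : l = m
  · simp [h]
  · simp [h, Ne.symm h]

/-- Substitution by a family without constant terms generating all the variables is bijective. -/
theorem subst_bijective_of_X_mem (y : σ → MvPowerSeries σ R)
    (h0 : ∀ i, constantCoeff (y i) = 0)
    (hX : ∀ l, (X l : MvPowerSeries σ R) ∈ Ideal.span (Set.range y)) :
    Function.Bijective (subst y : MvPowerSeries σ R → MvPowerSeries σ R) := by
  have hs : HasSubst y := hasSubst_of_constantCoeff_zero h0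
  have hXs : ∀ i, substAlgHom (R := R) hs (X i) = y i := fun i => substAlgHom_X hs i
  have hbij : Function.Bijective (substAlgHom (R := R) hs) :=
    bijective_of_isLinPart_of_isUnit_det
      (J := Matrix.of fun i j : σ => coeff (Finsupp.single j 1) (y i))
      (fun i => by rw [hXs]; exact h0 i)
      (fun i => by rw [hXs]; exact fil_two_sub_linForm y h0 i)
      (isUnit_det_jacobian_of_X_mem y h0 hX)
  rw [← coe_substAlgHom hs]
  exact hbij

end Family

/-! ### Hensel: cube roots -/

section Hensel

variable [Finite σ]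

theorem mem_span_X_iff (f : MvPowerSeries σ R) :
    f ∈ Ideal.span (Set.range (X : σ → MvPowerSeries σ R)) ↔ constantCoeff f = 0 := by
  classical
  haveI := Fintype.ofFinite σ
  constructor
  · intro hf
    have hle : Ideal.span (Set.range (X : σ → MvPowerSeries σ R)) ≤
        RingHom.ker (constantCoeff (σ := σ) (R := R)) := by
      rw [Ideal.span_le]
      rintro _ ⟨i, rfl⟩
      exact constantCoeff_X i
    exact hle hf
  · intro hf
    obtain ⟨g, _, hg⟩ := exists_decomp (Finset.univ : Finset σ) 0 f
      (fil_one_of_constantCoeff hf) (by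
        intro m hm
        have : m = 0 := by
          ext i; simpa using hm i (Finset.mem_univ i)
        rw [this, coeff_zero_eq_constantCoeff_apply, hf])
    rw [hg]
    exact Ideal.sum_mem _ (fun i _ => Ideal.mul_mem_right _ _ (Ideal.subset_span ⟨i, rfl⟩))

/-- Roots of `T ^ n - w` for `w` with constant coefficient `1`, when `n` is invertible. -/
theorem exists_pow_eq (n : ℕ) (hn0 : n ≠ 0) (hn : IsUnit (n : R)) (w : MvPowerSeries σ R)
    (hw : constantCoeff w = 1) :
    ∃ γ : MvPowerSeries σ R, γ ^ n = w ∧ constantCoeff γ = 1 := by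
  have hH : HenselianRing (MvPowerSeries σ R)
      (Ideal.span (Set.range (X : σ → MvPowerSeries σ R))) := inferInstance
  have hnA : IsUnit ((n : ℕ) : MvPowerSeries σ R) := by
    have : ((n : ℕ) : MvPowerSeries σ R) = C ((n : ℕ) : R) := (map_natCast C n).symm
    rw [this]
    exact hn.map C
  obtain ⟨γ, hroot, hγ⟩ := hH.is_henselian (Polynomial.X ^ n - Polynomial.C w)
    (Polynomial.monic_X_pow_sub_C w hn0) 1
    (by
      rw [mem_span_X_iff]
      simp [hw])
    (by
      have : Polynomial.eval 1 (Polynomial.derivative (Polynomial.X ^ n - Polynomial.C w)) =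
          ((n : ℕ) : MvPowerSeries σ R) := by
        rw [Polynomial.derivative_sub, Polynomial.derivative_C, sub_zero,
          Polynomial.derivative_X_pow, Polynomial.eval_mul, Polynomial.eval_pow,
          Polynomial.eval_X, one_pow, mul_one, Polynomial.eval_C]
      rw [this]
      exact hnA.map _)
  refine ⟨γ, ?_, ?_⟩
  · have := hroot
    rw [Polynomial.IsRoot.def] at this
    simpa [sub_eq_zero] using this
  · rw [mem_span_X_iff, map_sub, map_one, sub_eq_zero] at hγ
    exact hγ

end Hensel

/-! ### Families with invertible Jacobian generate the ideal of the variables -/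

section Span

variable [Fintype σ] [DecidableEq σ]

/-- Algebra endomorphisms sending the variables to series without constant term preserve
constant coefficients. -/
theorem constantCoeff_map (φ : MvPowerSeries σ R →ₐ[R] MvPowerSeries σ R)
    (h0 : ∀ i, constantCoeff (φ (X i)) = 0) (g : MvPowerSeries σ R) :
    constantCoeff (φ g) = constantCoeff g := by
  have h1 : Fil 1 (g - C (constantCoeff g)) := fil_one_of_constantCoeff (by simp)
  have h2 := fil_map φ h0 1 _ h1 0 (by simp)
  have hC : φ (C (constantCoeff g)) = C (constantCoeff g) := by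
    rw [c_eq_algebraMap]
    exact φ.commutes _
  rw [map_sub, hC, map_sub, coeff_zero_eq_constantCoeff_apply, coeff_zero_eq_constantCoeff_apply,
    constantCoeff_C, sub_eq_zero] at h2
  exact h2

theorem span_range_eq_span_X (y : σ → MvPowerSeries σ R) (h0 : ∀ i, constantCoeff (y i) = 0)
    {J : Matrix σ σ R} (hJ : ∀ i, Fil 2 (y i - linForm J i)) (hdet : IsUnit J.det) :
    Ideal.span (Set.range y) = Ideal.span (Set.range (X : σ → MvPowerSeries σ R)) := by
  apply le_antisymm
  · rw [Ideal.span_le]
    rintro _ ⟨i, rfl⟩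
    exact (mem_span_X_iff _).mpr (h0 i)
  · rw [Ideal.span_le]
    rintro _ ⟨l, rfl⟩
    have hs : HasSubst y := hasSubst_of_constantCoeff_zero h0
    have hXs : ∀ i, substAlgHom (R := R) hs (X i) = y i := fun i => substAlgHom_X hs i
    have h0' : ∀ i, constantCoeff (substAlgHom (R := R) hs (X i)) = 0 := fun i => by
      rw [hXs]; exact h0 i
    have hsurj := surjective_of_isLinPart (φ := substAlgHom (R := R) hs) (K := J⁻¹) (J := J) h0'
      (fun i => by rw [hXs]; exact hJ i) (Matrix.nonsing_inv_mul J hdet)
    obtain ⟨g, hg⟩ := hsurj (X l)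
    have hc : constantCoeff g = 0 := by
      rw [← constantCoeff_map _ h0' g, hg, constantCoeff_X]
    obtain ⟨gg, _, hgg⟩ := exists_decomp (Finset.univ : Finset σ) 0 g
      (fil_one_of_constantCoeff hc) (by
        intro m hm
        have : m = 0 := by
          ext i; simpa using hm i (Finset.mem_univ i)
        rw [this, coeff_zero_eq_constantCoeff_apply, hc])
    rw [SetLike.mem_coe, ← hg, hgg, map_sum]
    apply Ideal.sum_mem
    intro j _
    rw [map_mul, hXs]
    exact Ideal.mul_mem_right _ _ (Ideal.subset_span ⟨j, rfl⟩)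

/-- Rigidity: an algebra endomorphism (with images of the variables without constant term) is
determined by its values on the variables. -/
theorem algHom_ext_of_X (φ₁ φ₂ : MvPowerSeries σ R →ₐ[R] MvPowerSeries σ R)
    (h1 : ∀ i, constantCoeff (φ₁ (X i)) = 0) (h2 : ∀ i, constantCoeff (φ₂ (X i)) = 0)
    (h : ∀ i, φ₁ (X i) = φ₂ (X i)) : φ₁ = φ₂ := by
  apply AlgHom.ext
  intro f
  rw [← sub_eq_zero]
  apply eq_zero_of_forall_fil
  intro k
  have hp : φ₁ ((truncTotal k f : MvPolynomial σ R) : MvPowerSeries σ R) =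
      φ₂ ((truncTotal k f : MvPolynomial σ R) : MvPowerSeries σ R) := by
    rw [map_coe, map_coe]
    have : (fun i => φ₁ (X i)) = fun i => φ₂ (X i) := funext h
    rw [this]
  have hr := fil_sub_truncTotal k f
  have : φ₁ f - φ₂ f =
      φ₁ (f - ((truncTotal k f : MvPolynomial σ R) : MvPowerSeries σ R)) -
        φ₂ (f - ((truncTotal k f : MvPolynomial σ R) : MvPowerSeries σ R)) := by
    rw [map_sub, map_sub, hp]; ring
  rw [this]
  exact (fil_map φ₁ h1 k _ hr).sub (fil_map φ₂ h2 k _ hr)

/-- An automorphism with `χ (X i) = X i + h i` is the substitution by `X + h`. -/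
theorem subst_eq_algEquiv (χ : MvPowerSeries σ R ≃ₐ[R] MvPowerSeries σ R)
    (h : σ → MvPowerSeries σ R) (hh : ∀ i, constantCoeff (h i) = 0)
    (hχ : ∀ i, χ (X i) = X i + h i) :
    HasSubst (fun i => X i + h i) ∧
      ∀ f : MvPowerSeries σ R, subst (fun i => X i + h i) f = χ f := by
  have h0 : ∀ i, constantCoeff ((X i : MvPowerSeries σ R) + h i) = 0 := fun i => by
    rw [map_add, constantCoeff_X, hh, add_zero]
  have hs : HasSubst (fun i => (X i : MvPowerSeries σ R) + h i) := hasSubst_of_constantCoeff_zero h0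
  refine ⟨hs, fun f => ?_⟩
  have := algHom_ext_of_X (substAlgHom (R := R) hs) (χ : MvPowerSeries σ R →ₐ[R] MvPowerSeries σ R)
    (fun i => by rw [substAlgHom_X]; exact h0 i)
    (fun i => by
      change constantCoeff (χ (X i)) = 0
      rw [hχ]; exact h0 i)
    (fun i => by rw [substAlgHom_X]; exact (hχ i).symm)
  rw [← coe_substAlgHom hs, this]
  rfl

end Span

end Groth.Agent.Lib.Helper14.FormalIFT
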