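import Groth.Agent.Lib.Helper14.FormalIFT

/-!
Formal Morse lemma: a power series congruent to a non-degenerate quadratic form `q` modulo terms
of order `> m` (`m ≥ 2`) equals `q (x + ε)` for series `ε` of order `≥ m`.
-/

namespace Groth.Agent.Lib.Helper14.FormalMorse

open MvPowerSeries Finsupp Groth.Agent.Lib.Helper14.FormalIFT

variable {σ : Type*} [Fintype σ] [DecidableEq σ] {R : Type*} [CommRing R]

/-- The quadratic form with coefficient table `Q`. -/
noncomputable def qf (Q : Matrix σ σ R) (v : σ → MvPowerSeries σ R) : MvPowerSeries σ R :=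
  ∑ i, ∑ j, C (Q i j) * v i * v j

/-- The polar form. -/
noncomputable def pol (Q : Matrix σ σ R) (v w : σ → MvPowerSeries σ R) : MvPowerSeries σ R :=
  ∑ i, ∑ j, C (Q i j) * (v i * w j + w i * v j)

/-- The vector of variables. -/
noncomputable def Xv : σ → MvPowerSeries σ R := fun i => X i

theorem qf_add (Q : Matrix σ σ R) (v w : σ → MvPowerSeries σ R) :
    qf Q (v + w) = qf Q v + pol Q v w + qf Q w := by
  simp only [qf, pol, Pi.add_apply, ← Finset.sum_add_distrib]
  apply Finset.sum_congr rfl
  intro i _
  apply Finset.sum_congr rfl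
  intro j _
  ring

theorem pol_add_left (Q : Matrix σ σ R) (v v' w : σ → MvPowerSeries σ R) :
    pol Q (v + v') w = pol Q v w + pol Q v' w := by
  simp only [pol, Pi.add_apply, ← Finset.sum_add_distrib]
  apply Finset.sum_congr rfl
  intro i _
  apply Finset.sum_congr rfl
  intro j _
  ring

theorem pol_Xv (Q : Matrix σ σ R) (δ : σ → MvPowerSeries σ R) :
    pol Q Xv δ = ∑ i, δ i * linForm (Q + Q.transpose) i := by
  have h1 : pol Q Xv δ = (∑ i, ∑ j, C (Q i j) * (X i * δ j)) + ∑ i, ∑ j, C (Q i j) * (δ i * X j) := by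
    simp only [pol, Xv, mul_add, Finset.sum_add_distrib]
  have h2 : ∑ i, δ i * linForm (Q + Q.transpose) i =
      (∑ i, ∑ j, C (Q j i) * (X j * δ i)) + ∑ i, ∑ j, C (Q i j) * (δ i * X j) := by
    simp only [linForm, Matrix.add_apply, Matrix.transpose_apply, map_add, Finset.mul_sum,
      add_mul, mul_add, Finset.sum_add_distrib]
    rw [add_comm]
    congr 1
    · apply Finset.sum_congr rfl
      intro i _
      apply Finset.sum_congr rfl
      intro j _
      ring
    · apply Finset.sum_congr rfl
      intro i _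
      apply Finset.sum_congr rfl
      intro j _
      ring
  rw [h1, h2]
  congr 1
  exact Finset.sum_comm

theorem fil_pol (Q : Matrix σ σ R) {a b : ℕ} {v w : σ → MvPowerSeries σ R}
    (hv : ∀ i, Fil a (v i)) (hw : ∀ i, Fil b (w i)) : Fil (a + b) (pol Q v w) := by
  apply Fil.sum
  intro i _
  apply Fil.sum
  intro j _
  apply Fil.C_mul
  exact ((hv i).mul (hw j)).add (((hw i).mul (hv j)).cast (Nat.add_comm b a))

theorem fil_qf (Q : Matrix σ σ R) {b : ℕ} {w : σ → MvPowerSeries σ R}
    (hw : ∀ i, Fil b (w i)) : Fil (b + b) (qf Q w) := by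
  apply Fil.sum
  intro i _
  apply Fil.sum
  intro j _
  exact ((hw i).C_mul _).mul (hw j)

theorem sum_C_mul_linForm (K H : Matrix σ σ R) (j : σ) :
    ∑ i, C (K j i) * linForm H i = linForm (K * H) j := by
  simp only [linForm, Matrix.mul_apply, map_sum, map_mul, Finset.mul_sum, Finset.sum_mul]
  rw [Finset.sum_comm]
  apply Finset.sum_congr rfl
  intro l _
  apply Finset.sum_congr rfl
  intro i _
  ring

theorem linForm_one (j : σ) : linForm (1 : Matrix σ σ R) j = X j := by
  rw [linForm, Finset.sum_eq_single j]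
  · simp
  · intro l _ hl
    simp [Matrix.one_apply_ne' hl]
  · intro h; exact absurd (Finset.mem_univ j) h

/-- Solving the linearised equation. -/
theorem exists_solution (H : Matrix σ σ R) (hH : IsUnit H.det) (d : ℕ) (G : MvPowerSeries σ R)
    (hG : Fil (d + 1) G) :
    ∃ δ : σ → MvPowerSeries σ R, (∀ i, Fil d (δ i)) ∧ ∑ i, δ i * linForm H i = G := by
  obtain ⟨g, hg, hsum⟩ := exists_decomp (Finset.univ : Finset σ) d G hG (by
    intro m hm
    have : m = 0 := by
      ext i; simpa using hm i (Finset.mem_univ i)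
    rw [this]
    exact hG 0 (by simp))
  have hKH : H⁻¹ * H = 1 := Matrix.nonsing_inv_mul H hH
  refine ⟨fun i => ∑ j, C (H⁻¹ j i) * g j, fun i => Fil.sum _ _ (fun j _ => (hg j).C_mul _), ?_⟩
  rw [hsum]
  have hX : ∀ j, (X j : MvPowerSeries σ R) = ∑ i, C (H⁻¹ j i) * linForm H i := by
    intro j
    rw [sum_C_mul_linForm, hKH, linForm_one]
  simp only [Finset.sum_mul]
  rw [Finset.sum_comm]
  apply Finset.sum_congr rfl
  intro j _
  rw [hX j, Finset.sum_mul]
  apply Finset.sum_congr rfl
  intro i _
  ring

/-- Dependent choice of a sequence. -/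
theorem exists_seq {α : Type*} (P : ℕ → α → Prop) (Rel : ℕ → α → α → Prop) (a₀ : α) (h0 : P 0 a₀)
    (hstep : ∀ k a, P k a → ∃ b, P (k + 1) b ∧ Rel k a b) :
    ∃ s : ℕ → α, (∀ k, P k (s k)) ∧ ∀ k, Rel k (s k) (s (k + 1)) := by
  haveI : Nonempty α := ⟨a₀⟩
  choose! f hf using hstep
  let s : ℕ → α := fun k => Nat.rec a₀ (fun k a => f k a) k
  have hs : ∀ k, P k (s k) := by
    intro k
    induction k with
    | zero => exact h0
    | succ k ih => exact (hf k _ ih).1
  exact ⟨s, hs, fun k => (hf k _ (hs k)).2⟩

omit [Fintype σ] [DecidableEq σ] in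
/-- Limits of Cauchy sequences for the order filtration. -/
theorem exists_limit (s : ℕ → MvPowerSeries σ R) (h : ∀ k, Fil k (s (k + 1) - s k)) :
    ∃ L : MvPowerSeries σ R, ∀ k, Fil k (L - s k) := by
  have hkl : ∀ k l, k ≤ l → Fil k (s l - s k) := by
    intro k l hkl
    induction l, hkl using Nat.le_induction with
    | base => rw [sub_self]; exact fil_zero_right _
    | succ l hl ih =>
      have : s (l + 1) - s k = (s (l + 1) - s l) + (s l - s k) := by ring
      rw [this]
      exact ((h l).mono hl).add ih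
  refine ⟨fun m => coeff m (s (degree m + 1)), ?_⟩
  intro k m hm
  have e1 : coeff m (fun m => coeff m (s (degree m + 1)) : MvPowerSeries σ R) =
      coeff m (s (degree m + 1)) := rfl
  have e2 := hkl (degree m + 1) k (by omega) m (Nat.lt_succ_self _)
  rw [map_sub] at e2 ⊢
  rw [e1]
  rw [sub_eq_zero] at e2 ⊢
  exact e2.symm

/-- **Formal Morse lemma.** -/
theorem exists_eps (Q : Matrix σ σ R) (hH : IsUnit (Q + Q.transpose).det) (m : ℕ) (hm : 2 ≤ m)
    (g : MvPowerSeries σ R) (hg : Fil (m + 1) g) :
    ∃ ε : σ → MvPowerSeries σ R, (∀ i, Fil m (ε i)) ∧ qf Q (Xv + ε) = qf Q Xv + g := by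
  obtain ⟨s, hs, hrel⟩ := exists_seq
    (fun k (ε : σ → MvPowerSeries σ R) => (∀ i, Fil m (ε i)) ∧
      Fil (m + 1 + k) (qf Q Xv + g - qf Q (Xv + ε)))
    (fun k ε ε' => ∀ i, Fil (m + k) (ε' i - ε i)) 0
    ⟨fun i => fil_zero_right m, by simpa using hg⟩
    (by
      rintro k ε ⟨hε, hE⟩
      obtain ⟨δ, hδ, hsol⟩ := exists_solution (Q + Q.transpose) hH (m + k)
        (qf Q Xv + g - qf Q (Xv + ε)) (hE.cast (by omega))
      refine ⟨ε + δ, ⟨fun i => (hε i).add ((hδ i).mono (by omega)), ?_⟩, fun i => ?_⟩
      · have e : qf Q Xv + g - qf Q (Xv + (ε + δ)) = -(pol Q ε δ) - qf Q δ := by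
          rw [← add_assoc, qf_add, pol_add_left, pol_Xv, hsol]
          ring
        rw [e]
        exact ((fil_pol Q hε hδ).mono (by omega)).neg.sub ((fil_qf Q hδ).mono (by omega))
      · simpa using hδ i)
  choose L hL using fun i => exists_limit (fun k => s k i) (fun k => (hrel k i).mono (by omega))
  have hLm : ∀ i, Fil m (L i) := by
    intro i
    have : L i = (L i - s m i) + s m i := by ring
    rw [this]
    exact (hL i m).add ((hs m).1 i)
  refine ⟨L, hLm, ?_⟩
  rw [← sub_eq_zero]
  apply eq_zero_of_forall_fil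
  intro k
  have e : qf Q (Xv + L) - (qf Q Xv + g) =
      (pol Q (Xv + s k) (L - s k) + qf Q (L - s k)) - (qf Q Xv + g - qf Q (Xv + s k)) := by
    have : Xv + L = (Xv + s k) + (L - s k) := by
      ext i; simp
    rw [this, qf_add]
    ring
  rw [e]
  refine (((fil_pol Q (a := 0) (b := k) (fun i => fil_zero_left _) (fun i => hL i k)).cast
    (Nat.zero_add k)).add ((fil_qf Q (fun i => hL i k)).mono (by omega))).sub
    ((hs k).2.mono (by omega))

/-- Morse lemma, automorphism form. -/
theorem exists_algEquiv_eq (Q : Matrix σ σ R) (hH : IsUnit (Q + Q.transpose).det) (m : ℕ)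
    (hm : 2 ≤ m) (c : R) (F : MvPowerSeries σ R)
    (hF : Fil (m + 1) (F - (qf Q Xv + C c))) :
    ∃ (χ : MvPowerSeries σ R ≃ₐ[R] MvPowerSeries σ R) (h : σ → MvPowerSeries σ R),
      (∀ i, Fil m (h i)) ∧ (∀ i, χ (X i) = X i + h i) ∧ χ F = qf Q Xv + C c := by
  obtain ⟨ε, hε, heq⟩ := exists_eps Q hH m hm (F - (qf Q Xv + C c)) hF
  have hε2 : ∀ i, Fil 2 (ε i) := fun i => (hε i).mono hm
  have ha : ∀ i, constantCoeff ((X i : MvPowerSeries σ R) + ε i) = 0 := by
    intro i
    rw [map_add, constantCoeff_X, zero_add, ← coeff_zero_eq_constantCoeff_apply]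
    exact hε2 i 0 (by simp)
  obtain ⟨ψ, hψ⟩ := exists_algEquiv_of_isLinPart (fun i => (X i : MvPowerSeries σ R) + ε i) ha
    (1 : Matrix σ σ R) (fun i => by rw [linForm_one, add_sub_cancel_left]; exact hε2 i)
    (by rw [Matrix.det_one]; exact isUnit_one)
  have hψC : ∀ r : R, ψ (C r) = C r := by
    intro r
    rw [c_eq_algebraMap]
    exact ψ.commutes r
  have hψF : ψ (qf Q Xv + C c) = F := by
    rw [map_add, hψC]
    have : ψ (qf Q Xv) = qf Q (Xv + ε) := by
      simp only [qf, map_sum, map_mul, hψC, Xv, hψ, Pi.add_apply]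
    rw [this, heq]
    ring
  have h0ψ : ∀ i, constantCoeff ((ψ : MvPowerSeries σ R →ₐ[R] MvPowerSeries σ R) (X i)) = 0 := by
    intro i
    change constantCoeff (ψ (X i)) = 0
    rw [hψ]; exact ha i
  have h0χ : ∀ i,
      constantCoeff ((ψ.symm : MvPowerSeries σ R →ₐ[R] MvPowerSeries σ R) (X i)) = 0 := by
    intro i
    rw [← constantCoeff_map (ψ : MvPowerSeries σ R →ₐ[R] MvPowerSeries σ R) h0ψ]
    change constantCoeff (ψ (ψ.symm (X i))) = 0
    rw [AlgEquiv.apply_symm_apply, constantCoeff_X]
  refine ⟨ψ.symm, fun i => ψ.symm (X i) - X i, ?_, fun i => by ring, ?_⟩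
  · intro i
    have : ψ.symm (X i) - X i = - ψ.symm (ε i) := by
      have h := congrArg ψ.symm (hψ i)
      rw [AlgEquiv.symm_apply_apply, map_add] at h
      linear_combination -h
    change Fil m (ψ.symm (X i) - X i)
    rw [this]
    exact (fil_map (ψ.symm : MvPowerSeries σ R →ₐ[R] MvPowerSeries σ R) h0χ m _ (hε i)).neg
  · rw [← hψF, AlgEquiv.symm_apply_apply]

/-! ### Coefficients in degree two -/

section DegTwo

omit [Fintype σ] in
theorem exists_single_of_degree_eq_one (m : σ →₀ ℕ) (h : degree m = 1) :
    ∃ a, m = Finsupp.single a 1 := by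
  have hm0 : m ≠ 0 := by
    rintro rfl
    simp at h
  obtain ⟨l, hl⟩ : ∃ l, m l ≠ 0 := by
    by_contra hcon
    push Not at hcon
    exact hm0 (Finsupp.ext hcon)
  have hle : Finsupp.single l 1 ≤ m := by
    rw [Finsupp.single_le_iff]
    omega
  have hm' : m = Finsupp.single l 1 + (m - Finsupp.single l 1) :=
    (add_tsub_cancel_of_le hle).symm
  have hdeg : degree (m - Finsupp.single l 1) = 0 := by
    have := congrArg degree hm'
    rw [map_add, Finsupp.degree_single] at this
    omega
  have hz : m - Finsupp.single l 1 = 0 := (Finsupp.degree_eq_zero_iff _).mp hdeg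
  rw [hz, add_zero] at hm'
  exact ⟨l, hm'⟩

omit [Fintype σ] in
theorem exists_single_add_single_of_degree_eq_two (m : σ →₀ ℕ) (h : degree m = 2) :
    ∃ a b, m = Finsupp.single a 1 + Finsupp.single b 1 := by
  have hm0 : m ≠ 0 := by
    rintro rfl
    simp at h
  obtain ⟨l, hl⟩ : ∃ l, m l ≠ 0 := by
    by_contra hcon
    push Not at hcon
    exact hm0 (Finsupp.ext hcon)
  have hle : Finsupp.single l 1 ≤ m := by
    rw [Finsupp.single_le_iff]
    omega
  have hm' : m = Finsupp.single l 1 + (m - Finsupp.single l 1) :=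
    (add_tsub_cancel_of_le hle).symm
  have hdeg : degree (m - Finsupp.single l 1) = 1 := by
    have := congrArg degree hm'
    rw [map_add, Finsupp.degree_single] at this
    omega
  obtain ⟨b, hb⟩ := exists_single_of_degree_eq_one _ hdeg
  rw [hb] at hm'
  exact ⟨l, b, hm'⟩

omit [Fintype σ] in
theorem fil_two_of (f : MvPowerSeries σ R) (h0 : constantCoeff f = 0)
    (h1 : ∀ i, coeff (Finsupp.single i 1) f = 0) : Fil 2 f := by
  intro m hm
  by_cases hm1 : degree m = 1
  · obtain ⟨a, rfl⟩ := exists_single_of_degree_eq_one m hm1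
    exact h1 a
  · have : degree m = 0 := by omega
    rw [(Finsupp.degree_eq_zero_iff m).mp this, coeff_zero_eq_constantCoeff_apply, h0]

omit [Fintype σ] in
theorem single_add_single_eq_iff (a b i j : σ) :
    (Finsupp.single a 1 + Finsupp.single b 1 : σ →₀ ℕ) = Finsupp.single i 1 + Finsupp.single j 1 ↔
      (i = a ∧ j = b) ∨ (i = b ∧ j = a) := by
  constructor
  · intro h
    have ha := DFunLike.congr_fun h a
    simp only [Finsupp.coe_add, Pi.add_apply, Finsupp.single_eq_same] at ha
    by_cases hia : i = a
    · left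
      subst hia
      have := add_left_cancel h
      exact ⟨rfl, ((Finsupp.single_left_inj (one_ne_zero)).mp this).symm⟩
    · by_cases hja : j = a
      · right
        subst hja
        rw [add_comm (Finsupp.single i 1)] at h
        have := add_left_cancel h
        exact ⟨((Finsupp.single_left_inj (one_ne_zero)).mp this).symm, rfl⟩
      · exfalso
        rw [Finsupp.single_eq_of_ne (Ne.symm hia), Finsupp.single_eq_of_ne (Ne.symm hja)] at ha
        omega
  · rintro (⟨rfl, rfl⟩ | ⟨rfl, rfl⟩)
    · rfl
    · exact add_comm _ _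

theorem coeff_qf_Xv (Q : Matrix σ σ R) (a b : σ) :
    coeff (Finsupp.single a 1 + Finsupp.single b 1) (qf Q Xv) =
      if a = b then Q a a else Q a b + Q b a := by
  have hterm : ∀ i j, coeff (Finsupp.single a 1 + Finsupp.single b 1)
      (C (Q i j) * (Xv i : MvPowerSeries σ R) * Xv j) =
        if (i = a ∧ j = b) ∨ (i = b ∧ j = a) then Q i j else 0 := by
    intro i j
    rw [mul_assoc, coeff_C_mul, Xv, Xv, X_def, X_def, monomial_mul_monomial, coeff_monomial]
    by_cases h : (i = a ∧ j = b) ∨ (i = b ∧ j = a)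
    · rw [if_pos h, if_pos ((single_add_single_eq_iff a b i j).mpr h)]
      simp
    · rw [if_neg h, if_neg (mt (single_add_single_eq_iff a b i j).mp h)]
      simp
  rw [qf, map_sum]
  simp only [map_sum, hterm]
  by_cases hab : a = b
  · subst hab
    simp only [or_self, if_true]
    rw [Finset.sum_eq_single a]
    · rw [Finset.sum_eq_single a]
      · simp
      · intro j _ hj; simp [hj]
      · intro h; exact absurd (Finset.mem_univ a) h
    · intro i _ hi
      apply Finset.sum_eq_zero
      intro j _
      simp [hi]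
    · intro h; exact absurd (Finset.mem_univ a) h
  · rw [if_neg hab]
    have hsplit : ∀ i j, (if (i = a ∧ j = b) ∨ (i = b ∧ j = a) then Q i j else 0) =
        (if i = a ∧ j = b then Q i j else 0) + (if i = b ∧ j = a then Q i j else 0) := by
      intro i j
      by_cases h1 : i = a ∧ j = b
      · obtain ⟨rfl, rfl⟩ := h1
        simp [hab]
      · simp [h1]
    simp only [hsplit, Finset.sum_add_distrib]
    congr 1
    · rw [Finset.sum_eq_single a]
      · rw [Finset.sum_eq_single b]
        · simp
        · intro j _ hj; simp [hj]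
        · intro h; exact absurd (Finset.mem_univ b) h
      · intro i _ hi
        apply Finset.sum_eq_zero
        intro j _
        simp [hi]
      · intro h; exact absurd (Finset.mem_univ a) h
    · rw [Finset.sum_eq_single b]
      · rw [Finset.sum_eq_single a]
        · simp
        · intro j _ hj; simp [hj]
        · intro h; exact absurd (Finset.mem_univ a) h
      · intro i _ hi
        apply Finset.sum_eq_zero
        intro j _
        simp [hi]
      · intro h; exact absurd (Finset.mem_univ b) h

theorem fil_two_qf_Xv (Q : Matrix σ σ R) : Fil 2 (qf Q (Xv : σ → MvPowerSeries σ R)) :=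
  fil_qf Q (b := 1) (fun i => fil_X i)

end DegTwo

/-! ### The quadratic part of a series in variables indexed by `Fin N` -/

section FinN

variable {N : ℕ}

/-- The upper triangular coefficient table of the degree two part. -/
noncomputable def quadTable (f : MvPowerSeries (Fin N) R) : Matrix (Fin N) (Fin N) R :=
  fun i j => if i = j then coeff (Finsupp.single i 2) f
    else if i < j then coeff (Finsupp.single i 1 + Finsupp.single j 1) f else 0

theorem coeff_qf_quadTable (f : MvPowerSeries (Fin N) R) (a b : Fin N) :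
    coeff (Finsupp.single a 1 + Finsupp.single b 1) (qf (quadTable f) Xv) =
      coeff (Finsupp.single a 1 + Finsupp.single b 1) f := by
  rw [coeff_qf_Xv]
  by_cases hab : a = b
  · subst hab
    rw [if_pos rfl, quadTable, if_pos rfl, ← Finsupp.single_add]
  · rw [if_neg hab]
    rcases lt_or_gt_of_ne hab with h | h
    · rw [quadTable, if_neg hab, if_pos h, quadTable, if_neg (Ne.symm hab), if_neg (not_lt.mpr h.le),
        add_zero]
    · rw [quadTable, if_neg hab, if_neg (not_lt.mpr h.le), quadTable, if_neg (Ne.symm hab), if_pos h,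
        zero_add, add_comm]

theorem fil_three_sub_qf (f : MvPowerSeries (Fin N) R) (hf : Fil 2 f) :
    Fil 3 (f - qf (quadTable f) Xv) := by
  intro m hm
  rw [map_sub, sub_eq_zero]
  by_cases h2 : degree m = 2
  · obtain ⟨a, b, rfl⟩ := exists_single_add_single_of_degree_eq_two m h2
    exact (coeff_qf_quadTable f a b).symm
  · have hlt : degree m < 2 := by omega
    rw [hf m hlt, fil_two_qf_Xv _ m hlt]

/-- The polar matrix of the quadratic part is the Jacobian matrix of the gradient. -/
theorem polar_quadTable (f : MvPowerSeries (Fin N) R) (i j : Fin N) :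
    (quadTable f + (quadTable f).transpose) i j =
      coeff (Finsupp.single j 1) (pderiv R i f) := by
  rw [coeff_pderiv, Matrix.add_apply, Matrix.transpose_apply]
  by_cases hij : i = j
  · subst hij
    rw [quadTable, if_pos rfl, ← Finsupp.single_add, Finsupp.single_eq_same]
    norm_num
    ring
  · rw [Finsupp.single_eq_of_ne hij]
    rcases lt_or_gt_of_ne hij with h | h
    · rw [quadTable, if_neg hij, if_pos h, quadTable, if_neg (Ne.symm hij), if_neg (not_lt.mpr h.le),
        add_zero, add_comm (Finsupp.single j 1)]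
      simp
    · rw [quadTable, if_neg hij, if_neg (not_lt.mpr h.le), quadTable, if_neg (Ne.symm hij), if_pos h,
        zero_add]
      simp

/-- The Jacobian matrix of the gradient of a series without linear terms has `quadTable + transpose`
as entries; the gradient has no constant terms. -/
theorem constantCoeff_pderiv_of_lin (f : MvPowerSeries (Fin N) R)
    (h1 : ∀ i, coeff (Finsupp.single i 1) f = 0) (i : Fin N) :
    constantCoeff (pderiv R i f) = 0 := by
  rw [← coeff_zero_eq_constantCoeff_apply, coeff_pderiv, zero_add, h1 i, zero_mul]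

theorem jacobian_gradient_eq (f : MvPowerSeries (Fin N) R) :
    (Matrix.of fun i j : Fin N => coeff (Finsupp.single j 1) (pderiv R i f)) =
      quadTable f + (quadTable f).transpose := by
  ext i j
  rw [Matrix.of_apply, polar_quadTable]

/-- If the polar matrix of the quadratic part is invertible and there are no linear terms, the
partial derivatives generate the ideal of the variables. -/
theorem span_pderiv_eq_span_X (f : MvPowerSeries (Fin N) R)
    (h1 : ∀ i, coeff (Finsupp.single i 1) f = 0)
    (hdet : IsUnit (quadTable f + (quadTable f).transpose).det) :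
    Ideal.span (Set.range fun i : Fin N => pderiv R i f) =
      Ideal.span (Set.range (X : Fin N → MvPowerSeries (Fin N) R)) := by
  apply span_range_eq_span_X (fun i : Fin N => pderiv R i f) (constantCoeff_pderiv_of_lin f h1)
    (fil_two_sub_linForm _ (constantCoeff_pderiv_of_lin f h1))
  rw [jacobian_gradient_eq]
  exact hdet

end FinN

end Groth.Agent.Lib.Helper14.FormalMorse
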