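import Groth.Agent.Lib.Helper14.GrpDim
import Groth.Agent.Lib.Helper12.FibreDimFP
import Groth.Agent.Lib.Helper12.ProductDim
import Groth.Agent.Lib.Helper6.LocConstr
import Groth.Agent.Lib.Helper16.QfLocus

/-!
# Semicontinuity and constructibility of `s ↦ dim G_s` for a group scheme (helper14)
-/

set_option autoImplicit false
set_option linter.style.haveILetI false
universe u

open CategoryTheory MonoidalCategory CartesianMonoidalCategory MonObj Limits AlgebraicGeometry
open Topology

namespace Groth.Agent.Lib.Helper14.GrpDimSemi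

open Groth.Agent.Lib.Helper12 Groth.Agent.Lib.Helper14.GrpDim

variable (S : Scheme.{u}) (G : Over S) [GrpObj G] [LocallyOfFiniteType G.hom]

theorem finite_Icc_nat (m : ℕ) : {d : WithBot ℕ∞ | 0 ≤ d ∧ d ≤ m}.Finite := by
  refine ((Finset.range (m + 1)).finite_toSet.image (fun j : ℕ => (j : WithBot ℕ∞))).subset ?_
  rintro d ⟨h0, hm⟩
  rcases ProductDim.withBot_enat_cases d with rfl | rfl | ⟨j, rfl⟩
  · exact absurd h0 (by simp)
  · exact absurd hm (by
      rw [not_le]
      exact WithBot.coe_lt_coe.mpr (ENat.coe_lt_top m))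
  · refine ⟨j, ?_, rfl⟩
    have : j ≤ m := by exact_mod_cast hm
    simp only [Finset.coe_range, Set.mem_Iio]
    omega

theorem main :
    UpperSemicontinuous (fun s : S => topologicalKrullDim ↥(G.hom.base ⁻¹' {s})) ∧
    (LocallyOfFinitePresentation G.hom → ∀ s : S, ∃ V : S.Opens, s ∈ V ∧
      ((fun t : S => topologicalKrullDim ↥(G.hom.base ⁻¹' {t})) '' (V : Set S)).Finite ∧
      ∀ d : WithBot ℕ∞, Topology.IsConstructible
        {t : V | topologicalKrullDim ↥(G.hom.base ⁻¹' {(t : S)}) = d}) := by
  obtain ⟨e, he⟩ : ∃ e : S ⟶ G.left, e = (η[G]).left := ⟨_, rfl⟩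
  have hφ : ∀ s : S, topologicalKrullDim ↥(G.hom.base ⁻¹' {s}) = FlatMor.fibreDimAt G.hom (e s) := by
    intro s
    rw [he]
    exact dim_fibre_eq G s
  have hnn : ∀ s : S, 0 ≤ FlatMor.fibreDimAt G.hom (e s) := fun s =>
    Groth.Agent.Lib.Helper16.QfAt.fibreDimAt_nonneg _ _
  constructor
  · intro s y hy
    simp only [hφ] at hy ⊢
    rcases ProductDim.withBot_enat_cases (FlatMor.fibreDimAt G.hom (e s)) with h | h | ⟨n, h⟩
    · exact absurd (hnn s) (by rw [h]; simp)
    · rw [h] at hy
      exact absurd hy (by simp)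
    · have hopen := (Chevalley.isOpen_setOf_fibreDimAt_le G.hom n).preimage e.continuous
      have hs : s ∈ e ⁻¹' {x : G.left | FlatMor.fibreDimAt G.hom x ≤ n} := by
        show FlatMor.fibreDimAt G.hom (e s) ≤ n
        rw [h]
      filter_upwards [hopen.mem_nhds hs] with t ht
      exact lt_of_le_of_lt ht (h ▸ hy)
  · intro hfp s
    haveI := hfp
    obtain ⟨U, m, hxU, hUm⟩ := ChevalleyCor.exists_opens_fibreDimAt_le G.hom (e s)
    obtain ⟨_, ⟨V, hV, rfl⟩, hsV, hVU⟩ := S.isBasis_affineOpens.exists_subset_of_mem_open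
      (show s ∈ (e ⁻¹ᵁ U : Set S) from hxU) (e ⁻¹ᵁ U).2
    refine ⟨V, hsV, ?_, ?_⟩
    · refine (finite_Icc_nat m).subset ?_
      rintro _ ⟨t, ht, rfl⟩
      simp only [hφ]
      exact ⟨hnn t, hUm _ (hVU ht)⟩
    · intro d
      have hlc : ∀ n : ℕ, IsLocallyConstructible {x : G.left | FlatMor.fibreDimAt G.hom x ≤ n} :=
        fun n => (FibreDimFP.isRetrocompact_setOf_fibreDimAt_le G.hom n).isLocallyConstructible
          (Chevalley.isOpen_setOf_fibreDimAt_le G.hom n)
      have hlcS : ∀ n : ℕ, IsLocallyConstructible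
          {t : S | FlatMor.fibreDimAt G.hom (e t) ≤ n} := fun n =>
        Groth.Agent.Lib.Helper6.LocConstr.isLocallyConstructible_preimage e (hlc n)
      haveI : CompactSpace ↥V := isCompact_iff_compactSpace.mp hV.isCompact
      haveI : QuasiSeparatedSpace ↥V := by
        haveI : IsAffine (V : Scheme.{u}) := hV
        exact (inferInstance : QuasiSeparatedSpace ↥(V : Scheme.{u}))
      haveI : PrespectralSpace ↥V := (inferInstance : PrespectralSpace ↥(V : Scheme.{u}))
      have hlcV : ∀ n : ℕ, IsConstructible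
          {t : V | FlatMor.fibreDimAt G.hom (e (t : S)) ≤ n} := fun n =>
        ((hlcS n).preimage_of_isOpenEmbedding V.2.isOpenEmbedding_subtypeVal).isConstructible
      simp only [hφ]
      rcases ProductDim.withBot_enat_cases d with rfl | rfl | ⟨n, rfl⟩
      · have : {t : V | FlatMor.fibreDimAt G.hom (e (t : S)) = ⊥} = ∅ := by
          rw [Set.eq_empty_iff_forall_notMem]
          intro t ht
          have := hnn (t : S)
          rw [Set.mem_setOf_eq] at ht
          rw [ht] at this
          exact absurd this (by simp)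
        rw [this]
        exact IsConstructible.empty
      · have : {t : V | FlatMor.fibreDimAt G.hom (e (t : S)) = ⊤} = ∅ := by
          rw [Set.eq_empty_iff_forall_notMem]
          intro t ht
          have := hUm _ (hVU t.2)
          rw [Set.mem_setOf_eq] at ht
          rw [ht] at this
          exact absurd this (by
            rw [not_le]
            exact WithBot.coe_lt_coe.mpr (ENat.coe_lt_top m))
        rw [this]
        exact IsConstructible.empty
      · rcases n with _ | k
        · have : {t : V | FlatMor.fibreDimAt G.hom (e (t : S)) = ((0 : ℕ) : WithBot ℕ∞)} =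
              {t : V | FlatMor.fibreDimAt G.hom (e (t : S)) ≤ (0 : ℕ)} := by
            ext t
            simp only [Set.mem_setOf_eq]
            exact ⟨fun h => h.le, fun h => le_antisymm h (by exact_mod_cast hnn (t : S))⟩
          rw [this]
          exact hlcV 0
        · have : {t : V | FlatMor.fibreDimAt G.hom (e (t : S)) = ((k + 1 : ℕ) : WithBot ℕ∞)} =
              {t : V | FlatMor.fibreDimAt G.hom (e (t : S)) ≤ (k + 1 : ℕ)} ∩
                {t : V | FlatMor.fibreDimAt G.hom (e (t : S)) ≤ (k : ℕ)}ᶜ := by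
            ext t
            simp only [Set.mem_setOf_eq, Set.mem_inter_iff, Set.mem_compl_iff]
            rw [← ChevalleyCor.succ_le_iff_not_le]
            exact ⟨fun h => ⟨h.le, h.ge⟩, fun h => le_antisymm h.1 h.2⟩
          rw [this]
          exact (hlcV (k + 1)).inter (hlcV k).compl

end Groth.Agent.Lib.Helper14.GrpDimSemi
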