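import Groth.Agent.Lib.Helper8.Goldman

/-!
# Finite type points: the algebraic input

`exists_notMem_forall_prime_eq_of_finiteType`: for a ring map `φ : B → k` of finite type into a field,
the prime `ker φ` is a closed point of some basic open `D(g)` of `Spec B`.
-/

set_option autoImplicit false
universe u

namespace Groth.Agent.Lib.Helper14

theorem exists_notMem_forall_prime_eq_of_finiteType {B k : Type u} [CommRing B] [Field k]
    (φ : B →+* k) (hφ : φ.FiniteType) :
    ∃ g : B, g ∉ RingHom.ker φ ∧
      ∀ q : Ideal B, q.IsPrime → RingHom.ker φ ≤ q → g ∉ q → q = RingHom.ker φ := by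
  have hp : (RingHom.ker φ).IsPrime := RingHom.ker_isPrime φ
  letI : Algebra (B ⧸ RingHom.ker φ) k := (RingHom.kerLift φ).toAlgebra
  have hinj : Function.Injective (algebraMap (B ⧸ RingHom.ker φ) k) := RingHom.kerLift_injective φ
  have hft : Algebra.FiniteType (B ⧸ RingHom.ker φ) k := by
    have h1 : ((RingHom.kerLift φ).comp (Ideal.Quotient.mk (RingHom.ker φ))).FiniteType := by
      have : (RingHom.kerLift φ).comp (Ideal.Quotient.mk (RingHom.ker φ)) = φ := by
        ext x; simp
      rw [this]; exact hφ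
    exact RingHom.FiniteType.of_comp_finiteType h1
  obtain ⟨g', hg'0, hg'⟩ :=
    Groth.Agent.Lib.Helper8.exists_away_isField_of_field_finiteType (B := B ⧸ RingHom.ker φ) k hinj
  obtain ⟨g, rfl⟩ := Ideal.Quotient.mk_surjective g'
  have hgp : g ∉ RingHom.ker φ := by
    intro h
    exact hg'0 (Ideal.Quotient.eq_zero_iff_mem.mpr h)
  refine ⟨g, hgp, ?_⟩
  intro q hq hpq hgq
  have hsurj : Function.Surjective (Ideal.Quotient.mk (RingHom.ker φ)) :=
    Ideal.Quotient.mk_surjective
  have hker : RingHom.ker (Ideal.Quotient.mk (RingHom.ker φ)) ≤ q := by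
    rw [Ideal.mk_ker]; exact hpq
  have hP : (q.map (Ideal.Quotient.mk (RingHom.ker φ))).IsPrime :=
    Ideal.map_isPrime_of_surjective hsurj hker
  have hcm : (q.map (Ideal.Quotient.mk (RingHom.ker φ))).comap (Ideal.Quotient.mk (RingHom.ker φ)) = q :=
    Ideal.comap_map_of_surjective' _ hsurj q |>.trans (by rw [sup_eq_left]; exact hker)
  have hgP : Ideal.Quotient.mk (RingHom.ker φ) g ∉ q.map (Ideal.Quotient.mk (RingHom.ker φ)) := by
    intro h
    apply hgq
    rw [← hcm]
    exact h
  have hbot := (Groth.Agent.Lib.Helper8.away_isField_iff hg'0).mp hg' _ hP hgP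
  rw [← hcm, hbot, ← RingHom.ker_eq_comap_bot, Ideal.mk_ker]

end Groth.Agent.Lib.Helper14
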