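import Mathlib
import Groth.Agent.Lib.Helper14.GeomIrr

/-!
# Geometric irreducibility of `K/k` versus `K(t)/k(t)`
-/

namespace Groth.Agent.Lib.Helper14.GeomIrr2

open Polynomial TensorProduct

universe u

theorem nilradical_isPrime_of_isLocalization {A B : Type*} [CommRing A] [CommRing B]
    [Algebra A B] (M : Submonoid A) [IsLocalization M B] [Nontrivial B]
    (h : (nilradical A).IsPrime) : (nilradical B).IsPrime := by
  refine ⟨?_, ?_⟩
  · rw [Ne, Ideal.eq_top_iff_one, mem_nilradical]
    rintro ⟨n, hn⟩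
    rw [one_pow] at hn
    exact one_ne_zero hn
  · intro x y hxy
    obtain ⟨a, s, rfl⟩ := IsLocalization.exists_mk'_eq M x
    obtain ⟨b, t, rfl⟩ := IsLocalization.exists_mk'_eq M y
    obtain ⟨n, hn⟩ := mem_nilradical.mp hxy
    rw [← IsLocalization.mk'_mul, ← IsLocalization.mk'_pow, IsLocalization.mk'_eq_zero_iff] at hn
    obtain ⟨m, hm⟩ := hn
    have hmem : (m : A) * (a * b) ^ n ∈ nilradical A := by rw [hm]; exact zero_mem _
    have hm' : (m : A) ∉ nilradical A := by
      intro hmn
      have h1 : IsNilpotent (algebraMap A B m) := (mem_nilradical.mp hmn).map _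
      have h2 : IsUnit (algebraMap A B m) := IsLocalization.map_units B m
      obtain ⟨j, hj⟩ := h1
      have h3 : IsUnit ((algebraMap A B m) ^ j) := h2.pow j
      rw [hj] at h3
      exact not_isUnit_zero h3
    have hab : a * b ∈ nilradical A := by
      rcases h.mem_or_mem hmem with h1 | h1
      · exact absurd h1 hm'
      · exact h.mem_of_pow_mem n h1
    have key : ∀ (c : A) (u : M), c ∈ nilradical A → IsLocalization.mk' B c u ∈ nilradical B := by
      intro c u hc
      rw [IsLocalization.mk'_eq_mul_mk'_one]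
      exact Ideal.mul_mem_right _ _ (mem_nilradical.mpr ((mem_nilradical.mp hc).map _))
    rcases h.mem_or_mem hab with h1 | h1
    · exact Or.inl (key a s h1)
    · exact Or.inr (key b t h1)

theorem nilradical_isPrime_tensor_localization
    {R R' A B L : Type*} [CommRing R] [CommRing R'] [CommRing A] [CommRing B] [CommRing L]
    [Algebra R R'] (S : Submonoid R) [IsLocalization S R']
    [Algebra R A] [Algebra A B] (M : Submonoid A) [IsLocalization M B]
    [Algebra R B] [IsScalarTower R A B] [Algebra R' B] [IsScalarTower R R' B]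
    [Algebra R L] [Algebra R' L] [IsScalarTower R R' L]
    [Nontrivial (L ⊗[R'] B)]
    (h : (nilradical (L ⊗[R] A)).IsPrime) : (nilradical (L ⊗[R'] B)).IsPrime := by
  let e1 : L ⊗[R'] B ≃ₐ[R'] L ⊗[R] B := IsLocalization.algebraTensorEquiv S R' L B
  haveI : Nontrivial (L ⊗[R] B) := e1.injective.nontrivial
  let φ : L ⊗[R] A →ₐ[L] L ⊗[R] B :=
    Algebra.TensorProduct.map (AlgHom.id L L) (IsScalarTower.toAlgHom R A B)
  letI : Algebra (L ⊗[R] A) (L ⊗[R] B) := φ.toRingHom.toAlgebra
  haveI : IsScalarTower L (L ⊗[R] A) (L ⊗[R] B) := IsScalarTower.of_algebraMap_eq' φ.comp_algebraMap.symm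
  haveI := IsLocalization.tensorProduct_tensorProduct_right R L M B (by
    ext x
    simp [RingHom.algebraMap_toAlgebra, φ])
  have h2 : (nilradical (L ⊗[R] B)).IsPrime :=
    nilradical_isPrime_of_isLocalization
      (M.map (Algebra.TensorProduct.includeRight (R := R) (A := L))) h
  exact Groth.Agent.Lib.Helper14.GeomIrr.nilradical_isPrime_of_injective' e1.toRingEquiv.toRingHom e1.injective h2

attribute [local instance] Polynomial.algebra

theorem nilradical_isPrime_tensor_polynomial {k K L : Type*} [Field k] [Field K] [Algebra k K]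
    [Field L] [Algebra k L] [Algebra k[X] L] [IsScalarTower k k[X] L]
    (h : (nilradical (L ⊗[k] K)).IsPrime) : (nilradical (L ⊗[k[X]] K[X])).IsPrime := by
  let e2 : k[X] ⊗[k] K ≃ₐ[k[X]] K[X] := Algebra.IsPushout.equiv k k[X] K K[X]
  let e3 : L ⊗[k[X]] (k[X] ⊗[k] K) ≃ₐ[k[X]] L ⊗[k[X]] K[X] :=
    Algebra.TensorProduct.congr (AlgEquiv.refl : L ≃ₐ[k[X]] L) e2
  let e4 : L ⊗[k[X]] (k[X] ⊗[k] K) ≃ₐ[k[X]] L ⊗[k] K :=
    Algebra.TensorProduct.cancelBaseChange k k[X] k[X] L K
  let e : L ⊗[k[X]] K[X] ≃ₐ[k[X]] L ⊗[k] K := e3.symm.trans e4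
  exact Groth.Agent.Lib.Helper14.GeomIrr.nilradical_isPrime_of_injective'
    e.toRingEquiv.toRingHom e.injective h

theorem forward {k K : Type u} [Field k] [Field K] [Algebra k K]
    (kt Kt : Type u) [Field kt] [Field Kt] [Algebra k[X] kt] [IsFractionRing k[X] kt]
    [Algebra K[X] Kt] [IsFractionRing K[X] Kt] [Algebra kt Kt]
    (hcompat : ∀ p : k[X], algebraMap kt Kt (algebraMap k[X] kt p) =
      algebraMap K[X] Kt (p.map (algebraMap k K)))
    (H : ∀ (k' : Type u) [Field k'] [Algebra k k'], (nilradical (k' ⊗[k] K)).IsPrime)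
    (L : Type u) [Field L] [Algebra kt L] : (nilradical (L ⊗[kt] Kt)).IsPrime := by
  letI : Algebra k[X] L := ((algebraMap kt L).comp (algebraMap k[X] kt)).toAlgebra
  haveI : IsScalarTower k[X] kt L := IsScalarTower.of_algebraMap_eq' rfl
  letI : Algebra k L := ((algebraMap k[X] L).comp (algebraMap k k[X])).toAlgebra
  haveI : IsScalarTower k k[X] L := IsScalarTower.of_algebraMap_eq' rfl
  letI : Algebra k[X] Kt := ((algebraMap K[X] Kt).comp (algebraMap k[X] K[X])).toAlgebra
  haveI : IsScalarTower k[X] K[X] Kt := IsScalarTower.of_algebraMap_eq' rfl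
  haveI : IsScalarTower k[X] kt Kt := IsScalarTower.of_algebraMap_eq' (by
    refine RingHom.ext fun p => ?_
    exact (hcompat p).symm)
  haveI : Nontrivial (L ⊗[kt] Kt) :=
    Algebra.TensorProduct.nontrivial_of_algebraMap_injective_of_flat_right kt L Kt
      (algebraMap kt L).injective
  have h1 := H L
  have h2 := nilradical_isPrime_tensor_polynomial (k := k) (K := K) (L := L) h1
  exact nilradical_isPrime_tensor_localization (nonZeroDivisors k[X]) (nonZeroDivisors K[X]) h2

theorem backward {k K : Type u} [Field k] [Field K] [Algebra k K]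
    (kt Kt : Type u) [Field kt] [Field Kt] [Algebra k[X] kt] [IsFractionRing k[X] kt]
    [Algebra K[X] Kt] [IsFractionRing K[X] Kt] [Algebra kt Kt]
    (hcompat : ∀ p : k[X], algebraMap kt Kt (algebraMap k[X] kt p) =
      algebraMap K[X] Kt (p.map (algebraMap k K)))
    (HKt : ∀ β : Kt, IsSeparable kt β → β ∈ Set.range (algebraMap kt Kt))
    (α : K) (hα : IsSeparable k α) : α ∈ Set.range (algebraMap k K) := by
  let φ : k →+* K := algebraMap k K
  let χ : K →+* Kt := (algebraMap K[X] Kt).comp C
  let ψ : k →+* kt := (algebraMap k[X] kt).comp C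
  have hsq : (algebraMap kt Kt).comp ψ = χ.comp φ := by
    refine RingHom.ext fun c => ?_
    simp only [RingHom.comp_apply, ψ, χ, φ]
    rw [hcompat, Polynomial.map_C]
  let f := minpoly k α
  have hfsep : f.Separable := hα
  have hroot : aeval (χ α) (f.map ψ) = 0 := by
    rw [aeval_def, eval₂_map, hsq, ← Polynomial.hom_eval₂]
    have : eval₂ φ α f = 0 := minpoly.aeval k α
    rw [this, map_zero]
  have hsep' : IsSeparable kt (χ α) :=
    (hfsep.map (f := ψ)).of_dvd (minpoly.dvd kt (χ α) hroot)
  obtain ⟨z, hz⟩ := HKt (χ α) hsep'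
  obtain ⟨p, q, hq, rfl⟩ := IsFractionRing.div_surjective (A := k[X]) z
  have hq0 : q ≠ 0 := nonZeroDivisors.ne_zero hq
  have hqk : algebraMap k[X] kt q ≠ 0 := by
    intro h0
    exact hq0 ((IsFractionRing.injective k[X] kt) (by rw [h0, map_zero]))
  -- α * q = p in K[X]
  have heq : C α * q.map φ = p.map φ := by
    apply IsFractionRing.injective K[X] Kt
    rw [map_mul, ← hcompat q, ← hcompat p]
    have : (algebraMap K[X] Kt) (C α) = χ α := rfl
    rw [this, ← hz, map_div₀, div_mul_cancel₀]
    intro h0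
    exact hqk ((algebraMap kt Kt).injective (by rw [h0, map_zero]))
  have hcoeff := congrArg (fun r => r.coeff q.natDegree) heq
  simp only [coeff_C_mul, coeff_map] at hcoeff
  have hlc : φ (q.coeff q.natDegree) ≠ 0 := by
    intro h0
    have : q.leadingCoeff = 0 := φ.injective (by rw [map_zero]; exact h0)
    exact hq0 (leadingCoeff_eq_zero.mp this)
  refine ⟨p.coeff q.natDegree / q.coeff q.natDegree, ?_⟩
  change φ _ = α
  rw [map_div₀, ← hcoeff, mul_div_assoc, div_self hlc, mul_one]

end Groth.Agent.Lib.Helper14.GeomIrr2
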