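import Mathlib
import Groth.Prelude.Def_FDesc
import Groth.Agent.Lib.Helper14.GeomRegularPt

/-!
# Descent of geometric regularity along finitely generated base field extensions (helper14)
-/

set_option autoImplicit false
universe u

open CategoryTheory CategoryTheory.Limits AlgebraicGeometry
open scoped TensorProduct

namespace Groth.Agent.Lib.Helper14.GeomRegularDescent

open Groth.Agent.Lib.Helper11.FBaseLib2
open Groth.Agent.Lib.Helper14.GeomRedAt Groth.Agent.Lib.Helper14.GeomRegularPt

section Field

/-- Inside a common overfield `κ` of `K` and `K'`, with `K/k` finitely generated, there is an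
intermediate field containing the images of `K` and `K'` and finitely generated over `K'`. -/
theorem exists_fg_subfield (k K K' κ : Type u) [Field k] [Field K] [Field K'] [Field κ]
    [Algebra k K] [Algebra k K'] [Algebra k κ] [Algebra K κ] [Algebra K' κ]
    [IsScalarTower k K κ] [IsScalarTower k K' κ] [Algebra.EssFiniteType k K] :
    ∃ (L : Type u) (_ : Field L) (_ : Algebra k L) (_ : Algebra K L) (_ : Algebra K' L)
      (_ : Algebra L κ) (_ : IsScalarTower k K L) (_ : IsScalarTower k K' L)
      (_ : IsScalarTower K L κ) (_ : IsScalarTower K' L κ) (_ : IsScalarTower k L κ),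
      Algebra.EssFiniteType K' L := by
  classical
  obtain ⟨s, hs⟩ := IntermediateField.fg_top k K
  let φ : K →ₐ[k] κ := IsScalarTower.toAlgHom k K κ
  let L₀ : IntermediateField K' κ := IntermediateField.adjoin K' (φ '' (↑s : Set K))
  have hmem : ∀ a : K, algebraMap K κ a ∈ L₀ := by
    intro a
    have h1 : IntermediateField.adjoin k (↑s : Set K) ≤ (L₀.restrictScalars k).comap φ := by
      rw [IntermediateField.adjoin_le_iff]
      intro b hb
      show φ b ∈ L₀
      exact IntermediateField.subset_adjoin K' _ ⟨b, hb, rfl⟩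
    rw [hs] at h1
    exact h1 (IntermediateField.mem_top (x := a))
  letI algKL : Algebra K L₀ := ((algebraMap K κ).codRestrict L₀ hmem).toAlgebra
  have hfg : L₀.FG := IntermediateField.fg_adjoin_of_finite (s.finite_toSet.image φ)
  refine ⟨L₀, inferInstance, inferInstance, algKL, inferInstance, inferInstance, ?_, inferInstance,
    ?_, inferInstance, ?_, IntermediateField.essFiniteType_iff.mpr hfg⟩
  · refine IsScalarTower.of_algebraMap_eq (fun c => ?_)
    apply Subtype.ext
    show algebraMap k κ c = algebraMap K κ (algebraMap k K c)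
    exact IsScalarTower.algebraMap_apply k K κ c
  · exact IsScalarTower.of_algebraMap_eq (fun a => rfl)
  · exact IsScalarTower.of_algebraMap_eq (fun a => rfl)

end Field

variable {k : Type u} [Field k] {X : Scheme.{u}} (f : X ⟶ Spec (CommRingCat.of k))

section Comp

variable (K L M : Type u) [Field K] [Field L] [Field M] [Algebra k K] [Algebra k L] [Algebra k M]
  [Algebra K L] [Algebra L M] [Algebra K M] [IsScalarTower k K L] [IsScalarTower k L M]
  [IsScalarTower k K M] [IsScalarTower K L M]

/-- Functoriality of the transition maps. -/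
theorem bcMap_comp : bcMap f L M ≫ bcMap f K L = bcMap f K M := by
  have h1 : (bcMap f L M ≫ bcMap f K L) ≫ FBase.bcπ f K = bcMap f K M ≫ FBase.bcπ f K := by
    rw [Category.assoc, bcMap_π, bcMap_π, bcMap_π]
  have h2 : (bcMap f L M ≫ bcMap f K L) ≫ FBase.bcStr f K = bcMap f K M ≫ FBase.bcStr f K := by
    rw [Category.assoc, bcMap_str, bcMap_str_assoc, bcMap_str, ← Spec.map_comp,
      ← CommRingCat.ofHom_comp, ← IsScalarTower.algebraMap_eq]
  exact pullback.hom_ext h1 h2

end Comp

section Common

variable (K K' : Type u) [Field K] [Field K'] [Algebra k K] [Algebra k K']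

/-- Common point lemma with a finitely generated compositum. -/
theorem exists_common_point_fg [Algebra.EssFiniteType k K] (y : ↥(FBase.bc f K))
    (y' : ↥(FBase.bc f K')) (h : (FBase.bcπ f K) y = (FBase.bcπ f K') y') :
    ∃ (L : Type u) (_ : Field L) (_ : Algebra k L) (_ : Algebra K L) (_ : Algebra K' L)
      (_ : IsScalarTower k K L) (_ : IsScalarTower k K' L) (_ : Algebra.EssFiniteType K' L)
      (z : ↥(FBase.bc f L)), (bcMap f K L) z = y ∧ (bcMap f K' L) z = y' := by
  obtain ⟨κ, _, _, _, _, _, _, zκ, hz1, hz2⟩ := exists_common_point f K K' y y' h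
  obtain ⟨L, _, _, _, _, _, _, _, _, _, _, hfin⟩ := exists_fg_subfield k K K' κ
  refine ⟨L, inferInstance, inferInstance, inferInstance, inferInstance, inferInstance,
    inferInstance, hfin, (bcMap f L κ) zκ, ?_, ?_⟩
  · rw [← Scheme.Hom.comp_apply, bcMap_comp f K L κ, hz1]
  · rw [← Scheme.Hom.comp_apply, bcMap_comp f K' L κ, hz2]

end Common

section Descent

/-- **Descent of geometric regularity at a point** along an arbitrary base field extension
(finitely generated test extensions). -/
theorem isRegularLocalRing_descend (K' : Type u) [Field K'] [Algebra k K'] (x' : ↥(FBase.bc f K'))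
    (h : ∀ (L : Type u) [Field L] [Algebra K' L], (⊤ : IntermediateField K' L).FG →
      ∀ z' : ↥(FBase.bc (FBase.bcStr f K') L), (FBase.bcπ (FBase.bcStr f K') L).base z' = x' →
        IsRegularLocalRing ((FBase.bc (FBase.bcStr f K') L).presheaf.stalk z'))
    (K : Type u) [Field K] [Algebra k K] (hK : (⊤ : IntermediateField k K).FG)
    (y : ↥(FBase.bc f K)) (hy : (FBase.bcπ f K).base y = (FBase.bcπ f K').base x') :
    IsRegularLocalRing ((FBase.bc f K).presheaf.stalk y) := by
  haveI : Algebra.EssFiniteType k K := IntermediateField.fg_top_iff.mp hK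
  obtain ⟨L, _, _, _, _, _, _, hfin, z, hz1, hz2⟩ := exists_common_point_fg f K K' y x' hy
  let e := (isPullback_bcMap f K' L).isoPullback
  have he1 : e.hom ≫ pullback.fst _ _ = bcMap f K' L := IsPullback.isoPullback_hom_fst _
  have hy' : (FBase.bcπ (FBase.bcStr f K') L).base (e.hom z) = x' := by
    rw [← hz2]
    change (e.hom ≫ pullback.fst _ _) z = _
    rw [he1]
  have h1 := h L (IntermediateField.fg_top K' L) (e.hom z) hy'
  have h1' : RegP ((FBase.bc (FBase.bcStr f K') L).presheaf.stalk (e.hom z)) :=
    (regP_iff_of_isLocalRing _).mpr h1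
  have h2 := stalk_descend_of_flat' RegP (fun h => regP_descend h) e.inv (e.hom z) h1'
  have h3 : e.inv (e.hom z) = z := by
    rw [← Scheme.Hom.comp_apply, e.hom_inv_id]
    rfl
  rw [h3] at h2
  have h4 := stalk_descend_of_flat' RegP (fun h => regP_descend h) (bcMap f K L) z h2
  rw [hz1] at h4
  exact (regP_iff_of_isLocalRing _).mp h4

end Descent

end Groth.Agent.Lib.Helper14.GeomRegularDescent
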