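import Mathlib
import Groth.Prelude.Def_EtGlue

/-!
# Glueing pairs: base change of `f`-power torsion modules
-/

open TensorProduct

namespace Groth.Agent.Lib.Helper14.GluePair

universe u

variable {R R' : Type u} [CommRing R] [CommRing R'] [Algebra R R'] {f : R}

theorem exists_lift (hq : EtGlue.QuotPowBijective R R' f) (n : ℕ) (r' : R') :
    ∃ r : R, ∃ s' : R', r' = algebraMap R R' r + algebraMap R R' (f ^ (n + 1)) * s' := by
  obtain ⟨abar, ha⟩ := (hq (n + 1) (Nat.succ_pos n)).2 (Ideal.Quotient.mk _ r')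
  obtain ⟨r, rfl⟩ := Ideal.Quotient.mk_surjective abar
  rw [Ideal.quotientMap_mk, Ideal.Quotient.eq, Ideal.map_span, Set.image_singleton] at ha
  obtain ⟨s', hs'⟩ := Ideal.mem_span_singleton'.mp ha
  refine ⟨r, -s', ?_⟩
  have : s' * algebraMap R R' (f ^ (n + 1)) = algebraMap R R' r - r' := hs'
  linear_combination this

theorem exists_of_map_eq (hq : EtGlue.QuotPowBijective R R' f) (n : ℕ) (r : R) (s' : R')
    (h : algebraMap R R' r = algebraMap R R' (f ^ (n + 1)) * s') : ∃ s : R, r = f ^ (n + 1) * s := by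
  have hinj := (hq (n + 1) (Nat.succ_pos n)).1
  have h0 : Ideal.Quotient.mk (Ideal.span {f ^ (n + 1)}) r = 0 := by
    apply hinj
    rw [map_zero, Ideal.quotientMap_mk, Ideal.Quotient.eq_zero_iff_mem, Ideal.map_span,
      Set.image_singleton, h]
    exact Ideal.mul_mem_right _ _ (Ideal.mem_span_singleton_self _)
  rw [Ideal.Quotient.eq_zero_iff_mem] at h0
  obtain ⟨s, hs⟩ := Ideal.mem_span_singleton'.mp h0
  exact ⟨s, by rw [← hs, mul_comm]⟩

section Torsion

variable {C : Type*} [AddCommGroup C] [Module R C]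

/-- key uniqueness: two lifts act the same way on torsion elements. -/
theorem smul_eq_of_lifts (hq : EtGlue.QuotPowBijective R R' f) {n n0 : ℕ} {c : C}
    (hn : f ^ (n + 1) • c = 0) (hn0 : f ^ (n0 + 1) • c = 0) {r r0 : R} {r' s' s0' : R'}
    (h : r' = algebraMap R R' r + algebraMap R R' (f ^ (n + 1)) * s')
    (h0 : r' = algebraMap R R' r0 + algebraMap R R' (f ^ (n0 + 1)) * s0') :
    r • c = r0 • c := by
  wlog hle : n ≤ n0 generalizing n n0 r r0 s' s0'
  · exact (this hn0 hn h0 h (le_of_not_ge hle)).symm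
  obtain ⟨d, rfl⟩ := Nat.exists_eq_add_of_le hle
  have h1 : algebraMap R R' (r - r0) =
      algebraMap R R' (f ^ (n + 1)) * (algebraMap R R' (f ^ d) * s0' - s') := by
    have e : f ^ (n + d + 1) = f ^ (n + 1) * f ^ d := by ring
    rw [e, map_mul] at h0
    rw [map_sub]
    linear_combination h0 - h
  obtain ⟨s, hs⟩ := exists_of_map_eq hq n _ _ h1
  have : (r - r0) • c = 0 := by
    rw [hs, mul_comm, mul_smul, hn, smul_zero]
  rw [sub_smul, sub_eq_zero] at this
  exact this

variable (hC : ∀ c : C, ∃ n : ℕ, f ^ n • c = 0)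

/-- The retraction function. -/
noncomputable def retr₀ (hq : EtGlue.QuotPowBijective R R' f)
    (hC : ∀ c : C, ∃ n : ℕ, f ^ n • c = 0) (r' : R') (c : C) : C :=
  (exists_lift hq (hC c).choose r').choose • c

theorem retr₀_eq (hq : EtGlue.QuotPowBijective R R' f)
    (hC : ∀ c : C, ∃ n : ℕ, f ^ n • c = 0) {n : ℕ} {c : C}
    (hn : f ^ (n + 1) • c = 0) {r : R} {r' s' : R'}
    (h : r' = algebraMap R R' r + algebraMap R R' (f ^ (n + 1)) * s') :
    retr₀ hq hC r' c = r • c := by
  have hn0 : f ^ ((hC c).choose + 1) • c = 0 := by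
    rw [pow_succ', mul_smul, (hC c).choose_spec, smul_zero]
  obtain ⟨s0', hs0'⟩ := (exists_lift hq (hC c).choose r').choose_spec
  exact (smul_eq_of_lifts hq hn hn0 h hs0').symm

theorem exists_common (hC : ∀ c : C, ∃ n : ℕ, f ^ n • c = 0) (c₁ c₂ : C) :
    ∃ n, f ^ (n + 1) • c₁ = 0 ∧ f ^ (n + 1) • c₂ = 0 := by
  obtain ⟨n₁, h₁⟩ := hC c₁
  obtain ⟨n₂, h₂⟩ := hC c₂
  refine ⟨n₁ + n₂, ?_, ?_⟩
  · rw [show n₁ + n₂ + 1 = (n₂ + 1) + n₁ by ring, pow_add, mul_smul, h₁, smul_zero]
  · rw [show n₁ + n₂ + 1 = (n₁ + 1) + n₂ by ring, pow_add, mul_smul, h₂, smul_zero]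

/-- The retraction `R' ⊗ C → C` for `f`-power torsion `C`. -/
noncomputable def retr (hq : EtGlue.QuotPowBijective R R' f)
    (hC : ∀ c : C, ∃ n : ℕ, f ^ n • c = 0) : R' ⊗[R] C →ₗ[R] C :=
  TensorProduct.lift
    (LinearMap.mk₂ R (retr₀ hq hC)
      (by
        intro r₁' r₂' c
        obtain ⟨n, hn, -⟩ := exists_common hC c c
        obtain ⟨r₁, s₁, h₁⟩ := exists_lift hq n r₁'
        obtain ⟨r₂, s₂, h₂⟩ := exists_lift hq n r₂'
        have h₁₂ : r₁' + r₂' = algebraMap R R' (r₁ + r₂) +
            algebraMap R R' (f ^ (n + 1)) * (s₁ + s₂) := by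
          rw [map_add]; linear_combination h₁ + h₂
        rw [retr₀_eq hq hC hn h₁, retr₀_eq hq hC hn h₂, retr₀_eq hq hC hn h₁₂, add_smul])
      (by
        intro a r' c
        obtain ⟨n, hn, -⟩ := exists_common hC c c
        obtain ⟨r, s, h⟩ := exists_lift hq n r'
        have h' : a • r' = algebraMap R R' (a * r) +
            algebraMap R R' (f ^ (n + 1)) * (algebraMap R R' a * s) := by
          rw [Algebra.smul_def, map_mul]; linear_combination (algebraMap R R' a) * h
        rw [retr₀_eq hq hC hn h, retr₀_eq hq hC hn h', mul_smul])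
      (by
        intro r' c₁ c₂
        obtain ⟨n, hn₁, hn₂⟩ := exists_common hC c₁ c₂
        obtain ⟨r, s, h⟩ := exists_lift hq n r'
        have hn : f ^ (n + 1) • (c₁ + c₂) = 0 := by rw [smul_add, hn₁, hn₂, add_zero]
        rw [retr₀_eq hq hC hn₁ h, retr₀_eq hq hC hn₂ h, retr₀_eq hq hC hn h, smul_add])
      (by
        intro a r' c
        obtain ⟨n, hn, -⟩ := exists_common hC c c
        obtain ⟨r, s, h⟩ := exists_lift hq n r'
        have hn' : f ^ (n + 1) • (a • c) = 0 := by rw [smul_comm, hn, smul_zero]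
        rw [retr₀_eq hq hC hn h, retr₀_eq hq hC hn' h, smul_comm]))

theorem retr_tmul (hq : EtGlue.QuotPowBijective R R' f)
    (hC : ∀ c : C, ∃ n : ℕ, f ^ n • c = 0) {n : ℕ} {c : C}
    (hn : f ^ (n + 1) • c = 0) {r : R} {r' s' : R'}
    (h : r' = algebraMap R R' r + algebraMap R R' (f ^ (n + 1)) * s') :
    retr hq hC (r' ⊗ₜ c) = r • c := by
  simp only [retr, TensorProduct.lift.tmul, LinearMap.mk₂_apply]
  exact retr₀_eq hq hC hn h

theorem retr_one_tmul (hq : EtGlue.QuotPowBijective R R' f)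
    (hC : ∀ c : C, ∃ n : ℕ, f ^ n • c = 0) (c : C) :
    retr hq hC ((1 : R') ⊗ₜ c) = c := by
  obtain ⟨n, hn, -⟩ := exists_common hC c c
  have h : (1 : R') = algebraMap R R' 1 + algebraMap R R' (f ^ (n + 1)) * 0 := by simp
  rw [retr_tmul hq hC hn h, one_smul]

/-- For `f`-power torsion `C`, the map `C → R' ⊗ C` is injective. -/
theorem mk_one_injective (hq : EtGlue.QuotPowBijective R R' f)
    (hC : ∀ c : C, ∃ n : ℕ, f ^ n • c = 0) :
    Function.Injective (TensorProduct.mk R R' C 1) := by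
  intro c₁ c₂ h
  have := congrArg (retr hq hC) h
  simpa only [TensorProduct.mk_apply, retr_one_tmul] using this

/-- For `f`-power torsion `C`, the map `C → R' ⊗ C` is surjective. -/
theorem mk_one_surjective (hq : EtGlue.QuotPowBijective R R' f)
    (hC : ∀ c : C, ∃ n : ℕ, f ^ n • c = 0) :
    Function.Surjective (TensorProduct.mk R R' C 1) := by
  intro x
  induction x with
  | zero => exact ⟨0, map_zero _⟩
  | add x y hx hy =>
    obtain ⟨x', rfl⟩ := hx
    obtain ⟨y', rfl⟩ := hy
    exact ⟨x' + y', map_add _ _ _⟩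
  | tmul r' c =>
    obtain ⟨n, hn, -⟩ := exists_common hC c c
    obtain ⟨r, s, h⟩ := exists_lift hq n r'
    refine ⟨r • c, ?_⟩
    rw [TensorProduct.mk_apply, h, add_tmul, ← Algebra.smul_def, smul_tmul, hn, tmul_zero,
      add_zero, Algebra.algebraMap_eq_smul_one, smul_tmul]

theorem subsingleton_of_torsion (hq : EtGlue.QuotPowBijective R R' f)
    (hC : ∀ c : C, ∃ n : ℕ, f ^ n • c = 0) (h : Subsingleton (R' ⊗[R] C)) : Subsingleton C :=
  (mk_one_injective hq hC).subsingleton

end Torsion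

/-- A linear map which is surjective after inverting `f` and after `R' ⊗ -` is surjective. -/
theorem surjective_of_local (hq : EtGlue.QuotPowBijective R R' f) {P M : Type*}
    [AddCommGroup P] [Module R P] [AddCommGroup M] [Module R M] (g : P →ₗ[R] M)
    (h1 : ∀ m : M, ∃ n : ℕ, f ^ n • m ∈ LinearMap.range g)
    (h2 : ∀ m : M, (1 : R') ⊗ₜ[R] m ∈ LinearMap.range (g.lTensor R')) :
    Function.Surjective g := by
  have hC : ∀ c : M ⧸ LinearMap.range g, ∃ n : ℕ, f ^ n • c = 0 := by
    intro c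
    obtain ⟨m, rfl⟩ := Submodule.mkQ_surjective _ c
    obtain ⟨n, hn⟩ := h1 m
    exact ⟨n, by rw [← map_smul, Submodule.mkQ_apply, Submodule.Quotient.mk_eq_zero]; exact hn⟩
  have hzero : (LinearMap.range g).mkQ ∘ₗ g = 0 := by
    ext p
    simp
  rw [← LinearMap.range_eq_top, eq_top_iff]
  intro m _
  have hm : (1 : R') ⊗ₜ[R] ((LinearMap.range g).mkQ m) = 0 := by
    obtain ⟨z, hz⟩ := h2 m
    have : (1 : R') ⊗ₜ[R] ((LinearMap.range g).mkQ m) =
        ((LinearMap.range g).mkQ.lTensor R') ((1 : R') ⊗ₜ[R] m) := rfl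
    rw [this, ← hz, ← LinearMap.comp_apply, ← LinearMap.lTensor_comp, hzero, LinearMap.lTensor_zero,
      LinearMap.zero_apply]
  have := mk_one_injective hq hC (a₁ := (LinearMap.range g).mkQ m) (a₂ := 0)
    (by rw [TensorProduct.mk_apply, hm, map_zero])
  rwa [Submodule.mkQ_apply, Submodule.Quotient.mk_eq_zero] at this

section Finite

variable {M : Type*} [AddCommGroup M] [Module R M]

/-- If `M_f` is finite over `R_f`, some f.g. submodule of `M` contains an `f`-power multiple of every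
element. -/
theorem exists_fg_of_localized_finite
    (h : Module.Finite (Localization.Away f) (LocalizedModule (Submonoid.powers f) M)) :
    ∃ N : Submodule R M, N.FG ∧ ∀ m : M, ∃ n : ℕ, f ^ n • m ∈ N := by
  classical
  obtain ⟨s₁, hs₁⟩ := h.1
  let g := LocalizedModule.mkLinearMap (Submonoid.powers f) M
  refine ⟨Submodule.span R (IsLocalizedModule.finsetIntegerMultiple (Submonoid.powers f) g s₁ : Set M),
    Submodule.fg_span (Finset.finite_toSet _), fun x => ?_⟩
  obtain ⟨⟨_, n₁, rfl⟩, hn₁⟩ := multiple_mem_span_of_mem_localization_span (Submonoid.powers f)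
    (Localization.Away f) (s₁ : Set (LocalizedModule (Submonoid.powers f) M))
    (IsLocalizedModule.mk' g x (1 : Submonoid.powers f)) (by rw [hs₁]; trivial)
  rw [Submonoid.smul_def, ← IsLocalizedModule.mk'_smul, IsLocalizedModule.mk'_one] at hn₁
  obtain ⟨⟨_, n₂, rfl⟩, hn₂⟩ := IsLocalizedModule.smul_mem_finsetIntegerMultiple_span
    (Submonoid.powers f) g _ s₁ hn₁
  rw [Submonoid.smul_def] at hn₂
  refine ⟨n₂ + n₁, ?_⟩
  rw [pow_add, mul_smul]
  exact hn₂

/-- If `R' ⊗ M` is finite over `R'`, it is generated by the image of a f.g. submodule of `M`. -/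
theorem exists_fg_of_baseChange_finite (h : Module.Finite R' (R' ⊗[R] M)) :
    ∃ N : Submodule R M, N.FG ∧
      ∀ x : R' ⊗[R] M, x ∈ LinearMap.range (N.subtype.lTensor R') := by
  obtain ⟨T, hT⟩ := h.1
  obtain ⟨N, hN, hTN⟩ := TensorProduct.exists_finite_submodule_right_of_setFinite
    (T : Set (R' ⊗[R] M)) (Finset.finite_toSet T)
  refine ⟨N, Module.Finite.iff_fg.mp hN, fun x => ?_⟩
  have hle : Submodule.span R' (T : Set (R' ⊗[R] M)) ≤
      LinearMap.range (N.subtype.baseChange R') := by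
    rw [Submodule.span_le]
    intro t ht
    obtain ⟨z, hz⟩ := hTN ht
    exact ⟨z, hz⟩
  rw [hT] at hle
  obtain ⟨z, hz⟩ := hle (Submodule.mem_top (x := x))
  exact ⟨z, hz⟩

theorem range_lTensor_mono {N₁ N₂ : Submodule R M} (h : N₁ ≤ N₂) :
    LinearMap.range (N₁.subtype.lTensor R') ≤ LinearMap.range (N₂.subtype.lTensor R') := by
  rintro _ ⟨z, rfl⟩
  refine ⟨(Submodule.inclusion h).lTensor R' z, ?_⟩
  rw [← LinearMap.comp_apply, ← LinearMap.lTensor_comp]
  rfl

/-- Finiteness of modules can be checked after inverting `f` and after `R' ⊗ -`. -/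
theorem finite_of_local (hq : EtGlue.QuotPowBijective R R' f)
    (h' : Module.Finite R' (R' ⊗[R] M))
    (hf : Module.Finite (Localization.Away f) (LocalizedModule (Submonoid.powers f) M)) :
    Module.Finite R M := by
  obtain ⟨N₁, hN₁, h₁⟩ := exists_fg_of_localized_finite hf
  obtain ⟨N₂, hN₂, h₂⟩ := exists_fg_of_baseChange_finite h'
  have hsurj : Function.Surjective (N₁ ⊔ N₂).subtype := by
    apply surjective_of_local hq
    · intro m
      obtain ⟨n, hn⟩ := h₁ m
      exact ⟨n, by rw [Submodule.range_subtype]; exact le_sup_left (a := N₁) hn⟩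
    · intro m
      exact range_lTensor_mono le_sup_right (h₂ _)
  have htop : N₁ ⊔ N₂ = ⊤ := by
    rw [← Submodule.range_subtype (N₁ ⊔ N₂), LinearMap.range_eq_top]
    exact hsurj
  exact ⟨htop ▸ hN₁.sup hN₂⟩

end Finite

section BaseChange

variable {P : ∀ {R S : Type u} [CommRing R] [CommRing S], (R →+* S) → Prop}

/-- A property stable under base change passes to `R' ⊗ φ`. -/
theorem tensorMap_of_isStableUnderBaseChange
    (hP : RingHom.IsStableUnderBaseChange @P) (hP' : RingHom.RespectsIso @P)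
    {R R' A B : Type u} [CommRing R] [CommRing R'] [Algebra R R'] [CommRing A] [Algebra R A]
    [CommRing B] [Algebra R B] (φ : A →ₐ[R] B) (h : P φ.toRingHom) :
    P (Algebra.TensorProduct.map (AlgHom.id R R') φ).toRingHom := by
  letI := φ.toRingHom.toAlgebra
  haveI : IsScalarTower R A B := IsScalarTower.of_algebraMap_eq' φ.comp_algebraMap.symm
  letI alg2 : Algebra (A ⊗[R] R') (B ⊗[R] R') :=
    (Algebra.TensorProduct.map φ (AlgHom.id R R')).toRingHom.toAlgebra
  haveI : IsScalarTower A (A ⊗[R] R') (B ⊗[R] R') := IsScalarTower.of_algebraMap_eq' (by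
    ext a
    simp [RingHom.algebraMap_toAlgebra, Algebra.TensorProduct.algebraMap_apply])
  have hpo : Algebra.IsPushout A B (A ⊗[R] R') (B ⊗[R] R') :=
    Algebra.IsPushout.tensorProduct_tensorProduct R R' A B (by
      ext r
      simp [RingHom.algebraMap_toAlgebra])
  have h1 : P (algebraMap (A ⊗[R] R') (B ⊗[R] R')) := hP A B (A ⊗[R] R') (B ⊗[R] R') h
  have h2 : (Algebra.TensorProduct.map (AlgHom.id R R') φ).toRingHom =
      ((Algebra.TensorProduct.comm R B R').toRingEquiv.toRingHom.comp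
        (algebraMap (A ⊗[R] R') (B ⊗[R] R'))).comp
        (Algebra.TensorProduct.comm R R' A).toRingEquiv.toRingHom := by
    refine RingHom.ext fun x => ?_
    induction x with
    | zero => simp
    | add x y hx hy => rw [map_add, map_add, hx, hy]
    | tmul r' a => simp [RingHom.algebraMap_toAlgebra]
  rw [h2]
  exact hP'.2 _ _ (hP'.1 _ _ h1)

/-- A property stable under base change passes to the localization away from an element. -/
theorem awayMap_of_isStableUnderBaseChange
    (hP : RingHom.IsStableUnderBaseChange @P)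
    {A B : Type u} [CommRing A] [CommRing B] (φ : A →+* B) (a : A) (h : P φ) :
    P (Localization.awayMap φ a) :=
  hP.localizationPreserves.away φ a _ _ h

end BaseChange

section RingFinite

variable {A B : Type u} [CommRing A] [CommRing B] [Algebra A B]

theorem exists_fg_of_awayMap_finite (a : A)
    (h : (Localization.awayMap (algebraMap A B) a).Finite) :
    ∃ N₁ : Submodule A B, N₁.FG ∧ ∀ N : Submodule A B, N₁ ≤ N →
      ∀ b : B, ∃ n : ℕ, a ^ n • b ∈ N := by
  classical
  letI := (Localization.awayMap (algebraMap A B) a).toAlgebra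
  have : IsLocalization ((Submonoid.powers a).map (algebraMap A B))
      (Localization.Away (algebraMap A B a)) := by
    rw [Submonoid.map_powers]; exact Localization.isLocalization
  have : IsScalarTower A (Localization.Away a) (Localization.Away (algebraMap A B a)) :=
    IsScalarTower.of_algebraMap_eq'
      (IsLocalization.map_comp (Submonoid.powers a).le_comap_map).symm
  obtain ⟨s₁, hs₁⟩ := h.1
  refine ⟨Submodule.span A (IsLocalization.finsetIntegerMultiple
    (Submonoid.powers (algebraMap A B a)) s₁ : Set B), Submodule.fg_span (Finset.finite_toSet _),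
    fun N hN x => ?_⟩
  obtain ⟨⟨_, n₁, rfl⟩, hn₁⟩ :=
    multiple_mem_span_of_mem_localization_span (Submonoid.powers a)
      (Localization.Away a) (s₁ : Set (Localization.Away (algebraMap A B a))) (algebraMap B _ x)
      (by rw [hs₁]; trivial)
  dsimp only at hn₁
  rw [Submonoid.smul_def, Algebra.smul_def,
    IsScalarTower.algebraMap_apply A B (Localization.Away (algebraMap A B a)), ← map_mul] at hn₁
  obtain ⟨⟨_, n₂, rfl⟩, hn₂⟩ :=
    IsLocalization.smul_mem_finsetIntegerMultiple_span (Submonoid.powers a)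
      (Localization.Away (algebraMap A B a)) _ s₁ hn₁
  rw [Submonoid.smul_def, ← Algebra.smul_def, smul_smul, ← pow_add] at hn₂
  simp_rw [Submonoid.map_powers] at hn₂
  exact ⟨n₂ + n₁, hN hn₂⟩

theorem exists_finset_of_awayMap_finiteType (a : A)
    (h : (Localization.awayMap (algebraMap A B) a).FiniteType) :
    ∃ s₁ : Finset B, ∀ s : Finset B, s₁ ⊆ s →
      ∀ b : B, ∃ n : ℕ, a ^ n • b ∈ Algebra.adjoin A (s : Set B) := by
  classical
  letI := (Localization.awayMap (algebraMap A B) a).toAlgebra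
  have : IsLocalization ((Submonoid.powers a).map (algebraMap A B))
      (Localization.Away (algebraMap A B a)) := by
    rw [Submonoid.map_powers]; exact Localization.isLocalization
  have : IsScalarTower A (Localization.Away a) (Localization.Away (algebraMap A B a)) :=
    IsScalarTower.of_algebraMap_eq'
      (IsLocalization.map_comp (Submonoid.powers a).le_comap_map).symm
  obtain ⟨s₁, hs₁⟩ := h.1
  refine ⟨IsLocalization.finsetIntegerMultiple (Submonoid.powers (algebraMap A B a)) s₁,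
    fun s hs x => ?_⟩
  obtain ⟨⟨_, n₁, rfl⟩, hn₁⟩ :=
    multiple_mem_adjoin_of_mem_localization_adjoin (Submonoid.powers a)
      (Localization.Away a) (s₁ : Set (Localization.Away (algebraMap A B a))) (algebraMap B _ x)
      (by rw [hs₁]; trivial)
  rw [Submonoid.smul_def, Algebra.smul_def,
    IsScalarTower.algebraMap_apply A B (Localization.Away (algebraMap A B a)), ← map_mul] at hn₁
  obtain ⟨⟨_, n₂, rfl⟩, hn₂⟩ :=
    IsLocalization.lift_mem_adjoin_finsetIntegerMultiple (Submonoid.powers a) _ s₁ hn₁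
  rw [Submonoid.smul_def, ← Algebra.smul_def, smul_smul, ← pow_add] at hn₂
  simp_rw [Submonoid.map_powers] at hn₂
  exact ⟨n₂ + n₁, Algebra.adjoin_mono (Finset.coe_subset.mpr hs) hn₂⟩

section TensorSide

variable {R₀ R₀' : Type u} [CommRing R₀] [CommRing R₀'] [Algebra R₀ R₀']
  [Algebra R₀ A] [Algebra R₀ B] [IsScalarTower R₀ A B]

theorem exists_fg_of_tensorMap_finite
    (h : (Algebra.TensorProduct.map (AlgHom.id R₀ R₀')
      (IsScalarTower.toAlgHom R₀ A B)).toRingHom.Finite) :
    ∃ N₁ : Submodule A B, N₁.FG ∧ ∀ N : Submodule A B, N₁ ≤ N →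
      ∀ x : R₀' ⊗[R₀] B, x ∈ LinearMap.range ((N.restrictScalars R₀).subtype.lTensor R₀') := by
  classical
  letI alg := (Algebra.TensorProduct.map (AlgHom.id R₀ R₀')
      (IsScalarTower.toAlgHom R₀ A B)).toRingHom.toAlgebra
  obtain ⟨T, hT⟩ := h.1
  obtain ⟨N₀, hN₀, hTN⟩ := TensorProduct.exists_finite_submodule_right_of_setFinite
    (T : Set (R₀' ⊗[R₀] B)) T.finite_toSet
  obtain ⟨S₀, hS₀⟩ := Module.Finite.iff_fg.mp hN₀
  refine ⟨Submodule.span A (S₀ : Set B), Submodule.fg_span S₀.finite_toSet, fun N hN x => ?_⟩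
  have hle : N₀ ≤ N.restrictScalars R₀ := by
    rw [← hS₀, Submodule.span_le]
    intro b hb
    exact hN (Submodule.subset_span hb)
  have hsm : ∀ (c : R₀' ⊗[R₀] A) (z : R₀' ⊗[R₀] (N.restrictScalars R₀)),
      c • ((N.restrictScalars R₀).subtype.lTensor R₀' z) ∈
        LinearMap.range ((N.restrictScalars R₀).subtype.lTensor R₀') := by
    intro c z
    induction c with
    | zero => rw [zero_smul]; exact zero_mem _
    | add c d hc hd => rw [add_smul]; exact add_mem hc hd
    | tmul r' a =>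
      induction z with
      | zero => rw [map_zero, smul_zero]; exact zero_mem _
      | add z w hz hw => rw [map_add, smul_add]; exact add_mem hz hw
      | tmul s' n =>
        obtain ⟨m, hm⟩ : ∃ m : N.restrictScalars R₀, (m : B) = a • (n : B) :=
          ⟨⟨a • (n : B), N.smul_mem a ((Submodule.restrictScalars_mem R₀ N _).mp n.2)⟩, rfl⟩
        refine ⟨(r' * s') ⊗ₜ m, ?_⟩
        rw [LinearMap.lTensor_tmul, LinearMap.lTensor_tmul, Algebra.smul_def (r' ⊗ₜ[R₀] a),
          RingHom.algebraMap_toAlgebra]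
        simp [hm, Algebra.smul_def]
  have hx : x ∈ Submodule.span (R₀' ⊗[R₀] A) (T : Set (R₀' ⊗[R₀] B)) := by rw [hT]; trivial
  induction hx using Submodule.span_induction with
  | mem t ht => exact range_lTensor_mono hle (hTN ht)
  | zero => exact zero_mem _
  | add x y _ _ hx hy => exact add_mem hx hy
  | smul c x _ hx =>
    obtain ⟨z, rfl⟩ := hx
    exact hsm c z

theorem exists_finset_of_tensorMap_finiteType
    (h : (Algebra.TensorProduct.map (AlgHom.id R₀ R₀')
      (IsScalarTower.toAlgHom R₀ A B)).toRingHom.FiniteType) :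
    ∃ s₁ : Finset B, ∀ s : Finset B, s₁ ⊆ s →
      ∀ x : R₀' ⊗[R₀] B, x ∈ LinearMap.range
        (((Algebra.adjoin A (s : Set B)).val.restrictScalars R₀).toLinearMap.lTensor R₀') := by
  classical
  letI alg := (Algebra.TensorProduct.map (AlgHom.id R₀ R₀')
      (IsScalarTower.toAlgHom R₀ A B)).toRingHom.toAlgebra
  obtain ⟨T, hT⟩ := h.1
  obtain ⟨N₀, hN₀, hTN⟩ := TensorProduct.exists_finite_submodule_right_of_setFinite
    (T : Set (R₀' ⊗[R₀] B)) T.finite_toSet
  obtain ⟨S₀, hS₀⟩ := Module.Finite.iff_fg.mp hN₀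
  refine ⟨S₀, fun s hs x => ?_⟩
  set B₀ := Algebra.adjoin A (s : Set B) with hB₀
  let ι : B₀ →ₐ[R₀] B := B₀.val.restrictScalars R₀
  let E : Subalgebra R₀ (R₀' ⊗[R₀] B) := (Algebra.TensorProduct.map (AlgHom.id R₀ R₀') ι).range
  have hmap : ∀ z, Algebra.TensorProduct.map (AlgHom.id R₀ R₀') ι z = ι.toLinearMap.lTensor R₀' z := by
    intro z
    induction z with
    | zero => simp
    | add z w hz hw => rw [map_add, map_add, hz, hw]
    | tmul r' b => simp
  have hE : ∀ y, y ∈ E ↔ y ∈ LinearMap.range (ι.toLinearMap.lTensor R₀') := by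
    intro y
    constructor
    · rintro ⟨z, rfl⟩; exact ⟨z, (hmap z).symm⟩
    · rintro ⟨z, rfl⟩; exact ⟨z, hmap z⟩
  have hle : ∀ b ∈ N₀, b ∈ B₀ := by
    intro b hb
    rw [← hS₀] at hb
    refine Submodule.span_induction (p := fun b _ => b ∈ B₀) ?_ ?_ ?_ ?_ hb
    · intro b hb; exact Algebra.subset_adjoin (Finset.coe_subset.mpr hs hb)
    · exact zero_mem _
    · intro x y _ _ hx hy; exact add_mem hx hy
    · intro r x _ hx
      rw [← algebraMap_smul A r x]
      exact Subalgebra.smul_mem _ hx _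
  have hT_mem : ∀ z : R₀' ⊗[R₀] N₀, N₀.subtype.lTensor R₀' z ∈ E := by
    intro z
    induction z with
    | zero => rw [map_zero]; exact zero_mem _
    | add z w hz hw => rw [map_add]; exact add_mem hz hw
    | tmul r' n => exact ⟨r' ⊗ₜ ⟨(n : B), hle _ n.2⟩, by simp [ι]⟩
  have hA_mem : ∀ c : R₀' ⊗[R₀] A, algebraMap (R₀' ⊗[R₀] A) (R₀' ⊗[R₀] B) c ∈ E := by
    intro c
    induction c with
    | zero => rw [map_zero]; exact zero_mem _
    | add c d hc hd => rw [map_add]; exact add_mem hc hd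
    | tmul r' a =>
      exact ⟨r' ⊗ₜ ⟨algebraMap A B a, Subalgebra.algebraMap_mem _ a⟩, by
        simp [RingHom.algebraMap_toAlgebra, ι]⟩
  have hx : x ∈ Algebra.adjoin (R₀' ⊗[R₀] A) (T : Set (R₀' ⊗[R₀] B)) := by rw [hT]; trivial
  rw [← hE]
  induction hx using Algebra.adjoin_induction with
  | mem t ht =>
    obtain ⟨z, rfl⟩ := hTN ht
    exact hT_mem z
  | algebraMap c => exact hA_mem c
  | add x y _ _ hx hy => exact add_mem hx hy
  | mul x y _ _ hx hy => exact mul_mem hx hy

variable {f₀ : R₀}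

theorem ringHom_finite_of_local (hq : EtGlue.QuotPowBijective R₀ R₀' f₀)
    (h1 : (Localization.awayMap (algebraMap A B) (algebraMap R₀ A f₀)).Finite)
    (h2 : (Algebra.TensorProduct.map (AlgHom.id R₀ R₀')
      (IsScalarTower.toAlgHom R₀ A B)).toRingHom.Finite) :
    Module.Finite A B := by
  obtain ⟨N₁, hN₁, h₁⟩ := exists_fg_of_awayMap_finite _ h1
  obtain ⟨N₂, hN₂, h₂⟩ := exists_fg_of_tensorMap_finite h2
  have hsurj : Function.Surjective ((N₁ ⊔ N₂).restrictScalars R₀).subtype := by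
    apply surjective_of_local hq
    · intro b
      obtain ⟨n, hn⟩ := h₁ (N₁ ⊔ N₂) le_sup_left b
      refine ⟨n, ?_⟩
      rw [Submodule.range_subtype]
      rw [← map_pow, algebraMap_smul] at hn
      exact hn
    · intro b
      exact h₂ (N₁ ⊔ N₂) le_sup_right _
  have htop : N₁ ⊔ N₂ = ⊤ := by
    rw [eq_top_iff]
    intro b _
    obtain ⟨⟨b', hb'⟩, rfl⟩ := hsurj b
    exact hb'
  exact ⟨htop ▸ hN₁.sup hN₂⟩

theorem ringHom_finiteType_of_local (hq : EtGlue.QuotPowBijective R₀ R₀' f₀)
    (h1 : (Localization.awayMap (algebraMap A B) (algebraMap R₀ A f₀)).FiniteType)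
    (h2 : (Algebra.TensorProduct.map (AlgHom.id R₀ R₀')
      (IsScalarTower.toAlgHom R₀ A B)).toRingHom.FiniteType) :
    Algebra.FiniteType A B := by
  classical
  obtain ⟨s₁, h₁⟩ := exists_finset_of_awayMap_finiteType _ h1
  obtain ⟨s₂, h₂⟩ := exists_finset_of_tensorMap_finiteType h2
  have hsurj : Function.Surjective
      ((Algebra.adjoin A ((s₁ ∪ s₂ : Finset B) : Set B)).val.restrictScalars R₀).toLinearMap := by
    apply surjective_of_local hq
    · intro b
      obtain ⟨n, hn⟩ := h₁ (s₁ ∪ s₂) Finset.subset_union_left b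
      refine ⟨n, ?_⟩
      rw [← map_pow, algebraMap_smul] at hn
      exact ⟨⟨_, hn⟩, rfl⟩
    · intro b
      exact h₂ (s₁ ∪ s₂) Finset.subset_union_right _
  refine ⟨⟨s₁ ∪ s₂, ?_⟩⟩
  rw [eq_top_iff]
  intro b _
  obtain ⟨⟨b', hb'⟩, rfl⟩ := hsurj b
  exact hb'

end TensorSide

end RingFinite

end Groth.Agent.Lib.Helper14.GluePair
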