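import Mathlib
import Groth.Agent.Lib.Helper14.GluePair
import Groth.Agent.S2004

/-!
# Glueing pairs: torsion of `R' ⊗ M` comes from `M`
-/

open TensorProduct

namespace Groth.Agent.Lib.Helper14.GluePair

universe u

variable {R R' : Type u} [CommRing R] [CommRing R'] [Algebra R R'] {f : R}

theorem torsion_inj (h : EtGlue.IsGlueingPair R R' f) (x : R) (hx : ∃ n : ℕ, f ^ n * x = 0)
    (h0 : algebraMap R R' x = 0) : x = 0 :=
  ((Groth.Agent.S2004.result R R' f h.1).mp h).1 x hx h0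

theorem torsion_surj (h : EtGlue.IsGlueingPair R R' f) (n : ℕ) (x' : R')
    (hx' : algebraMap R R' f ^ n * x' = 0) :
    ∃ t : R, f ^ n * t = 0 ∧ algebraMap R R' t = x' := by
  obtain ⟨t, ⟨k, hk⟩, ht⟩ := ((Groth.Agent.S2004.result R R' f h.1).mp h).2 x' ⟨n, hx'⟩
  refine ⟨t, ?_, ht⟩
  apply torsion_inj h _ ⟨k, by rw [← mul_assoc, mul_comm (f ^ k), mul_assoc, hk, mul_zero]⟩
  rw [map_mul, map_pow, ht, hx']

section Decomp

variable {P : Type*} [AddCommGroup P] [Module R P]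

theorem exists_decomp (hq : EtGlue.QuotPowBijective R R' f) (n : ℕ) (w : R' ⊗[R] P) :
    ∃ (p₀ : P) (w' : R' ⊗[R] P), w = (1 : R') ⊗ₜ[R] p₀ + f ^ (n + 1) • w' := by
  induction w with
  | zero => exact ⟨0, 0, by simp⟩
  | add x y hx hy =>
    obtain ⟨p, w₁, rfl⟩ := hx
    obtain ⟨q, w₂, rfl⟩ := hy
    exact ⟨p + q, w₁ + w₂, by rw [tmul_add, smul_add]; abel⟩
  | tmul r' p =>
    obtain ⟨r, s, h⟩ := exists_lift hq n r'
    refine ⟨r • p, s ⊗ₜ p, ?_⟩
    rw [h, add_tmul, smul_tmul', Algebra.smul_def (f ^ (n + 1)) s, Algebra.algebraMap_eq_smul_one r,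
      smul_tmul]

theorem smul_tensor_eq_zero {C : Type*} [AddCommGroup C] [Module R C] (a : R)
    (hC : ∀ c : C, a • c = 0) (z : R' ⊗[R] C) : a • z = 0 := by
  induction z with
  | zero => simp
  | add x y hx hy => rw [smul_add, hx, hy, add_zero]
  | tmul r' c => rw [smul_tmul', smul_tmul, hC, tmul_zero]

theorem exists_eq_smul_of_tmul_eq (hq : EtGlue.QuotPowBijective R R' f) (n : ℕ) (p : P)
    (w : R' ⊗[R] P) (h : (1 : R') ⊗ₜ[R] p = f ^ n • w) : ∃ q : P, p = f ^ n • q := by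
  set S : Submodule R P := LinearMap.range (LinearMap.lsmul R P (f ^ n)) with hS
  have hkill : ∀ c : P ⧸ S, f ^ n • c = 0 := by
    intro c
    obtain ⟨q, rfl⟩ := Submodule.mkQ_surjective _ c
    rw [← map_smul, Submodule.mkQ_apply, Submodule.Quotient.mk_eq_zero]
    exact ⟨q, rfl⟩
  have hC : ∀ c : P ⧸ S, ∃ k : ℕ, f ^ k • c = 0 := fun c => ⟨n, hkill c⟩
  have h1 : (1 : R') ⊗ₜ[R] (S.mkQ p) = 0 := by
    have : (1 : R') ⊗ₜ[R] (S.mkQ p) = S.mkQ.lTensor R' ((1 : R') ⊗ₜ[R] p) := rfl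
    rw [this, h, map_smul]
    exact smul_tensor_eq_zero _ hkill _
  have h2 := mk_one_injective hq hC (a₁ := S.mkQ p) (a₂ := 0)
    (by rw [TensorProduct.mk_apply, h1, map_zero])
  rw [Submodule.mkQ_apply, Submodule.Quotient.mk_eq_zero] at h2
  obtain ⟨q, hq'⟩ := h2
  exact ⟨q, hq'.symm⟩

end Decomp

/-- (KL) for free modules. -/
theorem exists_torsion_of_torsion_free (h : EtGlue.IsGlueingPair R R' f) (ι : Type*) (n : ℕ)
    (φ : R' ⊗[R] (ι →₀ R)) (hφ : f ^ n • φ = 0) :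
    ∃ t : ι →₀ R, f ^ n • t = 0 ∧ (1 : R') ⊗ₜ[R] t = φ := by
  classical
  let e := TensorProduct.finsuppScalarRight R R R' ι
  have hsec : ∀ x' : R', ∃ t : R, (x' = 0 → t = 0) ∧
      (algebraMap R R' f ^ n * x' = 0 → f ^ n * t = 0 ∧ algebraMap R R' t = x') := by
    intro x'
    by_cases h0 : x' = 0
    · exact ⟨0, fun _ => rfl, fun _ => ⟨mul_zero _, by rw [map_zero, h0]⟩⟩
    · by_cases h1 : algebraMap R R' f ^ n * x' = 0
      · obtain ⟨t, ht1, ht2⟩ := torsion_surj h n x' h1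
        exact ⟨t, fun h' => absurd h' h0, fun _ => ⟨ht1, ht2⟩⟩
      · exact ⟨0, fun _ => rfl, fun h' => absurd h' h1⟩
  choose g hg0 hg using hsec
  have ha : ∀ i, algebraMap R R' f ^ n * (e φ) i = 0 := by
    intro i
    have := congrArg (fun a => e a i) hφ
    simp only [map_smul, map_zero, Finsupp.smul_apply, Finsupp.zero_apply] at this
    rw [← map_pow, ← Algebra.smul_def]
    exact this
  refine ⟨(e φ).mapRange g (hg0 0 rfl), ?_, ?_⟩
  · ext i
    simp only [Finsupp.smul_apply, Finsupp.mapRange_apply, Finsupp.zero_apply, smul_eq_mul]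
    exact (hg _ (ha i)).1
  · apply e.injective
    ext i
    rw [TensorProduct.finsuppScalarRight_apply_tmul_apply, Finsupp.mapRange_apply,
      ← Algebra.algebraMap_eq_smul_one]
    exact (hg _ (ha i)).2

/-- (KL): for a glueing pair, the `f`-power torsion of `R' ⊗ M` comes from `M`. -/
theorem exists_torsion_of_torsion (h : EtGlue.IsGlueingPair R R' f) (M : Type*) [AddCommGroup M]
    [Module R M] (n : ℕ) (x : R' ⊗[R] M) (hx : f ^ n • x = 0) :
    ∃ m : M, f ^ n • m = 0 ∧ (1 : R') ⊗ₜ[R] m = x := by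
  have hq := h.1
  let p : (M →₀ R) →ₗ[R] M := Finsupp.linearCombination R id
  have hp : Function.Surjective p := Finsupp.linearCombination_id_surjective R M
  let K := LinearMap.ker p
  have hex : Function.Exact K.subtype p := LinearMap.exact_subtype_ker_map p
  have hex' := lTensor_exact (M := K) (N := M →₀ R) (f := K.subtype) R' hex hp
  obtain ⟨φ, rfl⟩ := LinearMap.lTensor_surjective R' hp x
  have h0 : p.lTensor R' (f ^ n • φ) = 0 := by rw [map_smul, hx]
  obtain ⟨w, hw⟩ := (hex' _).mp h0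
  cases n with
  | zero =>
    refine ⟨0, by simp, ?_⟩
    rw [pow_zero, one_smul] at hx
    rw [hx, tmul_zero]
  | succ n =>
    obtain ⟨k₀, w', rfl⟩ := exists_decomp (P := K) hq n w
    set φ₁ := φ - K.subtype.lTensor R' w' with hφ₁
    have h1 : (1 : R') ⊗ₜ[R] (k₀ : M →₀ R) = f ^ (n + 1) • φ₁ := by
      rw [hφ₁, smul_sub, ← hw, map_add, map_smul, LinearMap.lTensor_tmul, Submodule.subtype_apply]
      abel
    obtain ⟨b, hb⟩ := exists_eq_smul_of_tmul_eq hq (n + 1) (k₀ : M →₀ R) φ₁ h1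
    have h2 : f ^ (n + 1) • (φ₁ - (1 : R') ⊗ₜ[R] b) = 0 := by
      rw [smul_sub, ← h1, hb, ← tmul_smul, sub_self]
    obtain ⟨t, ht0, ht⟩ := exists_torsion_of_torsion_free h M (n + 1) _ h2
    refine ⟨p (b + t), ?_, ?_⟩
    · rw [← map_smul, smul_add, ht0, add_zero, ← hb]
      exact k₀.2
    · have h3 : (1 : R') ⊗ₜ[R] p (b + t) = p.lTensor R' ((1 : R') ⊗ₜ[R] (b + t)) := rfl
      rw [h3, tmul_add, ht, add_sub_cancel, hφ₁, map_sub, sub_eq_self, ← LinearMap.comp_apply,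
        ← LinearMap.lTensor_comp]
      have : p ∘ₗ K.subtype = 0 := by
        ext k
        exact k.2
      rw [this, LinearMap.lTensor_zero, LinearMap.zero_apply]

end Groth.Agent.Lib.Helper14.GluePair
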