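import Mathlib
import Groth.Agent.Lib.Helper14.GlueKL

/-!
# Glueable modules: torsion criterion
-/

open TensorProduct

namespace Groth.Agent.Lib.Helper14.GluePair

universe u

variable {R R' : Type u} [CommRing R] [CommRing R'] [Algebra R R'] {f : R}

section Glueable

variable {M : Type u} [AddCommGroup M] [Module R M]

theorem mk_eq_zero_iff {N : Type*} [AddCommGroup N] [Module R N] (m : N) :
    LocalizedModule.mkLinearMap (Submonoid.powers f) N m = 0 ↔ ∃ n : ℕ, f ^ n • m = 0 := by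
  rw [IsLocalizedModule.eq_zero_iff (Submonoid.powers f)]
  constructor
  · rintro ⟨⟨_, n, rfl⟩, h⟩; exact ⟨n, h⟩
  · rintro ⟨n, h⟩; exact ⟨⟨f ^ n, n, rfl⟩, h⟩

theorem isGlueable_of_torsion (hq : EtGlue.QuotPowBijective R R' f)
    (hinj : ∀ m : M, (∃ n : ℕ, f ^ n • m = 0) → (1 : R') ⊗ₜ[R] m = 0 → m = 0)
    (hsurj : ∀ x : R' ⊗[R] M, (∃ n : ℕ, f ^ n • x = 0) →
      ∃ m : M, (∃ n : ℕ, f ^ n • m = 0) ∧ (1 : R') ⊗ₜ[R] m = x) :
    EtGlue.IsGlueable R R' f M := by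
  refine ⟨?_, ?_⟩
  · intro m m' hmm'
    simp only [Prod.mk.injEq] at hmm'
    have h1 : (1 : R') ⊗ₜ[R] (m - m') = 0 := by rw [tmul_sub, hmm'.1, sub_self]
    have h2 : LocalizedModule.mkLinearMap (Submonoid.powers f) M (m - m') = 0 := by
      rw [map_sub, hmm'.2, sub_self]
    exact sub_eq_zero.mp (hinj _ ((mk_eq_zero_iff _).mp h2) h1)
  · intro x y hxy
    obtain ⟨⟨m₀, s⟩, rfl⟩ := IsLocalizedModule.mk'_surjective (Submonoid.powers f)
      (LocalizedModule.mkLinearMap (Submonoid.powers f) M) y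
    obtain ⟨_, n, rfl⟩ := s
    simp only [Function.uncurry_apply_pair] at hxy ⊢
    rw [IsLocalizedModule.map_mk', eq_comm, IsLocalizedModule.mk'_eq_iff] at hxy
    -- hxy : mk (1 ⊗ m₀) = f^n • mk x
    have h1 : LocalizedModule.mkLinearMap (Submonoid.powers f) (R' ⊗[R] M)
        (f ^ n • x - (1 : R') ⊗ₜ[R] m₀) = 0 := by
      rw [map_sub, map_smul, sub_eq_zero]
      exact hxy.symm
    obtain ⟨t, ht, htx⟩ := hsurj _ ((mk_eq_zero_iff _).mp h1)
    have h2 : (1 : R') ⊗ₜ[R] (m₀ + t) = f ^ n • x := by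
      rw [tmul_add, htx]; abel
    obtain ⟨m₁, hm₁⟩ := exists_eq_smul_of_tmul_eq hq n (m₀ + t) x h2
    have h3 : f ^ n • (x - (1 : R') ⊗ₜ[R] m₁) = 0 := by
      rw [smul_sub, ← h2, hm₁, ← tmul_smul, sub_self]
    obtain ⟨t', ht', ht'x⟩ := hsurj _ ⟨n, h3⟩
    refine ⟨m₁ + t', by rw [tmul_add, ht'x]; abel, ?_⟩
    rw [eq_comm, IsLocalizedModule.mk'_eq_iff, map_add, (mk_eq_zero_iff t').mpr ht', add_zero]
    have h4 : LocalizedModule.mkLinearMap (Submonoid.powers f) M t = 0 := (mk_eq_zero_iff t).mpr ht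
    have h5 : LocalizedModule.mkLinearMap (Submonoid.powers f) M (m₀ + t) =
        f ^ n • LocalizedModule.mkLinearMap (Submonoid.powers f) M m₁ := by
      rw [hm₁, map_smul]
    rw [map_add, h4, add_zero] at h5
    exact h5

theorem torsion_of_isGlueable (hG : EtGlue.IsGlueable R R' f M) :
    (∀ m : M, (∃ n : ℕ, f ^ n • m = 0) → (1 : R') ⊗ₜ[R] m = 0 → m = 0) ∧
    (∀ x : R' ⊗[R] M, (∃ n : ℕ, f ^ n • x = 0) →
      ∃ m : M, (∃ n : ℕ, f ^ n • m = 0) ∧ (1 : R') ⊗ₜ[R] m = x) := by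
  refine ⟨fun m hm h0 => ?_, fun x hx => ?_⟩
  · apply hG.1
    simp only [Prod.mk.injEq, tmul_zero, map_zero]
    exact ⟨h0, (mk_eq_zero_iff m).mpr hm⟩
  · obtain ⟨m, hm1, hm2⟩ := hG.2 x 0 (by
      rw [map_zero]
      exact (mk_eq_zero_iff x).mpr hx)
    exact ⟨m, (mk_eq_zero_iff m).mp hm2, hm1⟩

theorem isGlueable_iff_of_isGlueingPair (h : EtGlue.IsGlueingPair R R' f) :
    EtGlue.IsGlueable R R' f M ↔
      ∀ m : M, (∃ n : ℕ, f ^ n • m = 0) → (1 : R') ⊗ₜ[R] m = 0 → m = 0 := by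
  constructor
  · intro hG; exact (torsion_of_isGlueable hG).1
  · intro hinj
    refine isGlueable_of_torsion h.1 hinj fun x ⟨n, hx⟩ => ?_
    obtain ⟨m, hm, hmx⟩ := exists_torsion_of_torsion h M n x hx
    exact ⟨m, ⟨n, hm⟩, hmx⟩

end Glueable

end Groth.Agent.Lib.Helper14.GluePair
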