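import Mathlib
import Groth.Agent.Lib.Helper14.GlueCrit

/-!
# Beauville–Laszlo glueing of modules along a glueing pair (essential surjectivity)
-/

open TensorProduct

namespace Groth.Agent.Lib.Helper14.GlueBL

open Groth.Agent.Lib.Helper14.GluePair

universe u

variable {R R' : Type u} [CommRing R] [CommRing R'] [Algebra R R'] {f : R}
  {M' : Type u} [AddCommGroup M'] [Module R' M'] [Module R M'] [IsScalarTower R R' M']
  {M₁ : Type u} [AddCommGroup M₁] [Module R M₁]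
  (A : M' →ₗ[R'] R' ⊗[R] M₁)

/-- The fibre product `M' ×_{R' ⊗ M₁} M₁`. -/
def fib : Submodule R (M' × M₁) :=
  LinearMap.ker ((A.restrictScalars R) ∘ₗ LinearMap.fst R M' M₁ -
    (TensorProduct.mk R R' M₁ 1) ∘ₗ LinearMap.snd R M' M₁)

theorem mem_fib {x : M' × M₁} : x ∈ fib A ↔ A x.1 = (1 : R') ⊗ₜ[R] x.2 := by
  simp [fib, LinearMap.mem_ker, sub_eq_zero]

/-- First projection. -/
def pr₁ : fib A →ₗ[R] M' := LinearMap.fst R M' M₁ ∘ₗ (fib A).subtype

/-- Second projection. -/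
def pr₂ : fib A →ₗ[R] M₁ := LinearMap.snd R M' M₁ ∘ₗ (fib A).subtype

theorem A_pr₁ (m : fib A) : A (pr₁ A m) = (1 : R') ⊗ₜ[R] pr₂ A m := (mem_fib A).mp m.2

theorem fib_ext {x y : fib A} (h1 : pr₁ A x = pr₁ A y) (h2 : pr₂ A x = pr₂ A y) : x = y :=
  Subtype.ext (Prod.ext h1 h2)

/-- The comparison map `R' ⊗ M → M'`. -/
noncomputable def π : R' ⊗[R] fib A →ₗ[R'] M' := (pr₁ A).liftBaseChange R'

theorem π_tmul (r' : R') (m : fib A) : π A (r' ⊗ₜ m) = r' • pr₁ A m := rfl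

theorem A_π (z : R' ⊗[R] fib A) : A (π A z) = (pr₂ A).lTensor R' z := by
  induction z with
  | zero => simp
  | add x y hx hy => rw [map_add, map_add, map_add, hx, hy]
  | tmul r' m =>
    rw [π_tmul, map_smul, A_pr₁, LinearMap.lTensor_tmul, smul_tmul', smul_eq_mul, mul_one]

section

variable (hA1 : ∀ m' : M', A m' = 0 → ∃ n : ℕ, f ^ n • m' = 0)
  (hA2 : ∀ y : R' ⊗[R] M₁, ∃ (n : ℕ) (m' : M'), f ^ n • y = A m')
  (hf : Function.Bijective fun x : M₁ => f • x)

include hf in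
theorem pow_smul_inj (n : ℕ) (m₁ : M₁) (h : f ^ n • m₁ = 0) : m₁ = 0 := by
  induction n with
  | zero => simpa using h
  | succ n ih =>
    apply ih
    apply hf.1
    simp only [smul_zero]
    rw [← mul_smul, ← pow_succ']
    exact h

include hf in
theorem smul_tensor_inj (y : R' ⊗[R] M₁) (h : f • y = 0) : y = 0 := by
  let E : M₁ ≃ₗ[R] M₁ := LinearEquiv.ofBijective (LinearMap.lsmul R M₁ f) hf
  have hE : ∀ y : R' ⊗[R] M₁, (E.lTensor R') y = f • y := by
    intro y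
    induction y with
    | zero => simp
    | add x y hx hy => rw [map_add, hx, hy, smul_add]
    | tmul r' m =>
      rw [LinearEquiv.lTensor_tmul]
      change r' ⊗ₜ[R] (f • m) = _
      rw [tmul_smul]
  apply (E.lTensor R').injective
  rw [hE, h, map_zero]

include hA1 hA2 hf in
theorem isLocalizedModule_pr₂ : IsLocalizedModule (Submonoid.powers f) (pr₂ A) where
  map_units := by
    rintro ⟨_, n, rfl⟩
    rw [map_pow]
    apply IsUnit.pow
    rw [Module.End.isUnit_iff]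
    exact hf
  surj := by
    intro y
    obtain ⟨n, m', h⟩ := hA2 ((1 : R') ⊗ₜ[R] y)
    refine ⟨(⟨(m', f ^ n • y), (mem_fib A).mpr (by rw [← h, tmul_smul])⟩, ⟨f ^ n, n, rfl⟩), rfl⟩
  exists_of_eq := by
    intro x₁ x₂ h
    have h0 : A (pr₁ A (x₁ - x₂)) = 0 := by
      rw [A_pr₁, map_sub, h, sub_self, tmul_zero]
    obtain ⟨n, hn⟩ := hA1 _ h0
    refine ⟨⟨f ^ n, n, rfl⟩, ?_⟩
    simp only [Submonoid.smul_def]
    rw [← sub_eq_zero, ← smul_sub]
    apply fib_ext
    · rw [map_zero]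
      change pr₁ A (f ^ n • (x₁ - x₂)) = 0
      rw [map_smul, hn]
    · rw [map_zero]
      change pr₂ A (f ^ n • (x₁ - x₂)) = 0
      rw [map_smul, map_sub, h, sub_self, smul_zero]

include hA1 hA2 hf in
theorem torsion_of_lTensor_eq_zero (z : R' ⊗[R] fib A) (h : (pr₂ A).lTensor R' z = 0) :
    ∃ n : ℕ, f ^ n • z = 0 := by
  haveI := isLocalizedModule_pr₂ A hA1 hA2 hf
  have hloc : IsLocalizedModule (Submonoid.powers f)
      (AlgebraTensorModule.rTensor R R' (pr₂ A)) := inferInstance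
  have hcomm : ∀ z : R' ⊗[R] fib A,
      AlgebraTensorModule.rTensor R R' (pr₂ A) (TensorProduct.comm R R' (fib A) z) =
        TensorProduct.comm R R' M₁ ((pr₂ A).lTensor R' z) := by
    intro z
    induction z with
    | zero => simp
    | add x y hx hy => simp only [map_add, hx, hy]
    | tmul r' m => simp
  have h0 : AlgebraTensorModule.rTensor R R' (pr₂ A) (TensorProduct.comm R R' (fib A) z) = 0 := by
    rw [hcomm, h, map_zero]
  obtain ⟨⟨_, n, rfl⟩, hn⟩ := (IsLocalizedModule.eq_zero_iff (Submonoid.powers f) _).mp h0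
  refine ⟨n, ?_⟩
  apply (TensorProduct.comm R R' (fib A)).injective
  rw [map_smul, map_zero]
  exact hn

include hA2 in
theorem exists_lTensor_eq (y : R' ⊗[R] M₁) :
    ∃ (n : ℕ) (z : R' ⊗[R] fib A), f ^ n • y = (pr₂ A).lTensor R' z := by
  induction y with
  | zero => exact ⟨0, 0, by simp⟩
  | add y₁ y₂ h₁ h₂ =>
    obtain ⟨n₁, z₁, h₁⟩ := h₁
    obtain ⟨n₂, z₂, h₂⟩ := h₂
    refine ⟨n₁ + n₂, f ^ n₂ • z₁ + f ^ n₁ • z₂, ?_⟩
    rw [smul_add, map_add, map_smul, map_smul, ← h₁, ← h₂, smul_smul, smul_smul, ← pow_add,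
      ← pow_add, add_comm n₂ n₁]
  | tmul r' m =>
    obtain ⟨n, m', h⟩ := hA2 ((1 : R') ⊗ₜ[R] m)
    obtain ⟨μ, hμ⟩ : ∃ μ : fib A, pr₂ A μ = f ^ n • m :=
      ⟨⟨(m', f ^ n • m), (mem_fib A).mpr (by rw [← h, tmul_smul])⟩, rfl⟩
    refine ⟨n, r' ⊗ₜ μ, ?_⟩
    rw [LinearMap.lTensor_tmul, hμ, tmul_smul]

include hA1 hA2 hf in
theorem π_injective (h : EtGlue.IsGlueingPair R R' f) : Function.Injective (π A) := by
  rw [injective_iff_map_eq_zero]
  intro z hz
  have h0 : (pr₂ A).lTensor R' z = 0 := by rw [← A_π, hz, map_zero]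
  obtain ⟨n, hn⟩ := torsion_of_lTensor_eq_zero A hA1 hA2 hf z h0
  obtain ⟨t, ht, rfl⟩ := exists_torsion_of_torsion h (fib A) n z hn
  have h1 : pr₁ A t = 0 := by
    have : π A ((1 : R') ⊗ₜ[R] t) = pr₁ A t := by rw [π_tmul, one_smul]
    rw [← this, hz]
  have h2 : pr₂ A t = 0 := by
    apply pow_smul_inj hf n
    rw [← map_smul, ht, map_zero]
  have : t = 0 := fib_ext A (by rw [h1, map_zero]) (by rw [h2, map_zero])
  rw [this, tmul_zero]

include hA1 hA2 in
theorem exists_pow_smul_mem_range (m' : M') : ∃ n : ℕ, f ^ n • m' ∈ LinearMap.range (π A) := by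
  obtain ⟨n, z, hz⟩ := exists_lTensor_eq A hA2 (A m')
  have h0 : A (f ^ n • m' - π A z) = 0 := by
    rw [map_sub, A_π, ← hz, sub_eq_zero]
    rw [← algebraMap_smul R' (f ^ n) m', map_smul, algebraMap_smul]
  obtain ⟨k, hk⟩ := hA1 _ h0
  refine ⟨k + n, (f ^ k • z), ?_⟩
  rw [smul_sub, sub_eq_zero] at hk
  rw [pow_add, mul_smul, hk, ← algebraMap_smul R' (f ^ k) z, map_smul, algebraMap_smul]

include hA1 hf in
theorem mem_range_of_smul_mem (hq : EtGlue.QuotPowBijective R R' f) (m' : M')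
    (h : f • m' ∈ LinearMap.range (π A)) : m' ∈ LinearMap.range (π A) := by
  obtain ⟨z, hz⟩ := h
  obtain ⟨μ, z'', rfl⟩ := exists_decomp (P := fib A) hq 0 z
  rw [zero_add, pow_one] at hz
  have hz' : pr₁ A μ = f • (m' - π A z'') := by
    rw [map_add, π_tmul, one_smul, ← algebraMap_smul R' f z'', map_smul, algebraMap_smul] at hz
    rw [smul_sub, ← hz]; abel
  -- divide `μ` by `f`
  obtain ⟨ν, hν⟩ := hf.2 (pr₂ A μ)
  simp only at hν
  have hmem : ((m' - π A z''), ν) ∈ fib A := by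
    rw [mem_fib]
    simp only
    rw [← sub_eq_zero]
    apply smul_tensor_inj hf
    rw [smul_sub, ← tmul_smul, hν, ← A_pr₁, hz', sub_eq_zero]
    rw [← algebraMap_smul R' f (m' - π A z''), map_smul, algebraMap_smul]
  set μ' : fib A := ⟨_, hmem⟩ with hμ'
  have hμ : μ = f • μ' := by
    apply fib_ext
    · rw [map_smul, hz']; rfl
    · rw [map_smul, ← hν]; rfl
  -- now `f • (m' - π (1 ⊗ μ' + z'')) = 0`
  set z₂ : R' ⊗[R] fib A := (1 : R') ⊗ₜ[R] μ' + z'' with hz₂
  have h3 : f • (m' - π A z₂) = 0 := by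
    rw [smul_sub, ← hz, hz₂, hμ, map_add, map_add, π_tmul, π_tmul, one_smul, one_smul, map_smul,
      ← algebraMap_smul R' f z'', map_smul, algebraMap_smul, smul_add, sub_self]
  have h4 : A (m' - π A z₂) = 0 := by
    apply smul_tensor_inj hf
    rw [← algebraMap_smul R' f, ← map_smul, algebraMap_smul, h3, map_zero]
  have hmem' : ((m' - π A z₂), (0 : M₁)) ∈ fib A := by
    rw [mem_fib]
    simp only
    rw [h4, tmul_zero]
  refine ⟨(1 : R') ⊗ₜ[R] (⟨_, hmem'⟩ : fib A) + z₂, ?_⟩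
  rw [map_add, π_tmul, one_smul]
  change (m' - π A z₂) + π A z₂ = m'
  abel

include hA1 hA2 hf in
theorem π_surjective (hq : EtGlue.QuotPowBijective R R' f) : Function.Surjective (π A) := by
  intro m'
  obtain ⟨n, hn⟩ := exists_pow_smul_mem_range A hA1 hA2 m'
  induction n with
  | zero => simpa using hn
  | succ n ih =>
    apply ih
    apply mem_range_of_smul_mem A hA1 hf hq
    rw [← mul_smul, ← pow_succ']
    exact hn

include hA1 hA2 hf in
theorem isGlueable_fib (h : EtGlue.IsGlueingPair R R' f) : EtGlue.IsGlueable R R' f (fib A) := by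
  rw [isGlueable_iff_of_isGlueingPair h]
  rintro m ⟨n, hn⟩ hm
  apply fib_ext
  · rw [map_zero]
    have : π A ((1 : R') ⊗ₜ[R] m) = pr₁ A m := by rw [π_tmul, one_smul]
    rw [← this, hm, map_zero]
  · rw [map_zero]
    apply pow_smul_inj hf n
    rw [← map_smul, hn, map_zero]

end

end Groth.Agent.Lib.Helper14.GlueBL
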