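import Mathlib
import Groth.Agent.Lib.Helper14.GlueBL

/-!
# Beauville–Laszlo glueing: abstract fibre products
-/

open TensorProduct

namespace Groth.Agent.Lib.Helper14.GlueBL

open Groth.Agent.Lib.Helper14.GluePair

universe u

variable {R R' : Type u} [CommRing R] [CommRing R'] [Algebra R R'] {f : R}
  {M' : Type u} [AddCommGroup M'] [Module R' M'] [Module R M'] [IsScalarTower R R' M']
  {M₁ : Type u} [AddCommGroup M₁] [Module R M₁]
  (A : M' →ₗ[R'] R' ⊗[R] M₁)
  {M : Type u} [AddCommGroup M] [Module R M] (p₁ : M →ₗ[R] M') (p₂ : M →ₗ[R] M₁)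
  (hcompat : ∀ m, A (p₁ m) = (1 : R') ⊗ₜ[R] p₂ m)
  (hext : ∀ m, p₁ m = 0 → p₂ m = 0 → m = 0)
  (hex : ∀ m' m₁, A m' = (1 : R') ⊗ₜ[R] m₁ → ∃ m, p₁ m = m' ∧ p₂ m = m₁)

/-- The comparison with the concrete fibre product. -/
noncomputable def toFib : M ≃ₗ[R] fib A :=
  LinearEquiv.ofBijective
    { toFun := fun m => ⟨(p₁ m, p₂ m), (mem_fib A).mpr (hcompat m)⟩
      map_add' := fun x y => Subtype.ext (Prod.ext (map_add _ _ _) (map_add _ _ _))
      map_smul' := fun r x => Subtype.ext (Prod.ext (map_smul _ _ _) (map_smul _ _ _)) }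
    ⟨by
      intro x y h
      have h1 : p₁ x = p₁ y := congrArg (fun z : fib A => z.1.1) h
      have h2 : p₂ x = p₂ y := congrArg (fun z : fib A => z.1.2) h
      have := hext (x - y) (by rw [map_sub, h1, sub_self]) (by rw [map_sub, h2, sub_self])
      exact sub_eq_zero.mp this, by
      rintro ⟨⟨m', m₁⟩, hm⟩
      obtain ⟨m, h1, h2⟩ := hex m' m₁ ((mem_fib A).mp hm)
      exact ⟨m, Subtype.ext (Prod.ext h1 h2)⟩⟩

theorem pr₁_toFib (m : M) : pr₁ A (toFib A p₁ p₂ hcompat hext hex m) = p₁ m := rfl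

theorem pr₂_toFib (m : M) : pr₂ A (toFib A p₁ p₂ hcompat hext hex m) = p₂ m := rfl

theorem liftBaseChange_eq (z : R' ⊗[R] M) :
    p₁.liftBaseChange R' z = π A ((toFib A p₁ p₂ hcompat hext hex).lTensor R' z) := by
  induction z with
  | zero => simp
  | add x y hx hy => rw [map_add, map_add, map_add, hx, hy]
  | tmul r' m => rfl

section

variable (hA1 : ∀ m' : M', A m' = 0 → ∃ n : ℕ, f ^ n • m' = 0)
  (hA2 : ∀ y : R' ⊗[R] M₁, ∃ (n : ℕ) (m' : M'), f ^ n • y = A m')
  (hf : Function.Bijective fun x : M₁ => f • x)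

include hcompat hext hex hA1 hA2 hf in
theorem liftBaseChange_bijective (h : EtGlue.IsGlueingPair R R' f) :
    Function.Bijective (p₁.liftBaseChange R') := by
  have h1 : ⇑(p₁.liftBaseChange R') =
      ⇑(π A) ∘ ⇑((toFib A p₁ p₂ hcompat hext hex).lTensor R') := by
    funext z
    exact liftBaseChange_eq A p₁ p₂ hcompat hext hex z
  rw [h1]
  exact Function.Bijective.comp ⟨π_injective A hA1 hA2 hf h, π_surjective A hA1 hA2 hf h.1⟩
    (LinearEquiv.bijective _)

include hcompat hext hex hA1 hA2 hf in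
theorem isLocalizedModule_p₂ : IsLocalizedModule (Submonoid.powers f) p₂ := by
  haveI := isLocalizedModule_pr₂ A hA1 hA2 hf
  have : p₂ = pr₂ A ∘ₗ (toFib A p₁ p₂ hcompat hext hex).toLinearMap := rfl
  rw [this]
  infer_instance

include hcompat hext hf in
theorem isGlueable_of_fibData (h : EtGlue.IsGlueingPair R R' f) : EtGlue.IsGlueable R R' f M := by
  rw [isGlueable_iff_of_isGlueingPair h]
  rintro m ⟨n, hn⟩ hm
  apply hext
  · have : p₁.liftBaseChange R' ((1 : R') ⊗ₜ[R] m) = p₁ m := by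
      rw [LinearMap.liftBaseChange_tmul, one_smul]
    rw [← this, hm, map_zero]
  · apply pow_smul_inj hf n
    rw [← map_smul, hn, map_zero]

end

end Groth.Agent.Lib.Helper14.GlueBL
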