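import Mathlib
import Groth.Agent.Lib.Helper14.GlueBL2

/-!
# Beauville–Laszlo glueing of algebras
-/

open TensorProduct

namespace Groth.Agent.Lib.Helper14.GlueBL

universe u

theorem exists_glueable_algebra (R : Type u) [CommRing R] (R' : Type u) [CommRing R'] [Algebra R R']
    (f : R) (hRR' : EtGlue.IsGlueingPair R R' f) (A₁ : Type u) [CommRing A₁] [Algebra R A₁]
    (h₁ : IsUnit (algebraMap R A₁ f)) (A' : Type u) [CommRing A'] [Algebra R A'] [Algebra R' A']
    [IsScalarTower R R' A'] (φ : Localization.Away (algebraMap R A' f) ≃ₐ[R'] R' ⊗[R] A₁) :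
    ∃ (A : Type u) (_ : CommRing A) (_ : Algebra R A) (_ : EtGlue.IsGlueable R R' f A)
      (e₁ : Localization.Away (algebraMap R A f) ≃ₐ[R] A₁) (e' : R' ⊗[R] A ≃ₐ[R'] A'),
      ∀ a : A, φ (algebraMap A' (Localization.Away (algebraMap R A' f)) (e' ((1 : R') ⊗ₜ[R] a))) =
        (1 : R') ⊗ₜ[R] e₁ (algebraMap A (Localization.Away (algebraMap R A f)) a) := by
  let L := Localization.Away (algebraMap R A' f)
  let g₁ : A' × A₁ →ₐ[R] R' ⊗[R] A₁ :=
    ((φ : L →ₐ[R'] R' ⊗[R] A₁).restrictScalars R).comp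
      ((IsScalarTower.toAlgHom R A' L).comp (AlgHom.fst R A' A₁))
  let g₂ : A' × A₁ →ₐ[R] R' ⊗[R] A₁ :=
    Algebra.TensorProduct.includeRight.comp (AlgHom.snd R A' A₁)
  let E : Subalgebra R (A' × A₁) := AlgHom.equalizer g₁ g₂
  let p₁ : E →ₐ[R] A' := (AlgHom.fst R A' A₁).comp E.val
  let p₂ : E →ₐ[R] A₁ := (AlgHom.snd R A' A₁).comp E.val
  let A : A' →ₗ[R'] R' ⊗[R] A₁ :=
    φ.toLinearMap ∘ₗ (IsScalarTower.toAlgHom R' A' L).toLinearMap
  have hA : ∀ a', A a' = φ (algebraMap A' L a') := fun _ => rfl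
  have hcompat : ∀ e : E, A (p₁ e) = (1 : R') ⊗ₜ[R] p₂ e := fun e => e.2
  have hext : ∀ e : E, p₁ e = 0 → p₂ e = 0 → e = 0 :=
    fun e h1 h2 => Subtype.ext (Prod.ext h1 h2)
  have hex : ∀ (m' : A') (m₁ : A₁), A m' = (1 : R') ⊗ₜ[R] m₁ → ∃ e : E, p₁ e = m' ∧ p₂ e = m₁ :=
    fun m' m₁ h => ⟨⟨(m', m₁), h⟩, rfl, rfl⟩
  have hA1 : ∀ m' : A', A m' = 0 → ∃ n : ℕ, f ^ n • m' = 0 := by
    intro m' h
    have h0 : algebraMap A' L m' = 0 := φ.injective (by rw [map_zero]; exact h)
    obtain ⟨⟨_, n, rfl⟩, hn⟩ :=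
      (IsLocalization.map_eq_zero_iff (Submonoid.powers (algebraMap R A' f)) L m').mp h0
    refine ⟨n, ?_⟩
    rw [Algebra.smul_def, map_pow]
    exact hn
  have hA2 : ∀ y : R' ⊗[R] A₁, ∃ (n : ℕ) (m' : A'), f ^ n • y = A m' := by
    intro y
    obtain ⟨⟨m', ⟨_, n, rfl⟩⟩, h⟩ :=
      IsLocalization.surj (Submonoid.powers (algebraMap R A' f)) (φ.symm y)
    refine ⟨n, m', ?_⟩
    rw [hA, ← h, map_mul, φ.apply_symm_apply]
    simp only
    have hφ : ∀ r : R, φ (algebraMap A' L (algebraMap R A' r)) = algebraMap R (R' ⊗[R] A₁) r := by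
      intro r
      rw [← IsScalarTower.algebraMap_apply R A' L, IsScalarTower.algebraMap_apply R R' L,
        φ.commutes, ← IsScalarTower.algebraMap_apply R R' (R' ⊗[R] A₁)]
    rw [← map_pow, hφ, Algebra.smul_def, mul_comm]
  have hf : Function.Bijective fun x : A₁ => f • x := by
    have : (fun x : A₁ => f • x) = fun x => algebraMap R A₁ f * x := by
      funext x; exact Algebra.smul_def f x
    rw [this]
    exact ⟨h₁.mul_right_injective, fun y => ⟨↑(h₁.unit⁻¹) * y, by
      simp only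
      rw [← mul_assoc, IsUnit.mul_val_inv, one_mul]⟩⟩
  have hbij := liftBaseChange_bijective A p₁.toLinearMap p₂.toLinearMap hcompat hext hex
    hA1 hA2 hf hRR'
  have hloc := isLocalizedModule_p₂ A p₁.toLinearMap p₂.toLinearMap hcompat hext hex hA1 hA2 hf
  have hglue : EtGlue.IsGlueable R R' f E :=
    isGlueable_of_fibData A p₁.toLinearMap p₂.toLinearMap hcompat hext hf hRR'
  -- the algebra structure of `A₁` over `E`
  letI algE : Algebra E A₁ := p₂.toRingHom.toAlgebra
  haveI : IsScalarTower R E A₁ := IsScalarTower.of_algebraMap_eq' p₂.comp_algebraMap.symm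
  have hloc' : IsLocalization (Algebra.algebraMapSubmonoid E (Submonoid.powers f)) A₁ := by
    rw [← isLocalizedModule_iff_isLocalization]
    exact hloc
  have hpow : Algebra.algebraMapSubmonoid E (Submonoid.powers f) =
      Submonoid.powers (algebraMap R E f) := Submonoid.map_powers _ _
  rw [hpow] at hloc'
  haveI : IsLocalization.Away (algebraMap R E f) A₁ := hloc'
  let e₁ : Localization.Away (algebraMap R E f) ≃ₐ[R] A₁ :=
    (IsLocalization.algEquiv (Submonoid.powers (algebraMap R E f))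
      (Localization.Away (algebraMap R E f)) A₁).restrictScalars R
  let ψ : R' ⊗[R] E →ₐ[R'] A' :=
    Algebra.TensorProduct.lift (Algebra.ofId R' A') p₁ (fun _ _ => Commute.all _ _)
  have hψ : ∀ z, ψ z = p₁.toLinearMap.liftBaseChange R' z := by
    intro z
    induction z with
    | zero => simp
    | add x y hx hy => rw [map_add, map_add, hx, hy]
    | tmul r' e =>
      rw [LinearMap.liftBaseChange_tmul]
      simp [ψ, Algebra.smul_def]
  have hψbij : Function.Bijective ψ := by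
    have : ⇑ψ = ⇑(p₁.toLinearMap.liftBaseChange R') := funext hψ
    rw [this]; exact hbij
  refine ⟨E, inferInstance, inferInstance, hglue, e₁, AlgEquiv.ofBijective ψ hψbij, ?_⟩
  intro a
  have h1 : (AlgEquiv.ofBijective ψ hψbij) ((1 : R') ⊗ₜ[R] a) = p₁ a := by
    rw [AlgEquiv.ofBijective_apply, hψ, LinearMap.liftBaseChange_tmul, one_smul]
    rfl
  have h2 : e₁ (algebraMap E (Localization.Away (algebraMap R E f)) a) = p₂ a := by
    change (IsLocalization.algEquiv (Submonoid.powers (algebraMap R E f))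
      (Localization.Away (algebraMap R E f)) A₁) (algebraMap E _ a) = _
    rw [AlgEquiv.commutes]
    rfl
  rw [h1, h2]
  exact hcompat a

end Groth.Agent.Lib.Helper14.GlueBL
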