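import Mathlib
import Groth.Agent.Lib.Helper14.GlueKL
import Groth.Agent.Lib.Helper14.TorKer

/-!
# Glueing pairs: `Tor_n^R(R', T) = 0` for `f`-power torsion `T` (helper14)
-/

open TensorProduct CategoryTheory

namespace Groth.Agent.Lib.Helper14.GluePair

open Groth.Agent.Lib.Helper7 Groth.Agent.Lib.Helper14.TorKer

universe u

section general

variable {R : Type u} [CommRing R] (f : R)

/-- `f`-power torsion modules: every element is killed by a power of `f`. -/
def IsTors (N : Type*) [AddCommGroup N] [Module R N] : Prop :=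
  ∀ y : N, ∃ n : ℕ, f ^ n • y = 0

variable {f}

theorem IsTors.tensor_left {N : Type*} [AddCommGroup N] [Module R N] (hN : IsTors f N)
    (X : Type*) [AddCommGroup X] [Module R X] : IsTors f (N ⊗[R] X) := by
  intro z
  induction z with
  | zero => exact ⟨0, smul_zero _⟩
  | add x y hx hy =>
    obtain ⟨n, hn⟩ := hx
    obtain ⟨m, hm⟩ := hy
    refine ⟨n + m, ?_⟩
    rw [smul_add, pow_add, mul_smul, mul_smul, hm, smul_zero, smul_comm, hn, smul_zero, add_zero]
  | tmul a b =>
    obtain ⟨n, hn⟩ := hN a
    exact ⟨n, by rw [smul_tmul', hn, zero_tmul]⟩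

theorem IsTors.tensor_right {N : Type*} [AddCommGroup N] [Module R N] (hN : IsTors f N)
    (X : Type*) [AddCommGroup X] [Module R X] : IsTors f (X ⊗[R] N) := by
  intro z
  induction z with
  | zero => exact ⟨0, smul_zero _⟩
  | add x y hx hy =>
    obtain ⟨n, hn⟩ := hx
    obtain ⟨m, hm⟩ := hy
    refine ⟨n + m, ?_⟩
    rw [smul_add, pow_add, mul_smul, mul_smul, hm, smul_zero, smul_comm, hn, smul_zero, add_zero]
  | tmul a b =>
    obtain ⟨n, hn⟩ := hN b
    exact ⟨n, by rw [smul_tmul', smul_tmul, hn, tmul_zero]⟩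

theorem IsTors.of_injective {N N' : Type*} [AddCommGroup N] [Module R N] [AddCommGroup N']
    [Module R N'] (hN : IsTors f N') (g : N →ₗ[R] N') (hg : Function.Injective g) :
    IsTors f N := by
  intro y
  obtain ⟨n, hn⟩ := hN (g y)
  exact ⟨n, hg (by rw [map_smul, hn, map_zero])⟩

theorem IsTors.of_surjective {N N' : Type*} [AddCommGroup N] [Module R N] [AddCommGroup N']
    [Module R N'] (hN : IsTors f N) (g : N →ₗ[R] N') (hg : Function.Surjective g) :
    IsTors f N' := by
  intro y
  obtain ⟨x, rfl⟩ := hg y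
  obtain ⟨n, hn⟩ := hN x
  exact ⟨n, by rw [← map_smul, hn, map_zero]⟩

theorem cls_of_eq_zero {ι : Type} {c : ComplexShape ι}
    (K : HomologicalComplex (ModuleCat.{u} R) c) (i : ι) (x : K.X i)
    (hx : (K.d i (c.next i)).hom x = 0) (h : x = 0) : cls K i x hx = 0 := by
  subst h
  exact (cls_eq_zero_iff K i 0 hx).mpr ⟨0, map_zero _⟩

/-- `Tor_n(M, N)` is `f`-power torsion when `N` is. -/
theorem IsTors.tor (M N : Type u) [AddCommGroup M] [Module R M] [AddCommGroup N] [Module R N]
    (hN : IsTors f N) (n : ℕ) : IsTors f (DRing.Tor R n M N) := by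
  let P := ProjectiveResolution.of (ModuleCat.of R M)
  have hP := FlatRes.ofProjectiveResolution P
  obtain ⟨e⟩ := nonempty_Tor_equiv_T_of_flatRes hP (ModuleCat.of R N) n
  refine IsTors.of_injective ?_ e.toLinearMap e.injective
  intro h
  obtain ⟨x, hx, rfl⟩ := clsT_surjective P.complex n (ModuleCat.of R N) h
  obtain ⟨k, hk⟩ := hN.tensor_right (P.complex.X n) x
  refine ⟨k, ?_⟩
  refine (cls_smul (CohIII.tensorObj P.complex (ModuleCat.of R N)) n (f ^ k) x _).symm.trans ?_
  exact cls_of_eq_zero _ _ _ _ hk

end general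

variable {R R' : Type u} [CommRing R] [CommRing R'] [Algebra R R'] {f : R}

/-- In a flat module, an `f`-power torsion element dying in `R' ⊗ F` is zero. -/
theorem eq_zero_of_flat (h : EtGlue.IsGlueingPair R R' f) {F : Type*} [AddCommGroup F]
    [Module R F] [Module.Flat R F] (y : F) (n : ℕ) (hy : f ^ n • y = 0)
    (h0 : (1 : R') ⊗ₜ[R] y = 0) : y = 0 := by
  let j : R →ₗ[R] R' × Localization.Away f :=
    LinearMap.prod (Algebra.linearMap R R') (Algebra.linearMap R (Localization.Away f))
  have hj : Function.Injective j := h.2.1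
  have hinj := Module.Flat.lTensor_preserves_injective_linearMap (M := F) j hj
  have h1 : y ⊗ₜ[R] (1 : R) = 0 := by
    apply hinj
    rw [map_zero, LinearMap.lTensor_tmul]
    have hj1 : j 1 = ((1 : R'), (0 : Localization.Away f)) +
        f ^ n • ((0 : R'), (Localization.mk 1 ⟨f ^ n, n, rfl⟩ : Localization.Away f)) := by
      ext
      · simp [j]
      · show algebraMap R (Localization.Away f) 1 = _
        simp only [map_one, Prod.snd_add, Prod.smul_snd, zero_add, Localization.smul_mk,
          smul_eq_mul, mul_one]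
        exact (Localization.mk_self (⟨f ^ n, n, rfl⟩ : Submonoid.powers f)).symm
    rw [hj1, tmul_add, tmul_smul, smul_tmul', hy, zero_tmul, add_zero]
    have h2 : y ⊗ₜ[R] ((1 : R'), (0 : Localization.Away f)) =
        LinearMap.lTensor F (LinearMap.inl R R' (Localization.Away f)) (y ⊗ₜ[R] (1 : R')) := by
      rw [LinearMap.lTensor_tmul, LinearMap.inl_apply]
    rw [h2]
    have h3 : y ⊗ₜ[R] (1 : R') = 0 := by
      have := congrArg (TensorProduct.comm R R' F) h0
      simpa using this
    rw [h3, map_zero]
  have := congrArg (TensorProduct.rid R F) h1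
  simpa using this

/-- Lemma A: for `K ↪ F` with `F` flat, if the kernel of `R' ⊗ K → R' ⊗ F` consists of
`f`-power torsion elements then it vanishes. -/
theorem lTensor_injective_of_ker_torsion (h : EtGlue.IsGlueingPair R R' f) {K F : Type*}
    [AddCommGroup K] [Module R K] [AddCommGroup F] [Module R F] [Module.Flat R F]
    (i : K →ₗ[R] F) (hi : Function.Injective i)
    (hker : ∀ x : R' ⊗[R] K, LinearMap.lTensor R' i x = 0 → ∃ n : ℕ, f ^ n • x = 0) :
    Function.Injective (LinearMap.lTensor R' i) := by
  rw [injective_iff_map_eq_zero]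
  intro x hx
  obtain ⟨n, hn⟩ := hker x hx
  obtain ⟨k, hk, rfl⟩ := exists_torsion_of_torsion h K n x hn
  rw [LinearMap.lTensor_tmul] at hx
  have : i k = 0 := eq_zero_of_flat h (i k) n (by rw [← map_smul, hk, map_zero]) hx
  rw [hi (this.trans (map_zero i).symm), tmul_zero]

/-- If `Tor_1(R', N)` is `f`-power torsion, it vanishes. -/
theorem tor_one_subsingleton_of_isTors (h : EtGlue.IsGlueingPair R R' f) (N : Type u)
    [AddCommGroup N] [Module R N] (hT : IsTors f (DRing.Tor R 1 R' N)) :
    Subsingleton (DRing.Tor R 1 R' N) := by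
  let p : (N →₀ R) →ₗ[R] N := Finsupp.linearCombination R id
  have hp : Function.Surjective p := Finsupp.linearCombination_id_surjective R N
  let K := LinearMap.ker p
  have hex : Function.Exact K.subtype p := LinearMap.exact_subtype_ker_map p
  obtain ⟨e⟩ := nonempty_tor_one_equiv_ker (A := R) (K := K) (F := N →₀ R) (N := N) R' K.subtype p hex
    K.subtype_injective hp
  rw [tor_one_subsingleton_iff (A := R) (K := K) (F := N →₀ R) (N := N) R' K.subtype p hex
    K.subtype_injective hp]
  apply lTensor_injective_of_ker_torsion (K := K) (F := N →₀ R) h K.subtype K.subtype_injective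
  intro x hx
  obtain ⟨n, hn⟩ := hT (e.symm ⟨x, hx⟩)
  refine ⟨n, ?_⟩
  rw [← map_smul] at hn
  have := congrArg (fun z => (e z : R' ⊗[R] K)) hn
  simpa using this

/-- presentation by the free module on the underlying set. -/
theorem tor_succ_subsingleton_of_isTors (h : EtGlue.IsGlueingPair R R' f) :
    ∀ (n : ℕ) (N : Type u) [AddCommGroup N] [Module R N],
      (∀ m : ℕ, IsTors f (DRing.Tor R (m + 1) R' N)) →
      Subsingleton (DRing.Tor R (n + 1) R' N) := by
  intro n
  induction n with
  | zero => intro N _ _ hT; exact tor_one_subsingleton_of_isTors h N (hT 0)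
  | succ k ih =>
    intro N _ _ hT
    let p : (N →₀ R) →ₗ[R] N := Finsupp.linearCombination R id
    have hp : Function.Surjective p := Finsupp.linearCombination_id_surjective R N
    let K := LinearMap.ker p
    have hex : Function.Exact K.subtype p := LinearMap.exact_subtype_ker_map p
    have hsh := fun m => nonempty_tor_shift (A := R) (K := K) (F := N →₀ R) (N := N) R' K.subtype p hex
      K.subtype_injective hp m
    obtain ⟨e⟩ := hsh k
    have hK : ∀ m : ℕ, IsTors f (DRing.Tor R (m + 1) R' K) := by
      intro m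
      obtain ⟨e'⟩ := hsh m
      exact (hT (m + 1)).of_surjective e'.toLinearMap e'.surjective
    have := ih K hK
    exact e.toEquiv.subsingleton

/-- `Tor_{n+1}^R(R', T) = 0` for every `f`-power torsion module `T`. -/
theorem tor_succ_subsingleton_of_torsion (h : EtGlue.IsGlueingPair R R' f) (n : ℕ) (T : Type u)
    [AddCommGroup T] [Module R T] (hT : IsTors f T) :
    Subsingleton (DRing.Tor R (n + 1) R' T) :=
  tor_succ_subsingleton_of_isTors h n T fun m => hT.tor R' T (m + 1)

end Groth.Agent.Lib.Helper14.GluePair
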