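import Mathlib
import Groth.Agent.Lib.Helper14.GlueTor
import Groth.Agent.Lib.Helper14.GlueCrit
import Groth.Agent.Lib.Helper14.TorVanish

/-!
# Glueing pairs: flatness descends (helper14)
-/

open TensorProduct CategoryTheory

namespace Groth.Agent.Lib.Helper14.GluePair

open Groth.Agent.Lib.Helper14.TorKer

universe u

section LemmaF

variable {R : Type u} [CommRing R] {f : R}

/-- a torsion module tensored with a module over `R_f` vanishes. -/
theorem IsTors.tensor_localModule_eq_zero {T : Type*} [AddCommGroup T] [Module R T]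
    (hT : IsTors f T) (L : Type*) [AddCommGroup L] [Module R L] [Module (Localization.Away f) L]
    [IsScalarTower R (Localization.Away f) L] (z : T ⊗[R] L) : z = 0 := by
  induction z with
  | zero => rfl
  | add x y hx hy => rw [hx, hy, add_zero]
  | tmul t l =>
    obtain ⟨n, hn⟩ := hT t
    have hl : l = f ^ n • ((Localization.mk 1 ⟨f ^ n, n, rfl⟩ : Localization.Away f) • l) := by
      rw [← algebraMap_smul (Localization.Away f) (f ^ n), smul_smul]
      have : algebraMap R (Localization.Away f) (f ^ n) *
          Localization.mk 1 (⟨f ^ n, n, rfl⟩ : Submonoid.powers f) = 1 := by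
        rw [← Localization.mk_one_eq_algebraMap, Localization.mk_mul, one_mul, mul_one]
        exact Localization.mk_self (⟨f ^ n, n, rfl⟩ : Submonoid.powers f)
      rw [this, one_smul]
    rw [hl, ← smul_tmul, hn, zero_tmul]

/-- Lemma F: `Tor_{n+1}(T, L) = 0` for `T` torsion and `L` an `R_f`-module. -/
theorem torZ_of_isTors_of_localModule : ∀ (n : ℕ) {T : Type u} [AddCommGroup T] [Module R T]
    (_ : IsTors f T) (L : Type u) [AddCommGroup L] [Module R L]
    [Module (Localization.Away f) L] [IsScalarTower R (Localization.Away f) L],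
    TorZ R (n + 1) T L := by
  intro n
  induction n with
  | zero =>
    intro T _ _ hT L _ _ _ _
    let p : (L →₀ Localization.Away f) →ₗ[Localization.Away f] L :=
      Finsupp.linearCombination (Localization.Away f) id
    have hp : Function.Surjective p := Finsupp.linearCombination_id_surjective _ L
    let K := LinearMap.ker p
    have hex : Function.Exact (K.subtype.restrictScalars R) (p.restrictScalars R) :=
      LinearMap.exact_subtype_ker_map p
    haveI : Module.Flat R (L →₀ Localization.Away f) :=
      Module.Flat.trans R (Localization.Away f) (L →₀ Localization.Away f)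
    refine (tor_one_subsingleton_iff (A := R) (K := K) (F := L →₀ Localization.Away f) (N := L) T
      (K.subtype.restrictScalars R) (p.restrictScalars R) hex K.subtype_injective hp).mpr ?_
    intro a b _
    rw [hT.tensor_localModule_eq_zero K a, hT.tensor_localModule_eq_zero K b]
  | succ k ih =>
    intro T _ _ hT L _ _ _ _
    let p : (L →₀ Localization.Away f) →ₗ[Localization.Away f] L :=
      Finsupp.linearCombination (Localization.Away f) id
    have hp : Function.Surjective p := Finsupp.linearCombination_id_surjective _ L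
    let K := LinearMap.ker p
    have hex : Function.Exact (K.subtype.restrictScalars R) (p.restrictScalars R) :=
      LinearMap.exact_subtype_ker_map p
    haveI : Module.Flat R (L →₀ Localization.Away f) :=
      Module.Flat.trans R (Localization.Away f) (L →₀ Localization.Away f)
    obtain ⟨e⟩ := nonempty_tor_shift (A := R) (K := K) (F := L →₀ Localization.Away f) (N := L) T
      (K.subtype.restrictScalars R) (p.restrictScalars R) hex K.subtype_injective hp k
    have := ih hT K
    unfold TorZ at this ⊢
    exact e.toEquiv.subsingleton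

end LemmaF

section LemmaE

variable {R R' : Type u} [CommRing R] [CommRing R'] [Algebra R R']

/-- injectivity of `R' ⊗ K → R' ⊗ F` passes to `X ⊗ K → X ⊗ F` for `X` flat over `R'`. -/
theorem lTensor_injective_of_flat_baseChange (X : Type*) [AddCommGroup X] [Module R X]
    [Module R' X] [IsScalarTower R R' X] [Module.Flat R' X] {K F : Type*} [AddCommGroup K]
    [Module R K] [AddCommGroup F] [Module R F] (i : K →ₗ[R] F)
    (hi : Function.Injective (LinearMap.lTensor R' i)) :
    Function.Injective (LinearMap.lTensor X i) := by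
  have hg : Function.Injective (AlgebraTensorModule.lTensor R' R' i) := hi
  have h1 := Module.Flat.lTensor_preserves_injective_linearMap (R := R') (M := X)
    (AlgebraTensorModule.lTensor R' R' i) hg
  have hnat := AlgebraTensorModule.lTensor_comp_cancelBaseChange (R := R) (A := R') (B := R')
    (M := X) i
  intro a b hab
  have ha : LinearMap.lTensor X i a =
      AlgebraTensorModule.cancelBaseChange R R' R' X F
        (LinearMap.lTensor X (AlgebraTensorModule.lTensor R' R' i)
          ((AlgebraTensorModule.cancelBaseChange R R' R' X K).symm a)) := by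
    have := congrArg (fun φ => φ ((AlgebraTensorModule.cancelBaseChange R R' R' X K).symm a)) hnat
    simpa using this
  have hb : LinearMap.lTensor X i b =
      AlgebraTensorModule.cancelBaseChange R R' R' X F
        (LinearMap.lTensor X (AlgebraTensorModule.lTensor R' R' i)
          ((AlgebraTensorModule.cancelBaseChange R R' R' X K).symm b)) := by
    have := congrArg (fun φ => φ ((AlgebraTensorModule.cancelBaseChange R R' R' X K).symm b)) hnat
    simpa using this
  rw [ha, hb] at hab
  exact (AlgebraTensorModule.cancelBaseChange R R' R' X K).symm.injective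
    (h1 ((AlgebraTensorModule.cancelBaseChange R R' R' X F).injective hab))

/-- Lemma E. -/
theorem torZ_of_flat_baseChange (X : Type u) [AddCommGroup X] [Module R X]
    [Module R' X] [IsScalarTower R R' X] [Module.Flat R' X] :
    ∀ (n : ℕ) (N : Type u) [AddCommGroup N] [Module R N],
      (∀ m : ℕ, TorZ R (m + 1) R' N) → TorZ R (n + 1) X N := by
  intro n
  induction n with
  | zero =>
    intro N _ _ hN
    have hN0 : TorZ R 1 R' N := hN 0
    show TorZ R 1 X N
    let p : (N →₀ R) →ₗ[R] N := Finsupp.linearCombination R id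
    have hp : Function.Surjective p := Finsupp.linearCombination_id_surjective R N
    let K := LinearMap.ker p
    have hex : Function.Exact K.subtype p := LinearMap.exact_subtype_ker_map p
    have h1 := (tor_one_subsingleton_iff (A := R) (K := K) (F := N →₀ R) (N := N) R' K.subtype p hex
      K.subtype_injective hp).mp hN0
    have h2 := @lTensor_injective_of_flat_baseChange R R' _ _ _ X _ _ _ _ _ K (N →₀ R)
      (Submodule.addCommGroup K) (Submodule.module K) Finsupp.instAddCommGroup (Finsupp.module N R)
      K.subtype h1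
    have h3 := (tor_one_subsingleton_iff (A := R) (K := K) (F := N →₀ R) (N := N) X K.subtype p hex
      K.subtype_injective hp)
    exact h3.mpr h2
  | succ k ih =>
    intro N _ _ hN
    let p : (N →₀ R) →ₗ[R] N := Finsupp.linearCombination R id
    have hp : Function.Surjective p := Finsupp.linearCombination_id_surjective R N
    let K := LinearMap.ker p
    have hex : Function.Exact K.subtype p := LinearMap.exact_subtype_ker_map p
    have hK : ∀ m : ℕ, TorZ R (m + 1) R' K := by
      intro m
      obtain ⟨e⟩ := nonempty_tor_shift (A := R) (K := K) (F := N →₀ R) (N := N) R' K.subtype p hex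
        K.subtype_injective hp m
      have := hN (m + 1)
      unfold TorZ at this ⊢
      exact e.symm.toEquiv.subsingleton
    obtain ⟨e⟩ := nonempty_tor_shift (A := R) (K := K) (F := N →₀ R) (N := N) X K.subtype p hex
      K.subtype_injective hp k
    have := ih K hK
    unfold TorZ at this ⊢
    exact e.toEquiv.subsingleton

end LemmaE

section LemmaJ

variable {R : Type u} [CommRing R] {f : R}

theorem isTors_ker_mkLinearMap (X : Type*) [AddCommGroup X] [Module R X] :
    IsTors f (LinearMap.ker (LocalizedModule.mkLinearMap (Submonoid.powers f) X).rangeRestrict) := by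
  rintro ⟨a, ha⟩
  rw [LinearMap.ker_rangeRestrict, LinearMap.mem_ker, mk_eq_zero_iff] at ha
  obtain ⟨n, hn⟩ := ha
  exact ⟨n, Subtype.ext hn⟩

theorem isTors_coker_mkLinearMap (X : Type*) [AddCommGroup X] [Module R X] :
    IsTors f (LocalizedModule (Submonoid.powers f) X ⧸
      LinearMap.range (LocalizedModule.mkLinearMap (Submonoid.powers f) X)) := by
  intro y
  obtain ⟨y, rfl⟩ := Submodule.mkQ_surjective _ y
  induction y using LocalizedModule.induction_on with
  | h m s =>
    obtain ⟨_, k, rfl⟩ := s
    refine ⟨k, ?_⟩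
    rw [← map_smul, Submodule.mkQ_apply, Submodule.Quotient.mk_eq_zero]
    refine ⟨m, ?_⟩
    rw [LocalizedModule.mkLinearMap_apply, LocalizedModule.smul'_mk]
    exact (LocalizedModule.mk_cancel_common_left (⟨f ^ k, k, rfl⟩ : Submonoid.powers f) 1 m).symm ▸
      (by simp [LocalizedModule.mk_eq]; exact ⟨1, by simp [Submonoid.smul_def]⟩)

/-- Lemma J: `Tor_n(X, Y)` vanishes if it does after localizing `X` and for torsion modules
in degrees `n`, `n+1`. -/
theorem torZ_of_localized (n : ℕ) (X Y : Type u) [AddCommGroup X] [Module R X] [AddCommGroup Y]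
    [Module R Y]
    (hT : ∀ (T : Type u) [AddCommGroup T] [Module R T], IsTors f T → TorZ R n T Y)
    (hT' : ∀ (T : Type u) [AddCommGroup T] [Module R T], IsTors f T → TorZ R (n + 1) T Y)
    (hloc : TorZ R n (LocalizedModule (Submonoid.powers f) X) Y) : TorZ R n X Y := by
  let φ := LocalizedModule.mkLinearMap (Submonoid.powers f) X
  let Xb := LinearMap.range φ
  have h2 : TorZ R n Xb Y :=
    torZ_sub_left Xb.subtype Xb.mkQ (LinearMap.exact_subtype_mkQ Xb) Xb.subtype_injective
      Xb.mkQ_surjective n (hT' _ (isTors_coker_mkLinearMap X)) hloc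
  exact torZ_mid_left (LinearMap.ker φ.rangeRestrict).subtype φ.rangeRestrict
    (LinearMap.exact_subtype_ker_map _) (Submodule.subtype_injective _)
    φ.surjective_rangeRestrict n (hT _ (isTors_ker_mkLinearMap X)) h2

end LemmaJ

section Glueable

variable (R R' : Type u) [CommRing R] [CommRing R'] [Algebra R R'] (f : R)
variable (M : Type u) [AddCommGroup M] [Module R M]

/-- `(R' ⊗ M)_f` as a type synonym with hand-picked instances (the instances found by type class
search on `LocalizedModule _ (R' ⊗ M)` do not fit lemmas about `AddCommGroup`-modules). -/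
def Hm : Type u := LocalizedModule (Submonoid.powers f) (R' ⊗[R] M)

noncomputable instance : AddCommGroup (Hm R R' f M) :=
  inferInstanceAs (AddCommGroup (LocalizedModule (Submonoid.powers f) (R' ⊗[R] M)))
noncomputable instance : Module R (Hm R R' f M) :=
  inferInstanceAs (Module R (LocalizedModule (Submonoid.powers f) (R' ⊗[R] M)))
noncomputable instance : Module (Localization.Away f) (Hm R R' f M) :=
  inferInstanceAs (Module (Localization.Away f)
    (LocalizedModule (Submonoid.powers f) (R' ⊗[R] M)))
noncomputable instance : IsScalarTower R (Localization.Away f) (Hm R R' f M) :=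
  inferInstanceAs (IsScalarTower R (Localization.Away f)
    (LocalizedModule (Submonoid.powers f) (R' ⊗[R] M)))

/-- `R' ⊗ M → (R' ⊗ M)_f`. -/
noncomputable def loc' : R' ⊗[R] M →ₗ[R] Hm R R' f M := EtGlue.locOfTensor R R' f M

/-- `M_f → (R' ⊗ M)_f`. -/
noncomputable def tol' : LocalizedModule (Submonoid.powers f) M →ₗ[R] Hm R R' f M :=
  EtGlue.tensorOfLoc R R' f M

/-- `M → (R' ⊗ M) × M_f`. -/
noncomputable def glueι : M →ₗ[R] (R' ⊗[R] M) × LocalizedModule (Submonoid.powers f) M :=
  LinearMap.prod (TensorProduct.mk R R' M 1) (LocalizedModule.mkLinearMap (Submonoid.powers f) M)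

/-- `(R' ⊗ M) × M_f → (R' ⊗ M)_f`, the difference map. -/
noncomputable def glueδ : (R' ⊗[R] M) × LocalizedModule (Submonoid.powers f) M →ₗ[R]
    Hm R R' f M :=
  (loc' R R' f M).coprod (-(tol' R R' f M))

variable {R R' f M}

theorem glueδ_apply (x : R' ⊗[R] M) (y : LocalizedModule (Submonoid.powers f) M) :
    glueδ R R' f M (x, y) = loc' R R' f M x - tol' R R' f M y := by
  simp [glueδ, sub_eq_add_neg]

theorem glueδ_eq_zero_iff (x : R' ⊗[R] M) (y : LocalizedModule (Submonoid.powers f) M) :
    glueδ R R' f M (x, y) = 0 ↔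
      EtGlue.locOfTensor R R' f M x = EtGlue.tensorOfLoc R R' f M y := by
  rw [glueδ_apply, sub_eq_zero]
  rfl

theorem tensorOfLoc_mk (m : M) (s : Submonoid.powers f) :
    EtGlue.tensorOfLoc R R' f M (LocalizedModule.mk m s) =
      LocalizedModule.mk ((1 : R') ⊗ₜ[R] m) s := by
  have := IsLocalizedModule.map_mk' (Submonoid.powers f)
    (LocalizedModule.mkLinearMap (Submonoid.powers f) M)
    (LocalizedModule.mkLinearMap (Submonoid.powers f) (R' ⊗[R] M)) (TensorProduct.mk R R' M 1) m s
  rw [← IsLocalizedModule.mk_eq_mk', ← IsLocalizedModule.mk_eq_mk'] at this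
  exact this

theorem glueδ_glueι (m : M) : glueδ R R' f M (glueι R R' f M m) = 0 := by
  have : glueι R R' f M m = ((1 : R') ⊗ₜ[R] m,
    LocalizedModule.mkLinearMap (Submonoid.powers f) M m) := rfl
  rw [this, glueδ_eq_zero_iff]
  have h2 : LocalizedModule.mkLinearMap (Submonoid.powers f) M m = LocalizedModule.mk m 1 := rfl
  rw [h2, tensorOfLoc_mk]
  rfl

theorem glueδ_surjective (hq : EtGlue.QuotPowBijective R R' f) :
    Function.Surjective (glueδ R R' f M) := by
  intro z
  obtain ⟨w, s, rfl⟩ : ∃ (w : R' ⊗[R] M) (s : Submonoid.powers f),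
      (LocalizedModule.mk w s : LocalizedModule (Submonoid.powers f) (R' ⊗[R] M)) = z := by
    induction z using LocalizedModule.induction_on with
    | h w s => exact ⟨w, s, rfl⟩
  obtain ⟨_, n, rfl⟩ := s
  obtain ⟨p₀, w', rfl⟩ := exists_decomp hq n w
  refine ⟨(f • w', - LocalizedModule.mk p₀ (⟨f ^ n, n, rfl⟩ : Submonoid.powers f)), ?_⟩
  rw [glueδ_apply, map_neg, sub_neg_eq_add]
  show EtGlue.locOfTensor R R' f M (f • w') + EtGlue.tensorOfLoc R R' f M _ = _
  rw [tensorOfLoc_mk, LocalizedModule.mkLinearMap_apply,
    LocalizedModule.mk_add_mk, one_smul]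
  rw [LocalizedModule.mk_eq]
  refine ⟨1, ?_⟩
  simp only [one_smul, Submonoid.smul_def, one_mul, smul_add, smul_smul]
  rw [add_comm, pow_succ]

theorem glue_exact (hG : EtGlue.IsGlueable R R' f M) :
    Function.Exact (glueι R R' f M) (glueδ R R' f M) := by
  rintro ⟨x, y⟩
  constructor
  · intro h
    rw [glueδ_eq_zero_iff] at h
    obtain ⟨m, rfl, rfl⟩ := hG.2 x y h
    exact ⟨m, rfl⟩
  · rintro ⟨m, hm⟩
    rw [← hm, glueδ_glueι]

theorem glueι_injective (hG : EtGlue.IsGlueable R R' f M) :
    Function.Injective (glueι R R' f M) := hG.1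

end Glueable

section Main

variable {R R' : Type u} [CommRing R] [CommRing R'] [Algebra R R'] {f : R}
variable {M : Type u} [AddCommGroup M] [Module R M]

theorem exact_inl_snd (A B : Type*) [AddCommGroup A] [Module R A] [AddCommGroup B] [Module R B] :
    Function.Exact (LinearMap.inl R A B) (LinearMap.snd R A B) := by
  rintro ⟨a, b⟩
  constructor
  · intro h
    have hb : b = 0 := h
    exact ⟨a, by simp [hb]⟩
  · rintro ⟨a', ha'⟩
    have := congrArg Prod.snd ha'
    simpa using this.symm

/-- (d): for glueable `M` with `R' ⊗ M` flat over `R'`, `Tor_{n+1}(M, T) = 0` for torsion `T`. -/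
theorem torZ_of_isGlueable_of_isTors (h : EtGlue.IsGlueingPair R R' f)
    (hG : EtGlue.IsGlueable R R' f M) [Module.Flat R' (R' ⊗[R] M)] (T : Type u) [AddCommGroup T]
    [Module R T] (hT : IsTors f T) (n : ℕ) : TorZ R (n + 1) M T := by
  have hH : TorZ R (n + 1 + 1) (Hm R R' f M) T :=
    (torZ_of_isTors_of_localModule (n + 1) hT (Hm R R' f M)).comm
  have h1 : TorZ R (n + 1) (R' ⊗[R] M) T :=
    torZ_of_flat_baseChange (R := R) (R' := R') (R' ⊗[R] M) n T
      fun m => tor_succ_subsingleton_of_torsion h m T hT
  have h2 : TorZ R (n + 1) (LocalizedModule (Submonoid.powers f) M) T :=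
    (torZ_of_isTors_of_localModule n hT (LocalizedModule (Submonoid.powers f) M)).comm
  have hGG : TorZ R (n + 1) ((R' ⊗[R] M) × LocalizedModule (Submonoid.powers f) M) T :=
    torZ_mid_left (LinearMap.inl R _ _) (LinearMap.snd R _ _) (exact_inl_snd _ _)
      LinearMap.inl_injective LinearMap.snd_surjective (n + 1) h1 h2
  exact torZ_sub_left (glueι R R' f M) (glueδ R R' f M) (glue_exact hG) (glueι_injective hG)
    (glueδ_surjective h.1) (n + 1) hH hGG

/-- (e): if `M_f` is flat over `R_f` then `Tor_{n+1}(M, L) = 0` for `R_f`-modules `L`. -/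
theorem torZ_of_flat_localized [Module.Flat (Localization.Away f)
      (LocalizedModule (Submonoid.powers f) M)] (L : Type u) [AddCommGroup L] [Module R L]
    [Module (Localization.Away f) L] [IsScalarTower R (Localization.Away f) L] (n : ℕ) :
    TorZ R (n + 1) M L := by
  haveI : Module.Flat R (LocalizedModule (Submonoid.powers f) M) :=
    Module.Flat.trans R (Localization.Away f) (LocalizedModule (Submonoid.powers f) M)
  exact torZ_of_localized (f := f) (n + 1) M L
    (fun T _ _ hT => torZ_of_isTors_of_localModule n hT L)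
    (fun T _ _ hT => torZ_of_isTors_of_localModule (n + 1) hT L)
    (torZ_of_flat_left n)

/-- (f): glueable modules with flat base changes are flat. -/
theorem flat_of_isGlueable (h : EtGlue.IsGlueingPair R R' f)
    (hG : EtGlue.IsGlueable R R' f M) [Module.Flat R' (R' ⊗[R] M)]
    [Module.Flat (Localization.Away f) (LocalizedModule (Submonoid.powers f) M)] :
    Module.Flat R M := by
  apply flat_of_torZ
  intro I
  refine TorZ.comm ?_
  exact torZ_of_localized (f := f) 1 (R ⧸ I) M
    (fun T _ _ hT => (torZ_of_isGlueable_of_isTors h hG T hT 0).comm)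
    (fun T _ _ hT => (torZ_of_isGlueable_of_isTors h hG T hT 1).comm)
    (torZ_of_flat_localized (f := f) (M := M)
      (LocalizedModule (Submonoid.powers f) (R ⧸ I)) 0).comm

end Main

section General

variable {R R' : Type u} [CommRing R] [CommRing R'] [Algebra R R'] {f : R}
variable {M : Type u} [AddCommGroup M] [Module R M]

theorem mem_ker_glueι_iff (m : M) : m ∈ LinearMap.ker (glueι R R' f M) ↔
    (1 : R') ⊗ₜ[R] m = 0 ∧ LocalizedModule.mkLinearMap (Submonoid.powers f) M m = 0 := by
  rw [LinearMap.mem_ker]
  show ((1 : R') ⊗ₜ[R] m, LocalizedModule.mkLinearMap (Submonoid.powers f) M m) = 0 ↔ _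
  rw [Prod.mk_eq_zero]

/-- `R' ⊗ M → R' ⊗ (M / ker ι)` is bijective. -/
theorem lTensor_mkQ_ker_glueι_bijective :
    Function.Bijective (LinearMap.lTensor R' (LinearMap.ker (glueι R R' f M)).mkQ) := by
  set K := LinearMap.ker (glueι R R' f M) with hK
  refine ⟨?_, LinearMap.lTensor_surjective _ K.mkQ_surjective⟩
  have hzero : ∀ y : R' ⊗[R] K, LinearMap.lTensor R' K.subtype y = 0 := by
    intro y
    induction y with
    | zero => simp
    | add a b ha hb => rw [map_add, ha, hb, add_zero]
    | tmul r' k =>
      rw [LinearMap.lTensor_tmul, Submodule.subtype_apply]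
      have hk := ((mem_ker_glueι_iff (R' := R') (f := f) (k : M)).mp k.2).1
      have : r' ⊗ₜ[R] (k : M) = r' • ((1 : R') ⊗ₜ[R] (k : M)) := by
        rw [smul_tmul', smul_eq_mul, mul_one]
      rw [this, hk, smul_zero]
  rw [injective_iff_map_eq_zero]
  intro x hx
  have hex := lTensor_exact (M := K) (N := M) (f := K.subtype) R' (LinearMap.exact_subtype_mkQ K)
    K.mkQ_surjective
  obtain ⟨y, rfl⟩ := (hex x).mp hx
  exact hzero y

/-- localization of `M → M / ker ι` is bijective. -/
theorem map_mkQ_ker_glueι_bijective :
    Function.Bijective (IsLocalizedModule.map (Submonoid.powers f)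
      (LocalizedModule.mkLinearMap (Submonoid.powers f) M)
      (LocalizedModule.mkLinearMap (Submonoid.powers f) (M ⧸ LinearMap.ker (glueι R R' f M)))
      (LinearMap.ker (glueι R R' f M)).mkQ) := by
  set K := LinearMap.ker (glueι R R' f M) with hK
  refine ⟨?_, IsLocalizedModule.map_surjective _ _ _ _ K.mkQ_surjective⟩
  have hex := IsLocalizedModule.map_exact (Submonoid.powers f)
    (LocalizedModule.mkLinearMap (Submonoid.powers f) K)
    (LocalizedModule.mkLinearMap (Submonoid.powers f) M)
    (LocalizedModule.mkLinearMap (Submonoid.powers f) (M ⧸ K)) K.subtype K.mkQ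
    (LinearMap.exact_subtype_mkQ K)
  have hzero : ∀ y : LocalizedModule (Submonoid.powers f) K,
      IsLocalizedModule.map (Submonoid.powers f)
        (LocalizedModule.mkLinearMap (Submonoid.powers f) K)
        (LocalizedModule.mkLinearMap (Submonoid.powers f) M) K.subtype y = 0 := by
    intro y
    induction y using LocalizedModule.induction_on with
    | h k s =>
      rw [IsLocalizedModule.mk_eq_mk', IsLocalizedModule.map_mk', Submodule.subtype_apply]
      have hk := ((mem_ker_glueι_iff (R' := R') (f := f) (k : M)).mp k.2).2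
      rw [IsLocalizedModule.mk'_eq_zero]
      exact hk
  rw [injective_iff_map_eq_zero]
  intro x hx
  obtain ⟨y, rfl⟩ := (hex x).mp hx
  exact hzero y

/-- `M / ker ι` is glueable. -/
theorem isGlueable_quot_ker_glueι (h : EtGlue.IsGlueingPair R R' f) :
    EtGlue.IsGlueable R R' f (M ⧸ LinearMap.ker (glueι R R' f M)) := by
  set K := LinearMap.ker (glueι R R' f M) with hK
  rw [isGlueable_iff_of_isGlueingPair h]
  intro mb ⟨n, hn⟩ h0
  obtain ⟨m, rfl⟩ := K.mkQ_surjective mb
  rw [← map_smul, Submodule.mkQ_apply, Submodule.Quotient.mk_eq_zero, hK,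
    mem_ker_glueι_iff] at hn
  have h1 : LocalizedModule.mkLinearMap (Submonoid.powers f) M m = 0 := by
    rw [mk_eq_zero_iff]
    obtain ⟨k, hk⟩ := (mk_eq_zero_iff (f := f) (f ^ n • m)).mp hn.2
    exact ⟨k + n, by rw [pow_add, mul_smul, hk]⟩
  have h2 : (1 : R') ⊗ₜ[R] m = 0 := by
    apply (lTensor_mkQ_ker_glueι_bijective (R := R) (R' := R') (f := f) (M := M)).1
    rw [map_zero, LinearMap.lTensor_tmul]
    exact h0
  rw [Submodule.mkQ_apply, Submodule.Quotient.mk_eq_zero, hK, mem_ker_glueι_iff]
  exact ⟨h2, h1⟩

/-- S2002, hard direction. -/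
theorem flat_of_flat_baseChanges (h : EtGlue.IsGlueingPair R R' f)
    [Module.Flat R' (R' ⊗[R] M)]
    [Module.Flat (Localization.Away f) (LocalizedModule (Submonoid.powers f) M)] :
    Module.Flat R M := by
  set K := LinearMap.ker (glueι R R' f M) with hK
  -- base changes of the quotient
  have hb1 := lTensor_mkQ_ker_glueι_bijective (R := R) (R' := R') (f := f) (M := M)
  let e1 : R' ⊗[R] M ≃ₗ[R'] R' ⊗[R] (M ⧸ K) :=
    LinearEquiv.ofBijective (K.mkQ.baseChange R') hb1
  haveI : Module.Flat R' (R' ⊗[R] (M ⧸ K)) := Module.Flat.of_linearEquiv e1.symm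
  let e2 : LocalizedModule (Submonoid.powers f) M ≃ₗ[R]
      LocalizedModule (Submonoid.powers f) (M ⧸ K) :=
    LinearEquiv.ofBijective _ (map_mkQ_ker_glueι_bijective (R := R) (R' := R') (f := f) (M := M))
  haveI : Module.Flat R (LocalizedModule (Submonoid.powers f) M) :=
    Module.Flat.trans R (Localization.Away f) _
  haveI : Module.Flat R (LocalizedModule (Submonoid.powers f) (M ⧸ K)) :=
    Module.Flat.of_linearEquiv e2.symm
  haveI : Module.Flat (Localization.Away f) (LocalizedModule (Submonoid.powers f) (M ⧸ K)) :=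
    (Module.flat_iff_of_isLocalization (R := R) (Localization.Away f)
      (Submonoid.powers f) _).mpr inferInstance
  haveI hMb : Module.Flat R (M ⧸ K) := flat_of_isGlueable h (isGlueable_quot_ker_glueι h)
  -- the kernel vanishes
  have hinj := LinearMap.lTensor_injective_of_exact_of_flat K.mkQ K.mkQ_surjective K.subtype
    K.subtype_injective (LinearMap.exact_subtype_mkQ K) R'
  have hKtors : IsTors f K := by
    rintro ⟨k, hk⟩
    obtain ⟨n, hn⟩ := (mk_eq_zero_iff (f := f) k).mp
      ((mem_ker_glueι_iff (R' := R') (f := f) k).mp hk).2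
    exact ⟨n, Subtype.ext hn⟩
  have hKbot : K = ⊥ := by
    rw [Submodule.eq_bot_iff]
    intro k hk
    have h1 : (1 : R') ⊗ₜ[R] (⟨k, hk⟩ : K) = 0 := by
      apply hinj
      rw [map_zero, LinearMap.lTensor_tmul, Submodule.subtype_apply]
      exact ((mem_ker_glueι_iff (R' := R') (f := f) k).mp hk).1
    have := mk_one_injective h.1 hKtors (h1.trans (tmul_zero _ _).symm)
    exact congrArg Subtype.val this
  exact Module.Flat.of_linearEquiv (Submodule.quotEquivOfEqBot K hKbot).symm

end General

end Groth.Agent.Lib.Helper14.GluePair
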