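import Mathlib
import Groth.Agent.Lib.Helper14.GlueFlat

/-!
# Glueing pairs: finite presentation and finite projectivity descend (helper14)
-/

open TensorProduct

namespace Groth.Agent.Lib.Helper14.GluePair

universe u

variable {R R' : Type u} [CommRing R] [CommRing R'] [Algebra R R'] {f : R}
variable (M : Type u) [AddCommGroup M] [Module R M]

/-- a finite flat module whose base changes to `R'` and `R_f` are finitely presented is finitely
presented. -/
theorem finitePresentation_of_local (hq : EtGlue.QuotPowBijective R R' f)
    [Module.Flat R M] [Module.Finite R M]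
    [Module.FinitePresentation R' (R' ⊗[R] M)]
    [Module.FinitePresentation (Localization.Away f) (LocalizedModule (Submonoid.powers f) M)] :
    Module.FinitePresentation R M := by
  obtain ⟨n, π, hπ⟩ := Module.Finite.exists_fin' R M
  set K := LinearMap.ker π with hKdef
  have hexK : Function.Exact K.subtype π := LinearMap.exact_subtype_ker_map π
  -- `R' ⊗ K` is finite
  have hK' : Module.Finite R' (R' ⊗[R] K) := by
    have hinj' : Function.Injective (K.subtype.baseChange R') :=
      LinearMap.lTensor_injective_of_exact_of_flat π hπ K.subtype K.subtype_injective hexK R'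
    have hex' : Function.Exact (K.subtype.baseChange R') (π.baseChange R') :=
      lTensor_exact (M := K) (N := Fin n → R) (f := K.subtype) R' hexK hπ
    have hsurj' : Function.Surjective (π.baseChange R') := LinearMap.lTensor_surjective _ hπ
    have hfg' : (LinearMap.ker (π.baseChange R')).FG :=
      Module.FinitePresentation.fg_ker (π.baseChange R') hsurj'
    let g : R' ⊗[R] K →ₗ[R'] LinearMap.ker (π.baseChange R') :=
      LinearMap.codRestrict _ (K.subtype.baseChange R') (fun z => hex'.apply_apply_eq_zero z)
    have hg : Function.Bijective g := by
      constructor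
      · intro a b hab
        exact hinj' (congrArg Subtype.val hab)
      · rintro ⟨y, hy⟩
        obtain ⟨z, rfl⟩ := (hex' y).mp hy
        exact ⟨z, rfl⟩
    haveI : Module.Finite R' (LinearMap.ker (π.baseChange R')) := Module.Finite.iff_fg.mpr hfg'
    exact Module.Finite.equiv (LinearEquiv.ofBijective g hg).symm
  -- `K_f` is finite
  have hKf : Module.Finite (Localization.Away f) (LocalizedModule (Submonoid.powers f) K) := by
    let Sf := Submonoid.powers f
    let Rf := Localization.Away f
    let mkF := LocalizedModule.mkLinearMap Sf (Fin n → R)
    let mkM := LocalizedModule.mkLinearMap Sf M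
    let πf : LocalizedModule Sf (Fin n → R) →ₗ[Rf] LocalizedModule Sf M :=
      (IsLocalizedModule.map Sf mkF mkM π).extendScalarsOfIsLocalization Sf Rf
    have hπf : Function.Surjective πf := IsLocalizedModule.map_surjective Sf mkF mkM π hπ
    have hfg : (LinearMap.ker πf).FG := Module.FinitePresentation.fg_ker πf hπf
    have heq : (LinearMap.ker π).localized' Rf Sf mkF = LinearMap.ker πf :=
      LinearMap.localized'_ker_eq_ker_localizedMap Rf Sf mkF mkM π
    let e₀ : LocalizedModule Sf K ≃ₗ[R] (LinearMap.ker π).localized' Rf Sf mkF :=
      IsLocalizedModule.iso Sf (Submodule.toLocalized' Rf Sf mkF (LinearMap.ker π))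
    let e : LocalizedModule Sf K ≃ₗ[Rf] (LinearMap.ker π).localized' Rf Sf mkF :=
      e₀.extendScalarsOfIsLocalization Sf Rf
    haveI : Module.Finite Rf ((LinearMap.ker π).localized' Rf Sf mkF) :=
      Module.Finite.iff_fg.mpr (heq ▸ hfg)
    exact Module.Finite.equiv e.symm
  have hKfin : Module.Finite R K := finite_of_local hq hK' hKf
  exact Module.finitePresentation_of_surjective π hπ (Module.Finite.iff_fg.mp hKfin)

/-- S2003, hard direction. -/
theorem finite_projective_of_local (h : EtGlue.IsGlueingPair R R' f)
    [Module.Finite R' (R' ⊗[R] M)] [Module.Projective R' (R' ⊗[R] M)]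
    [Module.Finite (Localization.Away f) (LocalizedModule (Submonoid.powers f) M)]
    [Module.Projective (Localization.Away f) (LocalizedModule (Submonoid.powers f) M)] :
    Module.Finite R M ∧ Module.Projective R M := by
  haveI : Module.Finite R M := finite_of_local h.1 inferInstance inferInstance
  haveI : Module.Flat R M := flat_of_flat_baseChanges h
  haveI : Module.FinitePresentation R' (R' ⊗[R] M) := Module.finitePresentation_of_projective _ _
  haveI : Module.FinitePresentation (Localization.Away f)
      (LocalizedModule (Submonoid.powers f) M) := Module.finitePresentation_of_projective _ _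
  haveI : Module.FinitePresentation R M := finitePresentation_of_local M h.1
  exact ⟨inferInstance, Module.Flat.projective_of_finitePresentation⟩

end Groth.Agent.Lib.Helper14.GluePair
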