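import Mathlib
import Groth.Agent.Lib.Helper14.GlueFP

/-!
# Glueing pairs: base change to a glueable algebra (helper14)

If `(R → R', f)` is a glueing pair and `A` is an `R`-algebra that is glueable as an `R`-module, then
`(A → A ⊗[R] R', f)` is a glueing pair.
-/

open TensorProduct

namespace Groth.Agent.Lib.Helper14.GluePair

universe u

variable {R R' : Type u} [CommRing R] [CommRing R'] [Algebra R R'] {f : R}
variable (A : Type u) [CommRing A] [Algebra R A]

theorem algebraMap_pow_mul (n : ℕ) (c : A ⊗[R] R') :
    algebraMap A (A ⊗[R] R') (algebraMap R A f ^ n) * c = f ^ n • c := by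
  rw [← map_pow, ← IsScalarTower.algebraMap_apply R A (A ⊗[R] R'), ← Algebra.smul_def]

theorem mem_map_span_iff (n : ℕ) (x : A ⊗[R] R') :
    x ∈ Ideal.map (algebraMap A (A ⊗[R] R')) (Ideal.span {algebraMap R A f ^ n}) ↔
      ∃ c : A ⊗[R] R', x = f ^ n • c := by
  rw [Ideal.map_span, Set.image_singleton, Ideal.mem_span_singleton']
  constructor
  · rintro ⟨c, rfl⟩
    exact ⟨c, by rw [mul_comm, algebraMap_pow_mul]⟩
  · rintro ⟨c, rfl⟩
    exact ⟨c, by rw [mul_comm, algebraMap_pow_mul]⟩

theorem quotPowBijective_tensor (hq : EtGlue.QuotPowBijective R R' f) :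
    EtGlue.QuotPowBijective A (A ⊗[R] R') (algebraMap R A f) := by
  intro n hn
  constructor
  · apply Ideal.quotientMap_injective'
    intro a ha
    rw [Ideal.mem_comap, mem_map_span_iff] at ha
    obtain ⟨c, hc⟩ := ha
    have h1 : (1 : R') ⊗ₜ[R] a = f ^ n • (TensorProduct.comm R A R' c) := by
      rw [← map_smul, ← hc, Algebra.TensorProduct.algebraMap_apply, Algebra.algebraMap_self,
        RingHom.id_apply, TensorProduct.comm_tmul]
    obtain ⟨q, hq'⟩ := exists_eq_smul_of_tmul_eq hq n a _ h1
    rw [Ideal.mem_span_singleton']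
    exact ⟨q, by rw [hq', Algebra.smul_def, map_pow, mul_comm]⟩
  · intro y
    obtain ⟨w, rfl⟩ := Ideal.Quotient.mk_surjective y
    obtain ⟨k, rfl⟩ : ∃ k, n = k + 1 := Nat.exists_eq_succ_of_ne_zero hn.ne'
    obtain ⟨p₀, w', hw⟩ := exists_decomp hq k (TensorProduct.comm R A R' w)
    refine ⟨Ideal.Quotient.mk _ p₀, ?_⟩
    rw [Ideal.quotientMap_mk, Ideal.Quotient.eq, mem_map_span_iff]
    refine ⟨-(TensorProduct.comm R A R').symm w', ?_⟩
    have hw2 : w = p₀ ⊗ₜ[R] (1 : R') + f ^ (k + 1) • (TensorProduct.comm R A R').symm w' := by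
      have := congrArg (TensorProduct.comm R A R').symm hw
      rw [LinearEquiv.symm_apply_apply, map_add, map_smul, TensorProduct.comm_symm_tmul] at this
      exact this
    rw [hw2, Algebra.TensorProduct.algebraMap_apply, Algebra.algebraMap_self, RingHom.id_apply,
      smul_neg]
    abel

theorem isGlueingPair_tensor (h : EtGlue.IsGlueingPair R R' f)
    (hA : EtGlue.IsGlueable R R' f A) :
    EtGlue.IsGlueingPair A (A ⊗[R] R') (algebraMap R A f) := by
  rw [Groth.Agent.S2004.result A (A ⊗[R] R') (algebraMap R A f) (quotPowBijective_tensor A h.1)]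
  obtain ⟨h1, h2⟩ := torsion_of_isGlueable hA
  constructor
  · rintro x ⟨n, hn⟩ h0
    apply h1 x ⟨n, by rw [Algebra.smul_def, map_pow]; exact hn⟩
    have := congrArg (TensorProduct.comm R A R') h0
    rw [Algebra.TensorProduct.algebraMap_apply, Algebra.algebraMap_self, RingHom.id_apply,
      TensorProduct.comm_tmul, map_zero] at this
    exact this
  · rintro x' ⟨n, hn⟩
    rw [← map_pow, algebraMap_pow_mul] at hn
    obtain ⟨m, ⟨k, hk⟩, hm⟩ := h2 (TensorProduct.comm R A R' x') ⟨n, by rw [← map_smul, hn, map_zero]⟩
    refine ⟨m, ⟨k, by rw [← map_pow, ← Algebra.smul_def]; exact hk⟩, ?_⟩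
    rw [Algebra.TensorProduct.algebraMap_apply, Algebra.algebraMap_self, RingHom.id_apply]
    apply (TensorProduct.comm R A R').injective
    rw [TensorProduct.comm_tmul, hm]

section RingFlat

variable {A}
variable {B : Type u} [CommRing B] [Algebra R B] [Algebra A B] [IsScalarTower R A B]

/-- (I1) flatness of `R' ⊗ A → R' ⊗ B` gives flatness of `(A ⊗ R') ⊗[A] B` over `A ⊗ R'`. -/
theorem flat_baseChange_of_tensorMap_flat
    (h2 : (Algebra.TensorProduct.map (AlgHom.id R R')
      (IsScalarTower.toAlgHom R A B)).toRingHom.Flat) :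
    Module.Flat (A ⊗[R] R') ((A ⊗[R] R') ⊗[A] B) := by
  letI alg2 : Algebra (A ⊗[R] R') (B ⊗[R] R') :=
    (Algebra.TensorProduct.map (IsScalarTower.toAlgHom R A B) (AlgHom.id R R')).toRingHom.toAlgebra
  haveI : IsScalarTower A (A ⊗[R] R') (B ⊗[R] R') := IsScalarTower.of_algebraMap_eq' (by
    ext a
    simp [RingHom.algebraMap_toAlgebra, Algebra.TensorProduct.algebraMap_apply])
  have hpo : Algebra.IsPushout A B (A ⊗[R] R') (B ⊗[R] R') :=
    Algebra.IsPushout.tensorProduct_tensorProduct R R' A B (by
      ext r
      simp [RingHom.algebraMap_toAlgebra])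
  have h3 : algebraMap (A ⊗[R] R') (B ⊗[R] R') =
      ((Algebra.TensorProduct.comm R R' B).toRingEquiv.toRingHom.comp
        (Algebra.TensorProduct.map (AlgHom.id R R')
          (IsScalarTower.toAlgHom R A B)).toRingHom).comp
        (Algebra.TensorProduct.comm R A R').toRingEquiv.toRingHom := by
    refine RingHom.ext fun x => ?_
    induction x with
    | zero => simp
    | add x y hx hy => rw [map_add, map_add, hx, hy]
    | tmul a r' => simp [RingHom.algebraMap_toAlgebra]
  have h4 : (algebraMap (A ⊗[R] R') (B ⊗[R] R')).Flat := by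
    rw [h3]
    exact RingHom.Flat.respectsIso.2 _ _ (RingHom.Flat.respectsIso.1 _ _ h2)
  haveI : Module.Flat (A ⊗[R] R') (B ⊗[R] R') := RingHom.flat_algebraMap_iff.mp h4
  exact Module.Flat.of_linearEquiv hpo.symm.out.equiv

/-- (I2) flatness of `A_g → B_g` gives flatness of the localized module. -/
theorem flat_localizedModule_of_awayMap_flat (g : A)
    (h1 : (Localization.awayMap (algebraMap A B) g).Flat) :
    Module.Flat (Localization.Away g) (LocalizedModule (Submonoid.powers g) B) := by
  letI := (Localization.awayMap (algebraMap A B) g).toAlgebra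
  haveI : IsLocalization (Algebra.algebraMapSubmonoid B (Submonoid.powers g))
      (Localization.Away (algebraMap A B g)) := by
    show IsLocalization ((Submonoid.powers g).map (algebraMap A B)) _
    rw [Submonoid.map_powers]; exact Localization.isLocalization
  haveI : IsScalarTower A (Localization.Away g) (Localization.Away (algebraMap A B g)) :=
    IsScalarTower.of_algebraMap_eq'
      (IsLocalization.map_comp (Submonoid.powers g).le_comap_map).symm
  haveI hfl : Module.Flat (Localization.Away g) (Localization.Away (algebraMap A B g)) := h1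
  haveI : Module.Flat A (Localization.Away (algebraMap A B g)) :=
    Module.Flat.trans A (Localization.Away g) _
  haveI : IsLocalizedModule (Submonoid.powers g)
      (IsScalarTower.toAlgHom A B (Localization.Away (algebraMap A B g))).toLinearMap :=
    (isLocalizedModule_iff_isLocalization).mpr inferInstance
  let e : LocalizedModule (Submonoid.powers g) B ≃ₗ[A] Localization.Away (algebraMap A B g) :=
    IsLocalizedModule.iso (Submonoid.powers g)
      (IsScalarTower.toAlgHom A B (Localization.Away (algebraMap A B g))).toLinearMap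
  haveI : Module.Flat A (LocalizedModule (Submonoid.powers g) B) := Module.Flat.of_linearEquiv e
  exact (Module.flat_iff_of_isLocalization (R := A) (Localization.Away g)
    (Submonoid.powers g) _).mpr inferInstance

/-- S12188, hard direction. -/
theorem ringHom_flat_of_local (h : EtGlue.IsGlueingPair R R' f)
    (hA : EtGlue.IsGlueable R R' f A)
    (h1 : (Localization.awayMap (algebraMap A B) (algebraMap R A f)).Flat)
    (h2 : (Algebra.TensorProduct.map (AlgHom.id R R')
      (IsScalarTower.toAlgHom R A B)).toRingHom.Flat) :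
    Module.Flat A B := by
  haveI := flat_baseChange_of_tensorMap_flat h2
  haveI := flat_localizedModule_of_awayMap_flat (algebraMap R A f) h1
  exact flat_of_flat_baseChanges (isGlueingPair_tensor A h hA)

end RingFlat

end Groth.Agent.Lib.Helper14.GluePair
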