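import Mathlib
import Groth.Agent.Lib.Helper14.GlueAlgPair

/-!
# Glueing pairs: finite presentation of flat algebras descends (helper14)
-/

open TensorProduct

namespace Groth.Agent.Lib.Helper14.GluePair

universe u

section TensorSide

variable {R R' : Type u} [CommRing R] [CommRing R'] [Algebra R R']
variable {P B : Type u} [CommRing P] [Algebra R P] [CommRing B] [Algebra R B]

theorem tensorMap_eq_lTensor (ψ : P →ₐ[R] B) (x : R' ⊗[R] P) :
    Algebra.TensorProduct.map (AlgHom.id R' R') ψ x = LinearMap.lTensor R' ψ.toLinearMap x := by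
  induction x with
  | zero => simp
  | add x y hx hy => rw [map_add, map_add, hx, hy]
  | tmul r' p => simp

/-- Part 2: generators of the kernel of `R' ⊗ P → R' ⊗ B` come from finitely many elements of
the kernel of `P → B`. -/
theorem exists_finset_of_tensor_fp [Algebra.FinitePresentation R P] (ψ : P →ₐ[R] B)
    (hψ : Function.Surjective ψ) [Algebra.FinitePresentation R' (R' ⊗[R] B)] :
    ∃ S₂ : Finset P, (∀ s ∈ S₂, ψ s = 0) ∧ ∀ N : Ideal P, Ideal.span (S₂ : Set P) ≤ N →
      ∀ j : P, ψ j = 0 → (1 : R') ⊗ₜ[R] j ∈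
        LinearMap.range (LinearMap.lTensor R' (N.restrictScalars R).subtype) := by
  classical
  set ψ' : R' ⊗[R] P →ₐ[R'] R' ⊗[R] B := Algebra.TensorProduct.map (AlgHom.id R' R') ψ with hψ'def
  have hψ' : Function.Surjective ψ' := by
    intro y
    obtain ⟨x, rfl⟩ := LinearMap.lTensor_surjective R' (g := ψ.toLinearMap) hψ y
    exact ⟨x, tensorMap_eq_lTensor ψ x⟩
  obtain ⟨T, hT⟩ := Algebra.FinitePresentation.ker_fG_of_surjective ψ' hψ'
  let Jr : Submodule R P := (RingHom.ker ψ.toRingHom).restrictScalars R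
  have hexJ : Function.Exact Jr.subtype ψ.toLinearMap := by
    intro p
    constructor
    · intro hp; exact ⟨⟨p, hp⟩, rfl⟩
    · rintro ⟨⟨q, hq⟩, rfl⟩; exact hq
  have hex := lTensor_exact (M := Jr) (N := P) (f := Jr.subtype) R' hexJ hψ
  have hTmem : ∀ t ∈ T, ∃ z : R' ⊗[R] Jr, LinearMap.lTensor R' Jr.subtype z = t := by
    intro t ht
    have h1 : t ∈ RingHom.ker ψ'.toRingHom := by rw [← hT]; exact Ideal.subset_span ht
    have h2 : LinearMap.lTensor R' ψ.toLinearMap t = 0 := by
      rw [← tensorMap_eq_lTensor]; exact h1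
    exact (hex t).mp h2
  choose! z hz using hTmem
  obtain ⟨N₀, hN₀, hZ⟩ := TensorProduct.exists_finite_submodule_right_of_setFinite
    ((T.image z : Finset (R' ⊗[R] Jr)) : Set (R' ⊗[R] Jr)) (Finset.finite_toSet _)
  obtain ⟨S₀, hS₀⟩ := Module.Finite.iff_fg.mp hN₀
  refine ⟨S₀.image Subtype.val, ?_, fun N hN j hj => ?_⟩
  · intro s hs
    obtain ⟨⟨s', hs'⟩, -, rfl⟩ := Finset.mem_image.mp hs
    exact hs'
  -- `N₀ ≤ N` inside `P`
  have hle : ∀ x ∈ N₀, (x : P) ∈ N := by
    intro x hx
    rw [← hS₀] at hx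
    refine Submodule.span_induction (p := fun (x : Jr) _ => (x : P) ∈ N) ?_ ?_ ?_ ?_ hx
    · intro x hx
      exact hN (Ideal.subset_span (Finset.mem_coe.mpr (Finset.mem_image_of_mem _ hx)))
    · exact N.zero_mem
    · intro x y _ _ hx hy; exact N.add_mem hx hy
    · intro r x _ hx
      show (r • (x : P)) ∈ N
      rw [Algebra.smul_def]
      exact N.mul_mem_left _ hx
  set Nr : Submodule R P := N.restrictScalars R with hNr
  set E : Submodule R (R' ⊗[R] P) := LinearMap.range (LinearMap.lTensor R' Nr.subtype) with hE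
  -- `E` is closed under multiplication by `R' ⊗ P`
  have hmul : ∀ (c : R' ⊗[R] P) (e : R' ⊗[R] P), e ∈ E → c * e ∈ E := by
    rintro c e ⟨w, rfl⟩
    induction c with
    | zero => rw [zero_mul]; exact E.zero_mem
    | add c d hc hd => rw [add_mul]; exact E.add_mem hc hd
    | tmul r' p =>
      induction w with
      | zero => rw [map_zero, mul_zero]; exact E.zero_mem
      | add w v hw hv => rw [map_add, mul_add]; exact E.add_mem hw hv
      | tmul s' n =>
        refine ⟨(r' * s') ⊗ₜ[R] ⟨p * (n : P), N.mul_mem_left p n.2⟩, ?_⟩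
        simp [Nr]
  have hTE : ∀ t ∈ T, t ∈ E := by
    intro t ht
    have : z t ∈ LinearMap.range (LinearMap.lTensor R' N₀.subtype) :=
      hZ (Finset.mem_coe.mpr (Finset.mem_image_of_mem z ht))
    obtain ⟨w, hw⟩ := this
    rw [← hz t ht, ← hw]
    -- push `w : R' ⊗ N₀` into `R' ⊗ Nr`
    let ι : N₀ →ₗ[R] Nr :=
      { toFun := fun x => ⟨((x : Jr) : P), hle _ x.2⟩
        map_add' := fun _ _ => rfl
        map_smul' := fun _ _ => rfl }
    refine ⟨LinearMap.lTensor R' ι w, ?_⟩
    rw [← LinearMap.comp_apply, ← LinearMap.lTensor_comp, ← LinearMap.comp_apply,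
      ← LinearMap.lTensor_comp]
    rfl
  have hspan : ∀ x ∈ Ideal.span (T : Set (R' ⊗[R] P)), x ∈ E := by
    intro x hx
    refine Submodule.span_induction (p := fun x _ => x ∈ E) ?_ ?_ ?_ ?_ hx
    · intro t ht; exact hTE t ht
    · exact E.zero_mem
    · intro x y _ _ hx hy; exact E.add_mem hx hy
    · intro c x _ hx; exact hmul c x hx
  apply hspan
  rw [hT]
  show ψ' ((1 : R') ⊗ₜ[R] j) = 0
  rw [hψ'def, Algebra.TensorProduct.map_tmul, hj, tmul_zero]

end TensorSide

section LocSide

/-- (L) if the extension of an ideal to a localization is f.g., finitely many elements of the ideal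
generate it up to multiplication by elements of the submonoid. -/
theorem exists_finset_of_map_fg {P : Type*} [CommRing P] (M : Submonoid P) (S : Type*) [CommRing S]
    [Algebra P S] [IsLocalization M S] (I : Ideal P) (h : (I.map (algebraMap P S)).FG) :
    ∃ S₁ : Finset P, (∀ s ∈ S₁, s ∈ I) ∧ ∀ j ∈ I, ∃ m ∈ M, m * j ∈ Ideal.span (S₁ : Set P) := by
  classical
  obtain ⟨T, hT⟩ := h
  have hTmem : ∀ t ∈ T, ∃ x : I × M, t * algebraMap P S x.2 = algebraMap P S x.1 := by
    intro t ht
    apply (IsLocalization.mem_map_algebraMap_iff M S).mp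
    rw [← hT]; exact Ideal.subset_span ht
  choose! x hx using hTmem
  refine ⟨T.image (fun t => ((x t).1 : P)), ?_, fun j hj => ?_⟩
  · intro s hs
    obtain ⟨t, -, rfl⟩ := Finset.mem_image.mp hs
    exact (x t).1.2
  set I₁ : Ideal P := Ideal.span ((T.image (fun t => ((x t).1 : P)) : Finset P) : Set P) with hI₁
  have hle : I.map (algebraMap P S) ≤ I₁.map (algebraMap P S) := by
    rw [← hT, Ideal.span_le]
    intro t ht
    apply (IsLocalization.mem_map_algebraMap_iff M S).mpr
    exact ⟨(⟨(x t).1, Ideal.subset_span (Finset.mem_coe.mpr (Finset.mem_image_of_mem _ ht))⟩,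
      (x t).2), hx t ht⟩
  have hj' : algebraMap P S j ∈ I₁.map (algebraMap P S) := hle (Ideal.mem_map_of_mem _ hj)
  obtain ⟨⟨⟨i, hi⟩, m⟩, hm⟩ := (IsLocalization.mem_map_algebraMap_iff M S).mp hj'
  simp only at hm
  rw [← map_mul] at hm
  obtain ⟨c, hc⟩ := (IsLocalization.eq_iff_exists M S).mp hm
  refine ⟨c * m, mul_mem c.2 m.2, ?_⟩
  have : (c * m : P) * j = c * i := by rw [← hc]; ring
  rw [this]
  exact I₁.mul_mem_left _ hi

variable {R : Type u} [CommRing R]
variable {P B : Type u} [CommRing P] [Algebra R P] [CommRing B] [Algebra R B]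

/-- Part 1: localization side. -/
theorem exists_finset_of_away_fp [Algebra.FinitePresentation R P] (ψ : P →ₐ[R] B)
    (hψ : Function.Surjective ψ) (f : R)
    (h1 : (Localization.awayMap (algebraMap R B) f).FinitePresentation) :
    ∃ S₁ : Finset P, (∀ s ∈ S₁, ψ s = 0) ∧
      ∀ j : P, ψ j = 0 → ∃ n : ℕ, f ^ n • j ∈ Ideal.span (S₁ : Set P) := by
  classical
  let M := Submonoid.powers f
  let Rf := Localization.Away f
  let Pf := Localization.Away (algebraMap R P f)
  let Bf := Localization.Away (algebraMap R B f)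
  letI algP : Algebra Rf Pf := (Localization.awayMap (algebraMap R P) f).toAlgebra
  letI algB : Algebra Rf Bf := (Localization.awayMap (algebraMap R B) f).toAlgebra
  haveI : IsLocalization (Algebra.algebraMapSubmonoid P M) Pf := by
    show IsLocalization (M.map (algebraMap R P)) _
    rw [Submonoid.map_powers]; exact Localization.isLocalization
  haveI : IsLocalization (Algebra.algebraMapSubmonoid B M) Bf := by
    show IsLocalization (M.map (algebraMap R B)) _
    rw [Submonoid.map_powers]; exact Localization.isLocalization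
  haveI : IsScalarTower R Rf Pf := IsScalarTower.of_algebraMap_eq' (by
    rw [IsScalarTower.algebraMap_eq R P Pf]
    exact (IsLocalization.map_comp (M.le_comap_map)).symm)
  haveI : IsScalarTower R Rf Bf := IsScalarTower.of_algebraMap_eq' (by
    rw [IsScalarTower.algebraMap_eq R B Bf]
    exact (IsLocalization.map_comp (M.le_comap_map)).symm)
  haveI hfpP : Algebra.FinitePresentation Rf Pf :=
    RingHom.finitePresentation_isStableUnderBaseChange.localizationPreserves.away
      (algebraMap R P) f _ _ (by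
        show @Algebra.FinitePresentation R P _ _ (algebraMap R P).toAlgebra
        rw [toAlgebra_algebraMap]; infer_instance)
  haveI hfpB : Algebra.FinitePresentation Rf Bf := h1
  let ψf : Pf →ₐ[Rf] Bf := IsLocalization.mapₐ M Rf Pf Bf ψ
  have hψf : Function.Surjective ψf := IsLocalization.mapₐ_surjective_of_surjective M Rf Pf Bf ψ hψ
  have hker := Algebra.FinitePresentation.ker_fG_of_surjective ψf hψf
  have hT : Submonoid.map ψ.toRingHom (Algebra.algebraMapSubmonoid P M) =
      Algebra.algebraMapSubmonoid B M := by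
    show Submonoid.map ψ.toRingHom (M.map (algebraMap R P)) = M.map (algebraMap R B)
    rw [Submonoid.map_powers, Submonoid.map_powers, Submonoid.map_powers]
    congr 1
    exact ψ.commutes f
  have hkm := IsLocalization.ker_map (S := Pf) Bf ψ.toRingHom hT
  have hfg : ((RingHom.ker ψ.toRingHom).map (algebraMap P Pf)).FG := by
    rw [← hkm]
    exact hker
  obtain ⟨S₁, hS₁, hS₁'⟩ := exists_finset_of_map_fg (Algebra.algebraMapSubmonoid P M) Pf
    (RingHom.ker ψ.toRingHom) hfg
  refine ⟨S₁, fun s hs => hS₁ s hs, fun j hj => ?_⟩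
  obtain ⟨m, ⟨_, ⟨n, rfl⟩, rfl⟩, hm⟩ := hS₁' j hj
  refine ⟨n, ?_⟩
  rw [Algebra.smul_def]
  exact hm

end LocSide

section Assembly

variable {R R' : Type u} [CommRing R] [CommRing R'] [Algebra R R'] {f : R}

/-- A flat algebra of finite type whose base changes to `R'` and `R_f` are finitely presented is
finitely presented. -/
theorem algebra_finitePresentation_of_local (hq : EtGlue.QuotPowBijective R R' f)
    (B : Type u) [CommRing B] [Algebra R B] [Module.Flat R B] [Algebra.FiniteType R B]
    [Algebra.FinitePresentation R' (R' ⊗[R] B)]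
    (h1 : (Localization.awayMap (algebraMap R B) f).FinitePresentation) :
    Algebra.FinitePresentation R B := by
  classical
  obtain ⟨n, ψ, hψ⟩ := Algebra.FiniteType.iff_quotient_mvPolynomial''.mp
    (inferInstance : Algebra.FiniteType R B)
  obtain ⟨S₁, hS₁, hS₁'⟩ := exists_finset_of_away_fp ψ hψ f h1
  obtain ⟨S₂, hS₂, hS₂'⟩ := exists_finset_of_tensor_fp (R' := R') ψ hψ
  set J : Ideal (MvPolynomial (Fin n) R) := RingHom.ker ψ.toRingHom with hJ
  set N : Ideal (MvPolynomial (Fin n) R) :=
    Ideal.span ((S₁ ∪ S₂ : Finset (MvPolynomial (Fin n) R)) : Set (MvPolynomial (Fin n) R)) with hN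
  have hNJ : N ≤ J := by
    rw [hN, Ideal.span_le]
    intro s hs
    rcases Finset.mem_union.mp (Finset.mem_coe.mp hs) with h | h
    · exact hS₁ s h
    · exact hS₂ s h
  have hS₁N : Ideal.span (S₁ : Set (MvPolynomial (Fin n) R)) ≤ N :=
    Ideal.span_mono (Finset.coe_subset.mpr Finset.subset_union_left)
  have hS₂N : Ideal.span (S₂ : Set (MvPolynomial (Fin n) R)) ≤ N :=
    Ideal.span_mono (Finset.coe_subset.mpr Finset.subset_union_right)
  let Jr : Submodule R (MvPolynomial (Fin n) R) := J.restrictScalars R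
  let Nr : Submodule R (MvPolynomial (Fin n) R) := N.restrictScalars R
  have hNJr : Nr ≤ Jr := hNJ
  have hexJ : Function.Exact Jr.subtype ψ.toLinearMap := by
    intro p
    constructor
    · intro hp; exact ⟨⟨p, hp⟩, rfl⟩
    · rintro ⟨⟨q, hq'⟩, rfl⟩; exact hq'
  have hinj : Function.Injective (LinearMap.lTensor R' Jr.subtype) :=
    LinearMap.lTensor_injective_of_exact_of_flat ψ.toLinearMap hψ Jr.subtype Jr.subtype_injective
      hexJ R'
  have hsurj : Function.Surjective (Submodule.inclusion hNJr) := by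
    apply surjective_of_local hq
    · rintro ⟨j, hj⟩
      obtain ⟨k, hk⟩ := hS₁' j hj
      exact ⟨k, ⟨⟨f ^ k • j, hS₁N hk⟩, rfl⟩⟩
    · rintro ⟨j, hj⟩
      obtain ⟨w, hw⟩ := hS₂' N hS₂N j hj
      refine ⟨w, ?_⟩
      apply hinj
      rw [← LinearMap.comp_apply, ← LinearMap.lTensor_comp, LinearMap.lTensor_tmul]
      exact hw
  have hJN : J = N := by
    apply le_antisymm _ hNJ
    intro j hj
    obtain ⟨⟨j', hj'⟩, h⟩ := hsurj ⟨j, hj⟩
    have := congrArg Subtype.val h
    simp only [Submodule.coe_inclusion] at this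
    rw [← this]
    exact hj'
  have hfg : J.FG := by
    rw [hJN]
    exact ⟨S₁ ∪ S₂, rfl⟩
  exact Algebra.FinitePresentation.of_surjective hψ hfg

end Assembly

end Groth.Agent.Lib.Helper14.GluePair
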