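import Mathlib
import Groth.Agent.Lib.Helper14.GlueFPAlg

/-!
# Glueing pairs: flat + finitely presented, and etale ring maps descend (helper14)
-/

open TensorProduct

namespace Groth.Agent.Lib.Helper14.GluePair

universe u

variable {R R' : Type u} [CommRing R] [CommRing R'] [Algebra R R'] {f : R}
variable {A B : Type u} [CommRing A] [Algebra R A] [CommRing B] [Algebra R B] [Algebra A B]
  [IsScalarTower R A B]

variable (R R' A B) in
/-- the algebra structure `A ⊗ R' → B ⊗ R'`. -/
noncomputable def tensorRightAlgebra : Algebra (A ⊗[R] R') (B ⊗[R] R') :=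
  (Algebra.TensorProduct.map (IsScalarTower.toAlgHom R A B) (AlgHom.id R R')).toRingHom.toAlgebra

attribute [local instance] tensorRightAlgebra

theorem algebraMap_tensorRight_apply (x : A ⊗[R] R') :
    algebraMap (A ⊗[R] R') (B ⊗[R] R') x =
      Algebra.TensorProduct.map (IsScalarTower.toAlgHom R A B) (AlgHom.id R R') x := rfl

instance : IsScalarTower A (A ⊗[R] R') (B ⊗[R] R') := IsScalarTower.of_algebraMap_eq' (by
  ext a
  simp [algebraMap_tensorRight_apply, Algebra.TensorProduct.algebraMap_apply])

theorem isPushout_tensorRight : Algebra.IsPushout A (A ⊗[R] R') B (B ⊗[R] R') :=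
  (Algebra.IsPushout.tensorProduct_tensorProduct R R' A B (by
    ext r
    simp [algebraMap_tensorRight_apply])).symm

theorem algebraMap_tensorRight_eq :
    algebraMap (A ⊗[R] R') (B ⊗[R] R') =
      ((Algebra.TensorProduct.comm R R' B).toRingEquiv.toRingHom.comp
        (Algebra.TensorProduct.map (AlgHom.id R R')
          (IsScalarTower.toAlgHom R A B)).toRingHom).comp
        (Algebra.TensorProduct.comm R A R').toRingEquiv.toRingHom := by
  refine RingHom.ext fun x => ?_
  induction x with
  | zero => simp
  | add x y hx hy => rw [map_add, map_add, hx, hy]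
  | tmul a r' => simp [algebraMap_tensorRight_apply]

/-- transport of a property respecting isomorphisms from `R' ⊗ A → R' ⊗ B` to
`A ⊗ R' → B ⊗ R'`. -/
theorem algebraMap_tensorRight_of_tensorMap
    {P : ∀ {R S : Type u} [CommRing R] [CommRing S], (R →+* S) → Prop}
    (hP : RingHom.RespectsIso @P)
    (h2 : P (Algebra.TensorProduct.map (AlgHom.id R R') (IsScalarTower.toAlgHom R A B)).toRingHom) :
    P (algebraMap (A ⊗[R] R') (B ⊗[R] R')) := by
  rw [algebraMap_tensorRight_eq]
  exact hP.2 _ _ (hP.1 _ _ h2)

/-- finite presentation of `R' ⊗ A → R' ⊗ B` gives that of `(A ⊗ R') ⊗[A] B` over `A ⊗ R'`. -/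
theorem fp_baseChange_of_tensorMap_fp
    (h2 : (Algebra.TensorProduct.map (AlgHom.id R R')
      (IsScalarTower.toAlgHom R A B)).toRingHom.FinitePresentation) :
    Algebra.FinitePresentation (A ⊗[R] R') ((A ⊗[R] R') ⊗[A] B) := by
  have h4 := algebraMap_tensorRight_of_tensorMap RingHom.finitePresentation_respectsIso h2
  haveI : Algebra.FinitePresentation (A ⊗[R] R') (B ⊗[R] R') :=
    RingHom.finitePresentation_algebraMap.mp h4
  haveI := isPushout_tensorRight (R := R) (R' := R') (A := A) (B := B)
  exact Algebra.FinitePresentation.equiv (Algebra.IsPushout.equiv A (A ⊗[R] R') B (B ⊗[R] R')).symm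

/-- S10723, hard direction. -/
theorem ringHom_flat_fp_of_local (h : EtGlue.IsGlueingPair R R' f)
    (hA : EtGlue.IsGlueable R R' f A)
    (h1 : (Localization.awayMap (algebraMap A B) (algebraMap R A f)).Flat)
    (h1' : (Localization.awayMap (algebraMap A B) (algebraMap R A f)).FinitePresentation)
    (h2 : (Algebra.TensorProduct.map (AlgHom.id R R')
      (IsScalarTower.toAlgHom R A B)).toRingHom.Flat)
    (h2' : (Algebra.TensorProduct.map (AlgHom.id R R')
      (IsScalarTower.toAlgHom R A B)).toRingHom.FinitePresentation) :
    Module.Flat A B ∧ Algebra.FinitePresentation A B := by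
  haveI hfl : Module.Flat A B := ringHom_flat_of_local h hA h1 h2
  haveI hft : Algebra.FiniteType A B :=
    ringHom_finiteType_of_local h.1 (RingHom.FiniteType.of_finitePresentation h1')
      (RingHom.FiniteType.of_finitePresentation h2')
  haveI := fp_baseChange_of_tensorMap_fp h2'
  exact ⟨hfl, algebra_finitePresentation_of_local (quotPowBijective_tensor A h.1) B h1'⟩

/-- formally unramified descends. -/
theorem formallyUnramified_of_local (h : EtGlue.IsGlueingPair R R' f)
    (h1 : (Localization.awayMap (algebraMap A B) (algebraMap R A f)).FormallyUnramified)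
    (h2 : (Algebra.TensorProduct.map (AlgHom.id R R')
      (IsScalarTower.toAlgHom R A B)).toRingHom.FormallyUnramified) :
    Algebra.FormallyUnramified A B := by
  set g := algebraMap R A f with hg
  -- torsion
  have htors : ∀ w : Ω[B⁄A], ∃ n : ℕ, g ^ n • w = 0 := by
    letI := (Localization.awayMap (algebraMap A B) g).toAlgebra
    haveI : IsLocalization (Algebra.algebraMapSubmonoid B (Submonoid.powers g))
        (Localization.Away (algebraMap A B g)) := by
      show IsLocalization ((Submonoid.powers g).map (algebraMap A B)) _
      rw [Submonoid.map_powers]; exact Localization.isLocalization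
    haveI : IsScalarTower A (Localization.Away g) (Localization.Away (algebraMap A B g)) :=
      IsScalarTower.of_algebraMap_eq'
        (IsLocalization.map_comp (Submonoid.powers g).le_comap_map).symm
    haveI hu : Algebra.FormallyUnramified (Localization.Away g)
        (Localization.Away (algebraMap A B g)) := h1
    intro w
    have hloc : IsLocalizedModule (Submonoid.powers g)
        ((KaehlerDifferential.map A (Localization.Away g) B
          (Localization.Away (algebraMap A B g))).restrictScalars A) :=
      KaehlerDifferential.isLocalizedModule A (Localization.Away g) B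
        (Localization.Away (algebraMap A B g)) (Submonoid.powers g)
    have h0 : ((KaehlerDifferential.map A (Localization.Away g) B
          (Localization.Away (algebraMap A B g))).restrictScalars A) w = 0 :=
      Subsingleton.elim _ _
    obtain ⟨⟨_, n, rfl⟩, hn⟩ := (IsLocalizedModule.eq_zero_iff (Submonoid.powers g) _).mp h0
    exact ⟨n, hn⟩
  -- tensor side
  have htens : Subsingleton ((A ⊗[R] R') ⊗[A] Ω[B⁄A]) := by
    have h4 := algebraMap_tensorRight_of_tensorMap RingHom.FormallyUnramified.respectsIso h2
    haveI : Algebra.FormallyUnramified (A ⊗[R] R') (B ⊗[R] R') :=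
      RingHom.formallyUnramified_algebraMap.mp h4
    haveI := isPushout_tensorRight (R := R) (R' := R') (A := A) (B := B)
    exact (KaehlerDifferential.tensorKaehlerEquivBase A (A ⊗[R] R') B (B ⊗[R] R')).subsingleton
  constructor
  exact subsingleton_of_torsion (quotPowBijective_tensor A h.1) htors htens

/-- S10724, hard direction. -/
theorem ringHom_etale_of_local (h : EtGlue.IsGlueingPair R R' f)
    (hA : EtGlue.IsGlueable R R' f A)
    (h1 : (Localization.awayMap (algebraMap A B) (algebraMap R A f)).Etale)
    (h2 : (Algebra.TensorProduct.map (AlgHom.id R R')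
      (IsScalarTower.toAlgHom R A B)).toRingHom.Etale) :
    Algebra.Etale A B := by
  have hs1 := ((RingHom.etale_iff_formallyUnramified_and_smooth _).mp h1)
  have hs2 := ((RingHom.etale_iff_formallyUnramified_and_smooth _).mp h2)
  obtain ⟨hfl, hfp⟩ := ringHom_flat_fp_of_local h hA hs1.2.flat hs1.2.finitePresentation
    hs2.2.flat hs2.2.finitePresentation
  haveI := hfl
  haveI := hfp
  haveI := formallyUnramified_of_local h hs1.1 hs2.1
  exact Algebra.Etale.of_formallyUnramified_of_flat

end Groth.Agent.Lib.Helper14.GluePair
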