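import Groth.Agent.Lib.Helper14.GrpDim
import Groth.Agent.Lib.Helper14.HomogDim
import Groth.Agent.Lib.Helper12.SchemeDimFT3
import Groth.Agent.Lib.Helper12.SchemeDimIneq2

/-!
# A group scheme locally of finite type over a field is equidimensional (helper14)
-/

set_option autoImplicit false
set_option linter.style.haveILetI false
universe u

open CategoryTheory MonoidalCategory CartesianMonoidalCategory MonObj Limits AlgebraicGeometry

namespace Groth.Agent.Lib.Helper14.GrpEquidim

open Groth.Agent.Lib.Helper12 Groth.Agent.Lib.Helper12.SchemeDimFT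

theorem main (k : Type u) [Field k] (G : Over (Spec (CommRingCat.of k))) [GrpObj G]
    [LocallyOfFiniteType G.hom] :
    (∀ Z ∈ irreducibleComponents ↥G.left, topologicalKrullDim ↥Z = topologicalKrullDim ↥G.left) ∧
    (∀ g : G.left, FlatMor.localDim ↥G.left g = topologicalKrullDim ↥G.left) := by
  haveI : Subsingleton ↥(Spec (CommRingCat.of k)) :=
    Groth.Agent.Lib.Helper14.HomogDim.subsingleton_Spec_of_artinian_local k
  letI : G.left.Over (Spec (CommRingCat.of k)) := ⟨G.hom⟩
  haveI : LocallyOfFiniteType (G.left ↘ Spec (CommRingCat.of k)) := ‹LocallyOfFiniteType G.hom›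
  have hconst : ∀ g h : G.left, FlatMor.localDim ↥G.left g = FlatMor.localDim ↥G.left h := by
    intro g h
    rw [← Groth.Agent.Lib.Helper14.HomogDim.fibreDimAt_eq_localDim_of_subsingleton G.hom,
      ← Groth.Agent.Lib.Helper14.HomogDim.fibreDimAt_eq_localDim_of_subsingleton G.hom]
    exact Groth.Agent.Lib.Helper14.GrpDim.fibreDimAt_eq_of_hom_eq G g h (Subsingleton.elim _ _)
  obtain ⟨s₀⟩ : Nonempty ↥(Spec (CommRingCat.of k)) := inferInstance
  let e₀ : G.left := (η[G]).left s₀
  have hdim : topologicalKrullDim ↥G.left = FlatMor.localDim ↥G.left e₀ := by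
    rw [Groth.Agent.Lib.Helper9.topologicalKrullDim_eq_iSup_localDim]
    haveI : Nonempty ↥G.left := ⟨e₀⟩
    simp_rw [fun x => hconst x e₀]
    exact ciSup_const
  have hii : ∀ g : G.left, FlatMor.localDim ↥G.left g = topologicalKrullDim ↥G.left := by
    intro g
    rw [hdim]
    exact hconst g e₀
  refine ⟨?_, hii⟩
  intro Z hZ
  obtain ⟨ζ, hζ, rfl⟩ := (mem_irreducibleComponents_iff Z).mp hZ
  rw [topologicalKrullDim_closure_singleton k G.left ζ, ← hii ζ]
  have hb : ringKrullDim (G.left.presheaf.stalk ζ) = ((0 : ℕ) : WithBot ℕ∞) := by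
    rw [ringKrullDim_stalk_eq_coheight]
    have hmax : IsMax ζ := by
      intro y hy
      have : y = ζ := hζ y hy
      rw [this]
    rw [Order.coheight_eq_zero.mpr hmax]
    rfl
  rw [localDim_eq k G.left ζ (tr k G.left ζ) 0 (tr_spec k G.left ζ) hb, add_zero]

end Groth.Agent.Lib.Helper14.GrpEquidim
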