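import Mathlib
import Groth.Agent.Lib.Helper14.GrpCM
import Groth.Agent.Lib.Helper14.HomogDim
import Groth.Agent.Lib.Helper16.FlatBC1
import Groth.Agent.Lib.Helper14.GrpDim

/-!
# Homogeneity for homomorphisms of group schemes: pointwise flatness propagates
-/

set_option autoImplicit false
set_option linter.style.haveILetI false
universe u v

open CategoryTheory MonoidalCategory CartesianMonoidalCategory MonObj Limits

namespace Groth.Agent.Lib.Helper14.GrpHomog

section abstract

variable {C : Type u} [Category.{v} C] [CartesianMonoidalCategory C]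

/-- `G × X ⟶ G × Y` is the base change of `X ⟶ Y` along the projection. -/
theorem isPullback_snd_whiskerLeft (G : C) {X Y : C} (u : X ⟶ Y) :
    IsPullback (snd G X) (G ◁ u) u (snd G Y) where
  w := by simp
  isLimit' := Nonempty.intro <| PullbackCone.IsLimit.mk _
    (fun s => lift (s.snd ≫ fst G Y) s.fst)
    (fun s => by simp)
    (fun s => by
      refine CartesianMonoidalCategory.hom_ext _ _ (by simp) ?_
      simp [s.condition])
    (fun s m hm₁ hm₂ => by
      refine CartesianMonoidalCategory.hom_ext _ _ ?_ (by simpa using hm₁)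
      rw [lift_fst, ← hm₂]
      simp)

variable {G H : C} [GrpObj G] [GrpObj H] (u : G ⟶ H) [IsMonHom u]

/-- the twisted action `(g, h) ↦ u(g) h`. -/
noncomputable def tw : G ⊗ H ⟶ H := (u ▷ H) ≫ μ[H]

theorem tw_eq : tw u = (fst G H ≫ u) * snd G H := by
  rw [Hom.mul_def, tw]
  congr 1
  refine CartesianMonoidalCategory.hom_ext _ _ (by simp) (by simp)

theorem comp_tw {T : C} (m : T ⟶ G ⊗ H) : m ≫ tw u = (m ≫ fst G H ≫ u) * (m ≫ snd G H) := by
  rw [tw_eq, MonObj.comp_mul]

theorem comp_mul_eq {T : C} (m : T ⟶ G ⊗ G) : m ≫ μ[G] = (m ≫ fst G G) * (m ≫ snd G G) := by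
  rw [← MonObj.comp_mul]
  congr 1
  simp [Hom.mul_def]

theorem isPullback_mul_whiskerLeft : IsPullback μ[G] (G ◁ u) u (tw u) where
  w := by
    have hμ : μ[G] = fst G G * snd G G := by simpa using comp_mul_eq (𝟙 (G ⊗ G))
    rw [comp_tw, hμ, MonObj.mul_comp]
    simp
  isLimit' := Nonempty.intro <| PullbackCone.IsLimit.mk _
    (fun s => lift (s.snd ≫ fst G H) ((s.snd ≫ fst G H)⁻¹ * s.fst))
    (fun s => by
      rw [comp_mul_eq]
      simp)
    (fun s => by
      refine CartesianMonoidalCategory.hom_ext _ _ (by simp) ?_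
      have hc := s.condition
      rw [comp_tw] at hc
      simp only [Category.assoc, whiskerLeft_snd, lift_snd_assoc]
      rw [MonObj.mul_comp, hc]
      simp [GrpObj.inv_comp])
    (fun s m hm₁ hm₂ => by
      have h1 : m ≫ fst G G = s.snd ≫ fst G H := by
        rw [← hm₂]
        simp
      refine CartesianMonoidalCategory.hom_ext _ _ (by simpa using h1) ?_
      rw [lift_snd, ← h1, ← hm₁, comp_mul_eq]
      simp)

theorem isPullback_tw_fst : IsPullback (tw u) (fst G H) (toUnit H) (toUnit G) where
  w := by simp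
  isLimit' := Nonempty.intro <| PullbackCone.IsLimit.mk _
    (fun s => lift s.snd ((s.snd ≫ u)⁻¹ * s.fst))
    (fun s => by
      rw [comp_tw]
      simp)
    (fun s => by simp)
    (fun s m hm₁ hm₂ => by
      refine CartesianMonoidalCategory.hom_ext _ _ (by simpa using hm₂) ?_
      rw [lift_snd, ← hm₂, ← hm₁, comp_tw]
      simp)

end abstract

section scheme

open AlgebraicGeometry

/-- pointwise flatness and flat base change. -/
theorem flatAt_iff_of_isPullback_of_flat {X' X Y' Y : Scheme.{u}} {g' : X' ⟶ X} {f' : X' ⟶ Y'}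
    {f : X ⟶ Y} {g : Y' ⟶ Y} (sq : IsPullback g' f' f g) [Flat g] (x' : X') :
    (f'.stalkMap x').hom.Flat ↔ (f.stalkMap (g' x')).hom.Flat := by
  constructor
  · intro h
    haveI : Flat g' := MorphismProperty.of_isPullback (P := @Flat) sq.flip inferInstance
    exact Groth.Agent.Lib.Helper16.FlatBC.flatAt_descend g' g f' f sq.w.symm x'
      (Flat.stalkMap g' x') (Flat.stalkMap g (f' x')) h
  · intro h
    exact Groth.Agent.Lib.Helper17.FibreFlat.flat_stalkMap_baseChange sq.flip x' h

variable {S : Scheme.{u}} {G H : Over S} [GrpObj G] [GrpObj H] (u : G ⟶ H) [IsMonHom u]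

theorem flat_snd_left [Flat G.hom] : Flat (snd G H).left := by
  have sq : IsPullback (snd G H).left (fst G H).left H.hom G.hom := by
    simpa using ((Groth.Agent.Lib.Helper14.HomogDim.isPullback_fst_snd G H).map
      (Over.forget _)).flip
  exact MorphismProperty.of_isPullback (P := @Flat) sq.flip inferInstance

theorem flat_tw_left [Flat G.hom] : Flat (tw u).left := by
  have sq : IsPullback (tw u).left (fst G H).left H.hom G.hom := by
    simpa using (isPullback_tw_fst u).map (Over.forget _)
  exact MorphismProperty.of_isPullback (P := @Flat) sq.flip inferInstance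

/-- `u` is flat at `snd z` iff it is flat at `μ z`. -/
theorem flatAt_snd_iff_flatAt_mul [Flat G.hom] (z : (G ⊗ G).left) :
    (u.left.stalkMap ((snd G G).left z)).hom.Flat ↔ (u.left.stalkMap ((μ[G]).left z)).hom.Flat := by
  haveI := flat_snd_left (G := G) (H := H)
  haveI := flat_tw_left u
  have sq1 : IsPullback (snd G G).left (G ◁ u).left u.left (snd G H).left := by
    simpa using (isPullback_snd_whiskerLeft G u).map (Over.forget _)
  have sq2 : IsPullback (μ[G]).left (G ◁ u).left u.left (tw u).left := by
    simpa using (isPullback_mul_whiskerLeft u).map (Over.forget _)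
  rw [← flatAt_iff_of_isPullback_of_flat sq1 z, flatAt_iff_of_isPullback_of_flat sq2 z]

/-- **Homogeneity**: a homomorphism of group schemes (the source flat over the base) which is
flat at a point is flat at all points of the same fibre. -/
theorem flatAt_of_flatAt [Flat G.hom] (x y : G.left) (hxy : G.hom x = G.hom y)
    (hx : (u.left.stalkMap x).hom.Flat) : (u.left.stalkMap y).hom.Flat := by
  obtain ⟨z, hz1, hz2⟩ := Groth.Agent.Lib.Helper14.GrpdCM.exists_preimage_of_isPullback
    (Groth.Agent.Lib.Helper14.GrpDim.isPullback_snd_mul_left G) x y hxy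
  rw [← hz2, ← flatAt_snd_iff_flatAt_mul u z, hz1]
  exact hx

end scheme

end Groth.Agent.Lib.Helper14.GrpHomog
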