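import Mathlib
import Groth.Prelude.Def_CAlg
import Groth.Agent.Lib.Helper4.CM
import Groth.Agent.Lib.Helper26.RegQuotLoc

/-!
# Algebra for slicing groupoids (helper14)

* `exists_regular_or_prime`: prime avoidance on a Cohen–Macaulay fibre ring.
-/

set_option autoImplicit false
universe u

open IsLocalRing

namespace Groth.Agent.Lib.Helper14.GrpdSliceAlg

variable {A C : Type u} [CommRing A] [CommRing C] [IsLocalRing C]

/-- **prime avoidance on a Cohen–Macaulay fibre ring**: if `C / 𝔪 C` (via `φ`) is Cohen–Macaulay,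
then either some `ψ f`, `f ∈ 𝔪`, is regular on it, or there is a prime of `C` containing
`φ(𝔪)C + ψ(𝔪)C` with `dim C/𝔓 = dim C/𝔪C`. -/
theorem exists_regular_or_prime (m : Ideal A) (φ ψ : A →+* C)
    (hcm : LocCoh.IsCohenMacaulayLocalRing (C ⧸ m.map φ)) :
    (∃ f ∈ m, ∀ w : C, ψ f * w ∈ m.map φ → w ∈ m.map φ) ∨
    (∃ 𝔓 : Ideal C, 𝔓.IsPrime ∧ m.map φ ≤ 𝔓 ∧ m.map ψ ≤ 𝔓 ∧
      ringKrullDim (C ⧸ 𝔓) = ringKrullDim (C ⧸ m.map φ)) := by
  classical
  set I := m.map φ with hI
  set O := C ⧸ I with hO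
  haveI := hcm
  haveI : IsNoetherianRing O := inferInstanceAs (IsNoetherianRing (C ⧸ I))
  haveI : IsLocalRing O := inferInstanceAs (IsLocalRing (C ⧸ I))
  by_cases h : ∃ f ∈ m, ∀ w : C, ψ f * w ∈ I → w ∈ I
  · exact Or.inl h
  right
  push Not at h
  let τ : A →+* O := (Ideal.Quotient.mk I).comp ψ
  have hfin : (associatedPrimes O O).Finite := associatedPrimes.finite O O
  have hzd : ∀ f ∈ m, τ f ∈ ⋃ p ∈ associatedPrimes O O, (p : Set O) := by
    intro f hf
    obtain ⟨w, hw1, hw2⟩ := h f hf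
    rw [biUnion_associatedPrimes_eq_zero_divisors]
    refine ⟨Ideal.Quotient.mk I w, ?_, ?_⟩
    · intro h0
      exact hw2 (Ideal.Quotient.eq_zero_iff_mem.mp h0)
    · show τ f * Ideal.Quotient.mk I w = 0
      rw [show τ f = Ideal.Quotient.mk I (ψ f) from rfl, ← map_mul]
      exact Ideal.Quotient.eq_zero_iff_mem.mpr hw1
  have hsub : (m : Set A) ⊆ ⋃ p ∈ ((hfin.toFinset : Finset (Ideal O)) : Set (Ideal O)),
      ((fun p : Ideal O => p.comap τ) p : Set A) := by
    intro f hf
    have := hzd f hf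
    simp only [Set.mem_iUnion, SetLike.mem_coe, exists_prop] at this ⊢
    obtain ⟨p, hp, hfp⟩ := this
    exact ⟨p, by simpa using hp, hfp⟩
  have hne : (associatedPrimes O O).Nonempty := associatedPrimes.nonempty O O
  obtain ⟨p₀, hp₀⟩ := hne
  rw [Ideal.subset_union_prime p₀ p₀ (fun i hi _ _ => by
    have : i ∈ associatedPrimes O O := by simpa using hi
    haveI := this.isPrime
    exact Ideal.comap_isPrime τ i)] at hsub
  obtain ⟨𝔭, h𝔭, hm𝔭⟩ := hsub
  have h𝔭ass : 𝔭 ∈ associatedPrimes O O := by simpa using h𝔭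
  haveI h𝔭prime : 𝔭.IsPrime := h𝔭ass.isPrime
  refine ⟨𝔭.comap (Ideal.Quotient.mk I), Ideal.comap_isPrime _ _, ?_, ?_, ?_⟩
  · intro c hc
    rw [Ideal.mem_comap, Ideal.Quotient.eq_zero_iff_mem.mpr hc]
    exact 𝔭.zero_mem
  · rw [Ideal.map_le_iff_le_comap]
    intro a ha
    exact hm𝔭 ha
  · have hcmM : LocCoh.IsCohenMacaulayModule O O := hcm.supportDim_eq_depth
    have h1 := Groth.Agent.Lib.Helper4.cm_ringKrullDim_quotient_eq hcmM h𝔭ass
    rw [Module.supportDim_self_eq_ringKrullDim] at h1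
    rw [← h1]
    let g : C →+* O ⧸ 𝔭 := (Ideal.Quotient.mk 𝔭).comp (Ideal.Quotient.mk I)
    have hg : Function.Surjective g :=
      Ideal.Quotient.mk_surjective.comp Ideal.Quotient.mk_surjective
    have hker : RingHom.ker g = 𝔭.comap (Ideal.Quotient.mk I) := by
      ext c
      rw [RingHom.mem_ker, Ideal.mem_comap]
      exact Ideal.Quotient.eq_zero_iff_mem
    have e := RingHom.quotientKerEquivOfSurjective hg
    exact ringKrullDim_eq_of_ringEquiv ((Ideal.quotEquivOfEq hker.symm).trans e)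


/-- **the fibre ring of a slice**: if `π : C → D` is surjective with kernel `(b)`, `C/(b)` is flat
over `A₀`, the fibre ring `C/𝔪C` is Cohen–Macaulay and `b ∈ 𝔪_C` is regular on it, then `D` is flat
over `A₀` with Cohen–Macaulay fibre ring of dimension one less. -/
theorem slice_alg {A₀ D : Type u} [CommRing A₀] [CommRing D] [IsLocalRing A₀]
    (σ : A₀ →+* C) (π : C →+* D) (hπ : Function.Surjective π) (b : C)
    (hker : RingHom.ker π = Ideal.span {b}) (hb : b ∈ maximalIdeal C)
    (hflat : letI := σ.toAlgebra; Module.Flat A₀ (C ⧸ Ideal.span {b}))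
    (hcm : LocCoh.IsCohenMacaulayLocalRing (C ⧸ (maximalIdeal A₀).map σ))
    (hreg : ∀ w, b * w ∈ (maximalIdeal A₀).map σ → w ∈ (maximalIdeal A₀).map σ) :
    (π.comp σ).Flat ∧
      LocCoh.IsCohenMacaulayLocalRing (D ⧸ (maximalIdeal A₀).map (π.comp σ)) ∧
      ringKrullDim (D ⧸ (maximalIdeal A₀).map (π.comp σ)) + 1 =
        ringKrullDim (C ⧸ (maximalIdeal A₀).map σ) := by
  set I := (maximalIdeal A₀).map σ with hI
  refine ⟨?_, ?_⟩
  · -- flatness
    letI a1 : Algebra A₀ C := σ.toAlgebra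
    letI a2 : Algebra A₀ D := (π.comp σ).toAlgebra
    let e : (C ⧸ Ideal.span {b}) ≃+* D :=
      (Ideal.quotEquivOfEq hker.symm).trans (RingHom.quotientKerEquivOfSurjective hπ)
    have he : ∀ c : C, e (Ideal.Quotient.mk _ c) = π c := fun c => rfl
    let el : (C ⧸ Ideal.span {b}) ≃ₗ[A₀] D :=
      { e.toAddEquiv with
        map_smul' := fun a c => by
          obtain ⟨c, rfl⟩ := Ideal.Quotient.mk_surjective c
          show e (a • Ideal.Quotient.mk _ c) = a • e (Ideal.Quotient.mk _ c)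
          have h1 : a • Ideal.Quotient.mk (Ideal.span {b}) c =
              Ideal.Quotient.mk (Ideal.span {b}) (σ a * c) := by
            have : σ a * c = a • c := (Algebra.smul_def a c).symm
            rw [this]; rfl
          rw [h1, he, he, map_mul, Algebra.smul_def]
          rfl }
    haveI := hflat
    exact Module.Flat.of_linearEquiv el.symm
  · -- the fibre ring
    haveI := hcm
    haveI : IsNoetherianRing (C ⧸ I) := inferInstanceAs (IsNoetherianRing (C ⧸ I))
    haveI : IsLocalRing (C ⧸ I) := inferInstanceAs (IsLocalRing (C ⧸ I))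
    set bb : C ⧸ I := Ideal.Quotient.mk I b with hbb
    have hbbm : bb ∈ maximalIdeal (C ⧸ I) := by
      rw [mem_maximalIdeal, mem_nonunits_iff] at hb ⊢
      intro hu
      apply hb
      haveI : IsLocalHom (Ideal.Quotient.mk I) :=
        IsLocalHom.of_surjective _ Ideal.Quotient.mk_surjective
      exact (isUnit_map_iff (Ideal.Quotient.mk I) b).mp hu
    have hbbreg : IsSMulRegular (C ⧸ I) bb := by
      intro x y hxy
      obtain ⟨x, rfl⟩ := Ideal.Quotient.mk_surjective x
      obtain ⟨y, rfl⟩ := Ideal.Quotient.mk_surjective y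
      have h1 : Ideal.Quotient.mk I (b * (x - y)) = 0 := by
        rw [mul_sub, map_sub, map_mul, map_mul, sub_eq_zero]
        exact hxy
      have h2 := hreg (x - y) (Ideal.Quotient.eq_zero_iff_mem.mp h1)
      rw [← sub_eq_zero, ← map_sub]
      exact Ideal.Quotient.eq_zero_iff_mem.mpr h2
    have hcm' : LocCoh.IsCohenMacaulayLocalRing ((C ⧸ I) ⧸ Ideal.span {bb}) :=
      (Groth.Agent.Lib.Helper26.RegQuotLoc.cm_quotient_span_iff (C ⧸ I) bb hbbm hbbreg).mp hcm
    have hdim := ringKrullDim_quotient_span_singleton_succ_eq_ringKrullDim hbbreg hbbm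
    -- the two quotients of `C`
    let g₁ : C →+* D ⧸ (maximalIdeal A₀).map (π.comp σ) :=
      (Ideal.Quotient.mk _).comp π
    let g₂ : C →+* (C ⧸ I) ⧸ Ideal.span {bb} :=
      (Ideal.Quotient.mk _).comp (Ideal.Quotient.mk I)
    have hg₁ : Function.Surjective g₁ := Ideal.Quotient.mk_surjective.comp hπ
    have hg₂ : Function.Surjective g₂ :=
      Ideal.Quotient.mk_surjective.comp Ideal.Quotient.mk_surjective
    have hk₁ : RingHom.ker g₁ = I ⊔ Ideal.span {b} := by
      have h1 : RingHom.ker g₁ = ((maximalIdeal A₀).map (π.comp σ)).comap π := by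
        ext c
        rw [RingHom.mem_ker, Ideal.mem_comap]
        exact Ideal.Quotient.eq_zero_iff_mem
      rw [h1, ← Ideal.map_map, Ideal.comap_map_of_surjective π hπ, ← RingHom.ker_eq_comap_bot, hker]
    have hk₂ : RingHom.ker g₂ = I ⊔ Ideal.span {b} := by
      have h1 : RingHom.ker g₂ = (Ideal.span {bb}).comap (Ideal.Quotient.mk I) := by
        ext c
        rw [RingHom.mem_ker, Ideal.mem_comap]
        exact Ideal.Quotient.eq_zero_iff_mem
      have h2 : Ideal.span {bb} = (Ideal.span {b}).map (Ideal.Quotient.mk I) := by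
        rw [Ideal.map_span, Set.image_singleton]
      rw [h1, h2, Ideal.comap_map_of_surjective _ Ideal.Quotient.mk_surjective,
        ← RingHom.ker_eq_comap_bot, Ideal.mk_ker, sup_comm]
    let E : ((C ⧸ I) ⧸ Ideal.span {bb}) ≃+* (D ⧸ (maximalIdeal A₀).map (π.comp σ)) :=
      (RingHom.quotientKerEquivOfSurjective hg₂).symm.trans
        ((Ideal.quotEquivOfEq (hk₂.trans hk₁.symm)).trans
          (RingHom.quotientKerEquivOfSurjective hg₁))
    refine ⟨?_, ?_⟩
    · haveI := hcm'
      exact Groth.Agent.Lib.Helper22.CMG.isCMLocalRing_of_ringEquiv E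
    · rw [← ringKrullDim_eq_of_ringEquiv E]
      exact hdim

end Groth.Agent.Lib.Helper14.GrpdSliceAlg
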