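import Groth.Agent.Lib.Helper14.LCF.SliceSch

/-!
# Slicing at the level of stalks (helper14)

For `f : X ⟶ S` locally of finite presentation, flat at `x`, and `h ∈ 𝔪_x` regular on the fibre
ring `𝒪_{X,x}/𝔪_{f x}𝒪_{X,x}`: `h` is regular on `𝒪_{X,x}` and `𝒪_{X,x}/(h)` is flat over
`𝒪_{S,f x}`.
-/

set_option autoImplicit false
set_option linter.style.haveILetI false
universe u
open CategoryTheory CategoryTheory.Limits AlgebraicGeometry TensorProduct Opposite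

namespace Groth.Agent.Lib.Helper14.GrpdSliceFlat

open Groth.Agent.Lib.Helper1.FlatAffine Groth.Agent.Lib.Helper14.LCF

set_option maxHeartbeats 800000 in
theorem flat_quot_stalk {X S : Scheme.{u}} (f : X ⟶ S) [LocallyOfFinitePresentation f] (x : X)
    (hflat : (f.stalkMap x).hom.Flat) (h : X.presheaf.stalk x)
    (hm : h ∈ IsLocalRing.maximalIdeal (X.presheaf.stalk x))
    (hreg : ∀ w : X.presheaf.stalk x,
      h * w ∈ Ideal.map (f.stalkMap x).hom (IsLocalRing.maximalIdeal (S.presheaf.stalk (f x))) →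
      w ∈ Ideal.map (f.stalkMap x).hom (IsLocalRing.maximalIdeal (S.presheaf.stalk (f x)))) :
    IsSMulRegular (X.presheaf.stalk x) h ∧
      (letI := (f.stalkMap x).hom.toAlgebra
       Module.Flat (S.presheaf.stalk (f x)) (X.presheaf.stalk x ⧸ Ideal.span {h})) := by
  obtain ⟨V₀, hxV₀, t, ht⟩ := X.presheaf.exists_germ_eq h
  obtain ⟨_, ⟨T, hT, rfl⟩, hsT, -⟩ :=
    S.isBasis_affineOpens.exists_subset_of_mem_open (Set.mem_univ (f x)) isOpen_univ
  obtain ⟨_, ⟨U₀, hU₀, rfl⟩, hxU₀, hU₀le⟩ :=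
    X.isBasis_affineOpens.exists_subset_of_mem_open
      (show x ∈ ((f ⁻¹ᵁ T ⊓ V₀ : X.Opens) : Set X) from ⟨hsT, hxV₀⟩) (f ⁻¹ᵁ T ⊓ V₀).2
  have hU₀T : U₀ ≤ f ⁻¹ᵁ T := fun z hz => (hU₀le hz).1
  have hU₀V : U₀ ≤ V₀ := fun z hz => (hU₀le hz).2
  set h₀ : Γ(X, U₀) := X.presheaf.map (homOfLE hU₀V).op t with hh₀def
  have hh₀ : X.presheaf.germ U₀ x hxU₀ h₀ = h := by
    rw [← ht]
    exact TopCat.Presheaf.germ_res_apply X.presheaf (homOfLE hU₀V) x hxU₀ t
  -- algebra structures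
  letI aAC : Algebra Γ(S, T) Γ(X, U₀) := (f.appLE T U₀ hU₀T).hom.toAlgebra
  haveI fpAC : Algebra.FinitePresentation Γ(S, T) Γ(X, U₀) :=
    f.finitePresentation_appLE hT hU₀ hU₀T
  set Q := (hU₀.primeIdealOf ⟨x, hxU₀⟩).asIdeal with hQ
  letI aCO : Algebra Γ(X, U₀) (X.presheaf.stalk x) :=
    TopCat.Presheaf.algebra_section_stalk X.presheaf (U := U₀) ⟨x, hxU₀⟩
  haveI locO : IsLocalization.AtPrime (X.presheaf.stalk x) Q :=
    hU₀.isLocalization_stalk ⟨x, hxU₀⟩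
  letI aAO : Algebra Γ(S, T) (X.presheaf.stalk x) :=
    ((algebraMap Γ(X, U₀) (X.presheaf.stalk x)).comp (algebraMap Γ(S, T) Γ(X, U₀))).toAlgebra
  haveI : IsScalarTower Γ(S, T) Γ(X, U₀) (X.presheaf.stalk x) :=
    IsScalarTower.of_algebraMap_eq fun _ => rfl
  letI aAOs : Algebra Γ(S, T) (S.presheaf.stalk (f x)) :=
    TopCat.Presheaf.algebra_section_stalk S.presheaf (U := T) ⟨f x, hsT⟩
  haveI locOs : IsLocalization.AtPrime (S.presheaf.stalk (f x))
      (hT.primeIdealOf ⟨f x, hsT⟩).asIdeal := hT.isLocalization_stalk ⟨f x, hsT⟩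
  letI aOsO : Algebra (S.presheaf.stalk (f x)) (X.presheaf.stalk x) :=
    (f.stalkMap x).hom.toAlgebra
  haveI : IsScalarTower Γ(S, T) (S.presheaf.stalk (f x)) (X.presheaf.stalk x) :=
    IsScalarTower.of_algebraMap_eq fun r => germ_appLE f hU₀T x hxU₀ r
  haveI : Module.Flat (S.presheaf.stalk (f x)) (X.presheaf.stalk x) := hflat
  haveI : Module.Flat Γ(S, T) (S.presheaf.stalk (f x)) :=
    IsLocalization.flat _ (hT.primeIdealOf ⟨f x, hsT⟩).asIdeal.primeCompl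
  haveI flAO : Module.Flat Γ(S, T) (X.presheaf.stalk x) :=
    Module.Flat.trans Γ(S, T) (S.presheaf.stalk (f x)) (X.presheaf.stalk x)
  have hg : h₀ ∈ Q := by
    rw [← IsLocalization.AtPrime.to_map_mem_maximal_iff (X.presheaf.stalk x) Q h₀]
    change X.presheaf.germ U₀ x hxU₀ h₀ ∈ _
    rw [hh₀]
    exact hm
  have hq : Q.comap (algebraMap Γ(S, T) Γ(X, U₀)) = (hT.primeIdealOf ⟨f x, hsT⟩).asIdeal :=
    congrArg PrimeSpectrum.asIdeal (IsAffineOpen.comap_primeIdealOf_appLE T hT U₀ hU₀ hU₀T hxU₀)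
  have hmem : ∀ w : X.presheaf.stalk x,
      w ∈ (Q.comap (algebraMap Γ(S, T) Γ(X, U₀))) • (⊤ : Submodule Γ(S, T) (X.presheaf.stalk x)) ↔
      w ∈ Ideal.map (f.stalkMap x).hom (IsLocalRing.maximalIdeal (S.presheaf.stalk (f x))) := by
    intro w
    rw [Ideal.smul_top_eq_map, Submodule.restrictScalars_mem, hq,
      IsScalarTower.algebraMap_eq Γ(S, T) (S.presheaf.stalk (f x)) (X.presheaf.stalk x),
      ← Ideal.map_map, IsLocalization.AtPrime.map_eq_maximalIdeal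
        (hT.primeIdealOf ⟨f x, hsT⟩).asIdeal (S.presheaf.stalk (f x))]
    rfl
  have hregQ : ∀ w : X.presheaf.stalk x,
      h₀ • w ∈ (Q.comap (algebraMap Γ(S, T) Γ(X, U₀))) •
        (⊤ : Submodule Γ(S, T) (X.presheaf.stalk x)) →
      w ∈ (Q.comap (algebraMap Γ(S, T) Γ(X, U₀))) •
        (⊤ : Submodule Γ(S, T) (X.presheaf.stalk x)) := by
    intro w hw
    rw [hmem] at hw ⊢
    refine hreg w ?_
    have e : h₀ • w = h * w := by
      rw [Algebra.smul_def, ← hh₀]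
      rfl
    rwa [e] at hw
  obtain ⟨hreg1, hfl1⟩ := regular_and_flat_quot_of_regular_fibre (A := Γ(S, T)) (B := Γ(X, U₀))
    (N := Γ(X, U₀)) Q h₀ hg (Algebra.linearMap Γ(X, U₀) (X.presheaf.stalk x)) hregQ
  have hh₀' : algebraMap Γ(X, U₀) (X.presheaf.stalk x) h₀ = h := hh₀
  refine ⟨?_, ?_⟩
  · intro a b hab
    apply hreg1
    show h₀ • a = h₀ • b
    rw [Algebra.smul_def, Algebra.smul_def, hh₀']
    exact hab
  · have hfl2 := flat_quot_span_of_flat_quot_smul (A := Γ(S, T)) h₀ hfl1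
    rw [hh₀'] at hfl2
    -- from `Γ(S, T)` to the stalk
    haveI : IsScalarTower Γ(S, T) (S.presheaf.stalk (f x))
        (X.presheaf.stalk x ⧸ Ideal.span {h}) := by
      refine ⟨fun a b c => ?_⟩
      obtain ⟨c, rfl⟩ := Ideal.Quotient.mk_surjective c
      show Ideal.Quotient.mk _ ((a • b) • c) = Ideal.Quotient.mk _ (a • (b • c))
      rw [smul_assoc]
    exact (Module.flat_iff_of_isLocalization (S.presheaf.stalk (f x))
      (hT.primeIdealOf ⟨f x, hsT⟩).asIdeal.primeCompl _).mpr hfl2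

end Groth.Agent.Lib.Helper14.GrpdSliceFlat
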