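import Mathlib

/-!
# The local ring of the pullback of a principal closed subscheme of an affine open (helper14)

For `t : X ⟶ Y`, an affine open `V ⊆ Y` and `f₀ ∈ Γ(Y, V)`, let `g : Spec (Γ(Y,V)/f₀) ⟶ Y` be the
immersion of `V(f₀)`.  At a point `p` of `P = pullback g t` with image `x` in `X`, the stalk map
`𝒪_{X,x} ⟶ 𝒪_{P,p}` is surjective with kernel generated by the image of `f₀`.
-/

set_option autoImplicit false
universe u

open CategoryTheory CategoryTheory.Limits AlgebraicGeometry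

namespace Groth.Agent.Lib.Helper14.GrpdSliceK

variable {X Y : Scheme.{u}} (t : X ⟶ Y) {V : Y.Opens} (hV : IsAffineOpen V) (f₀ : Γ(Y, V))

/-- the immersion of the closed subscheme `V(f₀)` of the affine open `V`. -/
noncomputable def sliceHom : Spec (CommRingCat.of (Γ(Y, V) ⧸ Ideal.span {f₀})) ⟶ Y :=
  Spec.map (CommRingCat.ofHom (Ideal.Quotient.mk (Ideal.span {f₀}))) ≫ hV.fromSpec

instance : IsImmersion (sliceHom hV f₀) := by
  unfold sliceHom
  haveI : IsClosedImmersion (Spec.map (CommRingCat.ofHom (Ideal.Quotient.mk (Ideal.span {f₀})))) :=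
    IsClosedImmersion.spec_of_surjective _ Ideal.Quotient.mk_surjective
  infer_instance

instance : LocallyOfFinitePresentation (sliceHom hV f₀) := by
  unfold sliceHom
  haveI : LocallyOfFinitePresentation
      (Spec.map (CommRingCat.ofHom (Ideal.Quotient.mk (Ideal.span {f₀})))) := by
    rw [HasRingHomProperty.Spec_iff (P := @LocallyOfFinitePresentation)]
    refine RingHom.FinitePresentation.of_surjective _ Ideal.Quotient.mk_surjective ?_
    rw [CommRingCat.hom_ofHom, Ideal.mk_ker]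
    exact ⟨{f₀}, by simp⟩
  infer_instance

theorem sliceHom_mem (y : Spec (CommRingCat.of (Γ(Y, V) ⧸ Ideal.span {f₀}))) :
    sliceHom hV f₀ y ∈ V := by
  unfold sliceHom
  rw [Scheme.Hom.comp_apply]
  have : hV.fromSpec ((Spec.map (CommRingCat.ofHom (Ideal.Quotient.mk (Ideal.span {f₀})))) y) ∈
      Set.range hV.fromSpec := ⟨_, rfl⟩
  rw [hV.range_fromSpec] at this
  exact this

theorem sliceHom_appLE_top
    (e : (⊤ : (Spec (CommRingCat.of (Γ(Y, V) ⧸ Ideal.span {f₀}))).Opens) ≤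
      sliceHom hV f₀ ⁻¹ᵁ V) :
    (sliceHom hV f₀).appLE V ⊤ e =
      CommRingCat.ofHom (Ideal.Quotient.mk (Ideal.span {f₀})) ≫ (Scheme.ΓSpecIso _).inv := by
  apply Spec.map_injective
  rw [← cancel_mono hV.fromSpec, hV.SpecMap_appLE_fromSpec (sliceHom hV f₀) (isAffineOpen_top _) e,
    IsAffineOpen.fromSpec_top, Scheme.isoSpec_Spec_inv, Spec.map_comp, Category.assoc]
  rfl

theorem sliceHom_app_self : (sliceHom hV f₀).app V f₀ = 0 := by
  have e : (⊤ : (Spec (CommRingCat.of (Γ(Y, V) ⧸ Ideal.span {f₀}))).Opens) ≤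
      sliceHom hV f₀ ⁻¹ᵁ V := fun y _ => sliceHom_mem hV f₀ y
  have h1 := sliceHom_appLE_top hV f₀ e
  have h2 : (sliceHom hV f₀).appLE V ⊤ e f₀ = 0 := by
    rw [h1, CommRingCat.comp_apply]
    have : (CommRingCat.ofHom (Ideal.Quotient.mk (Ideal.span {f₀}))) f₀ = 0 :=
      Ideal.Quotient.eq_zero_iff_mem.mpr (Ideal.subset_span (Set.mem_singleton _))
    rw [this, map_zero]
  have h3 : (sliceHom hV f₀).appLE V ⊤ e = (sliceHom hV f₀).app V ≫
      (Spec _).presheaf.map (homOfLE e).op := rfl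
  rw [h3, CommRingCat.comp_apply] at h2
  have hiso : IsIso (homOfLE e) := ⟨homOfLE le_top, Subsingleton.elim _ _, Subsingleton.elim _ _⟩
  have : IsIso ((Spec (CommRingCat.of (Γ(Y, V) ⧸ Ideal.span {f₀}))).presheaf.map (homOfLE e).op) :=
    inferInstance
  have hinj := (ConcreteCategory.bijective_of_isIso
    ((Spec (CommRingCat.of (Γ(Y, V) ⧸ Ideal.span {f₀}))).presheaf.map (homOfLE e).op)).1
  apply hinj
  rw [h2, map_zero]

/-- transport of a germ along an equality of morphisms. -/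
theorem germ_app_congr {P : Scheme.{u}} {h₁ h₂ : P ⟶ Y} (e : h₁ = h₂) (a : Γ(Y, V))
    (p : P) (hp1 : p ∈ h₁ ⁻¹ᵁ V) (hp2 : p ∈ h₂ ⁻¹ᵁ V) :
    P.presheaf.germ (h₁ ⁻¹ᵁ V) p hp1 (h₁.app V a) =
      P.presheaf.germ (h₂ ⁻¹ᵁ V) p hp2 (h₂.app V a) := by
  subst e
  rfl

theorem germ_eq_zero_congr {P : Scheme.{u}} {y y' : P} (e : y = y') (U : P.Opens) (h : y ∈ U)
    (h' : y' ∈ U) (σ : Γ(P, U)) :
    P.presheaf.germ U y h σ = 0 → P.presheaf.germ U y' h' σ = 0 := by
  subst e
  exact id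

theorem germ_stalkClosedPointTo_congr {R : CommRingCat.{u}} [IsLocalRing R] {f₁ f₂ : Spec R ⟶ X}
    (e : f₁ = f₂) (W : X.Opens) (h1 : f₁ (IsLocalRing.closedPoint R) ∈ W)
    (h2 : f₂ (IsLocalRing.closedPoint R) ∈ W) :
    X.presheaf.germ W _ h1 ≫ Scheme.stalkClosedPointTo f₁ =
      X.presheaf.germ W _ h2 ≫ Scheme.stalkClosedPointTo f₂ := by
  subst e
  rfl

variable {t hV f₀}

theorem t_snd_mem (p : ↑(pullback (sliceHom hV f₀) t)) :
    t (pullback.snd (sliceHom hV f₀) t p) ∈ V := by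
  have h1 : t (pullback.snd (sliceHom hV f₀) t p) =
      sliceHom hV f₀ (pullback.fst (sliceHom hV f₀) t p) := by
    rw [← Scheme.Hom.comp_apply, ← Scheme.Hom.comp_apply, pullback.condition]
  rw [h1]
  exact sliceHom_mem hV f₀ _

theorem stalkMap_snd_surjective (p : ↑(pullback (sliceHom hV f₀) t)) :
    Function.Surjective ((pullback.snd (sliceHom hV f₀) t).stalkMap p) :=
  (pullback.snd (sliceHom hV f₀) t).stalkMap_surjective p


/-- the image of `f₀` dies in the local ring of the pullback. -/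
theorem stalkMap_snd_germ_eq_zero (p : ↑(pullback (sliceHom hV f₀) t)) :
    (pullback.snd (sliceHom hV f₀) t).stalkMap p
      (X.presheaf.germ (t ⁻¹ᵁ V) (pullback.snd (sliceHom hV f₀) t p) (t_snd_mem p)
        (t.app V f₀)) = 0 := by
  rw [Scheme.Hom.germ_stalkMap_apply]
  have h1 : (pullback.snd (sliceHom hV f₀) t).app (t ⁻¹ᵁ V) (t.app V f₀) =
      (pullback.snd (sliceHom hV f₀) t ≫ t).app V f₀ := rfl
  have hp1 : p ∈ (pullback.snd (sliceHom hV f₀) t ≫ t) ⁻¹ᵁ V := t_snd_mem p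
  have hp2 : p ∈ (pullback.fst (sliceHom hV f₀) t ≫ sliceHom hV f₀) ⁻¹ᵁ V :=
    sliceHom_mem hV f₀ _
  have h2 := germ_app_congr (pullback.condition (f := sliceHom hV f₀) (g := t)).symm f₀ p hp1 hp2
  have h3 : (pullback.fst (sliceHom hV f₀) t ≫ sliceHom hV f₀).app V f₀ =
      (pullback.fst (sliceHom hV f₀) t).app (sliceHom hV f₀ ⁻¹ᵁ V) ((sliceHom hV f₀).app V f₀) :=
    rfl
  have h4 : (pullback.fst (sliceHom hV f₀) t ≫ sliceHom hV f₀).app V f₀ = 0 := by
    rw [h3, sliceHom_app_self]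
    exact map_zero _
  rw [h4, map_zero] at h2
  exact h2


/-- the local scheme `Spec (𝒪_{X,x}/(b))` maps to the pullback. -/
theorem exists_lift_quotient (p : ↑(pullback (sliceHom hV f₀) t)) :
    ∃ Φ : Spec (CommRingCat.of (X.presheaf.stalk (pullback.snd (sliceHom hV f₀) t p) ⧸
        Ideal.span {X.presheaf.germ (t ⁻¹ᵁ V) (pullback.snd (sliceHom hV f₀) t p) (t_snd_mem p)
          (t.app V f₀)})) ⟶ pullback (sliceHom hV f₀) t,
      Φ ≫ pullback.snd (sliceHom hV f₀) t =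
        Spec.map (CommRingCat.ofHom (Ideal.Quotient.mk (Ideal.span
          {X.presheaf.germ (t ⁻¹ᵁ V) (pullback.snd (sliceHom hV f₀) t p) (t_snd_mem p)
            (t.app V f₀)}))) ≫ X.fromSpecStalk (pullback.snd (sliceHom hV f₀) t p) := by
  set b := X.presheaf.germ (t ⁻¹ᵁ V) (pullback.snd (sliceHom hV f₀) t p) (t_snd_mem p)
    (t.app V f₀) with hb
  let mk' : X.presheaf.stalk (pullback.snd (sliceHom hV f₀) t p) ⟶
      CommRingCat.of (X.presheaf.stalk (pullback.snd (sliceHom hV f₀) t p) ⧸ Ideal.span {b}) :=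
    CommRingCat.ofHom (Ideal.Quotient.mk (Ideal.span {b}))
  let φ₀ : Spec (CommRingCat.of (X.presheaf.stalk (pullback.snd (sliceHom hV f₀) t p) ⧸
      Ideal.span {b})) ⟶ X :=
    Spec.map mk' ≫ X.fromSpecStalk (pullback.snd (sliceHom hV f₀) t p)
  let γ : Γ(Y, V) ⟶ CommRingCat.of (X.presheaf.stalk (pullback.snd (sliceHom hV f₀) t p) ⧸
      Ideal.span {b}) :=
    Y.presheaf.germ V (t (pullback.snd (sliceHom hV f₀) t p)) (t_snd_mem p) ≫
      t.stalkMap (pullback.snd (sliceHom hV f₀) t p) ≫ mk'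
  have hγ0 : γ.hom f₀ = 0 := by
    show mk'.hom ((t.stalkMap (pullback.snd (sliceHom hV f₀) t p)).hom
      ((Y.presheaf.germ V (t (pullback.snd (sliceHom hV f₀) t p)) (t_snd_mem p)).hom f₀)) = 0
    have h1 : (t.stalkMap (pullback.snd (sliceHom hV f₀) t p)).hom
        ((Y.presheaf.germ V (t (pullback.snd (sliceHom hV f₀) t p)) (t_snd_mem p)).hom f₀) = b :=
      Scheme.Hom.germ_stalkMap_apply t V _ (t_snd_mem p) f₀
    rw [h1]
    exact Ideal.Quotient.eq_zero_iff_mem.mpr (Ideal.subset_span (Set.mem_singleton _))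
  have hγle : ∀ a ∈ Ideal.span {f₀}, γ.hom a = 0 := by
    intro a ha
    have : Ideal.span {f₀} ≤ RingHom.ker γ.hom := by
      rw [Ideal.span_le, Set.singleton_subset_iff]; exact hγ0
    exact this ha
  let γb : CommRingCat.of (Γ(Y, V) ⧸ Ideal.span {f₀}) ⟶
      CommRingCat.of (X.presheaf.stalk (pullback.snd (sliceHom hV f₀) t p) ⧸ Ideal.span {b}) :=
    CommRingCat.ofHom (Ideal.Quotient.lift (Ideal.span {f₀}) γ.hom hγle)
  have hγb : CommRingCat.ofHom (Ideal.Quotient.mk (Ideal.span {f₀})) ≫ γb = γ := by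
    ext a
    exact Ideal.Quotient.lift_mk (Ideal.span {f₀}) γ.hom hγle
  have hcomm : Spec.map γb ≫ sliceHom hV f₀ = φ₀ ≫ t := by
    have h1 : Spec.map γb ≫ sliceHom hV f₀ = Spec.map γ ≫ hV.fromSpec := by
      unfold sliceHom
      rw [← Category.assoc, ← Spec.map_comp]
      exact congrArg (fun z => Spec.map z ≫ hV.fromSpec) hγb
    have h2 : φ₀ ≫ t = Spec.map γ ≫ hV.fromSpec := by
      show (Spec.map mk' ≫ X.fromSpecStalk _) ≫ t = _
      rw [Category.assoc, ← Scheme.SpecMap_stalkMap_fromSpecStalk,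
        ← hV.fromSpecStalk_eq_fromSpecStalk (t_snd_mem p), IsAffineOpen.fromSpecStalk,
        ← Category.assoc, ← Category.assoc, ← Spec.map_comp, ← Spec.map_comp]
    rw [h1, h2]
  exact ⟨pullback.lift (Spec.map γb) φ₀ hcomm, pullback.lift_snd _ _ _⟩

/-- **the local ring of the pullback**: the kernel of `𝒪_{X,x} ⟶ 𝒪_{P,p}` is generated by the image
of `f₀`. -/
theorem ker_stalkMap_snd (p : ↑(pullback (sliceHom hV f₀) t)) :
    RingHom.ker ((pullback.snd (sliceHom hV f₀) t).stalkMap p).hom =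
      Ideal.span {X.presheaf.germ (t ⁻¹ᵁ V) (pullback.snd (sliceHom hV f₀) t p) (t_snd_mem p)
        (t.app V f₀)} := by
  apply le_antisymm
  swap
  · rw [Ideal.span_le, Set.singleton_subset_iff]
    exact stalkMap_snd_germ_eq_zero p
  set b := X.presheaf.germ (t ⁻¹ᵁ V) (pullback.snd (sliceHom hV f₀) t p) (t_snd_mem p)
    (t.app V f₀) with hb
  obtain ⟨Φ, hΦ⟩ : ∃ Φ : Spec (CommRingCat.of (X.presheaf.stalk (pullback.snd (sliceHom hV f₀) t p) ⧸
        Ideal.span {b})) ⟶ pullback (sliceHom hV f₀) t,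
      Φ ≫ pullback.snd (sliceHom hV f₀) t =
        Spec.map (CommRingCat.ofHom (Ideal.Quotient.mk (Ideal.span {b}))) ≫
          X.fromSpecStalk (pullback.snd (sliceHom hV f₀) t p) := exists_lift_quotient p
  -- the quotient local ring
  have hbker : b ∈ RingHom.ker ((pullback.snd (sliceHom hV f₀) t).stalkMap p).hom :=
    stalkMap_snd_germ_eq_zero p
  have hne : Ideal.span {b} ≠ ⊤ := by
    intro h
    have h1 : Ideal.span {b} ≤ RingHom.ker ((pullback.snd (sliceHom hV f₀) t).stalkMap p).hom := by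
      rw [Ideal.span_le, Set.singleton_subset_iff]; exact hbker
    rw [h, top_le_iff] at h1
    exact RingHom.ker_ne_top _ h1
  haveI : Nontrivial (X.presheaf.stalk (pullback.snd (sliceHom hV f₀) t p) ⧸ Ideal.span {b}) :=
    Ideal.Quotient.nontrivial_iff.mpr hne
  haveI : IsLocalRing (X.presheaf.stalk (pullback.snd (sliceHom hV f₀) t p) ⧸ Ideal.span {b}) :=
    IsLocalRing.of_surjective' (Ideal.Quotient.mk (Ideal.span {b})) Ideal.Quotient.mk_surjective
  let mk' : X.presheaf.stalk (pullback.snd (sliceHom hV f₀) t p) ⟶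
      CommRingCat.of (X.presheaf.stalk (pullback.snd (sliceHom hV f₀) t p) ⧸ Ideal.span {b}) :=
    CommRingCat.ofHom (Ideal.Quotient.mk (Ideal.span {b}))
  haveI : IsLocalHom mk'.hom :=
    IsLocalHom.of_surjective (Ideal.Quotient.mk (Ideal.span {b})) Ideal.Quotient.mk_surjective
  -- the closed point goes to `p`
  let c' : Spec (CommRingCat.of (X.presheaf.stalk (pullback.snd (sliceHom hV f₀) t p) ⧸
      Ideal.span {b})) := IsLocalRing.closedPoint
    (X.presheaf.stalk (pullback.snd (sliceHom hV f₀) t p) ⧸ Ideal.span {b})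
  have hφ₀c : (Spec.map mk' ≫ X.fromSpecStalk (pullback.snd (sliceHom hV f₀) t p)) c' =
      pullback.snd (sliceHom hV f₀) t p := by
    rw [Scheme.Hom.comp_apply]
    have : (Spec.map mk') c' =
        IsLocalRing.closedPoint (X.presheaf.stalk (pullback.snd (sliceHom hV f₀) t p)) :=
      Spec_closedPoint (f := mk')
    rw [this, Scheme.fromSpecStalk_closedPoint]
  have hsndp' : pullback.snd (sliceHom hV f₀) t (Φ c') = pullback.snd (sliceHom hV f₀) t p := by
    rw [← Scheme.Hom.comp_apply, hΦ]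
    exact hφ₀c
  have hpp' : Φ c' = p := (pullback.snd (sliceHom hV f₀) t).isEmbedding.injective hsndp'
  -- an element of the kernel
  intro c hc
  obtain ⟨W, hxW, β, rfl⟩ := X.presheaf.exists_germ_eq c
  rw [RingHom.mem_ker] at hc
  have hc1 : (pullback (sliceHom hV f₀) t).presheaf.germ
      (pullback.snd (sliceHom hV f₀) t ⁻¹ᵁ W) p hxW
      ((pullback.snd (sliceHom hV f₀) t).app W β) = 0 := by
    rw [← Scheme.Hom.germ_stalkMap_apply]
    exact hc
  have hxW' : Φ c' ∈ pullback.snd (sliceHom hV f₀) t ⁻¹ᵁ W := by rw [hpp']; exact hxW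
  have hc2 := germ_eq_zero_congr hpp'.symm _ hxW hxW' _ hc1
  have hW1 : (Spec.map mk' ≫ X.fromSpecStalk (pullback.snd (sliceHom hV f₀) t p)) c' ∈ W := by
    rw [hφ₀c]; exact hxW
  have hW2 : (Φ ≫ pullback.snd (sliceHom hV f₀) t) c' ∈ W := hxW'
  have key1 := Scheme.germ_stalkClosedPointTo_Spec_fromSpecStalk (X := X) mk' W hW1
  have key2 := germ_stalkClosedPointTo_congr hΦ.symm W hW1 hW2
  have key3 : Scheme.stalkClosedPointTo (Φ ≫ pullback.snd (sliceHom hV f₀) t) =
      (pullback.snd (sliceHom hV f₀) t).stalkMap _ ≫ Scheme.stalkClosedPointTo Φ :=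
    Scheme.stalkClosedPointTo_comp Φ _
  have E : X.presheaf.germ W (pullback.snd (sliceHom hV f₀) t p) hxW ≫ mk' =
      X.presheaf.germ W ((Φ ≫ pullback.snd (sliceHom hV f₀) t) c') hW2 ≫
        ((pullback.snd (sliceHom hV f₀) t).stalkMap (Φ c') ≫ Scheme.stalkClosedPointTo Φ) :=
    key1.symm.trans (key2.trans (congrArg (fun z =>
      X.presheaf.germ W ((Φ ≫ pullback.snd (sliceHom hV f₀) t) c') hW2 ≫ z) key3))
  have h8 : ((pullback.snd (sliceHom hV f₀) t).stalkMap (Φ c')).hom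
      ((X.presheaf.germ W ((Φ ≫ pullback.snd (sliceHom hV f₀) t) c') hW2).hom β) = 0 := by
    have := Scheme.Hom.germ_stalkMap_apply (pullback.snd (sliceHom hV f₀) t) W (Φ c') hxW' β
    rw [hc2] at this
    exact this
  have h5 : mk'.hom ((X.presheaf.germ W (pullback.snd (sliceHom hV f₀) t p) hxW).hom β) = 0 := by
    have h6 : (X.presheaf.germ W (pullback.snd (sliceHom hV f₀) t p) hxW ≫ mk').hom β =
        (X.presheaf.germ W ((Φ ≫ pullback.snd (sliceHom hV f₀) t) c') hW2 ≫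
          ((pullback.snd (sliceHom hV f₀) t).stalkMap (Φ c') ≫
            Scheme.stalkClosedPointTo Φ)).hom β := by
      rw [E]
    calc mk'.hom ((X.presheaf.germ W (pullback.snd (sliceHom hV f₀) t p) hxW).hom β)
        = (Scheme.stalkClosedPointTo Φ).hom
            (((pullback.snd (sliceHom hV f₀) t).stalkMap (Φ c')).hom
              ((X.presheaf.germ W ((Φ ≫ pullback.snd (sliceHom hV f₀) t) c') hW2).hom β)) := h6
      _ = 0 := by rw [h8, map_zero]
  exact Ideal.Quotient.eq_zero_iff_mem.mp h5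

end Groth.Agent.Lib.Helper14.GrpdSliceK
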