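import Groth.Prelude.Def_Grpd
import Groth.Agent.Lib.Helper14.GrpdSliceAlg
import Groth.Agent.Lib.Helper14.GrpdSliceK
import Groth.Agent.Lib.Helper14.GrpdSliceFlat
import Groth.Agent.Lib.Helper12.SchemeDimIneq2
import Groth.Agent.Lib.Helper6.FiberStalkIso

/-!
# Slicing a Cohen–Macaulay morphism along a pulled-back function (helper14)
-/

set_option autoImplicit false
universe u

open CategoryTheory CategoryTheory.Limits AlgebraicGeometry IsLocalRing

namespace Groth.Agent.Lib.Helper14.GrpdSliceMain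

open Groth.Agent.Lib.Helper14.GrpdSliceK

variable {X Y : Scheme.{u}} (s t : X ⟶ Y) {V : Y.Opens} (hV : IsAffineOpen V) (f₀ : Γ(Y, V))

set_option maxHeartbeats 800000 in
/-- **slicing**: if `s` is Cohen–Macaulay at `x = pr₂ p` and `t♯ f₀` is a nonunit regular on the
fibre ring of `s` at `x`, then `s ∘ pr₂ : V(f₀) ×_{Y,t} X ⟶ Y` is Cohen–Macaulay at `p`, with fibre
ring of dimension one less. -/
theorem isCMAt_slice [LocallyOfFinitePresentation s] (p : ↑(pullback (sliceHom hV f₀) t))
    (hcm : Grpd.IsCMAt s (pullback.snd (sliceHom hV f₀) t p))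
    (hbm : X.presheaf.germ (t ⁻¹ᵁ V) (pullback.snd (sliceHom hV f₀) t p) (t_snd_mem p)
        (t.app V f₀) ∈ maximalIdeal (X.presheaf.stalk (pullback.snd (sliceHom hV f₀) t p)))
    (hreg : ∀ w : X.presheaf.stalk (pullback.snd (sliceHom hV f₀) t p),
      X.presheaf.germ (t ⁻¹ᵁ V) (pullback.snd (sliceHom hV f₀) t p) (t_snd_mem p)
        (t.app V f₀) * w ∈
        (maximalIdeal (Y.presheaf.stalk (s (pullback.snd (sliceHom hV f₀) t p)))).map
          (s.stalkMap (pullback.snd (sliceHom hV f₀) t p)).hom →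
      w ∈ (maximalIdeal (Y.presheaf.stalk (s (pullback.snd (sliceHom hV f₀) t p)))).map
          (s.stalkMap (pullback.snd (sliceHom hV f₀) t p)).hom) :
    Grpd.IsCMAt (pullback.snd (sliceHom hV f₀) t ≫ s) p ∧
      ringKrullDim ((pullback (sliceHom hV f₀) t).presheaf.stalk p ⧸
        (maximalIdeal (Y.presheaf.stalk ((pullback.snd (sliceHom hV f₀) t ≫ s) p))).map
          ((pullback.snd (sliceHom hV f₀) t ≫ s).stalkMap p).hom) + 1 =
      ringKrullDim (X.presheaf.stalk (pullback.snd (sliceHom hV f₀) t p) ⧸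
        (maximalIdeal (Y.presheaf.stalk (s (pullback.snd (sliceHom hV f₀) t p)))).map
          (s.stalkMap (pullback.snd (sliceHom hV f₀) t p)).hom) := by
  obtain ⟨hfl, hcmO⟩ := hcm
  obtain ⟨-, hflq⟩ := Groth.Agent.Lib.Helper14.GrpdSliceFlat.flat_quot_stalk s _ hfl _ hbm hreg
  have key := Groth.Agent.Lib.Helper14.GrpdSliceAlg.slice_alg
    (s.stalkMap (pullback.snd (sliceHom hV f₀) t p)).hom
    ((pullback.snd (sliceHom hV f₀) t).stalkMap p).hom
    (stalkMap_snd_surjective p) _ (ker_stalkMap_snd p) hbm hflq hcmO hreg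
  have hcomp : ((pullback.snd (sliceHom hV f₀) t ≫ s).stalkMap p).hom =
      ((pullback.snd (sliceHom hV f₀) t).stalkMap p).hom.comp
        (s.stalkMap (pullback.snd (sliceHom hV f₀) t p)).hom := by
    rw [Scheme.Hom.stalkMap_comp]
    rfl
  obtain ⟨k1, k2, k3⟩ := key
  unfold Grpd.IsCMAt
  rw [hcomp]
  exact ⟨⟨k1, k2⟩, k3⟩


section Dim

variable {X Y : Scheme.{u}} (f : X ⟶ Y)

/-- if the residue field extension at `x` is trivial, the local dimension of the fibre at `x` is
the dimension of the fibre ring `𝒪_{X,x}/𝔪_{f x}𝒪_{X,x}`. -/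
theorem fibreDimAt_eq_ringKrullDim [LocallyOfFiniteType f] (x : X)
    (hres : Function.Surjective (f.residueFieldMap x).hom) :
    FlatMor.fibreDimAt f x = ringKrullDim (X.presheaf.stalk x ⧸
      (maximalIdeal (Y.presheaf.stalk (f x))).map (f.stalkMap x).hom) := by
  rw [Groth.Agent.Lib.Helper12.SchemeDimIneq.fibreDimAt_eq_trn_add f x]
  have h0 : Groth.Agent.Lib.Helper12.SchemeDimIneq.trn f x = 0 := by
    unfold Groth.Agent.Lib.Helper12.SchemeDimIneq.trn
    letI : Algebra (Y.residueField (f x)) (X.residueField x) :=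
      (f.residueFieldMap x).hom.toAlgebra
    haveI : Algebra.IsAlgebraic (Y.residueField (f x)) (X.residueField x) := by
      refine ⟨fun a => ?_⟩
      obtain ⟨r, rfl⟩ := hres a
      exact isAlgebraic_algebraMap r
    rw [_root_.trdeg_eq_zero]
    simp
  rw [h0]
  have h1 := ringKrullDim_eq_of_ringEquiv (Groth.Agent.Lib.Helper6.fiberStalkEquiv f x)
  rw [h1]
  simp only [WithBot.coe_zero, zero_add]
  rfl

theorem residueFieldMap_bijective_of_eq_id {U : Scheme.{u}} (g : U ⟶ U) (hg : g = 𝟙 U) (u : U) :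
    Function.Bijective (g.residueFieldMap u).hom := by
  subst hg
  rw [Scheme.residueFieldMap_id]
  exact Function.bijective_id

/-- a section has trivial residue field extensions. -/
theorem residueFieldMap_surjective_of_section {U R : Scheme.{u}} (e : U ⟶ R) (s : R ⟶ U)
    (hes : e ≫ s = 𝟙 U) (u : U) : Function.Surjective (s.residueFieldMap (e u)).hom := by
  have h1 := residueFieldMap_bijective_of_eq_id (e ≫ s) hes u
  rw [Scheme.residueFieldMap_comp] at h1
  have hb : Function.Injective (e.residueFieldMap u).hom :=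
    (e.residueFieldMap u).hom.injective
  intro y
  obtain ⟨z, hz⟩ := h1.2 ((e.residueFieldMap u).hom y)
  exact ⟨z, hb hz⟩

/-- a morphism surjective on stalks is surjective on residue fields. -/
theorem residueFieldMap_surjective_of_stalkMap_surjective (x : X)
    (h : Function.Surjective (f.stalkMap x).hom) :
    Function.Surjective (f.residueFieldMap x).hom := by
  intro y
  obtain ⟨y, rfl⟩ := X.residue_surjective x y
  obtain ⟨z, rfl⟩ := h y
  refine ⟨Y.residue (f x) z, ?_⟩
  have := congrArg (fun g : Y.presheaf.stalk (f x) ⟶ X.residueField x => g.hom z) (Scheme.residue_residueFieldMap f x)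
  exact this

end Dim

end Groth.Agent.Lib.Helper14.GrpdSliceMain
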