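import Groth.Agent.Lib.Helper14.GrpdSliceStab
import Groth.Agent.Lib.Helper14.GrpdSliceMain
import Groth.Agent.Lib.Helper14.FtPts

/-!
# Slicing a groupoid scheme (helper14): Stacks, "slicing groupoids"
-/

set_option autoImplicit false
universe u

open CategoryTheory CategoryTheory.Limits AlgebraicGeometry IsLocalRing

namespace Groth.Agent.Lib.Helper14.GrpdSliceFinal

open Groth.Agent.Lib.Helper14.GrpdSliceK Groth.Agent.Lib.Helper14.GrpdSliceMain
open Groth.Agent.Lib.Helper14.GrpdSliceStab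

/-- the extension of the maximal ideal along the stalk map, in terms of an affine chart of the
target. -/
theorem map_maximalIdeal_stalkMap_eq {X Y : Scheme.{u}} (f : X ⟶ Y) {V : Y.Opens}
    (hV : IsAffineOpen V) (x : X) (hfx : f x ∈ V) :
    (maximalIdeal (Y.presheaf.stalk (f x))).map (f.stalkMap x).hom =
      (hV.primeIdealOf ⟨f x, hfx⟩).asIdeal.map
        ((X.presheaf.germ (f ⁻¹ᵁ V) x hfx).hom.comp (f.app V).hom) := by
  letI := Y.presheaf.algebra_section_stalk (U := V) ⟨f x, hfx⟩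
  haveI := hV.isLocalization_stalk ⟨f x, hfx⟩
  rw [← IsLocalization.AtPrime.map_eq_maximalIdeal (hV.primeIdealOf ⟨f x, hfx⟩).asIdeal
    (Y.presheaf.stalk (f x)), Ideal.map_map]
  congr 1
  ext a
  exact Scheme.Hom.germ_stalkMap_apply f V x hfx a

/-- a point closed in an affine open corresponds to a maximal ideal. -/
theorem isMaximal_primeIdealOf_of_isClosed' {Y : Scheme.{u}} {V : Y.Opens} (hV : IsAffineOpen V)
    (y : V) (hcl : IsClosed ({y} : Set ↥V)) : (hV.primeIdealOf y).asIdeal.IsMaximal := by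
  apply (hV.primeIdealOf y).isClosed_singleton_iff_isMaximal.mp
  rw [IsAffineOpen.primeIdealOf, ← Set.image_singleton]
  refine (Topology.IsClosedEmbedding.isClosed_iff_image_isClosed <|
    IsHomeomorph.isClosedEmbedding ?_).mp hcl
  apply (TopCat.isIso_iff_isHomeomorph _).mp
  infer_instance

set_option maxHeartbeats 1600000 in
/-- **slicing groupoids**. -/
theorem exists_slice {S : Scheme.{u}} (G : Grpd.GroupoidScheme S)
    [LocallyOfFinitePresentation G.s] [LocallyOfFinitePresentation G.t]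
    (hs : ∀ r : G.R, Grpd.IsCMAt G.s r) (u : G.U)
    (hu : LocallyOfFiniteType (G.U.fromSpecResidueField u))
    (hd : topologicalKrullDim ↥(G.stabilizerToU.fiber u) < FlatMor.fibreDimAt G.s (G.e u)) :
    ∃ (U' : Scheme.{u}) (_ : IsAffine U') (g : U' ⟶ G.U) (u' : U') (p : ↑(pullback g G.t)),
      IsImmersion g ∧ LocallyOfFinitePresentation g ∧ g u' = u ∧ pullback.fst g G.t p = u' ∧
      pullback.snd g G.t p = G.e u ∧ Grpd.IsCMAt (pullback.snd g G.t ≫ G.s) p ∧
      FlatMor.fibreDimAt (pullback.snd g G.t ≫ G.s) p + 1 = FlatMor.fibreDimAt G.s (G.e u) := by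
  haveI := hu
  -- Step 1: the affine chart
  let x : Spec (CommRingCat.of (IsLocalRing.ResidueField (G.U.presheaf.stalk u))) :=
    IsLocalRing.closedPoint _
  obtain ⟨V, hV, hxV, hcl⟩ := @Groth.Agent.Lib.Helper14.exists_affine_isClosed_of_lft_from_field
    G.U (IsLocalRing.ResidueField (G.U.presheaf.stalk u)) _ (G.U.fromSpecResidueField u) hu x
  have hfx : G.U.fromSpecResidueField u x = u := Scheme.fromSpecResidueField_apply _ _
  have huV : u ∈ V := hfx ▸ hxV
  have hcl' : IsClosed ({⟨u, huV⟩} : Set ↥V) := by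
    convert hcl using 2
    exact Subtype.ext hfx.symm
  have hmax := isMaximal_primeIdealOf_of_isClosed' hV ⟨u, huV⟩ hcl'
  have hsV : G.e u ∈ G.s ⁻¹ᵁ V := by
    show G.s (G.e u) ∈ V
    rw [e_s_apply]; exact huV
  have htV : G.e u ∈ G.t ⁻¹ᵁ V := by
    show G.t (G.e u) ∈ V
    rw [e_t_apply]; exact huV
  have hpts : (⟨G.s (G.e u), hsV⟩ : V) = ⟨u, huV⟩ := Subtype.ext (e_s_apply G u)
  have hptt : (⟨G.t (G.e u), htV⟩ : V) = ⟨u, huV⟩ := Subtype.ext (e_t_apply G u)
  have hI : (maximalIdeal (G.U.presheaf.stalk (G.s (G.e u)))).map (G.s.stalkMap (G.e u)).hom =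
      (hV.primeIdealOf ⟨u, huV⟩).asIdeal.map
        ((G.R.presheaf.germ (G.s ⁻¹ᵁ V) (G.e u) hsV).hom.comp (G.s.app V).hom) := by
    rw [map_maximalIdeal_stalkMap_eq G.s hV (G.e u) hsV, hpts]
  have hJ : (maximalIdeal (G.U.presheaf.stalk (G.t (G.e u)))).map (G.t.stalkMap (G.e u)).hom =
      (hV.primeIdealOf ⟨u, huV⟩).asIdeal.map
        ((G.R.presheaf.germ (G.t ⁻¹ᵁ V) (G.e u) htV).hom.comp (G.t.app V).hom) := by
    rw [map_maximalIdeal_stalkMap_eq G.t hV (G.e u) htV, hptt]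
  have hcmO : LocCoh.IsCohenMacaulayLocalRing (G.R.presheaf.stalk (G.e u) ⧸
      (hV.primeIdealOf ⟨u, huV⟩).asIdeal.map
        ((G.R.presheaf.germ (G.s ⁻¹ᵁ V) (G.e u) hsV).hom.comp (G.s.app V).hom)) := by
    have := (hs (G.e u)).2
    rw [hI] at this
    exact this
  have hres : Function.Surjective (G.s.residueFieldMap (G.e u)).hom :=
    residueFieldMap_surjective_of_section G.e G.s G.e_s u
  rcases Groth.Agent.Lib.Helper14.GrpdSliceAlg.exists_regular_or_prime
    (hV.primeIdealOf ⟨u, huV⟩).asIdeal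
    ((G.R.presheaf.germ (G.s ⁻¹ᵁ V) (G.e u) hsV).hom.comp (G.s.app V).hom)
    ((G.R.presheaf.germ (G.t ⁻¹ᵁ V) (G.e u) htV).hom.comp (G.t.app V).hom) hcmO with
    ⟨f, hfm, hreg⟩ | ⟨𝔓, h𝔓, h1, h2, hdim⟩
  swap
  · exfalso
    haveI := h𝔓
    have hle := ringKrullDim_quotient_le G u hV huV hmax hsV htV 𝔓
      (fun a ha => h1 (Ideal.mem_map_of_mem _ ha)) (fun a ha => h2 (Ideal.mem_map_of_mem _ ha))
    have hfd := fibreDimAt_eq_ringKrullDim G.s (G.e u) hres
    rw [hfd, hI, ← hdim] at hd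
    exact absurd hle (not_le.mpr hd)
  -- Step 4: the slice
  have hfle : Ideal.span {f} ≤ (hV.primeIdealOf ⟨u, huV⟩).asIdeal :=
    (Ideal.span_singleton_le_iff_mem _).mpr hfm
  have hcomap : ((hV.primeIdealOf ⟨u, huV⟩).asIdeal.map
      (Ideal.Quotient.mk (Ideal.span {f}))).comap (Ideal.Quotient.mk (Ideal.span {f})) =
      (hV.primeIdealOf ⟨u, huV⟩).asIdeal := by
    rw [Ideal.comap_map_of_surjective _ Ideal.Quotient.mk_surjective, ← RingHom.ker_eq_comap_bot,
      Ideal.mk_ker]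
    exact sup_eq_left.mpr hfle
  haveI hprime : ((hV.primeIdealOf ⟨u, huV⟩).asIdeal.map
      (Ideal.Quotient.mk (Ideal.span {f}))).IsPrime :=
    Ideal.map_isPrime_of_surjective Ideal.Quotient.mk_surjective
      (by rw [Ideal.mk_ker]; exact hfle)
  let u' : Spec (CommRingCat.of (Γ(G.U, V) ⧸ Ideal.span {f})) :=
    ⟨(hV.primeIdealOf ⟨u, huV⟩).asIdeal.map (Ideal.Quotient.mk (Ideal.span {f})), hprime⟩
  have hgu' : sliceHom hV f u' = u := by
    unfold sliceHom
    rw [Scheme.Hom.comp_apply]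
    have h1 : Spec.map (CommRingCat.ofHom (Ideal.Quotient.mk (Ideal.span {f}))) u' =
        hV.primeIdealOf ⟨u, huV⟩ := PrimeSpectrum.ext hcomap
    rw [h1]
    exact hV.fromSpec_primeIdealOf ⟨u, huV⟩
  obtain ⟨p, hp1, hp2⟩ := Scheme.Pullback.exists_preimage_pullback (f := sliceHom hV f)
    (g := G.t) u' (G.e u) (hgu'.trans (e_t_apply G u).symm)
  have hkey : ∀ (r : G.R) (hr : r = G.e u) (htr : r ∈ G.t ⁻¹ᵁ V),
      G.R.presheaf.germ (G.t ⁻¹ᵁ V) r htr (G.t.app V f) ∈
        maximalIdeal (G.R.presheaf.stalk r) ∧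
      (∀ w : G.R.presheaf.stalk r, G.R.presheaf.germ (G.t ⁻¹ᵁ V) r htr (G.t.app V f) * w ∈
        (maximalIdeal (G.U.presheaf.stalk (G.s r))).map (G.s.stalkMap r).hom →
        w ∈ (maximalIdeal (G.U.presheaf.stalk (G.s r))).map (G.s.stalkMap r).hom) ∧
      Function.Surjective (G.s.residueFieldMap r).hom := by
    intro r hr
    subst hr
    intro htr
    refine ⟨?_, ?_, hres⟩
    · have hloc : IsLocalHom (G.t.stalkMap (G.e u)).hom := inferInstance
      have hle : (maximalIdeal (G.U.presheaf.stalk (G.t (G.e u)))).map (G.t.stalkMap (G.e u)).hom ≤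
          maximalIdeal (G.R.presheaf.stalk (G.e u)) :=
        ((IsLocalRing.local_hom_TFAE (G.t.stalkMap (G.e u)).hom).out 0 2).mp hloc
      apply hle
      rw [hJ]
      exact Ideal.mem_map_of_mem _ hfm
    · rw [hI]
      exact hreg
  obtain ⟨hbm', hreg', hres'⟩ := hkey _ hp2 (t_snd_mem p)
  obtain ⟨hcm', hdim'⟩ := isCMAt_slice G.s G.t hV f p (hs _) hbm' hreg'
  refine ⟨_, inferInstance, sliceHom hV f, u', p, inferInstance, inferInstance, hgu', hp1, hp2,
    hcm', ?_⟩
  haveI : LocallyOfFiniteType (pullback.snd (sliceHom hV f) G.t) :=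
    MorphismProperty.pullback_snd _ _ (inferInstance : LocallyOfFiniteType (sliceHom hV f))
  haveI : LocallyOfFiniteType (pullback.snd (sliceHom hV f) G.t ≫ G.s) := inferInstance
  have hres'' : Function.Surjective
      ((pullback.snd (sliceHom hV f) G.t ≫ G.s).residueFieldMap p).hom := by
    rw [Scheme.residueFieldMap_comp]
    have h1 := residueFieldMap_surjective_of_stalkMap_surjective
      (pullback.snd (sliceHom hV f) G.t) p (stalkMap_snd_surjective p)
    exact h1.comp hres'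
  rw [fibreDimAt_eq_ringKrullDim (pullback.snd (sliceHom hV f) G.t ≫ G.s) p hres'', hdim',
    ← fibreDimAt_eq_ringKrullDim G.s _ hres', hp2]

end Groth.Agent.Lib.Helper14.GrpdSliceFinal
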