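import Mathlib
import Groth.Prelude.Def_Grpd
import Groth.Agent.Lib.Helper11.GrpdStab
import Groth.Agent.Lib.Helper11.GrpdM1

/-!
# Generizations of the unit with trivial source and target lie in the stabilizer fibre (helper14)
-/

set_option autoImplicit false
universe u

open CategoryTheory CategoryTheory.Limits AlgebraicGeometry

namespace Groth.Agent.Lib.Helper14.GrpdSliceStab

/-- an injective, specialization-compatible map from a partial order bounds its Krull dimension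
by the topological Krull dimension. -/
theorem krullDim_le_topologicalKrullDim {α X : Type*} [PartialOrder α] [TopologicalSpace X]
    [T0Space X] (F : α → X) (hF : ∀ a b, a < b → F a ⤳ F b) (hinj : Function.Injective F) :
    Order.krullDim α ≤ topologicalKrullDim X := by
  unfold topologicalKrullDim
  rw [← Order.krullDim_orderDual (α := TopologicalSpace.IrreducibleCloseds X)]
  let f : α → (TopologicalSpace.IrreducibleCloseds X)ᵒᵈ := fun a =>
    OrderDual.toDual ⟨closure {F a}, isIrreducible_singleton.closure, isClosed_closure⟩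
  refine Order.krullDim_le_of_strictMono f ?_
  intro a b hab
  show (⟨closure {F b}, _, _⟩ : TopologicalSpace.IrreducibleCloseds X) <
    ⟨closure {F a}, _, _⟩
  have hle : closure {F b} ⊆ closure {F a} :=
    closure_minimal (Set.singleton_subset_iff.2 (hF a b hab).mem_closure) isClosed_closure
  refine lt_of_le_of_ne hle ?_
  intro heq
  have heq' : closure {F b} = closure {F a} := congrArg (fun Z => (Z.carrier : Set X)) heq
  have h1 : F a ∈ closure {F b} := heq' ▸ subset_closure (Set.mem_singleton _)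
  have h2 : F b ⤳ F a := specializes_iff_mem_closure.2 h1
  have h3 : F a = F b := ((hF a b hab).antisymm h2).eq
  exact hab.ne (hinj h3)


variable {S : Scheme.{u}} (G : Grpd.GroupoidScheme S)

theorem e_s_apply (u : G.U) : G.s (G.e u) = u := by
  have := congrArg (fun f : G.U ⟶ G.U => f u) G.e_s
  simpa using this

theorem e_t_apply (u : G.U) : G.t (G.e u) = u := by
  have := congrArg (fun f : G.U ⟶ G.U => f u) G.e_t
  simpa using this

set_option maxHeartbeats 800000 in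
/-- **key step**: a generization of the unit `e u` killed by the source and target of the maximal
ideal of `u` lies in the fibre over `u` of the stabilizer. -/
theorem mem_range_of_prime [LocallyOfFiniteType G.s] (u : G.U) {V : G.U.Opens}
    (hV : IsAffineOpen V) (huV : u ∈ V)
    (hmax : (hV.primeIdealOf ⟨u, huV⟩).asIdeal.IsMaximal)
    (hsV : G.e u ∈ G.s ⁻¹ᵁ V) (htV : G.e u ∈ G.t ⁻¹ᵁ V)
    (𝔮 : PrimeSpectrum (G.R.presheaf.stalk (G.e u)))
    (h1 : ∀ a ∈ (hV.primeIdealOf ⟨u, huV⟩).asIdeal,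
      G.R.presheaf.germ (G.s ⁻¹ᵁ V) (G.e u) hsV (G.s.app V a) ∈ 𝔮.asIdeal)
    (h2 : ∀ a ∈ (hV.primeIdealOf ⟨u, huV⟩).asIdeal,
      G.R.presheaf.germ (G.t ⁻¹ᵁ V) (G.e u) htV (G.t.app V a) ∈ 𝔮.asIdeal) :
    G.R.fromSpecStalk (G.e u) 𝔮 ∈
      Set.range (G.stabilizerToU.fiberι u ≫ pullback.fst G.j G.diag) := by
  have hsx : G.s (G.e u) = u := e_s_apply G u
  have htx : G.t (G.e u) = u := e_t_apply G u
  obtain ⟨_, ⟨W, hW, rfl⟩, hxW, hWle⟩ := G.R.isBasis_affineOpens.exists_subset_of_mem_open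
    (show (G.e u) ∈ ((G.s ⁻¹ᵁ V ⊓ G.t ⁻¹ᵁ V : G.R.Opens) : Set G.R) from ⟨hsV, htV⟩)
    (G.s ⁻¹ᵁ V ⊓ G.t ⁻¹ᵁ V).2
  have hWs : W ≤ G.s ⁻¹ᵁ V := fun z hz => (hWle hz).1
  have hWt : W ≤ G.t ⁻¹ᵁ V := fun z hz => (hWle hz).2
  set φ := G.s.appLE V W hWs with hφ
  set ψ := G.t.appLE V W hWt with hψ
  set m := (hV.primeIdealOf ⟨u, huV⟩).asIdeal with hm
  let 𝔓 : Spec Γ(G.R, W) := Spec.map (G.R.presheaf.germ W (G.e u) hxW) 𝔮
  have hζ : G.R.fromSpecStalk (G.e u) 𝔮 = hW.fromSpec 𝔓 := by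
    rw [← hW.fromSpecStalk_eq_fromSpecStalk hxW]
    rfl
  have h𝔓 : ∀ b, b ∈ 𝔓.asIdeal ↔ G.R.presheaf.germ W (G.e u) hxW b ∈ 𝔮.asIdeal := fun b => Iff.rfl
  have h1' : ∀ a ∈ m, φ.hom a ∈ 𝔓.asIdeal := by
    intro a ha
    rw [h𝔓]
    have : G.R.presheaf.germ W (G.e u) hxW (φ.hom a) =
        G.R.presheaf.germ (G.s ⁻¹ᵁ V) (G.e u) hsV (G.s.app V a) := by
      rw [hφ, Scheme.Hom.appLE, CommRingCat.comp_apply]
      exact TopCat.Presheaf.germ_res_apply G.R.presheaf (homOfLE hWs) (G.e u) hxW _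
    rw [this]
    exact h1 a ha
  have h2' : ∀ a ∈ m, ψ.hom a ∈ 𝔓.asIdeal := by
    intro a ha
    rw [h𝔓]
    have : G.R.presheaf.germ W (G.e u) hxW (ψ.hom a) =
        G.R.presheaf.germ (G.t ⁻¹ᵁ V) (G.e u) htV (G.t.app V a) := by
      rw [hψ, Scheme.Hom.appLE, CommRingCat.comp_apply]
      exact TopCat.Presheaf.germ_res_apply G.R.presheaf (homOfLE hWt) (G.e u) hxW _
    rw [this]
    exact h2 a ha
  -- the residue field `k = A / m` and its point
  haveI : m.IsMaximal := hmax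
  letI : Field (Γ(G.U, V) ⧸ m) := Ideal.Quotient.field m
  let κ : Spec (CommRingCat.of (Γ(G.U, V) ⧸ m)) ⟶ G.U :=
    Spec.map (CommRingCat.ofHom (Ideal.Quotient.mk m)) ≫ hV.fromSpec
  have hbot : ∀ y : Spec (CommRingCat.of (Γ(G.U, V) ⧸ m)), y.asIdeal = ⊥ := fun y =>
    ((Ideal.eq_bot_or_top y.asIdeal).resolve_right y.isPrime.ne_top)
  have hκpt : ∀ y, κ y = u := by
    intro y
    have h1 : (Spec.map (CommRingCat.ofHom (Ideal.Quotient.mk m))) y =
        hV.primeIdealOf ⟨u, huV⟩ := by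
      apply PrimeSpectrum.ext
      show Ideal.comap (Ideal.Quotient.mk m) y.asIdeal = m
      rw [hbot y, ← RingHom.ker_eq_comap_bot, Ideal.mk_ker]
    rw [Scheme.Hom.comp_apply, h1, hV.fromSpec_primeIdealOf ⟨u, huV⟩]
  have hrange : Set.range (κ ≫ G.e) ⊆ Set.range hW.fromSpec := by
    rintro _ ⟨y, rfl⟩
    rw [Scheme.Hom.comp_apply, hκpt y, hW.range_fromSpec]
    exact hxW
  let e' : Spec (CommRingCat.of (Γ(G.U, V) ⧸ m)) ⟶ Spec Γ(G.R, W) :=
    IsOpenImmersion.lift hW.fromSpec (κ ≫ G.e) hrange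
  have he' : e' ≫ hW.fromSpec = κ ≫ G.e := IsOpenImmersion.lift_fac _ _ _
  let ε₀ : Γ(G.R, W) ⟶ CommRingCat.of (Γ(G.U, V) ⧸ m) := Spec.preimage e'
  have hε₀ : Spec.map ε₀ = e' := Spec.map_preimage e'
  have hφε : φ ≫ ε₀ = CommRingCat.ofHom (Ideal.Quotient.mk m) := by
    apply Spec.map_injective
    rw [Spec.map_comp, hε₀, ← cancel_mono hV.fromSpec, Category.assoc,
      hV.SpecMap_appLE_fromSpec G.s hW hWs, ← Category.assoc, he', Category.assoc, G.e_s,
      Category.comp_id]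
  have hψε : ψ ≫ ε₀ = CommRingCat.ofHom (Ideal.Quotient.mk m) := by
    apply Spec.map_injective
    rw [Spec.map_comp, hε₀, ← cancel_mono hV.fromSpec, Category.assoc,
      hV.SpecMap_appLE_fromSpec G.t hW hWt, ← Category.assoc, he', Category.assoc, G.e_t,
      Category.comp_id]
  have hφε' : ∀ a : Γ(G.U, V), ε₀.hom (φ.hom a) = Ideal.Quotient.mk m a := fun a =>
    congrArg (fun f : Γ(G.U, V) ⟶ CommRingCat.of (Γ(G.U, V) ⧸ m) => f.hom a) hφε
  have hψε' : ∀ a : Γ(G.U, V), ε₀.hom (ψ.hom a) = Ideal.Quotient.mk m a := fun a =>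
    congrArg (fun f : Γ(G.U, V) ⟶ CommRingCat.of (Γ(G.U, V) ⧸ m) => f.hom a) hψε
  -- the quotient by `J`
  set J : Ideal Γ(G.R, W) := m.map φ.hom ⊔ m.map ψ.hom with hJ
  have hJ𝔓 : J ≤ 𝔓.asIdeal := by
    rw [hJ, sup_le_iff, Ideal.map_le_iff_le_comap, Ideal.map_le_iff_le_comap]
    exact ⟨fun a ha => h1' a ha, fun a ha => h2' a ha⟩
  have hJε : J ≤ RingHom.ker ε₀.hom := by
    rw [hJ, sup_le_iff, Ideal.map_le_iff_le_comap, Ideal.map_le_iff_le_comap]
    refine ⟨fun a ha => ?_, fun a ha => ?_⟩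
    · rw [Ideal.mem_comap, RingHom.mem_ker, hφε' a]
      exact Ideal.Quotient.eq_zero_iff_mem.mpr ha
    · rw [Ideal.mem_comap, RingHom.mem_ker, hψε' a]
      exact Ideal.Quotient.eq_zero_iff_mem.mpr ha
  have hmφ : m ≤ J.comap φ.hom := by
    rw [← Ideal.map_le_iff_le_comap, hJ]; exact le_sup_left
  have hmψ : m ≤ J.comap ψ.hom := by
    rw [← Ideal.map_le_iff_le_comap, hJ]; exact le_sup_right
  let φb : Γ(G.U, V) ⧸ m →+* Γ(G.R, W) ⧸ J := Ideal.quotientMap J φ.hom hmφ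
  let ψb : Γ(G.U, V) ⧸ m →+* Γ(G.R, W) ⧸ J := Ideal.quotientMap J ψ.hom hmψ
  let ε : Γ(G.R, W) ⧸ J →+* Γ(G.U, V) ⧸ m := Ideal.Quotient.lift J ε₀.hom (fun b hb => hJε hb)
  have hεφ : ∀ a, ε (φb a) = a := by
    intro a
    obtain ⟨a, rfl⟩ := Ideal.Quotient.mk_surjective a
    show ε (Ideal.quotientMap J φ.hom hmφ (Ideal.Quotient.mk m a)) = _
    rw [Ideal.quotientMap_mk, Ideal.Quotient.lift_mk, hφε' a]
  have hεψ : ∀ a, ε (ψb a) = a := by
    intro a
    obtain ⟨a, rfl⟩ := Ideal.Quotient.mk_surjective a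
    show ε (Ideal.quotientMap J ψ.hom hmψ (Ideal.Quotient.mk m a)) = _
    rw [Ideal.quotientMap_mk, Ideal.Quotient.lift_mk, hψε' a]
  have hft : φb.FiniteType := by
    have h0 : φ.hom.FiniteType := G.s.finiteType_appLE hV hW hWs
    have h3 : ((Ideal.Quotient.mk J).comp φ.hom).FiniteType :=
      (RingHom.FiniteType.of_surjective _ Ideal.Quotient.mk_surjective).comp h0
    have h4 : φb.comp (Ideal.Quotient.mk m) = (Ideal.Quotient.mk J).comp φ.hom := by
      ext a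
      simp [φb]
    rw [← h4] at h3
    exact RingHom.FiniteType.of_comp_finiteType h3
  -- the prime
  haveI h𝔓prime : 𝔓.asIdeal.IsPrime := 𝔓.isPrime
  haveI h𝔭prime : (𝔓.asIdeal.map (Ideal.Quotient.mk J)).IsPrime :=
    Ideal.map_isPrime_of_surjective Ideal.Quotient.mk_surjective (by rwa [Ideal.mk_ker])
  have hζsp : G.R.fromSpecStalk (G.e u) 𝔮 ⤳ G.e u := by
    have : G.R.fromSpecStalk (G.e u) 𝔮 ∈ Set.range (G.R.fromSpecStalk (G.e u)) := ⟨𝔮, rfl⟩
    rw [Scheme.range_fromSpecStalk] at this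
    exact this
  have h𝔓ker : 𝔓.asIdeal ≤ RingHom.ker ε₀.hom := by
    let pt : Spec (CommRingCat.of (Γ(G.U, V) ⧸ m)) := ⟨⊥, Ideal.isPrime_bot⟩
    have hpt1 : hW.fromSpec (e' pt) = G.e u := by
      rw [← Scheme.Hom.comp_apply, he', Scheme.Hom.comp_apply, hκpt pt]
    have hpt2 : (e' pt).asIdeal = RingHom.ker ε₀.hom := by
      rw [← hε₀]
      show Ideal.comap ε₀.hom pt.asIdeal = _
      rw [RingHom.ker_eq_comap_bot]
    rw [← hpt2]
    apply (PrimeSpectrum.le_iff_specializes 𝔓 (e' pt)).mpr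
    apply (hW.fromSpec.isOpenEmbedding.isInducing.specializes_iff (x := 𝔓) (y := e' pt)).mp
    rw [hpt1, ← hζ]
    exact hζsp
  have h𝔭ker : 𝔓.asIdeal.map (Ideal.Quotient.mk J) ≤ RingHom.ker ε := by
    rw [Ideal.map_le_iff_le_comap]
    intro b hb
    rw [Ideal.mem_comap, RingHom.mem_ker]
    show Ideal.Quotient.lift J ε₀.hom _ (Ideal.Quotient.mk J b) = 0
    rw [Ideal.Quotient.lift_mk]
    exact h𝔓ker hb
  have hsub := Groth.Agent.Lib.Helper11.GrpdM1.sub_mem_of_le_ker φb ψb ε hεφ hεψ hft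
    (𝔓.asIdeal.map (Ideal.Quotient.mk J)) h𝔭ker
  have hsub' : ∀ a : Γ(G.U, V), ψ.hom a - φ.hom a ∈ 𝔓.asIdeal := by
    intro a
    have h3 := hsub (Ideal.Quotient.mk m a)
    have h4 : ψb (Ideal.Quotient.mk m a) - φb (Ideal.Quotient.mk m a) =
        Ideal.Quotient.mk J (ψ.hom a - φ.hom a) := by
      simp [φb, ψb]
    rw [h4] at h3
    have h5 : ψ.hom a - φ.hom a ∈ (𝔓.asIdeal.map (Ideal.Quotient.mk J)).comap
        (Ideal.Quotient.mk J) := h3
    rw [Ideal.comap_map_of_surjective _ Ideal.Quotient.mk_surjective,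
      ← RingHom.ker_eq_comap_bot, Ideal.mk_ker, sup_eq_left.mpr hJ𝔓] at h5
    exact h5
  -- the integral quotient and its morphism to `R`
  let π : Γ(G.R, W) ⟶ CommRingCat.of (Γ(G.R, W) ⧸ 𝔓.asIdeal) :=
    CommRingCat.ofHom (Ideal.Quotient.mk 𝔓.asIdeal)
  have hπ : φ ≫ π = ψ ≫ π := by
    ext a
    show (Ideal.Quotient.mk 𝔓.asIdeal) (φ.hom a) = (Ideal.Quotient.mk 𝔓.asIdeal) (ψ.hom a)
    exact (Ideal.Quotient.eq.mpr (hsub' a)).symm
  let ρ : Spec (CommRingCat.of (Γ(G.R, W) ⧸ 𝔓.asIdeal)) ⟶ G.R := Spec.map π ≫ hW.fromSpec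
  have hρs : ρ ≫ G.s = Spec.map (φ ≫ π) ≫ hV.fromSpec := by
    show (Spec.map π ≫ hW.fromSpec) ≫ G.s = _
    rw [Spec.map_comp, Category.assoc, Category.assoc, hV.SpecMap_appLE_fromSpec G.s hW hWs]
  have hρt : ρ ≫ G.t = Spec.map (ψ ≫ π) ≫ hV.fromSpec := by
    show (Spec.map π ≫ hW.fromSpec) ≫ G.t = _
    rw [Spec.map_comp, Category.assoc, Category.assoc, hV.SpecMap_appLE_fromSpec G.t hW hWt]
  have hρst : ρ ≫ G.s = ρ ≫ G.t := by rw [hρs, hρt, hπ]
  obtain ⟨l, hl1, hl2⟩ := Groth.Agent.Lib.Helper11.GrpdStab.exists_stabLift G ρ (ρ ≫ G.s) rfl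
    hρst.symm
  haveI : IsDomain (Γ(G.R, W) ⧸ 𝔓.asIdeal) := Ideal.Quotient.isDomain _
  let pt : Spec (CommRingCat.of (Γ(G.R, W) ⧸ 𝔓.asIdeal)) := ⟨⊥, Ideal.isPrime_bot⟩
  have hpt : (Spec.map π) pt = 𝔓 := by
    apply PrimeSpectrum.ext
    show Ideal.comap (Ideal.Quotient.mk 𝔓.asIdeal) ⊥ = 𝔓.asIdeal
    rw [← RingHom.ker_eq_comap_bot, Ideal.mk_ker]
  have hρpt : ρ pt = G.R.fromSpecStalk (G.e u) 𝔮 := by
    rw [hζ, Scheme.Hom.comp_apply, hpt]
  have hspt : (ρ ≫ G.s) pt = u := by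
    rw [hρs, Scheme.Hom.comp_apply]
    have h3 : (Spec.map (φ ≫ π)) pt = hV.primeIdealOf ⟨u, huV⟩ := by
      apply PrimeSpectrum.ext
      show Ideal.comap (φ ≫ π).hom ⊥ = m
      symm
      apply hmax.eq_of_le
      · rw [← RingHom.ker_eq_comap_bot]
        exact RingHom.ker_ne_top _
      · intro a ha
        rw [Ideal.mem_comap]
        show (Ideal.Quotient.mk 𝔓.asIdeal) (φ.hom a) ∈ (⊥ : Ideal _)
        rw [Ideal.mem_bot]
        exact Ideal.Quotient.eq_zero_iff_mem.mpr (h1' a ha)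
    rw [h3, hV.fromSpec_primeIdealOf ⟨u, huV⟩]
  have hmem : l pt ∈ Set.range (G.stabilizerToU.fiberι u) := by
    rw [Scheme.Hom.range_fiberι]
    show G.stabilizerToU (l pt) = u
    rw [← Scheme.Hom.comp_apply, hl2]
    exact hspt
  obtain ⟨w, hw⟩ := hmem
  refine ⟨w, ?_⟩
  rw [Scheme.Hom.comp_apply, hw, ← hρpt, ← hl1]
  rfl


instance isImmersion_diag : IsImmersion G.diag :=
  inferInstanceAs (IsImmersion (pullback.diagonal G.pU))

/-- **dimension bound**: a prime of the local ring of `R` at `e u` containing the source and target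
extensions of the maximal ideal of `u` has coheight at most `dim G_u`. -/
theorem ringKrullDim_quotient_le [LocallyOfFiniteType G.s] (u : G.U) {V : G.U.Opens}
    (hV : IsAffineOpen V) (huV : u ∈ V)
    (hmax : (hV.primeIdealOf ⟨u, huV⟩).asIdeal.IsMaximal)
    (hsV : G.e u ∈ G.s ⁻¹ᵁ V) (htV : G.e u ∈ G.t ⁻¹ᵁ V)
    (𝔓 : Ideal (G.R.presheaf.stalk (G.e u))) [𝔓.IsPrime]
    (h1 : ∀ a ∈ (hV.primeIdealOf ⟨u, huV⟩).asIdeal,
      G.R.presheaf.germ (G.s ⁻¹ᵁ V) (G.e u) hsV (G.s.app V a) ∈ 𝔓)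
    (h2 : ∀ a ∈ (hV.primeIdealOf ⟨u, huV⟩).asIdeal,
      G.R.presheaf.germ (G.t ⁻¹ᵁ V) (G.e u) htV (G.t.app V a) ∈ 𝔓) :
    ringKrullDim (G.R.presheaf.stalk (G.e u) ⧸ 𝔓) ≤
      topologicalKrullDim ↥(G.stabilizerToU.fiber u) := by
  set ι := G.stabilizerToU.fiberι u ≫ pullback.fst G.j G.diag with hι
  haveI hI1 : IsImmersion (pullback.fst G.j G.diag) := inferInstance
  have hI2 : IsPreimmersion (pullback.fst G.j G.diag) := inferInstance
  have hI3 : IsPreimmersion (G.stabilizerToU.fiberι u) := inferInstance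
  haveI : IsPreimmersion ι := by
    rw [hι]
    exact @IsPreimmersion.comp _ _ _ (G.stabilizerToU.fiberι u) (pullback.fst G.j G.diag)
      hI3 hI2
  have hle : ∀ q : PrimeSpectrum (G.R.presheaf.stalk (G.e u) ⧸ 𝔓),
      𝔓 ≤ (PrimeSpectrum.comap (Ideal.Quotient.mk 𝔓) q).asIdeal := by
    intro q c hc
    show Ideal.Quotient.mk 𝔓 c ∈ q.asIdeal
    rw [Ideal.Quotient.eq_zero_iff_mem.mpr hc]
    exact q.asIdeal.zero_mem
  have key : ∀ q : PrimeSpectrum (G.R.presheaf.stalk (G.e u) ⧸ 𝔓),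
      G.R.fromSpecStalk (G.e u) (PrimeSpectrum.comap (Ideal.Quotient.mk 𝔓) q) ∈ Set.range ι :=
    fun q => mem_range_of_prime G u hV huV hmax hsV htV _
      (fun a ha => hle q (h1 a ha)) (fun a ha => hle q (h2 a ha))
  choose F hF using key
  refine krullDim_le_topologicalKrullDim F ?_ ?_
  · intro a b hab
    apply (ι.isEmbedding.isInducing.specializes_iff (x := F a) (y := F b)).mp
    rw [hF a, hF b]
    have h3 : PrimeSpectrum.comap (Ideal.Quotient.mk 𝔓) a ≤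
        PrimeSpectrum.comap (Ideal.Quotient.mk 𝔓) b :=
      fun c hc => hab.le hc
    exact ((PrimeSpectrum.le_iff_specializes _ _).mp h3).map
      (G.R.fromSpecStalk (G.e u)).continuous
  · intro a b hab
    have h3 := congrArg ι hab
    rw [hF a, hF b] at h3
    have h4 := (G.R.fromSpecStalk (G.e u)).isEmbedding.injective h3
    exact PrimeSpectrum.comap_injective_of_surjective _ Ideal.Quotient.mk_surjective h4

end Groth.Agent.Lib.Helper14.GrpdSliceStab
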