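import Mathlib
import Groth.Prelude.Def_Found
import Groth.Agent.Lib.Helper8.Hzl.FibreSeparable
import Groth.Agent.Lib.Helper14.GeomRegularSep

/-!
# Ind-étale-like algebras and regular homomorphisms (helper14)

* `IndEtaleLike.isRegularHom`: a flat Noetherian ind-étale-like algebra (e.g. a henselization or
  strict henselization) is a regular homomorphism.
* `IndEtaleLike.isSeparable_residueField`: residue field extensions are separable algebraic.
* `isLocalization_fibMap`: for `R → S → T` with `S` unramified at `q` over `R`, the fibre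
  `κ(q) ⊗_S T` is a localization of `κ(p) ⊗_R T`.
* `IndEtaleLike.isRegularHom_of_comp`: if `R → T` is regular and `R → S` is ind-étale-like, `S → T`
  flat, then `S → T` is regular.
-/

set_option autoImplicit false
set_option linter.style.haveILetI false
set_option linter.unusedSectionVars false
universe u
open TensorProduct IsLocalRing Groth.Agent.Lib.Helper8.Hzl

namespace Groth.Agent.Lib.Helper14.HensReg


/-- A local ring which is a field is a regular local ring. -/
theorem isRegularLocalRing_of_isField (X : Type u) [CommRing X] [IsLocalRing X] (hf : IsField X) :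
    IsRegularLocalRing X := by
  letI := hf.toField
  infer_instance

section field
variable {k F : Type u} [Field k] [CommRing F] [Algebra k F]

theorem IndEtaleLike.isRegularRing_of_field (h : IndEtaleLike k F) [IsNoetherianRing F] :
    IsRegularRing F := by
  refine ⟨fun q hq => ?_⟩
  exact isRegularLocalRing_of_isField _
    (IsLocalRing.isField_iff_maximalIdeal_eq.mpr (h.maximalIdeal_localization_eq_bot q))

theorem IndEtaleLike.isGeometricallyRegular_of_field (h : IndEtaleLike k F) [IsNoetherianRing F] :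
    CAlg.IsGeometricallyRegular k F := by
  intro L _ _ hfin
  haveI : IsNoetherianRing (L ⊗[k] F) :=
    Groth.Agent.Lib.Helper14.GeomRegularSep.isNoetherianRing_tensor_finite k L F
  exact IndEtaleLike.isRegularRing_of_field (h.baseChange L)

end field

section hom
variable {R S : Type u} [CommRing R] [CommRing S] [Algebra R S]

theorem IndEtaleLike.isRegularHom (h : IndEtaleLike R S) [IsNoetherianRing S] [Module.Flat R S] :
    CAlg.IsRegularHom R S := by
  refine ⟨inferInstance, fun p hp => ?_⟩
  haveI := isNoetherianRing_residueField_tensor R S p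
  exact ⟨inferInstance, IndEtaleLike.isGeometricallyRegular_of_field (h.baseChange p.ResidueField)⟩

end hom


section sep
variable {R S : Type u} [CommRing R] [CommRing S] [Algebra R S]

theorem resTower (q : Ideal S) [q.IsPrime] (p : Ideal R) [p.IsPrime]
    (hpq : p = q.comap (algebraMap R S)) :
    letI := (Ideal.ResidueField.map p q (algebraMap R S) hpq).toAlgebra
    IsScalarTower R p.ResidueField q.ResidueField := by
  letI := (Ideal.ResidueField.map p q (algebraMap R S) hpq).toAlgebra
  exact IsScalarTower.of_algebraMap_eq (fun r => by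
    rw [RingHom.algebraMap_toAlgebra, Ideal.ResidueField.map_algebraMap]
    exact (IsScalarTower.algebraMap_apply R S q.ResidueField r))

/-- the canonical map `κ(p) ⊗_R S → κ(q)` -/
noncomputable def fibToRes (q : Ideal S) [q.IsPrime] (p : Ideal R) [p.IsPrime]
    (hpq : p = q.comap (algebraMap R S)) :
    letI := (Ideal.ResidueField.map p q (algebraMap R S) hpq).toAlgebra
    p.ResidueField ⊗[R] S →ₐ[p.ResidueField] q.ResidueField :=
  letI := (Ideal.ResidueField.map p q (algebraMap R S) hpq).toAlgebra
  haveI : IsScalarTower R p.ResidueField q.ResidueField := resTower q p hpq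
  Algebra.TensorProduct.lift (Algebra.ofId p.ResidueField q.ResidueField)
    (IsScalarTower.toAlgHom R S q.ResidueField) (fun _ _ => Commute.all _ _)

theorem fibToRes_one_tmul (q : Ideal S) [q.IsPrime] (p : Ideal R) [p.IsPrime]
    (hpq : p = q.comap (algebraMap R S)) (s : S) :
    fibToRes q p hpq (1 ⊗ₜ s) = algebraMap S q.ResidueField s := by
  letI := (Ideal.ResidueField.map p q (algebraMap R S) hpq).toAlgebra
  haveI : IsScalarTower R p.ResidueField q.ResidueField := resTower q p hpq
  unfold fibToRes
  rw [Algebra.TensorProduct.lift_tmul, map_one, one_mul]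
  rfl

theorem fibToRes_surjective (q : Ideal S) [q.IsPrime] (p : Ideal R) [p.IsPrime]
    (hpq : p = q.comap (algebraMap R S)) [Ring.KrullDimLE 0 (p.ResidueField ⊗[R] S)] :
    Function.Surjective (fibToRes q p hpq) := by
  letI := (Ideal.ResidueField.map p q (algebraMap R S) hpq).toAlgebra
  set π := fibToRes q p hpq with hπ
  -- range closed under inverse
  have hinv : ∀ x : p.ResidueField ⊗[R] S, π x ≠ 0 → ∃ x', π x' = (π x)⁻¹ := by
    intro x hx
    haveI : (RingHom.ker π.toRingHom).IsPrime := RingHom.ker_isPrime _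
    haveI : (RingHom.ker π.toRingHom).IsMaximal := Ideal.isMaximal_of_isPrime _
    have hxk : x ∉ RingHom.ker π.toRingHom := fun h => hx ((RingHom.mem_ker).mp h)
    obtain ⟨y, i, hi, hy⟩ := Ideal.IsMaximal.exists_inv (I := RingHom.ker π.toRingHom) inferInstance hxk
    refine ⟨y, ?_⟩
    have h1 : π (y * x + i) = 1 := by rw [hy, map_one]
    have hi' : π i = 0 := hi
    rw [map_add, map_mul, hi', add_zero] at h1
    exact eq_inv_of_mul_eq_one_left h1
  intro z
  obtain ⟨a, b, hb, rfl⟩ := IsFractionRing.div_surjective (A := S ⧸ q) z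
  obtain ⟨a, rfl⟩ := Ideal.Quotient.mk_surjective a
  obtain ⟨b, rfl⟩ := Ideal.Quotient.mk_surjective b
  have ha : algebraMap (S ⧸ q) q.ResidueField (Ideal.Quotient.mk q a) = π (1 ⊗ₜ a) := by
    rw [hπ, fibToRes_one_tmul]; rfl
  have hb' : algebraMap (S ⧸ q) q.ResidueField (Ideal.Quotient.mk q b) = π (1 ⊗ₜ b) := by
    rw [hπ, fibToRes_one_tmul]; rfl
  have hne : π (1 ⊗ₜ b) ≠ 0 := by
    rw [← hb']
    intro h0
    have := (IsFractionRing.injective (S ⧸ q) q.ResidueField) (h0.trans (map_zero _).symm)
    exact (nonZeroDivisors.ne_zero hb) this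
  obtain ⟨x', hx'⟩ := hinv _ hne
  refine ⟨(1 ⊗ₜ a) * x', ?_⟩
  rw [map_mul, hx', ha, hb', div_eq_mul_inv]

theorem IndEtaleLike.isSeparable_residueField (h : IndEtaleLike R S) (q : Ideal S) [q.IsPrime]
    (p : Ideal R) [p.IsPrime] (hpq : p = q.comap (algebraMap R S)) :
    letI := (Ideal.ResidueField.map p q (algebraMap R S) hpq).toAlgebra
    Algebra.IsSeparable p.ResidueField q.ResidueField := by
  letI := (Ideal.ResidueField.map p q (algebraMap R S) hpq).toAlgebra
  have hF := h.baseChange p.ResidueField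
  haveI := hF.krullDimLE_zero_of_field
  exact hF.isSeparable_of_surjective (fibToRes q p hpq) (fibToRes_surjective q p hpq)

end sep

section loc
variable {R S T : Type u} [CommRing R] [CommRing S] [CommRing T] [Algebra R S] [Algebra S T]
  [Algebra R T] [IsScalarTower R S T] (q : Ideal S) [q.IsPrime]

/-- `κ(q ∩ R) → κ(q)` -/
@[reducible] noncomputable def resAlg : Algebra (q.under R).ResidueField q.ResidueField :=
  (Ideal.ResidueField.map (q.under R) q (algebraMap R S) rfl).toAlgebra

attribute [local instance] resAlg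

instance resTower' : IsScalarTower R (q.under R).ResidueField q.ResidueField :=
  IsScalarTower.of_algebraMap_eq (fun r => by
    rw [RingHom.algebraMap_toAlgebra, Ideal.ResidueField.map_algebraMap]
    exact (IsScalarTower.algebraMap_apply R S q.ResidueField r))

variable (R T) in
/-- `κ(p) ⊗_R T → κ(q) ⊗_S T` -/
noncomputable def fibMap :
    (q.under R).ResidueField ⊗[R] T →ₐ[(q.under R).ResidueField] q.ResidueField ⊗[S] T :=
  Algebra.TensorProduct.lift (Algebra.ofId _ _)
    ((Algebra.TensorProduct.includeRight : T →ₐ[S] q.ResidueField ⊗[S] T).restrictScalars R)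
    (fun _ _ => Commute.all _ _)

theorem fibMap_tmul (a : (q.under R).ResidueField) (t : T) :
    fibMap R T q (a ⊗ₜ t) = (algebraMap (q.under R).ResidueField q.ResidueField a) ⊗ₜ t := by
  unfold fibMap
  rw [Algebra.TensorProduct.lift_tmul]
  simp only [Algebra.ofId_apply, AlgHom.coe_restrictScalars', Algebra.TensorProduct.includeRight_apply]
  rw [Algebra.TensorProduct.algebraMap_apply, Algebra.TensorProduct.tmul_mul_tmul, mul_one, one_mul]

variable (R T) in
/-- `S → κ(p) ⊗_R T` as a monoid hom -/
noncomputable def sToFib : S →* (q.under R).ResidueField ⊗[R] T :=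
  ((Algebra.TensorProduct.includeRight : T →ₐ[R] (q.under R).ResidueField ⊗[R] T).toRingHom.comp
    (algebraMap S T) : S →+* _)

theorem sToFib_apply (s : S) : sToFib R T q s = 1 ⊗ₜ algebraMap S T s := rfl


/-- `1 ⊗ x = 0` in `κ(p) ⊗_R T` for `x ∈ pT`. -/
theorem one_tmul_eq_zero_of_mem (P : Ideal R) [P.IsPrime] (x : T)
    (hx : x ∈ P.map (algebraMap R T)) : (1 : P.ResidueField) ⊗ₜ[R] x = 0 := by
  refine Submodule.span_induction (p := fun x _ => (1 : P.ResidueField) ⊗ₜ[R] x = 0)
    ?_ ?_ ?_ ?_ hx
  · rintro _ ⟨a, ha, rfl⟩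
    rw [Algebra.algebraMap_eq_smul_one, ← TensorProduct.smul_tmul, Algebra.smul_def, mul_one,
      Ideal.algebraMap_residueField_eq_zero.mpr ha, TensorProduct.zero_tmul]
  · exact TensorProduct.tmul_zero _ _
  · intro a b _ _ ha hb
    rw [TensorProduct.tmul_add, ha, hb, add_zero]
  · intro a b _ hb
    have : (1 : P.ResidueField) ⊗ₜ[R] (a • b) = (1 ⊗ₜ a) * (1 ⊗ₜ b) := by
      rw [Algebra.TensorProduct.tmul_mul_tmul, one_mul, smul_eq_mul]
    rw [this, hb, mul_zero]


/-- if `1 ⊗ t = 0` in `κ(q) ⊗_S T` then `s t ∈ qT` for some `s ∉ q`. -/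
theorem exists_smul_mem_of_one_tmul_eq_zero (t : T)
    (ht : (1 : q.ResidueField) ⊗ₜ[S] t = 0) :
    ∃ s : S, s ∉ q ∧ algebraMap S T s * t ∈ q.map (algebraMap S T) := by
  letI : Algebra T (q.Fiber T) := Algebra.TensorProduct.rightAlgebra
  have e := Ideal.Fiber.algEquivAux₁ (S := T) q
  have h1 : e (algebraMap T (q.Fiber T) t) = 0 := by
    have : algebraMap T (q.Fiber T) t = (1 : q.ResidueField) ⊗ₜ[S] t := rfl
    rw [this, ht, map_zero]
  rw [AlgEquiv.commutes, IsScalarTower.algebraMap_apply T
    (Localization (Algebra.algebraMapSubmonoid T q.primeCompl)), Ideal.Quotient.algebraMap_eq,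
    Ideal.Quotient.eq_zero_iff_mem,
    IsLocalization.mem_map_algebraMap_iff (Algebra.algebraMapSubmonoid T q.primeCompl)] at h1
  obtain ⟨⟨⟨x, hx⟩, ⟨_, s, hs, rfl⟩⟩, h2⟩ := h1
  simp only at h2
  rw [← map_mul] at h2
  obtain ⟨⟨_, s', hs', rfl⟩, h3⟩ := (IsLocalization.eq_iff_exists
    (Algebra.algebraMapSubmonoid T q.primeCompl) _).mp h2
  simp only at h3
  refine ⟨s' * s, fun h => (Ideal.IsPrime.mem_or_mem inferInstance h).elim hs' hs, ?_⟩
  rw [map_mul, mul_assoc, mul_comm _ t, h3]
  exact Ideal.mul_mem_left _ _ hx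


theorem exists_mul_mem_under_of_mem
    (hU : (q.under R).map (algebraMap R (Localization.AtPrime q)) =
      maximalIdeal (Localization.AtPrime q)) (y : S) (hy : y ∈ q) :
    ∃ s : S, s ∉ q ∧ s * y ∈ (q.under R).map (algebraMap R S) := by
  have h1 : algebraMap S (Localization.AtPrime q) y ∈ maximalIdeal (Localization.AtPrime q) :=
    (IsLocalization.AtPrime.to_map_mem_maximal_iff _ q y).mpr hy
  rw [← hU, IsScalarTower.algebraMap_eq R S (Localization.AtPrime q), ← Ideal.map_map,
    IsLocalization.mem_map_algebraMap_iff q.primeCompl] at h1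
  obtain ⟨⟨⟨a, ha⟩, ⟨m, hm⟩⟩, h2⟩ := h1
  simp only at h2
  rw [← map_mul] at h2
  obtain ⟨⟨s', hs'⟩, h3⟩ := (IsLocalization.eq_iff_exists q.primeCompl _).mp h2
  simp only at h3
  refine ⟨s' * m, fun h => (Ideal.IsPrime.mem_or_mem inferInstance h).elim hs' hm, ?_⟩
  rw [mul_assoc, mul_comm m y, h3]
  exact Ideal.mul_mem_left _ _ ha

theorem exists_mul_mem_map_under
    (hU : (q.under R).map (algebraMap R (Localization.AtPrime q)) =
      maximalIdeal (Localization.AtPrime q)) (x : T) (hx : x ∈ q.map (algebraMap S T)) :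
    ∃ s : S, s ∉ q ∧ algebraMap S T s * x ∈ (q.under R).map (algebraMap R T) := by
  refine Submodule.span_induction
    (p := fun x _ => ∃ s : S, s ∉ q ∧ algebraMap S T s * x ∈ (q.under R).map (algebraMap R T))
    ?_ ?_ ?_ ?_ hx
  · rintro _ ⟨y, hy, rfl⟩
    obtain ⟨s, hs, h⟩ := exists_mul_mem_under_of_mem q hU y hy
    refine ⟨s, hs, ?_⟩
    rw [← map_mul, IsScalarTower.algebraMap_eq R S T, ← Ideal.map_map]
    exact Ideal.mem_map_of_mem _ h
  · exact ⟨1, fun h => (Ideal.IsPrime.ne_top inferInstance) ((Ideal.eq_top_iff_one q).mpr h),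
      by rw [mul_zero]; exact zero_mem _⟩
  · rintro a b _ _ ⟨s, hs, ha⟩ ⟨s', hs', hb⟩
    refine ⟨s * s', fun h => (Ideal.IsPrime.mem_or_mem inferInstance h).elim hs hs', ?_⟩
    rw [map_mul, mul_add]
    refine add_mem ?_ ?_
    · rw [mul_comm (algebraMap S T s), mul_assoc]; exact Ideal.mul_mem_left _ _ ha
    · rw [mul_assoc]; exact Ideal.mul_mem_left _ _ hb
  · rintro a b _ ⟨s, hs, hb⟩
    refine ⟨s, hs, ?_⟩
    rw [smul_eq_mul, mul_left_comm]
    exact Ideal.mul_mem_left _ _ hb


theorem fibMap_sToFib (s : S) :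
    fibMap R T q (sToFib R T q s) = algebraMap S (q.ResidueField ⊗[S] T) s := by
  rw [sToFib_apply, fibMap_tmul, map_one, Algebra.TensorProduct.algebraMap_apply,
    Algebra.algebraMap_eq_smul_one (A := T), ← TensorProduct.smul_tmul, Algebra.smul_def, mul_one]

theorem isLocalization_fibMap
    (hU : (q.under R).map (algebraMap R (Localization.AtPrime q)) =
      maximalIdeal (Localization.AtPrime q)) :
    letI := (fibMap R T q).toRingHom.toAlgebra
    IsLocalization (q.primeCompl.map (sToFib R T q)) (q.ResidueField ⊗[S] T) := by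
  letI := (fibMap R T q).toRingHom.toAlgebra
  have halg : ∀ e, algebraMap ((q.under R).ResidueField ⊗[R] T) (q.ResidueField ⊗[S] T) e =
      fibMap R T q e := fun _ => rfl
  refine ⟨?_, ?_, ?_⟩
  · rintro ⟨_, s, hs, rfl⟩
    rw [halg, fibMap_sToFib, Algebra.TensorProduct.algebraMap_apply]
    have hu : IsUnit (algebraMap S q.ResidueField s) := by
      rw [isUnit_iff_ne_zero, Ne, Ideal.algebraMap_residueField_eq_zero]
      exact hs
    exact hu.map (Algebra.TensorProduct.includeLeft : q.ResidueField →ₐ[S] q.ResidueField ⊗[S] T)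
  · intro c
    obtain ⟨r, hr, t, h⟩ := Ideal.Fiber.exists_smul_eq_one_tmul q c
    refine ⟨(1 ⊗ₜ t, ⟨sToFib R T q r, r, hr, rfl⟩), ?_⟩
    rw [halg, halg, fibMap_sToFib, fibMap_tmul, map_one, ← h, Algebra.smul_def, mul_comm]
  · intro x y hxy
    rw [halg, halg] at hxy
    have h0 : fibMap R T q (x - y) = 0 := by rw [map_sub, hxy, sub_self]
    obtain ⟨r, hr, t, h⟩ := Ideal.Fiber.exists_smul_eq_one_tmul (q.under R) (x - y)
    have h1 : (1 : q.ResidueField) ⊗ₜ[S] t = 0 := by
      have := congrArg (fibMap R T q) h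
      rw [fibMap_tmul, map_one, ← algebraMap_smul (q.under R).ResidueField r (x - y), map_smul, h0,
        smul_zero] at this
      exact this.symm
    obtain ⟨s, hs, h2⟩ := exists_smul_mem_of_one_tmul_eq_zero q t h1
    obtain ⟨s', hs', h3⟩ := exists_mul_mem_map_under q hU _ h2
    have h4 := one_tmul_eq_zero_of_mem (q.under R) _ h3
    refine ⟨⟨sToFib R T q (s' * s), s' * s, fun hh =>
      (Ideal.IsPrime.mem_or_mem inferInstance hh).elim hs' hs, rfl⟩, ?_⟩
    simp only
    have h5 : sToFib R T q (s' * s) * (r • (x - y)) = 0 := by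
      rw [h, sToFib_apply, Algebra.TensorProduct.tmul_mul_tmul, one_mul, map_mul, mul_assoc]
      exact h4
    rw [mul_smul_comm] at h5
    have hr' : algebraMap R (q.under R).ResidueField r ≠ 0 := by
      rw [Ne, Ideal.algebraMap_residueField_eq_zero]
      exact hr
    have h6 : sToFib R T q (s' * s) * (x - y) = 0 := by
      have h7 : (algebraMap R (q.under R).ResidueField r) • (sToFib R T q (s' * s) * (x - y)) = 0 := by
        rw [algebraMap_smul]; exact h5
      exact (smul_eq_zero.mp h7).resolve_left hr'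
    rw [mul_sub, sub_eq_zero] at h6
    exact h6


open Groth.Agent.Lib.Helper14.GeomRegularSep in
theorem isGeometricallyRegular_fibre_under
    (hU : (q.under R).map (algebraMap R (Localization.AtPrime q)) =
      maximalIdeal (Localization.AtPrime q))
    (hE : CAlg.IsGeometricallyRegular (q.under R).ResidueField ((q.under R).ResidueField ⊗[R] T)) :
    CAlg.IsGeometricallyRegular (q.under R).ResidueField (q.ResidueField ⊗[S] T) := by
  letI := (fibMap R T q).toRingHom.toAlgebra
  haveI : IsScalarTower (q.under R).ResidueField ((q.under R).ResidueField ⊗[R] T)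
      (q.ResidueField ⊗[S] T) :=
    IsScalarTower.of_algebraMap_eq (fun a => ((fibMap R T q).commutes a).symm)
  haveI hloc := isLocalization_fibMap (R := R) (T := T) q hU
  intro L _ _ hfin
  haveI h1 : IsRegularRing (L ⊗[(q.under R).ResidueField] ((q.under R).ResidueField ⊗[R] T)) :=
    hE L hfin
  haveI h2 : IsRegularRing (((q.under R).ResidueField ⊗[R] T) ⊗[(q.under R).ResidueField] L) :=
    IsRegularRing.of_ringEquiv (Algebra.TensorProduct.comm _ _ _).toRingEquiv
  haveI h3 : IsRegularRing ((((q.under R).ResidueField ⊗[R] T) ⊗[(q.under R).ResidueField] L)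
      ⊗[(q.under R).ResidueField ⊗[R] T] (q.ResidueField ⊗[S] T)) :=
    isRegularRing_of_isLocalization (Algebra.algebraMapSubmonoid
      (((q.under R).ResidueField ⊗[R] T) ⊗[(q.under R).ResidueField] L)
      (q.primeCompl.map (sToFib R T q))) _
  refine IsRegularRing.of_ringEquiv (R := (((q.under R).ResidueField ⊗[R] T) ⊗[(q.under R).ResidueField] L)
      ⊗[(q.under R).ResidueField ⊗[R] T] (q.ResidueField ⊗[S] T)) ?_
  exact ((Algebra.TensorProduct.comm _ _ _).trans
    ((Algebra.TensorProduct.cancelBaseChange (q.under R).ResidueField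
      ((q.under R).ResidueField ⊗[R] T) ((q.under R).ResidueField ⊗[R] T) (q.ResidueField ⊗[S] T) L))).toRingEquiv.trans
    (Algebra.TensorProduct.comm (q.under R).ResidueField _ _).toRingEquiv


open Groth.Agent.Lib.Helper14.GeomRegularSep in
/-- If `R → T` is regular, `R → S` is ind-étale-like and `S → T` is flat (all Noetherian), then
`S → T` is regular. -/
theorem IndEtaleLike.isRegularHom_of_comp (h : IndEtaleLike R S) [IsNoetherianRing T]
    [Module.Flat S T] (hRT : CAlg.IsRegularHom R T) : CAlg.IsRegularHom S T := by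
  refine ⟨inferInstance, fun q hq => ?_⟩
  haveI hN : IsNoetherianRing (q.ResidueField ⊗[S] T) := isNoetherianRing_residueField_tensor S T q
  refine ⟨hN, ?_⟩
  have hE := (hRT.2 (q.under R)).2
  have hU := h.map_under_eq_maximalIdeal q
  haveI hsep : Algebra.IsSeparable (q.under R).ResidueField q.ResidueField :=
    IndEtaleLike.isSeparable_residueField h q (q.under R) rfl
  have hA := isGeometricallyRegular_fibre_under (R := R) (T := T) q hU hE
  exact geomRegular_ascend (q.under R).ResidueField q.ResidueField (q.ResidueField ⊗[S] T) hA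

end loc

end Groth.Agent.Lib.Helper14.HensReg
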