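import Mathlib

/-!
# Henselian pairs are preserved by limits (helper14)
-/

set_option autoImplicit false
universe u

open CategoryTheory Limits Polynomial

namespace Groth.Agent.Lib.Helper14

section Ring

variable {R : Type*} [CommRing R] {I : Ideal R}

lemma isUnit_of_isUnit_mk_of_le_jacobson (hI : I ≤ Ideal.jacobson ⊥) {x : R}
    (hx : IsUnit (Ideal.Quotient.mk I x)) : IsUnit x := by
  obtain ⟨y, hy⟩ := hx.exists_right_inv
  obtain ⟨y, rfl⟩ := Ideal.Quotient.mk_surjective y
  rw [← map_mul, ← map_one (Ideal.Quotient.mk I), Ideal.Quotient.eq] at hy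
  have := Ideal.isUnit_of_sub_one_mem_jacobson_bot (x * y) (hI hy)
  exact isUnit_of_mul_isUnit_left this

lemma mk_eval_eq_of_sub_mem (p : R[X]) {b b₀ : R} (h : b - b₀ ∈ I) :
    Ideal.Quotient.mk I (p.eval b) = Ideal.Quotient.mk I (p.eval b₀) := by
  rw [← Polynomial.eval_map_apply, ← Polynomial.eval_map_apply, (Ideal.Quotient.eq).mpr h]

/-- Uniqueness of Hensel lifts. -/
lemma root_unique_of_le_jacobson (hI : I ≤ Ideal.jacobson ⊥) (g : R[X]) (b₀ b b' : R)
    (hu : IsUnit (Ideal.Quotient.mk I (g.derivative.eval b₀)))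
    (hb : g.IsRoot b) (hb' : g.IsRoot b') (h : b - b₀ ∈ I) (h' : b' - b₀ ∈ I) : b = b' := by
  have hd : b' - b ∈ I := by
    have := I.sub_mem h' h
    simpa using this
  obtain ⟨k, hk⟩ := g.binomExpansion b (b' - b)
  rw [add_sub_cancel, hb'.eq_zero, hb.eq_zero, zero_add] at hk
  have hfac : (b' - b) * (g.derivative.eval b + k * (b' - b)) = 0 := by
    rw [hk]; ring
  have hunit : IsUnit (g.derivative.eval b + k * (b' - b)) := by
    apply isUnit_of_isUnit_mk_of_le_jacobson hI
    rw [map_add, map_mul, (Ideal.Quotient.eq_zero_iff_mem).mpr hd, mul_zero, add_zero,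
      mk_eval_eq_of_sub_mem _ h]
    exact hu
  have := hunit.mul_left_eq_zero.mp hfac
  exact (sub_eq_zero.mp this).symm

end Ring

section Lim

variable {J : Type u} [Preorder J] (F : J ⥤ CommRingCat.{u})

lemma limit_ext (a b : (limit F : CommRingCat.{u}))
    (h : ∀ j, (limit.π F j).hom a = (limit.π F j).hom b) : a = b := by
  apply Concrete.limit_ext F
  intro j
  exact h j

lemma limit_exists (s : ∀ j, F.obj j)
    (hs : ∀ (i j : J) (φ : i ⟶ j), (F.map φ).hom (s i) = s j) :
    ∃ a : (limit F : CommRingCat.{u}), ∀ j, (limit.π F j).hom a = s j := by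
  have hlim : Nonempty (IsLimit ((forget CommRingCat.{u}).mapCone (limit.cone F))) :=
    ⟨isLimitOfPreserves (forget CommRingCat.{u}) (limit.isLimit F)⟩
  rw [Types.isLimit_iff] at hlim
  obtain ⟨a, ha, -⟩ := hlim (fun j => s j) (by
    intro i j φ
    exact hs i j φ)
  exact ⟨a, ha⟩

theorem henselianRing_limit (I : ∀ j : J, Ideal (F.obj j))
    (hI : ∀ (i j : J) (φ : i ⟶ j), Ideal.map (F.map φ).hom (I i) ≤ I j)
    (h : ∀ j : J, HenselianRing (F.obj j) (I j)) :
    HenselianRing ((limit F : CommRingCat.{u}) : Type u)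
      (⨅ j : J, Ideal.comap (limit.π F j).hom (I j)) := by
  set A : CommRingCat.{u} := limit F with hA
  let π : ∀ j, A →+* F.obj j := fun j => (limit.π F j).hom
  have hπ : ∀ (i j : J) (φ : i ⟶ j) (x : A), (F.map φ).hom (π i x) = π j x := by
    intro i j φ x
    change (limit.π F i ≫ F.map φ).hom x = (limit.π F j).hom x
    rw [limit.w F φ]
  set II : Ideal A := ⨅ j : J, Ideal.comap (π j) (I j) with hII
  have hmemI : ∀ x : A, x ∈ II ↔ ∀ j, π j x ∈ I j := by
    intro x
    simp [hII, Ideal.mem_iInf, Ideal.mem_comap]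
  have hImap : ∀ (i j : J) (φ : i ⟶ j) (y : F.obj i), y ∈ I i → (F.map φ).hom y ∈ I j :=
    fun i j φ y hy => hI i j φ (Ideal.mem_map_of_mem _ hy)
  refine ⟨?_, ?_⟩
  · -- Jacobson condition
    intro x hx
    rw [Ideal.mem_jacobson_bot]
    intro y
    have hxj : ∀ j, π j x ∈ I j := (hmemI x).mp hx
    have hunit : ∀ j, IsUnit (π j (x * y + 1)) := by
      intro j
      rw [map_add, map_mul, map_one]
      exact (Ideal.mem_jacobson_bot.mp ((h j).jac (hxj j))) (π j y)
    choose u hu using fun j => (hunit j).exists_right_inv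
    have hucompat : ∀ (i j : J) (φ : i ⟶ j), (F.map φ).hom (u i) = u j := by
      intro i j φ
      have h1 : π j (x * y + 1) * (F.map φ).hom (u i) = 1 := by
        rw [← hπ i j φ, ← map_mul, hu i, map_one]
      have h2 := hu j
      calc (F.map φ).hom (u i) = (u j * π j (x * y + 1)) * (F.map φ).hom (u i) := by
            rw [mul_comm (u j), hu j, one_mul]
        _ = u j := by rw [mul_assoc, h1, mul_one]
    obtain ⟨w, hw⟩ := limit_exists F u hucompat
    have : (x * y + 1) * w = 1 := by
      apply limit_ext F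
      intro j
      change π j ((x * y + 1) * w) = π j 1
      rw [map_mul, map_one]
      have : π j w = u j := hw j
      rw [this, hu j]
    exact IsUnit.of_mul_eq_one _ this
  · intro f hf a₀ ha₀ hu
    have ha₀j : ∀ j, π j (f.eval a₀) ∈ I j := (hmemI _).mp ha₀
    -- the induced maps on quotients
    have hle : ∀ j, II ≤ Ideal.comap (π j) (I j) := fun j => iInf_le _ j
    have huj : ∀ j, IsUnit (Ideal.Quotient.mk (I j)
        ((f.map (π j)).derivative.eval (π j a₀))) := by
      intro j
      rw [Polynomial.derivative_map, Polynomial.eval_map_apply]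
      have := hu.map (Ideal.quotientMap (I j) (π j) (hle j))
      rwa [Ideal.quotientMap_mk] at this
    have hroot : ∀ j, ∃ a : F.obj j, (f.map (π j)).IsRoot a ∧ a - π j a₀ ∈ I j := by
      intro j
      apply (h j).is_henselian (f.map (π j)) (hf.map (π j)) (π j a₀)
      · rw [Polynomial.eval_map_apply]; exact ha₀j j
      · exact huj j
    choose a har hai using hroot
    have hacompat : ∀ (i j : J) (φ : i ⟶ j), (F.map φ).hom (a i) = a j := by
      intro i j φ
      have hmapeq : (f.map (π i)).map (F.map φ).hom = f.map (π j) := by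
        rw [Polynomial.map_map]
        congr 1
        ext x
        exact hπ i j φ x
      apply root_unique_of_le_jacobson (h j).jac (f.map (π j)) (π j a₀) _ _ (huj j)
      · rw [Polynomial.IsRoot.def, ← hmapeq, Polynomial.eval_map_apply, (har i).eq_zero, map_zero]
      · exact har j
      · rw [← hπ i j φ, ← map_sub]
        exact hImap i j φ _ (hai i)
      · exact hai j
    obtain ⟨b, hb⟩ := limit_exists F a hacompat
    have hb' : ∀ j, π j b = a j := hb
    refine ⟨b, ?_, ?_⟩
    · rw [Polynomial.IsRoot.def]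
      apply limit_ext F
      intro j
      change π j (f.eval b) = π j 0
      rw [map_zero, ← Polynomial.eval_map_apply, hb' j]
      exact (har j).eq_zero
    · rw [hmemI]
      intro j
      rw [map_sub, hb' j]
      exact hai j

end Lim

end Groth.Agent.Lib.Helper14
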