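import Mathlib
import Groth.Agent.Lib.Helper9.QuasiReg
import Groth.Agent.Lib.Helper14.QuasiRegReg
import Groth.Agent.Lib.Helper5.RegQuot
import Groth.Agent.Lib.Helper4.RegCM

/-!
# Hilbert–Samuel function of a Noetherian local ring and regularity (helper14)

`H A n = length(A/m^n)`; recursion `H_rec` along `A → A/t`; `upper` (bound by binomials),
`H_of_regular`, `regular_of_H`.
-/

set_option autoImplicit false
universe u
open IsLocalRing

namespace Groth.Agent.Lib.Helper14.HilbSam

variable {A : Type u} [CommRing A]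

/-- colon ideal `(I : t)` -/
def colon (I : Ideal A) (t : A) : Ideal A := Submodule.comap (LinearMap.mulLeft A t) I

lemma mem_colon {I : Ideal A} {t a : A} : a ∈ colon I t ↔ t * a ∈ I := Iff.rfl

theorem length_eq_add (I : Ideal A) (t : A) :
    Module.length A (A ⧸ I) =
      Module.length A (A ⧸ colon I t) + Module.length A (A ⧸ (I ⊔ Ideal.span {t})) := by
  let f : (A ⧸ colon I t) →ₗ[A] (A ⧸ I) :=
    Submodule.mapQ (colon I t) I (LinearMap.mulLeft A t) le_rfl
  let g : (A ⧸ I) →ₗ[A] (A ⧸ (I ⊔ Ideal.span {t})) :=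
    Submodule.mapQ I (I ⊔ Ideal.span {t}) LinearMap.id (by simp)
  have hf : Function.Injective f := by
    rw [← LinearMap.ker_eq_bot]
    simp only [f, Submodule.mapQ, Submodule.ker_liftQ]
    rw [LinearMap.ker_comp, Submodule.ker_mkQ]
    exact Submodule.mkQ_map_self _
  have hg : Function.Surjective g := by
    intro y
    obtain ⟨a, rfl⟩ := Submodule.Quotient.mk_surjective _ y
    exact ⟨Submodule.Quotient.mk a, rfl⟩
  have hex : Function.Exact f g := by
    rw [LinearMap.exact_iff]
    simp only [f, g, Submodule.mapQ, Submodule.ker_liftQ, Submodule.range_liftQ]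
    rw [LinearMap.ker_comp, Submodule.ker_mkQ, LinearMap.range_comp]
    simp only [Submodule.comap_id]
    rw [Submodule.map_sup, Submodule.mkQ_map_self, bot_sup_eq]
    congr 1
    ext a
    simp [Ideal.mem_span_singleton', mul_comm]
  exact Module.length_eq_add_of_exact f g hf hg hex

/-- `length(A/I) = length(A/J)` finite with `I ≤ J` forces `I = J`. -/
theorem eq_of_length_eq {I J : Ideal A} (hIJ : I ≤ J)
    (h : Module.length A (A ⧸ I) = Module.length A (A ⧸ J))
    (hfin : Module.length A (A ⧸ I) ≠ ⊤) : I = J := by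
  let g : (A ⧸ I) →ₗ[A] (A ⧸ J) := Submodule.mapQ I J LinearMap.id (by simpa using hIJ)
  have hg : Function.Surjective g := by
    intro y
    obtain ⟨a, rfl⟩ := Submodule.Quotient.mk_surjective _ y
    exact ⟨Submodule.Quotient.mk a, rfl⟩
  have hadd := Module.length_eq_add_of_exact (LinearMap.ker g).subtype g
    (Submodule.injective_subtype _) hg (LinearMap.exact_subtype_ker_map g)
  have h0 : Module.length A (LinearMap.ker g) = 0 := by
    rw [h] at hadd hfin
    have : Module.length A (LinearMap.ker g) + Module.length A (A ⧸ J) =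
        0 + Module.length A (A ⧸ J) := by rw [zero_add]; exact hadd.symm
    exact (ENat.add_left_injective_of_ne_top hfin) this
  rw [Module.length_eq_zero_iff] at h0
  refine le_antisymm hIJ (fun a ha => ?_)
  have hk : (Submodule.Quotient.mk a : A ⧸ I) ∈ LinearMap.ker g := by
    rw [LinearMap.mem_ker]
    show (Submodule.Quotient.mk a : A ⧸ J) = 0
    rw [Submodule.Quotient.mk_eq_zero]; exact ha
  have := congrArg Subtype.val (Subsingleton.elim (⟨_, hk⟩ : LinearMap.ker g) 0)
  exact (Submodule.Quotient.mk_eq_zero _).mp this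

theorem length_le_of_le {I J : Ideal A} (hIJ : I ≤ J) :
    Module.length A (A ⧸ J) ≤ Module.length A (A ⧸ I) := by
  let g : (A ⧸ I) →ₗ[A] (A ⧸ J) := Submodule.mapQ I J LinearMap.id (by simpa using hIJ)
  have hg : Function.Surjective g := by
    intro y
    obtain ⟨a, rfl⟩ := Submodule.Quotient.mk_surjective _ y
    exact ⟨Submodule.Quotient.mk a, rfl⟩
  exact Module.length_le_of_surjective g hg

section local_

variable (A) [IsLocalRing A]

/-- Hilbert–Samuel function `n ↦ length(A/m^n)`. -/
noncomputable def H (n : ℕ) : ℕ∞ := Module.length A (A ⧸ maximalIdeal A ^ n)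

lemma length_quot_maximalIdeal : Module.length A (A ⧸ maximalIdeal A) = 1 := by
  haveI : IsSimpleModule A (A ⧸ maximalIdeal A) :=
    isSimpleModule_iff_isCoatom.mpr (Ideal.isMaximal_def.mp (maximalIdeal.isMaximal A))
  exact Module.length_eq_one A (A ⧸ maximalIdeal A)

lemma H_one : H A 1 = 1 := by
  unfold H; rw [pow_one]; exact length_quot_maximalIdeal A

lemma one_le_H_succ (n : ℕ) : 1 ≤ H A (n + 1) := by
  unfold H
  haveI : Nontrivial (A ⧸ maximalIdeal A ^ (n + 1)) := by
    apply Ideal.Quotient.nontrivial_iff.mpr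
    intro h
    have := Ideal.pow_le_self (I := maximalIdeal A) (Nat.succ_ne_zero n)
    rw [h] at this
    exact (maximalIdeal.isMaximal A).ne_top (top_le_iff.mp this)
  exact Order.one_le_iff_pos.mpr Module.length_pos

lemma H_two [IsNoetherianRing A] :
    H A 2 = (Module.finrank (ResidueField A) (CotangentSpace A) : ℕ∞) + 1 := by
  unfold H
  let f : (maximalIdeal A).Cotangent →ₗ[A] A ⧸ maximalIdeal A ^ 2 :=
    (maximalIdeal A).cotangentToQuotientSquare
  let g : (A ⧸ maximalIdeal A ^ 2) →ₗ[A] (A ⧸ maximalIdeal A) :=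
    Submodule.mapQ (maximalIdeal A ^ 2) (maximalIdeal A) LinearMap.id
      (by simpa using Ideal.pow_le_self two_ne_zero)
  have hg : Function.Surjective g := by
    intro y
    obtain ⟨a, rfl⟩ := Submodule.Quotient.mk_surjective _ y
    exact ⟨Submodule.Quotient.mk a, rfl⟩
  have hex : Function.Exact f g := by
    rw [LinearMap.exact_iff]
    simp only [f, g, Submodule.mapQ, Submodule.ker_liftQ]
    rw [Ideal.range_cotangentToQuotientSquare, LinearMap.ker_comp, Submodule.ker_mkQ]
    rfl
  rw [Module.length_eq_add_of_exact f g (Ideal.cotangentToQuotientSquare_injective _) hg hex,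
    length_quot_maximalIdeal]
  congr 1
  have h1 : Module.length A (CotangentSpace A) = Module.length (ResidueField A) (CotangentSpace A) :=
    Module.length_eq_of_surjective (S := A) (R := ResidueField A) (M := CotangentSpace A)
      IsLocalRing.residue_surjective
  exact h1.trans (Module.length_eq_finrank _ _)

variable {A}

lemma H_quot (J : Ideal A) [IsLocalRing (A ⧸ J)] (n : ℕ) :
    H (A ⧸ J) n = Module.length A (A ⧸ (maximalIdeal A ^ n ⊔ J)) := by
  unfold H
  have h1 : maximalIdeal (A ⧸ J) ^ n = (maximalIdeal A ^ n).map (Ideal.Quotient.mkₐ A J) := by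
    rw [Ideal.map_pow]
    congr 1
    exact (map_maximalIdeal_of_surjective (Ideal.Quotient.mk J) Ideal.Quotient.mk_surjective).symm
  rw [h1, ← Module.length_eq_of_surjective (S := A) (R := A ⧸ J)
    (M := (A ⧸ J) ⧸ (maximalIdeal A ^ n).map (Ideal.Quotient.mkₐ A J))
    Ideal.Quotient.mk_surjective, sup_comm]
  exact (DoubleQuot.quotQuotEquivQuotSupₐ A J (maximalIdeal A ^ n)).toLinearEquiv.length_eq

lemma isLocalRing_quot {t : A} (ht : t ∈ maximalIdeal A) : IsLocalRing (A ⧸ Ideal.span {t}) := by
  haveI : Nontrivial (A ⧸ Ideal.span {t}) := by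
    apply Ideal.Quotient.nontrivial_iff.mpr
    intro h
    have hle : Ideal.span {t} ≤ maximalIdeal A := (Ideal.span_singleton_le_iff_mem _).mpr ht
    rw [h] at hle
    exact (maximalIdeal.isMaximal A).ne_top (top_le_iff.mp hle)
  exact IsLocalRing.of_surjective' (Ideal.Quotient.mk _) Ideal.Quotient.mk_surjective

lemma H_rec (t : A) [IsLocalRing (A ⧸ Ideal.span {t})] (n : ℕ) :
    H A n = Module.length A (A ⧸ colon (maximalIdeal A ^ n) t) + H (A ⧸ Ideal.span {t}) n := by
  rw [H_quot]; exact length_eq_add _ t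

lemma pow_le_colon {t : A} (ht : t ∈ maximalIdeal A) (n : ℕ) :
    maximalIdeal A ^ n ≤ colon (maximalIdeal A ^ (n + 1)) t := by
  intro a ha
  rw [mem_colon, pow_succ']
  exact Ideal.mul_mem_mul ht ha

lemma length_colon_le {t : A} (ht : t ∈ maximalIdeal A) (n : ℕ) :
    Module.length A (A ⧸ colon (maximalIdeal A ^ (n + 1)) t) ≤ H A n :=
  length_le_of_le (pow_le_colon ht n)

lemma colon_sq {t : A} (ht : t ∈ maximalIdeal A) (ht2 : t ∉ maximalIdeal A ^ 2) :
    colon (maximalIdeal A ^ 2) t = maximalIdeal A := by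
  have h1 : maximalIdeal A ≤ colon (maximalIdeal A ^ 2) t := by
    have := pow_le_colon ht 1
    rwa [pow_one] at this
  have h2 : colon (maximalIdeal A ^ 2) t ≠ ⊤ := by
    intro h
    have : (1 : A) ∈ colon (maximalIdeal A ^ 2) t := by rw [h]; trivial
    rw [mem_colon, mul_one] at this
    exact ht2 this
  exact ((maximalIdeal.isMaximal A).eq_of_le h2 h1).symm

lemma finrank_quot [IsNoetherianRing A] {t : A} (ht : t ∈ maximalIdeal A)
    (ht2 : t ∉ maximalIdeal A ^ 2) [IsLocalRing (A ⧸ Ideal.span {t})] :
    Module.finrank (ResidueField A) (CotangentSpace A) =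
      Module.finrank (ResidueField (A ⧸ Ideal.span {t})) (CotangentSpace (A ⧸ Ideal.span {t})) + 1 := by
  have h1 := H_rec t 2
  rw [colon_sq ht ht2, length_quot_maximalIdeal, H_two, H_two] at h1
  have h2 : ((Module.finrank (ResidueField A) (CotangentSpace A) + 1 : ℕ) : ℕ∞) =
      ((1 + (Module.finrank (ResidueField (A ⧸ Ideal.span {t}))
        (CotangentSpace (A ⧸ Ideal.span {t})) + 1) : ℕ) : ℕ∞) := by
    push_cast; exact h1
  have h3 := Nat.cast_injective h2
  omega

lemma exists_notMem_sq [IsNoetherianRing A]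
    (h : Module.finrank (ResidueField A) (CotangentSpace A) ≠ 0) :
    ∃ t ∈ maximalIdeal A, t ∉ maximalIdeal A ^ 2 := by
  have hnt : Nontrivial (CotangentSpace A) := Module.nontrivial_of_finrank_pos (Nat.pos_of_ne_zero h)
  obtain ⟨v, hv⟩ := exists_ne (0 : CotangentSpace A)
  obtain ⟨x, rfl⟩ := (maximalIdeal A).toCotangent_surjective v
  refine ⟨x, x.2, fun hx => hv ?_⟩
  exact (Ideal.toCotangent_eq_zero _ _).mpr hx

end local_

theorem upper : ∀ (e : ℕ) (A : Type u) [CommRing A] [IsLocalRing A] [IsNoetherianRing A],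
    Module.finrank (ResidueField A) (CotangentSpace A) = e →
      ∀ s : ℕ, H A (s + 1) ≤ ((s + e).choose s : ℕ∞) := by
  intro e
  induction e with
  | zero =>
    intro A _ _ _ he s
    have hF : IsField A := finrank_cotangentSpace_eq_zero_iff.mp he
    have hm : maximalIdeal A = ⊥ := (isField_iff_maximalIdeal_eq.mp hF)
    have : H A (s + 1) = H A 1 := by
      unfold H
      rw [hm, pow_one, Ideal.bot_pow (Nat.succ_ne_zero s)]
    rw [this, H_one]
    simp
  | succ e ih =>
    intro A _ _ _ he s
    obtain ⟨t, ht, ht2⟩ := exists_notMem_sq (A := A) (by omega)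
    haveI := isLocalRing_quot ht
    have heB : Module.finrank (ResidueField (A ⧸ Ideal.span {t}))
        (CotangentSpace (A ⧸ Ideal.span {t})) = e := by
      have := finrank_quot ht ht2
      omega
    induction s with
    | zero => rw [H_one]; simp
    | succ s ihs =>
      rw [H_rec t (s + 1 + 1)]
      have h1 := length_colon_le ht (s + 1)
      have h2 := ih (A ⧸ Ideal.span {t}) heB (s + 1)
      calc _ ≤ H A (s + 1) + H (A ⧸ Ideal.span {t}) (s + 1 + 1) := add_le_add h1 le_rfl
        _ ≤ ((s + (e + 1)).choose s : ℕ∞) + ((s + 1 + e).choose (s + 1) : ℕ∞) :=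
          add_le_add ihs h2
        _ = ((s + 1 + (e + 1)).choose (s + 1) : ℕ∞) := by
          have : s + 1 + (e + 1) = (s + (e + 1)) + 1 := by ring
          rw [this, Nat.choose_succ_succ, Nat.cast_add]
          have : s + 1 + e = s + (e + 1) := by ring
          rw [this]

/-- `x ≤ a`, `y ≤ b`, `x + y = a + b` in `ℕ∞` with `a b` finite. -/
lemma enat_eq_of_le_of_add_eq {x y : ℕ∞} {a b : ℕ} (hx : x ≤ a) (hy : y ≤ b)
    (h : x + y = (a : ℕ∞) + b) : x = a ∧ y = b := by
  lift x to ℕ using ne_top_of_le_ne_top (ENat.natCast_ne_top a) hx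
  lift y to ℕ using ne_top_of_le_ne_top (ENat.natCast_ne_top b) hy
  norm_cast at *
  omega

open Groth.Agent.Lib.Helper14.QuasiRegReg in
theorem H_of_regular : ∀ (r : ℕ) (A : Type u) [CommRing A] [IsRegularLocalRing A],
    Module.finrank (ResidueField A) (CotangentSpace A) = r →
      ∀ s : ℕ, H A (s + 1) = ((s + r).choose s : ℕ∞) := by
  intro r
  induction r with
  | zero =>
    intro A _ _ he s
    refine le_antisymm (upper 0 A he s) ?_
    simpa using one_le_H_succ A s
  | succ r ih =>
    intro A _ _ he s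
    have hd : ringKrullDim A = ((r + 1 : ℕ) : WithBot ℕ∞) := by
      rw [← he]
      exact ((IsRegularLocalRing.iff_finrank_cotangentSpace A).mp inferInstance).symm
    obtain ⟨x, hx, hreg⟩ := Groth.Agent.Lib.Helper4.RegCM.exists_regular_system A (r + 1) hd
    have hq : QR x :=
      Groth.Agent.Lib.Helper9.QuasiReg.quasiRegular_of_isWeaklyRegular x hreg.toIsWeaklyRegular
    have ht : x 0 ∈ maximalIdeal A := hx ▸ Ideal.subset_span ⟨0, rfl⟩
    have ht2 : x 0 ∉ maximalIdeal A ^ 2 := by
      intro h
      have h1 := hq 1 (MvPolynomial.X 0) (MvPolynomial.isHomogeneous_X A 0)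
        (by rw [MvPolynomial.eval_X, hx]; exact h) (Finsupp.single 0 1)
      rw [MvPolynomial.coeff_X, hx] at h1
      rw [if_pos rfl] at h1
      exact (maximalIdeal.isMaximal A).ne_top ((Ideal.eq_top_iff_one _).mpr h1)
    obtain ⟨hB, -⟩ := Groth.Agent.Lib.Helper5.RegQuot.quotient_singleton A (x 0) ht ht2
    haveI := hB
    have heB : Module.finrank (ResidueField (A ⧸ Ideal.span {x 0}))
        (CotangentSpace (A ⧸ Ideal.span {x 0})) = r := by
      have := finrank_quot ht ht2
      omega
    have hcolon : ∀ n : ℕ, colon (maximalIdeal A ^ (n + 1)) (x 0) = maximalIdeal A ^ n := by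
      intro n
      refine le_antisymm (fun a ha => ?_) (pow_le_colon ht n)
      rw [mem_colon] at ha
      have key : ∀ j, j ≤ n → a ∈ maximalIdeal A ^ j := by
        intro j
        induction j with
        | zero => intro _; rw [pow_zero, Ideal.one_eq_top]; trivial
        | succ j ihj =>
          intro hj
          have h1 := ihj (by omega)
          rw [← hx] at h1 ⊢
          refine mem_pow_succ_of_mul x hq j a h1 ?_
          rw [hx]
          exact Ideal.pow_le_pow_right (by omega) ha
      exact key n le_rfl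
    induction s with
    | zero => rw [H_one]; simp
    | succ s ihs =>
      rw [H_rec (x 0) (s + 1 + 1), hcolon (s + 1)]
      change H A (s + 1) + _ = _
      rw [ihs, ih (A ⧸ Ideal.span {x 0}) heB (s + 1)]
      have e1 : s + 1 + (r + 1) = (s + (r + 1)) + 1 := by ring
      have e2 : s + 1 + r = s + (r + 1) := by ring
      rw [e1, Nat.choose_succ_succ, Nat.cast_add, e2]

theorem regular_of_H : ∀ (r : ℕ) (A : Type u) [CommRing A] [IsLocalRing A] [IsNoetherianRing A],
    Module.finrank (ResidueField A) (CotangentSpace A) = r →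
      (∀ s : ℕ, H A (s + 1) = ((s + r).choose s : ℕ∞)) → IsRegularLocalRing A := by
  intro r
  induction r with
  | zero =>
    intro A _ _ _ he _
    have hF : IsField A := finrank_cotangentSpace_eq_zero_iff.mp he
    rw [IsRegularLocalRing.iff_finrank_cotangentSpace A, he]
    letI := hF.toField
    exact (ringKrullDim_eq_zero_of_field A).symm
  | succ r ih =>
    intro A _ _ _ he hH
    obtain ⟨t, ht, ht2⟩ := exists_notMem_sq (A := A) (by omega)
    haveI := isLocalRing_quot ht
    have heB : Module.finrank (ResidueField (A ⧸ Ideal.span {t}))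
        (CotangentSpace (A ⧸ Ideal.span {t})) = r := by
      have := finrank_quot ht ht2
      omega
    have key : ∀ s : ℕ,
        Module.length A (A ⧸ colon (maximalIdeal A ^ (s + 1 + 1)) t) =
          (((s + (r + 1)).choose s : ℕ) : ℕ∞) ∧
        H (A ⧸ Ideal.span {t}) (s + 1 + 1) = (((s + 1 + r).choose (s + 1) : ℕ) : ℕ∞) := by
      intro s
      have h1 := length_colon_le ht (s + 1)
      rw [hH s] at h1
      have h2 := upper r (A ⧸ Ideal.span {t}) heB (s + 1)
      refine enat_eq_of_le_of_add_eq h1 h2 ?_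
      rw [← H_rec t (s + 1 + 1), hH (s + 1)]
      have e1 : s + 1 + (r + 1) = (s + (r + 1)) + 1 := by ring
      have e2 : s + 1 + r = s + (r + 1) := by ring
      rw [e1, Nat.choose_succ_succ, Nat.cast_add, e2]
    have hBreg : IsRegularLocalRing (A ⧸ Ideal.span {t}) := by
      refine ih (A ⧸ Ideal.span {t}) heB (fun s => ?_)
      cases s with
      | zero => rw [H_one]; simp
      | succ s => exact (key s).2
    have hcolon : ∀ s : ℕ, colon (maximalIdeal A ^ (s + 1 + 1)) t = maximalIdeal A ^ (s + 1) := by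
      intro s
      refine (eq_of_length_eq (pow_le_colon ht (s + 1)) ?_ ?_).symm
      · rw [(key s).1]; exact hH s
      · change H A (s + 1) ≠ ⊤
        rw [hH s]; exact ENat.natCast_ne_top _
    have hnzd : ∀ z : A, t * z = 0 → z = 0 := by
      intro z hz
      have h1 : ∀ n : ℕ, z ∈ maximalIdeal A ^ n := by
        intro n
        have : z ∈ maximalIdeal A ^ (n + 1) := by
          rw [← hcolon n, mem_colon, hz]; exact Ideal.zero_mem _
        exact Ideal.pow_le_pow_right (Nat.le_succ n) this
      have h2 : z ∈ ⨅ n : ℕ, maximalIdeal A ^ n := (Submodule.mem_iInf _).mpr h1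
      rw [Ideal.iInf_pow_eq_bot_of_isLocalRing _ (maximalIdeal.isMaximal A).ne_top] at h2
      exact h2
    have hw : RingTheory.Sequence.IsWeaklyRegular A [t] :=
      Groth.Agent.Lib.Helper5.RegQuot.isWeaklyRegular_cons_of_quotient t [] hnzd
        (by simp)
    have hreg : RingTheory.Sequence.IsRegular A [t] :=
      RingTheory.Sequence.IsRegular.of_isWeaklyRegular_of_mem_maximalIdeal A
        (by intro r hr; rw [List.mem_singleton] at hr; exact hr ▸ ht) hw
    refine Groth.Agent.Lib.Helper5.RegQuot.isRegularLocalRing_of_quotient A [t] hreg ?_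
    rw [Ideal.ofList_singleton]
    exact hBreg

end Groth.Agent.Lib.Helper14.HilbSam
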