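import Mathlib
import Groth.Prelude.Def_ArtFun6
import Groth.Prelude.Def_ArtFun2
import Groth.Prelude.Def_FGA

/-!
# D12 for S12265 (part a): general lemmas
-/

set_option autoImplicit false
set_option linter.style.haveILetI false
universe u
set_option backward.isDefEq.respectTransparency false
open CategoryTheory CategoryTheory.Limits AlgebraicGeometry

namespace Groth.Agent.Lib.Helper14.HilbTanD12

/-- A morphism from a local scheme sending the closed point to `x` factors through `Spec 𝒪_{X,x}`. -/
theorem exists_stalk_factor {X : Scheme.{u}} {R : CommRingCat.{u}} [IsLocalRing R]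
    (f : Spec R ⟶ X) (x : X) (hx : f (IsLocalRing.closedPoint R) = x) :
    ∃ φ : X.presheaf.stalk x ⟶ R, Spec.map φ ≫ X.fromSpecStalk x = f := by
  subst hx
  exact ⟨Scheme.stalkClosedPointTo f, Scheme.Spec_stalkClosedPointTo_fromSpecStalk f⟩

variable {X S : Scheme.{u}} (f : X ⟶ S)

lemma hilbPull_eq_comap {T T' : Over S} (g : T' ⟶ T) (I : (PicF.XT f T).IdealSheafData) :
    FGA.hilbPull f g I = I.comap (PicF.XTmap f g) := by
  rw [FGA.hilbPull, Scheme.IdealSheafData.comap, ← pullbackSymmetry_hom_comp_fst,
    Scheme.Hom.ker_comp_of_isIso]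

lemma XTmap_fst {T T' : Over S} (g : T' ⟶ T) :
    PicF.XTmap f g ≫ pullback.fst f T.hom = pullback.fst f T'.hom := by
  rw [PicF.XTmap, pullback.map]
  rw [pullback.lift_fst, Category.comp_id]

lemma XTmap_snd {T T' : Over S} (g : T' ⟶ T) :
    PicF.XTmap f g ≫ PicF.XTproj f T = PicF.XTproj f T' ≫ g.left := by
  rw [PicF.XTmap, pullback.map]
  exact pullback.lift_snd _ _ _

lemma isPullback_XTmap {T T' : Over S} (g : T' ⟶ T) :
    IsPullback (PicF.XTmap f g) (PicF.XTproj f T') (PicF.XTproj f T) g.left := by
  refine IsPullback.of_right ?_ (XTmap_snd f g) (IsPullback.of_hasPullback f T.hom)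
  rw [XTmap_fst, Over.w g]
  exact IsPullback.of_hasPullback f T'.hom

/-- Base change of flatness of a closed subscheme of `X_T` over `T`. -/
lemma flat_comap {T T' : Over S} (g : T' ⟶ T) (I : (PicF.XT f T).IdealSheafData)
    (hI : Flat (I.subschemeι ≫ PicF.XTproj f T)) :
    Flat ((I.comap (PicF.XTmap f g)).subschemeι ≫ PicF.XTproj f T') := by
  have sq : IsPullback (pullback.snd (PicF.XTmap f g) I.subschemeι)
      (pullback.fst (PicF.XTmap f g) I.subschemeι ≫ PicF.XTproj f T')
      (I.subschemeι ≫ PicF.XTproj f T) g.left :=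
    IsPullback.paste_vert (IsPullback.of_hasPullback (PicF.XTmap f g) I.subschemeι).flip
      (isPullback_XTmap f g)
  have hflat : Flat (pullback.fst (PicF.XTmap f g) I.subschemeι ≫ PicF.XTproj f T') :=
    MorphismProperty.of_isPullback (P := @Flat) sq hI
  rw [← Scheme.IdealSheafData.comapIso_hom_fst, Category.assoc]
  exact (MorphismProperty.cancel_left_of_respectsIso @Flat (I.comapIso (PicF.XTmap f g)).hom _).2
    hflat

/-- Properness of a closed subscheme of `X_T` over `T` for proper `f`. -/
lemma isProper_subscheme [IsProper f] (T : Over S) (I : (PicF.XT f T).IdealSheafData) :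
    IsProper (I.subschemeι ≫ PicF.XTproj f T) := by
  haveI : IsProper (PicF.XTproj f T) := by
    show IsProper (pullback.snd f T.hom)
    infer_instance
  infer_instance

end Groth.Agent.Lib.Helper14.HilbTanD12
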