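import Mathlib
import Groth.Agent.Lib.Helper14.HilbTanD12a

/-!
# D12 for S12265: the local ring of the Hilbert scheme pro-represents the local Hilbert functor
to first order
-/

set_option autoImplicit false
set_option linter.style.haveILetI false
set_option backward.isDefEq.respectTransparency false
universe u
open CategoryTheory CategoryTheory.Limits AlgebraicGeometry

namespace Groth.Agent.Lib.Helper14.HilbTanD12

open ArtFun ArtFun.Art

section

variable {k : Type u} [Field k] (Y : Scheme.{u}) (y : Y ⟶ Spec (CommRingCat.of k))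
  (H : Over (Spec (CommRingCat.of k)))
  (h : Over.mk (𝟙 (Spec (CommRingCat.of k))) ⟶ H)

/-- the point -/
noncomputable abbrev pt0 : H.left := h.left.base (IsLocalRing.closedPoint k)

/-- the structure map `k → 𝒪_{H,p}` -/
noncomputable def algO : CommRingCat.of k ⟶ H.left.presheaf.stalk (pt0 H h) :=
  Spec.preimage (H.left.fromSpecStalk (pt0 H h) ≫ H.hom)

lemma map_algO : Spec.map (algO H h) = H.left.fromSpecStalk (pt0 H h) ≫ H.hom :=
  Spec.map_preimage _

lemma exists_rho : ∃ ρ : H.left.presheaf.stalk (pt0 H h) ⟶ CommRingCat.of k,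
    Spec.map ρ ≫ H.left.fromSpecStalk (pt0 H h) = h.left :=
  exists_stalk_factor h.left (pt0 H h) rfl

/-- the augmentation ring map -/
noncomputable def rho : H.left.presheaf.stalk (pt0 H h) ⟶ CommRingCat.of k := (exists_rho H h).choose

lemma map_rho : Spec.map (rho H h) ≫ H.left.fromSpecStalk (pt0 H h) = h.left :=
  (exists_rho H h).choose_spec

lemma algO_rho : algO H h ≫ rho H h = 𝟙 _ := by
  apply Spec.map_injective
  rw [Spec.map_comp, map_algO, ← Category.assoc, map_rho, Spec.map_id]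
  exact Over.w h

end

section Fam

variable {k : Type u} [Field k] (Y : Scheme.{u}) (y : Y ⟶ Spec (CommRingCat.of k))
  (H : Over (Spec (CommRingCat.of k))) (Z : FGA.HilbSet y H)
  (h : Over.mk (𝟙 (Spec (CommRingCat.of k))) ⟶ H)

/-- the `Over`-morphism attached to a ring map out of the local ring -/
noncomputable def gOf (A : Art k k) (φ : H.left.presheaf.stalk (pt0 H h) ⟶ CommRingCat.of A)
    (hφ : algO H h ≫ φ = CommRingCat.ofHom (algebraMap k A)) :
    Over.mk (specOver A) ⟶ H :=
  Over.homMk (Spec.map φ ≫ H.left.fromSpecStalk (pt0 H h)) (by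
    rw [Category.assoc, ← map_algO, ← Spec.map_comp, hφ]
    rfl)

@[simp] lemma gOf_left (A : Art k k) (φ : H.left.presheaf.stalk (pt0 H h) ⟶ CommRingCat.of A)
    (hφ : algO H h ≫ φ = CommRingCat.ofHom (algebraMap k A)) :
    (gOf H h A φ hφ).left = Spec.map φ ≫ H.left.fromSpecStalk (pt0 H h) := rfl

/-- the ideal sheaf attached to a ring map -/
noncomputable def idealOf (A : Art k k) (φ : H.left.presheaf.stalk (pt0 H h) ⟶ CommRingCat.of A)
    (hφ : algO H h ≫ φ = CommRingCat.ofHom (algebraMap k A)) : (XA y A).IdealSheafData :=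
  Z.1.comap (PicF.XTmap y (gOf H h A φ hφ))

lemma flatOver_idealOf (A : Art k k) (φ : H.left.presheaf.stalk (pt0 H h) ⟶ CommRingCat.of A)
    (hφ : algO H h ≫ φ = CommRingCat.ofHom (algebraMap k A)) :
    FlatOver Y y A (idealOf Y y H Z h A φ hφ) :=
  flat_comap y (gOf H h A φ hφ) Z.1 Z.2.2

/-- `Y ≅ Y ×_k Spec k` -/
noncomputable def iota0 : Y ⟶ pullback y (Over.mk (𝟙 (Spec (CommRingCat.of k)))).hom :=
  pullback.lift (𝟙 Y) y (by simp)

lemma XAincl_XTmap (A : Art k k) (φ : H.left.presheaf.stalk (pt0 H h) ⟶ CommRingCat.of A)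
    (hφ : algO H h ≫ φ = CommRingCat.ofHom (algebraMap k A))
    (hres : φ ≫ CommRingCat.ofHom A.res.toRingHom = rho H h) :
    XAincl y A ≫ PicF.XTmap y (gOf H h A φ hφ) = iota0 Y y ≫ PicF.XTmap y h := by
  have e1 : PicF.XTmap y (gOf H h A φ hφ) ≫ pullback.snd y H.hom =
      pullback.snd y (specOver A) ≫ (gOf H h A φ hφ).left := XTmap_snd y (gOf H h A φ hφ)
  have e2 : XAincl y A ≫ pullback.snd y (specOver A) = y ≫ specRes A := XAincl_snd y A
  have e3 : PicF.XTmap y h ≫ pullback.snd y H.hom =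
      pullback.snd y (Over.mk (𝟙 (Spec (CommRingCat.of k)))).hom ≫ h.left := XTmap_snd y h
  have e4 : iota0 Y y ≫ pullback.snd y (Over.mk (𝟙 (Spec (CommRingCat.of k)))).hom = y :=
    pullback.lift_snd _ _ _
  have e5 : specRes A ≫ Spec.map φ = Spec.map (rho H h) := by
    rw [← hres, Spec.map_comp]
  have f1 : PicF.XTmap y (gOf H h A φ hφ) ≫ pullback.fst y H.hom =
      pullback.fst y (specOver A) := XTmap_fst y (gOf H h A φ hφ)
  have f2 : XAincl y A ≫ pullback.fst y (specOver A) = 𝟙 Y := XAincl_fst y A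
  have f3 : PicF.XTmap y h ≫ pullback.fst y H.hom =
      pullback.fst y (Over.mk (𝟙 (Spec (CommRingCat.of k)))).hom := XTmap_fst y h
  have f4 : iota0 Y y ≫ pullback.fst y (Over.mk (𝟙 (Spec (CommRingCat.of k)))).hom = 𝟙 Y :=
    pullback.lift_fst _ _ _
  apply pullback.hom_ext
  · rw [Category.assoc, Category.assoc, f1, f2, f3, f4]
  · rw [Category.assoc, Category.assoc, e1, e3, reassoc_of% e2, reassoc_of% e4, gOf_left,
      reassoc_of% e5, map_rho]

lemma idealOf_comap_XAincl (I₀ : Y.IdealSheafData)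
    (hh : FGA.hilbPull y h Z.1 =
      I₀.comap (pullback.fst y (Over.mk (𝟙 (Spec (CommRingCat.of k)))).hom))
    (A : Art k k) (φ : H.left.presheaf.stalk (pt0 H h) ⟶ CommRingCat.of A)
    (hφ : algO H h ≫ φ = CommRingCat.ofHom (algebraMap k A))
    (hres : φ ≫ CommRingCat.ofHom A.res.toRingHom = rho H h) :
    (idealOf Y y H Z h A φ hφ).comap (XAincl y A) = I₀ := by
  rw [idealOf, ← Scheme.IdealSheafData.comap_comp, XAincl_XTmap Y y H h A φ hφ hres,
    Scheme.IdealSheafData.comap_comp, ← hilbPull_eq_comap, hh,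
    ← Scheme.IdealSheafData.comap_comp]
  have : iota0 Y y ≫ pullback.fst y (Over.mk (𝟙 (Spec (CommRingCat.of k)))).hom = 𝟙 Y :=
    pullback.lift_fst _ _ _
  rw [this, Scheme.IdealSheafData.comap_id]

end Fam

section Nat

variable {k : Type u} [Field k] (Y : Scheme.{u}) (y : Y ⟶ Spec (CommRingCat.of k))
  (H : Over (Spec (CommRingCat.of k))) (Z : FGA.HilbSet y H)
  (h : Over.mk (𝟙 (Spec (CommRingCat.of k))) ⟶ H)

lemma XTmap_gOf_comp {A B : Art k k} (f : A ⟶ B)
    (φ : H.left.presheaf.stalk (pt0 H h) ⟶ CommRingCat.of A)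
    (hφ : algO H h ≫ φ = CommRingCat.ofHom (algebraMap k A))
    (hφ' : algO H h ≫ (φ ≫ CommRingCat.ofHom f.toAlgHom.toRingHom) =
      CommRingCat.ofHom (algebraMap k B)) :
    PicF.XTmap y (gOf H h B (φ ≫ CommRingCat.ofHom f.toAlgHom.toRingHom) hφ') =
      XAmap y f ≫ PicF.XTmap y (gOf H h A φ hφ) := by
  have e1 : PicF.XTmap y (gOf H h A φ hφ) ≫ pullback.snd y H.hom =
      pullback.snd y (specOver A) ≫ (gOf H h A φ hφ).left := XTmap_snd y (gOf H h A φ hφ)
  have e1' : PicF.XTmap y (gOf H h B (φ ≫ CommRingCat.ofHom f.toAlgHom.toRingHom) hφ') ≫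
      pullback.snd y H.hom = pullback.snd y (specOver B) ≫
        (gOf H h B (φ ≫ CommRingCat.ofHom f.toAlgHom.toRingHom) hφ').left := XTmap_snd y _
  have e2 : XAmap y f ≫ pullback.snd y (specOver A) = pullback.snd y (specOver B) ≫ specMap f :=
    XAmap_snd y f
  have f1 : PicF.XTmap y (gOf H h A φ hφ) ≫ pullback.fst y H.hom =
      pullback.fst y (specOver A) := XTmap_fst y (gOf H h A φ hφ)
  have f1' : PicF.XTmap y (gOf H h B (φ ≫ CommRingCat.ofHom f.toAlgHom.toRingHom) hφ') ≫
      pullback.fst y H.hom = pullback.fst y (specOver B) := XTmap_fst y _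
  have f2 : XAmap y f ≫ pullback.fst y (specOver A) = pullback.fst y (specOver B) :=
    XAmap_fst y f
  apply pullback.hom_ext
  · rw [f1', Category.assoc, f1, f2]
  · rw [e1', Category.assoc, e1, reassoc_of% e2, gOf_left, gOf_left, Spec.map_comp,
      Category.assoc]

lemma idealOf_natural {A B : Art k k} (f : A ⟶ B)
    (φ : H.left.presheaf.stalk (pt0 H h) ⟶ CommRingCat.of A)
    (hφ : algO H h ≫ φ = CommRingCat.ofHom (algebraMap k A))
    (hφ' : algO H h ≫ (φ ≫ CommRingCat.ofHom f.toAlgHom.toRingHom) =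
      CommRingCat.ofHom (algebraMap k B)) :
    idealOf Y y H Z h B (φ ≫ CommRingCat.ofHom f.toAlgHom.toRingHom) hφ' =
      (idealOf Y y H Z h A φ hφ).comap (XAmap y f) := by
  rw [idealOf, idealOf, XTmap_gOf_comp Y y H h f φ hφ hφ', Scheme.IdealSheafData.comap_comp]

end Nat

section Bij

variable {k : Type u} [Field k] (Y : Scheme.{u}) (y : Y ⟶ Spec (CommRingCat.of k)) [IsProper y]
  (H : Over (Spec (CommRingCat.of k))) (Z : FGA.HilbSet y H) (hH : FGA.HilbRepresentedBy y H Z)
  (h : Over.mk (𝟙 (Spec (CommRingCat.of k))) ⟶ H)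

include hH in
lemma idealOf_injective (A : Art k k)
    (φ φ' : H.left.presheaf.stalk (pt0 H h) ⟶ CommRingCat.of A)
    (hφ : algO H h ≫ φ = CommRingCat.ofHom (algebraMap k A))
    (hφ' : algO H h ≫ φ' = CommRingCat.ofHom (algebraMap k A))
    (e : idealOf Y y H Z h A φ hφ = idealOf Y y H Z h A φ' hφ') : φ = φ' := by
  haveI : IsLocallyNoetherian (Over.mk (specOver A)).left := by
    show IsLocallyNoetherian (Spec (CommRingCat.of A))
    infer_instance
  let Yel : FGA.HilbSet y (Over.mk (specOver A)) :=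
    ⟨idealOf Y y H Z h A φ hφ, isProper_subscheme y _ _, flatOver_idealOf Y y H Z h A φ hφ⟩
  obtain ⟨g, -, hguniq⟩ := hH.2 (Over.mk (specOver A)) Yel
  have h1 : gOf H h A φ hφ = g := hguniq _ (hilbPull_eq_comap y _ _)
  have h2 : gOf H h A φ' hφ' = g := hguniq _ ((hilbPull_eq_comap y _ _).trans e.symm)
  have h3 := congrArg (fun m => m.left) (h1.trans h2.symm)
  simp only [gOf_left] at h3
  rw [cancel_mono] at h3
  exact Spec.map_injective h3

omit [IsProper y] in
lemma XTmap_comp {T T' T'' : Over (Spec (CommRingCat.of k))} (g : T' ⟶ T) (g' : T'' ⟶ T') :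
    PicF.XTmap y (g' ≫ g) = PicF.XTmap y g' ≫ PicF.XTmap y g := by
  apply pullback.hom_ext
  · rw [XTmap_fst, Category.assoc, XTmap_fst, XTmap_fst]
  · erw [XTmap_snd, Category.assoc, XTmap_snd]
    rw [← Category.assoc]
    erw [XTmap_snd]
    rw [Category.assoc]
    rfl

end Bij

section Surj

variable {k : Type u} [Field k] (Y : Scheme.{u}) (y : Y ⟶ Spec (CommRingCat.of k)) [IsProper y]
  (H : Over (Spec (CommRingCat.of k))) (Z : FGA.HilbSet y H) (hH : FGA.HilbRepresentedBy y H Z)
  (h : Over.mk (𝟙 (Spec (CommRingCat.of k))) ⟶ H)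

/-- the `k`-point of `Spec A` as an `Over` morphism -/
noncomputable def ptOf (A : Art k k) :
    Over.mk (𝟙 (Spec (CommRingCat.of k))) ⟶ Over.mk (specOver A) :=
  Over.homMk (specRes A) (by
    show specRes A ≫ specMap (ofBase A) = 𝟙 _
    rw [specRes_comp]
    change Spec.map (CommRingCat.ofHom (RingHom.id k)) = _
    rw [CommRingCat.ofHom_id]
    exact Spec.map_id _)

omit [IsProper y] in
lemma XAincl_eq (A : Art k k) : XAincl y A = iota0 Y y ≫ PicF.XTmap y (ptOf A) := by
  have e3 : PicF.XTmap y (ptOf A) ≫ pullback.snd y (specOver A) =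
      pullback.snd y (Over.mk (𝟙 (Spec (CommRingCat.of k)))).hom ≫ (ptOf A).left :=
    XTmap_snd y (ptOf A)
  have e4 : iota0 Y y ≫ pullback.snd y (Over.mk (𝟙 (Spec (CommRingCat.of k)))).hom = y :=
    pullback.lift_snd _ _ _
  have f3 : PicF.XTmap y (ptOf A) ≫ pullback.fst y (specOver A) =
      pullback.fst y (Over.mk (𝟙 (Spec (CommRingCat.of k)))).hom := XTmap_fst y (ptOf A)
  have f4 : iota0 Y y ≫ pullback.fst y (Over.mk (𝟙 (Spec (CommRingCat.of k)))).hom = 𝟙 Y :=
    pullback.lift_fst _ _ _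
  apply pullback.hom_ext
  · rw [Category.assoc, f3, f4]; exact XAincl_fst y A
  · rw [Category.assoc, e3, reassoc_of% e4]; exact XAincl_snd y A

omit [IsProper y] in
lemma fst_iota0 : pullback.fst y (Over.mk (𝟙 (Spec (CommRingCat.of k)))).hom ≫ iota0 Y y = 𝟙 _ := by
  have e4 : iota0 Y y ≫ pullback.snd y (Over.mk (𝟙 (Spec (CommRingCat.of k)))).hom = y :=
    pullback.lift_snd _ _ _
  have f4 : iota0 Y y ≫ pullback.fst y (Over.mk (𝟙 (Spec (CommRingCat.of k)))).hom = 𝟙 Y :=
    pullback.lift_fst _ _ _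
  apply pullback.hom_ext
  · rw [Category.assoc, f4, Category.comp_id, Category.id_comp]
  · rw [Category.assoc, e4, Category.id_comp, pullback.condition]
    exact Category.comp_id _

include hH in
lemma exists_of_mem (I₀ : Y.IdealSheafData)
    (hh : FGA.hilbPull y h Z.1 =
      I₀.comap (pullback.fst y (Over.mk (𝟙 (Spec (CommRingCat.of k)))).hom))
    (A : Art k k) (I : (XA y A).IdealSheafData) (hflat : FlatOver Y y A I)
    (hfib : I.comap (XAincl y A) = I₀) :
    ∃ (φ : H.left.presheaf.stalk (pt0 H h) ⟶ CommRingCat.of A)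
      (hφ : algO H h ≫ φ = CommRingCat.ofHom (algebraMap k A)),
      φ ≫ CommRingCat.ofHom A.res.toRingHom = rho H h ∧ idealOf Y y H Z h A φ hφ = I := by
  haveI : IsLocallyNoetherian (Over.mk (specOver A)).left := by
    show IsLocallyNoetherian (Spec (CommRingCat.of A))
    infer_instance
  haveI : IsLocallyNoetherian (Over.mk (𝟙 (Spec (CommRingCat.of k)))).left := by
    show IsLocallyNoetherian (Spec (CommRingCat.of k))
    infer_instance
  let Yel : FGA.HilbSet y (Over.mk (specOver A)) := ⟨I, isProper_subscheme y _ _, hflat⟩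
  obtain ⟨g, hg, -⟩ := hH.2 (Over.mk (specOver A)) Yel
  have hg' : Z.1.comap (PicF.XTmap y g) = I := (hilbPull_eq_comap y g Z.1).symm.trans hg
  -- `ptOf A ≫ g = h`
  let Y0 : FGA.HilbSet y (Over.mk (𝟙 (Spec (CommRingCat.of k)))) :=
    ⟨FGA.hilbPull y h Z.1, isProper_subscheme y _ _, by
      rw [hilbPull_eq_comap]; exact flat_comap y h Z.1 Z.2.2⟩
  obtain ⟨g0, -, hg0⟩ := hH.2 (Over.mk (𝟙 (Spec (CommRingCat.of k)))) Y0
  have hh1 : h = g0 := hg0 h rfl
  have hh2 : ptOf A ≫ g = g0 := by
    apply hg0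
    show FGA.hilbPull y (ptOf A ≫ g) Z.1 = FGA.hilbPull y h Z.1
    rw [hilbPull_eq_comap, XTmap_comp, Scheme.IdealSheafData.comap_comp, hg', hh, ← hfib,
      XAincl_eq, ← Scheme.IdealSheafData.comap_comp, ← Category.assoc, fst_iota0,
      Category.id_comp]
  have hpg : ptOf A ≫ g = h := hh2.trans hh1.symm
  have hpg' : specRes A ≫ g.left = h.left := congrArg (fun m => m.left) hpg
  -- the closed point goes to `p`
  have hcl : g.left.base (IsLocalRing.closedPoint (CommRingCat.of A)) = pt0 H h := by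
    have hloc : (specRes A).base (IsLocalRing.closedPoint k) =
        IsLocalRing.closedPoint (CommRingCat.of A) := by
      haveI : IsLocalHom A.res.toRingHom :=
        (IsLocalHom.of_surjective A.res.toRingHom A.res_surjective)
      exact IsLocalRing.comap_closedPoint A.res.toRingHom
    rw [← hloc]
    have h5 := congrArg (fun m : Spec (CommRingCat.of k) ⟶ H.left =>
      m.base (IsLocalRing.closedPoint k)) hpg'
    simp only [Scheme.Hom.comp_base, TopCat.comp_app] at h5
    exact h5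
  obtain ⟨φ, hφg⟩ := exists_stalk_factor g.left (pt0 H h) hcl
  have hφ : algO H h ≫ φ = CommRingCat.ofHom (algebraMap k A) := by
    apply Spec.map_injective
    rw [Spec.map_comp, map_algO, ← Category.assoc, hφg]
    exact Over.w g
  refine ⟨φ, hφ, ?_, ?_⟩
  · apply Spec.map_injective
    rw [← cancel_mono (H.left.fromSpecStalk (pt0 H h)), map_rho, Spec.map_comp, Category.assoc,
      hφg]
    exact hpg'
  · have hgg : gOf H h A φ hφ = g := Over.OverMorphism.ext hφg
    rw [idealOf, hgg, hg']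

end Surj

/-- D12 (geometry): the local ring of the Hilbert scheme at `[X]` pro-represents the local Hilbert
functor to first order: a natural family `Hom_{k-alg, aug}(O_{H,[X]}, A) → localHilb(A)` which is
bijective on `A = k[ε]`. -/
theorem exists_family_bijective
    {k : Type u} [Field k] (Y : Scheme.{u}) (y : Y ⟶ Spec (CommRingCat.of k)) [IsProper y]
    (H : Over (Spec (CommRingCat.of k))) (Z : FGA.HilbSet y H) (hH : FGA.HilbRepresentedBy y H Z)
    (I₀ : Y.IdealSheafData)
    (h : Over.mk (𝟙 (Spec (CommRingCat.of k))) ⟶ H)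
    (hh : FGA.hilbPull y h Z.1 =
      I₀.comap (pullback.fst y (Over.mk (𝟙 (Spec (CommRingCat.of k)))).hom)) :
    ∃ (_ : Algebra k (H.left.presheaf.stalk (h.left.base (IsLocalRing.closedPoint k))))
      (resO : H.left.presheaf.stalk (h.left.base (IsLocalRing.closedPoint k)) →ₐ[k] k)
      (ξ : ArtFun.Family _ resO (ArtFun.localHilb Y y I₀)),
      Function.Surjective resO ∧ Function.Bijective (ξ.app (ArtFun.Art.dual k k)) := by
  letI algI : Algebra k (H.left.presheaf.stalk (pt0 H h)) := (algO H h).hom.toAlgebra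
  have hcomm : ∀ c : k, (rho H h).hom ((algO H h).hom c) = c := fun c =>
    congr($(algO_rho H h) c)
  let resO : H.left.presheaf.stalk (pt0 H h) →ₐ[k] k :=
    { (rho H h).hom with commutes' := hcomm }
  have hφ1 : ∀ (A : Art k k) (φ : HomSet (H.left.presheaf.stalk (pt0 H h)) resO A),
      algO H h ≫ CommRingCat.ofHom φ.1.toRingHom = CommRingCat.ofHom (algebraMap k A) := by
    intro A φ
    ext c
    exact φ.1.commutes c
  have hφ2 : ∀ (A : Art k k) (φ : HomSet (H.left.presheaf.stalk (pt0 H h)) resO A),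
      CommRingCat.ofHom φ.1.toRingHom ≫ CommRingCat.ofHom A.res.toRingHom = rho H h := by
    intro A φ
    ext a
    exact congr($(φ.2) a)
  refine ⟨algI, resO,
    { app := fun A φ => ⟨idealOf Y y H Z h A (CommRingCat.ofHom φ.1.toRingHom) (hφ1 A φ),
        flatOver_idealOf Y y H Z h A _ _,
        idealOf_comap_XAincl Y y H Z h I₀ hh A _ _ (hφ2 A φ)⟩
      natural := ?_ }, ?_, ?_, ?_⟩
  · intro A B f φ
    apply Subtype.ext
    exact idealOf_natural Y y H Z h f (CommRingCat.ofHom φ.1.toRingHom) (hφ1 A φ)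
      (hφ1 B (HomSet.map f φ))
  · intro c
    exact ⟨(algO H h).hom c, hcomm c⟩
  · intro φ φ' e
    have e' := congrArg Subtype.val e
    have := idealOf_injective Y y H Z hH h (dual k k) _ _ (hφ1 _ φ) (hφ1 _ φ') e'
    apply Subtype.ext
    apply AlgHom.ext
    intro a
    exact congr($this a)
  · intro I
    obtain ⟨φ, hφ, hres, hI⟩ := exists_of_mem Y y H Z hH h I₀ hh (dual k k) I.1 I.2.1 I.2.2
    let φa : H.left.presheaf.stalk (pt0 H h) →ₐ[k] (dual k k) :=
      { φ.hom with commutes' := fun c => congr($hφ c) }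
    refine ⟨⟨φa, ?_⟩, ?_⟩
    · apply AlgHom.ext
      intro a
      exact congr($hres a)
    · apply Subtype.ext
      exact hI

end Groth.Agent.Lib.Helper14.HilbTanD12
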