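import Mathlib
import Groth.Prelude.Def_EGA4b
import Groth.Agent.Lib.Helper14.CMFormal2
import Groth.Agent.Lib.Helper14.SkTensor
import Groth.Agent.Lib.Helper14.QuotFiber

/-!
# `(S_k)` formal fibres: descent along flat local maps, quotients (helper14)

The `(S_k)` analogues of `CMFormal1`, `CMFormal2`.
-/

set_option autoImplicit false
set_option linter.unusedSectionVars false
set_option linter.style.haveILetI false
set_option maxHeartbeats 800000
universe u
open IsLocalRing EGA4 TensorProduct Groth.Agent.Lib.Helper4 Groth.Agent.Lib.Helper4.FlatRing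
  Groth.Agent.Lib.Helper4.FlatFibre

namespace Groth.Agent.Lib.Helper14.SkFormal

open Groth.Agent.Lib.Helper14.CMFormal

section T

variable (R R' B B' : Type u) [CommRing R] [CommRing R'] [CommRing B] [CommRing B']
  [IsNoetherianRing R] [IsNoetherianRing R'] [IsNoetherianRing B] [IsNoetherianRing B']
  [IsLocalRing B] [IsLocalRing B']
  [Algebra R R'] [Algebra R B] [Algebra R' B'] [Algebra B B'] [Algebra R B']
  [IsScalarTower R B B'] [IsScalarTower R R' B']
  [Module.Flat R' B'] [Module.Flat B B'] [IsLocalHom (algebraMap B B')]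

/-- **Theorem T** for `(S_k)`: descent of `(S_k)` formal fibres. -/
theorem hasSnFormalFibres_descent (k : ℕ)
    (hB : ∀ (r : Ideal B) [r.IsPrime], (r.comap (algebraMap R B)).map (algebraMap R B) = r)
    (hB' : ∀ (r : Ideal B') [r.IsPrime],
      (r.comap (algebraMap R' B')).map (algebraMap R' B') = r)
    (hfib : ∀ (r' : Ideal R') [r'.IsPrime], ClosedSk k (EGA4.FibLocRing R R' r'))
    (h' : EGA4.HasSnFormalFibres k B') : EGA4.HasSnFormalFibres k B := by
  letI : Algebra (Cpl B) (Cpl B') := (ComplFlat.cplMap B B').toAlgebra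
  haveI : IsScalarTower B (Cpl B) (Cpl B') := ComplFlat.cplMap_isScalarTower B B'
  haveI : Module.FaithfullyFlat (Cpl B) (Cpl B') := ComplFlat.cplMap_faithfullyFlat B B'
  haveI : IsNoetherianRing (Cpl B) := ComplEtale.isNoetherianRing_completion B
  haveI : IsNoetherianRing (Cpl B') := ComplEtale.isNoetherianRing_completion B'
  haveI : Module.Flat R' (Cpl B') := Module.Flat.trans R' B' (Cpl B')
  haveI : IsScalarTower R (Cpl B) (Cpl B') := by
    refine IsScalarTower.of_algebraMap_eq' ?_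
    have h1 := ComplFlat.cplMap_comp B B'
    have h2 : algebraMap (Cpl B) (Cpl B') = ComplFlat.cplMap B B' := rfl
    rw [h2, IsScalarTower.algebraMap_eq R B (Cpl B), ← RingHom.comp_assoc, h1,
      RingHom.comp_assoc, ← IsScalarTower.algebraMap_eq R B B',
      ← IsScalarTower.algebraMap_eq R B' (Cpl B')]
  haveI : IsScalarTower R R' (Cpl B') := by
    refine IsScalarTower.of_algebraMap_eq' ?_
    rw [IsScalarTower.algebraMap_eq R' B' (Cpl B'), RingHom.comp_assoc,
      ← IsScalarTower.algebraMap_eq R R' B', ← IsScalarTower.algebraMap_eq R B' (Cpl B')]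
  intro p hp
  change LocCoh.HasSk k (p.Fiber (Cpl B)) (p.Fiber (Cpl B))
  rw [hasSk_fiber_iff B (Cpl B) p]
  intro t htp ht
  obtain ⟨u, hup, hut, hu0, hud0⟩ := exists_prime_fibre_dim_zero (Cpl B) (Cpl B') t
  haveI := hup
  subst hut
  -- (a) R → B → Cpl B
  obtain ⟨hd_a, hh_a⟩ := fibLocRing_trans R B (Cpl B) (u.comap (algebraMap (Cpl B) (Cpl B')))
  obtain ⟨hfa_h, hfa_d⟩ := fib_field R B
    ((u.comap (algebraMap (Cpl B) (Cpl B'))).comap (algebraMap B (Cpl B))) (hB _)
  rw [hfa_d, zero_add] at hd_a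
  rw [hfa_h, zero_add] at hh_a
  -- (b) R → Cpl B → Cpl B'
  obtain ⟨hd_b, hh_b⟩ := fibLocRing_trans R (Cpl B) (Cpl B') u
  rw [hud0, add_zero] at hd_b
  rw [hu0, add_zero] at hh_b
  -- (c1) R → R' → Cpl B'
  obtain ⟨hd_c1, hh_c1⟩ := fibLocRing_trans R R' (Cpl B') u
  -- (c2) R' → B' → Cpl B'
  obtain ⟨hd_c2, hh_c2⟩ := fibLocRing_trans R' B' (Cpl B') u
  obtain ⟨hfc_h, hfc_d⟩ := fib_field R' B' (u.comap (algebraMap B' (Cpl B'))) (hB' _)
  rw [hfc_d, zero_add] at hd_c2
  rw [hfc_h, zero_add] at hh_c2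
  have hcm1 : min (k : ℕ∞)
      (maximalIdeal (EGA4.FibLocRing R R' (u.comap (algebraMap R' (Cpl B'))))).height ≤ _ :=
    hfib _
  have hcm2 : min (k : ℕ∞) (maximalIdeal (EGA4.FibLocRing B' (Cpl B') u)).height ≤ _ :=
    (hasSk_fiber_iff B' (Cpl B') (u.comap (algebraMap B' (Cpl B'))) k).mp
      (h' _) u rfl
  intro _
  rw [← hh_a, ← hd_a, ← hh_b, ← hd_b, hh_c1, hd_c1, hh_c2, hd_c2]
  exact (min_add_le _ _ _).trans (add_le_add hcm1 hcm2)

end T

section basic

theorem hasSk_of_cm' (R : Type u) [CommRing R] [hR : LocCoh.IsCohenMacaulayRing R] (k : ℕ) :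
    LocCoh.HasSk k R R := by
  rw [hasSk_self_iff']
  intro p _
  have h := hR.isCohenMacaulayLocalRing_localization p
  rw [isCohenMacaulayLocalRing_iff_closedCM] at h
  have h' : (maximalIdeal (Localization.AtPrime p)).height = _ := h
  rw [SerreNormal.height_maximalIdeal_atPrime] at h'
  rw [← h']
  exact min_le_right _ _

variable (A : Type u) [CommRing A] [IsNoetherianRing A] [IsLocalRing A]

/-- CM formal fibres are `(S_k)`. -/
theorem hasSnFormalFibres_of_hasCMFormalFibres (k : ℕ) (h : EGA4.HasCMFormalFibres A) :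
    EGA4.HasSnFormalFibres k A := by
  intro p _
  haveI : LocCoh.IsCohenMacaulayRing (formalFibre A p) := h p
  exact hasSk_of_cm' _ k

/-- `(S_k)` formal fibres pass to quotients. -/
theorem hasSnFormalFibres_quotient (k : ℕ) (hA : EGA4.HasSnFormalFibres k A) (I : Ideal A)
    [Nontrivial (A ⧸ I)] : EGA4.HasSnFormalFibres k (A ⧸ I) := by
  haveI : IsNoetherianRing (Cpl A) := ComplEtale.isNoetherianRing_completion A
  haveI : IsNoetherianRing (Cpl (A ⧸ I)) := ComplEtale.isNoetherianRing_completion (A ⧸ I)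
  letI : Algebra (Cpl A) (Cpl (A ⧸ I)) :=
    (Groth.Agent.Lib.Helper14.ComplFlat.cplMap A (A ⧸ I)).toAlgebra
  haveI : IsScalarTower A (Cpl A) (Cpl (A ⧸ I)) :=
    Groth.Agent.Lib.Helper14.ComplFlat.cplMap_isScalarTower A (A ⧸ I)
  haveI : Algebra.IsPushout A (A ⧸ I) (Cpl A) (Cpl (A ⧸ I)) :=
    Groth.Agent.Lib.Helper14.ComplQuot.isPushout_quotient A I
  intro P hP
  change LocCoh.HasSk k (P.Fiber (Cpl (A ⧸ I))) (P.Fiber (Cpl (A ⧸ I)))
  haveI : (P.under A).IsPrime := Ideal.IsPrime.under A P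
  have H := Groth.Agent.Lib.Helper14.QuotFiber.residueField_mapₐ_bijective_of_surjective A (A ⧸ I)
    Ideal.Quotient.mk_surjective (P.under A) P
  obtain ⟨e⟩ := Groth.Agent.Lib.Helper14.QuotFiber.nonempty_fiber_ringEquiv A (Cpl A) (A ⧸ I)
    (Cpl (A ⧸ I)) (P.under A) P H
  haveI := isNoetherianRing_fiber A (Cpl A) (P.under A)
  haveI := isNoetherianRing_fiber (A ⧸ I) (Cpl (A ⧸ I)) P
  exact SkTensor.hasSk_self_of_ringEquiv e.symm k (hA (P.under A))

end basic

section surj

variable (X Y : Type u) [CommRing X] [CommRing Y] [IsNoetherianRing X] [IsNoetherianRing Y]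
  [IsLocalRing X] [IsLocalRing Y]

theorem closedSk_of_fib_field (k : ℕ) (R B : Type u) [CommRing R] [CommRing B]
    [IsNoetherianRing R] [IsNoetherianRing B] [Algebra R B] (r : Ideal B) [r.IsPrime]
    (hr : (r.comap (algebraMap R B)).map (algebraMap R B) = r) :
    ClosedSk k (EGA4.FibLocRing R B r) := by
  obtain ⟨h1, h2⟩ := fib_field R B r hr
  intro _
  rw [h1, h2]
  exact min_le_right _ _

/-- `(S_k)` formal fibres transfer along ring isomorphisms. -/
theorem hasSnFormalFibres_of_ringEquiv (k : ℕ) (e : X ≃+* Y) (hX : EGA4.HasSnFormalFibres k X) :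
    EGA4.HasSnFormalFibres k Y := by
  letI : Algebra Y X := e.symm.toRingHom.toAlgebra
  have hbij : Function.Bijective (algebraMap Y X) := e.symm.bijective
  haveI : Module.Flat Y X := RingHom.Flat.of_bijective hbij
  haveI : IsLocalHom (algebraMap Y X) := by
    change IsLocalHom e.symm.toRingHom
    exact ⟨fun a ha => by
      have : IsUnit (e.symm a) := ha
      simpa using this⟩
  refine hasSnFormalFibres_descent Y X Y X k ?_ ?_ ?_ hX
  · intro r _
    simp [Algebra.algebraMap_self, Ideal.map_id, Ideal.comap_id]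
  · intro r _
    simp [Algebra.algebraMap_self, Ideal.map_id, Ideal.comap_id]
  · intro r' _
    exact closedSk_of_fib_field k Y X r' (Ideal.map_comap_of_surjective _ hbij.2 r')

/-- `(S_k)` formal fibres pass to quotients (surjective form). -/
theorem hasSnFormalFibres_of_surjective (k : ℕ) (f : X →+* Y) (hf : Function.Surjective f)
    (hX : EGA4.HasSnFormalFibres k X) : EGA4.HasSnFormalFibres k Y := by
  let e : (X ⧸ RingHom.ker f) ≃+* Y := RingHom.quotientKerEquivOfSurjective hf
  haveI : Nontrivial (X ⧸ RingHom.ker f) := e.toEquiv.nontrivial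
  exact hasSnFormalFibres_of_ringEquiv _ _ k e (hasSnFormalFibres_quotient X k hX (RingHom.ker f))

end surj

end Groth.Agent.Lib.Helper14.SkFormal
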