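import Mathlib

/-!
# Monomial ideals `((t_j g_j)^e : j < i)` in `P[t_1..t_d]` (helper14)

For `g : Fin d → P` and `γ_i = t_i g_i` in `MvPolynomial (Fin d) P`, membership in the ideal
`J_i = ((γ_j)^e : j < i)` can be tested coefficientwise: `z ∈ J_i` iff for every exponent `β` the
coefficient of `t^β` lies in `(g_j^e : j < i, e ≤ β_j)`.  As a consequence the annihilator
condition `γ_i² x ∈ J_i → γ_i x ∈ J_i` follows from the analogous conditions in `P` modulo all
the ideals `(g_j^e : j ∈ T)`, `T ⊆ {j < i}`.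
-/

set_option autoImplicit false

namespace Groth.Agent.Lib.Helper14.InsepM

open MvPolynomial

variable {P : Type*} [CommRing P] {d : ℕ} (g : Fin d → P) (e : ℕ)

/-- the ideal `(g_j^e : j ∈ T)` of `P` -/
def JP (T : Set (Fin d)) : Ideal P := Ideal.span ((fun j => g j ^ e) '' T)

lemma JP_mono {T T' : Set (Fin d)} (h : T ⊆ T') : JP g e T ≤ JP g e T' :=
  Ideal.span_mono (Set.image_mono h)

/-- the index set attached to an exponent vector -/
def Tset (i : Fin d) (β : Fin d →₀ ℕ) : Set (Fin d) := {j | (j : ℕ) < (i : ℕ) ∧ e ≤ β j}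

lemma Tset_mono (i : Fin d) {β β' : Fin d →₀ ℕ} (h : β ≤ β') : Tset e i β ⊆ Tset e i β' :=
  fun j hj => ⟨hj.1, le_trans hj.2 (h j)⟩

lemma Tset_add_single (i : Fin d) (β : Fin d →₀ ℕ) (a : ℕ) :
    Tset e i (β + Finsupp.single i a) = Tset e i β := by
  ext j
  unfold Tset
  simp only [Set.mem_setOf_eq, Finsupp.add_apply]
  constructor
  · rintro ⟨h1, h2⟩
    refine ⟨h1, ?_⟩
    have hne : i ≠ j := fun h => by rw [h] at h1; exact lt_irrefl _ h1
    rwa [Finsupp.single_eq_of_ne' hne, add_zero] at h2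
  · rintro ⟨h1, h2⟩
    exact ⟨h1, le_trans h2 (Nat.le_add_right _ _)⟩

/-- the elements `γ_i = t_i g_i` -/
noncomputable def γ (i : Fin d) : MvPolynomial (Fin d) P := X i * C (g i)

lemma γ_eq_monomial (i : Fin d) : γ g i = monomial (Finsupp.single i 1) (g i) := by
  unfold γ
  rw [mul_comm, C_mul_X_eq_monomial]

lemma γ_pow (i : Fin d) (a : ℕ) : γ g i ^ a = monomial (Finsupp.single i a) (g i ^ a) := by
  rw [γ_eq_monomial, monomial_pow, Finsupp.smul_single, smul_eq_mul, mul_one]

/-- the ideal `J_i = (γ_j^e : j < i)` -/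
noncomputable def J (i : Fin d) : Ideal (MvPolynomial (Fin d) P) :=
  Ideal.span (Set.range fun j : {j : Fin d // (j : ℕ) < (i : ℕ)} => γ g j ^ e)

/-- the coefficientwise ideal -/
def Jc (i : Fin d) : Ideal (MvPolynomial (Fin d) P) where
  carrier := {z | ∀ β, coeff β z ∈ JP g e (Tset e i β)}
  add_mem' := by
    intro x y hx hy β
    rw [coeff_add]
    exact add_mem (hx β) (hy β)
  zero_mem' := by
    intro β
    rw [coeff_zero]
    exact zero_mem _
  smul_mem' := by
    classical
    intro y z hz β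
    rw [smul_eq_mul, coeff_mul]
    refine Ideal.sum_mem _ fun x hx => ?_
    have hle : x.2 ≤ β := by
      have hx' := Finset.HasAntidiagonal.mem_antidiagonal.mp hx
      rw [← hx']
      exact le_add_self
    exact Ideal.mul_mem_left _ _ (JP_mono g e (Tset_mono e i hle) (hz x.2))

lemma mem_Jc (i : Fin d) (z : MvPolynomial (Fin d) P) :
    z ∈ Jc g e i ↔ ∀ β, coeff β z ∈ JP g e (Tset e i β) := Iff.rfl

lemma J_le_Jc (i : Fin d) : J g e i ≤ Jc g e i := by
  classical
  unfold J
  rw [Ideal.span_le]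
  rintro _ ⟨j, rfl⟩ β
  show coeff β (γ g j ^ e) ∈ _
  rw [γ_pow, coeff_monomial]
  split_ifs with h
  · refine Ideal.subset_span ⟨j.1, ⟨j.2, ?_⟩, rfl⟩
    rw [← h, Finsupp.single_eq_same]
  · exact zero_mem _

lemma monomial_mem_J (i : Fin d) (β : Fin d →₀ ℕ) (c : P) (hc : c ∈ JP g e (Tset e i β)) :
    monomial β c ∈ J g e i := by
  unfold JP at hc
  induction hc using Submodule.span_induction with
  | mem c hc =>
    obtain ⟨j, ⟨hji, hje⟩, rfl⟩ := hc
    have hle : Finsupp.single j e ≤ β := by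
      rw [Finsupp.single_le_iff]
      exact hje
    have h1 : monomial β (g j ^ e) =
        monomial (β - Finsupp.single j e) (1 : P) * γ g j ^ e := by
      rw [γ_pow, monomial_mul, one_mul, tsub_add_cancel_of_le hle]
    rw [h1]
    exact Ideal.mul_mem_left _ _ (Ideal.subset_span ⟨⟨j, hji⟩, rfl⟩)
  | zero => rw [monomial_zero]; exact zero_mem _
  | add x y _ _ hx hy => rw [map_add]; exact add_mem hx hy
  | smul p x _ hx =>
    rw [smul_eq_mul, ← C_mul_monomial]
    exact Ideal.mul_mem_left _ _ hx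

lemma Jc_le_J (i : Fin d) : Jc g e i ≤ J g e i := by
  intro z hz
  rw [as_sum z]
  exact Ideal.sum_mem _ fun β _ => monomial_mem_J g e i β _ (hz β)

theorem J_eq_Jc (i : Fin d) : J g e i = Jc g e i :=
  le_antisymm (J_le_Jc g e i) (Jc_le_J g e i)

/-- the annihilator condition for `γ_i` modulo `J_i` follows from the conditions in `P` modulo
all sub-collections -/
theorem ann_γ (i : Fin d)
    (hP : ∀ T : Set (Fin d), (∀ j ∈ T, (j : ℕ) < (i : ℕ)) →
      ∀ y : P, g i ^ 2 * y ∈ JP g e T → g i * y ∈ JP g e T)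
    (x : MvPolynomial (Fin d) P) (hx : γ g i ^ 2 * x ∈ J g e i) : γ g i * x ∈ J g e i := by
  classical
  rw [J_eq_Jc, mem_Jc] at hx ⊢
  intro β
  rw [γ_eq_monomial, coeff_monomial_mul']
  split_ifs with h
  · have h2 := hx (β + Finsupp.single i 1)
    rw [γ_pow, coeff_monomial_mul'] at h2
    have hle : Finsupp.single i 2 ≤ β + Finsupp.single i 1 := by
      have h3 : Finsupp.single i 2 = Finsupp.single i 1 + Finsupp.single i 1 := by
        rw [← Finsupp.single_add]
      rw [h3]
      exact add_le_add_left h _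
    rw [if_pos hle] at h2
    have h4 : β + Finsupp.single i 1 - Finsupp.single i 2 = β - Finsupp.single i 1 := by
      have h3 : Finsupp.single i 2 = Finsupp.single i 1 + Finsupp.single i 1 := by
        rw [← Finsupp.single_add]
      rw [h3, ← tsub_tsub, add_tsub_cancel_right]
    rw [h4, Tset_add_single] at h2
    exact hP _ (fun j hj => hj.1) _ h2
  · exact zero_mem _

end Groth.Agent.Lib.Helper14.InsepM
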