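import Mathlib
import Groth.Agent.Lib.Helper6.AnnStable2
import Groth.Agent.Lib.Helper14.InsepM

/-!
# Multipliers making the annihilator conditions hold modulo all sub-collections (helper14)

Let `Λ` be Noetherian, `q` a prime with `Λ_q` regular local of dimension `d`, and
`π₀_1, …, π₀_d ∈ Λ` generating `qΛ_q`.  Then there are `τ_i ∉ q` such that the elements
`π_i = τ_i π₀_i` satisfy: for every `i` and every `T ⊆ {j < i}`,
`π_i² y ∈ (π_j^e : j ∈ T) → π_i y ∈ (π_j^e : j ∈ T)`.
-/

set_option autoImplicit false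

namespace Groth.Agent.Lib.Helper14.InsepE

open Groth.Agent.Lib.Helper6.AnnStable Groth.Agent.Lib.Helper14.InsepM
open Groth.Agent.Lib.Helper6.PermReg (Reg)

universe u

section stable

variable {Λ : Type*} [CommRing Λ] [IsNoetherianRing Λ]

/-- uniform stabilisation of the colon ideals `(J : s^k)` -/
lemma exists_colon_stable (J : Ideal Λ) (s0 : Λ) :
    ∃ k₀ : ℕ, ∀ k, k₀ ≤ k → ∀ m, k ≤ m → ∀ x, s0 ^ m * x ∈ J → s0 ^ k * x ∈ J := by
  let f : ℕ →o Submodule Λ Λ :=
    { toFun := fun k => colonElt J (s0 ^ k)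
      monotone' := by
        intro a b hab x hx
        obtain ⟨c, rfl⟩ := Nat.exists_eq_add_of_le hab
        show s0 ^ (a + c) * x ∈ J
        rw [pow_add, mul_right_comm]
        exact J.mul_mem_right _ hx }
  obtain ⟨n0, hn0⟩ := (monotone_stabilizes_iff_noetherian (R := Λ) (M := Λ)).mpr inferInstance f
  refine ⟨n0, fun k hk m hm x hx => ?_⟩
  have h1 : x ∈ f m := hx
  rw [← hn0 m (by omega), hn0 k hk] at h1
  exact h1

end stable

section multi

variable {Λ : Type u} [CommRing Λ] [IsNoetherianRing Λ] (q : Ideal Λ) [q.IsPrime]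

/-- one multiplier for finitely many ideals -/
theorem exists_multiplier_multi {ι : Type*} [Finite ι] (J : ι → Ideal Λ) (π : Λ)
    (hreg : ∀ l, ∀ z, π ^ 2 * z ∈ J l →
      algebraMap Λ (Localization.AtPrime q) z ∈
        (J l).map (algebraMap Λ (Localization.AtPrime q))) :
    ∃ s : Λ, s ∉ q ∧ ∀ l, ∀ x, (s * π) ^ 2 * x ∈ J l → (s * π) * x ∈ J l := by
  classical
  haveI := Fintype.ofFinite ι
  have h0 : ∀ l, ∃ u : Λ, u ∉ q ∧ ∀ z ∈ colonElt (J l) (π ^ 2), u * z ∈ J l := by
    intro l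
    exact Groth.Agent.Lib.Helper5.RegSeq.exists_notMem_forall_mul_mem
      (S := Localization.AtPrime q) q (colonElt (J l) (π ^ 2)) (J l)
      (IsNoetherian.noetherian _) (fun z hz => hreg l z hz)
  choose u hu hul using h0
  set s0 : Λ := ∏ l, u l with hs0
  have hs0q : s0 ∉ q := by
    intro hmem
    rw [(inferInstance : q.IsPrime).prod_mem_iff] at hmem
    obtain ⟨l, _, hl⟩ := hmem
    exact hu l hl
  have hs0l : ∀ l, ∀ z ∈ colonElt (J l) (π ^ 2), s0 * z ∈ J l := by
    intro l z hz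
    obtain ⟨w, hw⟩ := Finset.dvd_prod_of_mem u (Finset.mem_univ l)
    rw [hs0, hw, mul_right_comm]
    exact Ideal.mul_mem_right _ _ (hul l z hz)
  have h1 : ∀ l, ∃ k₀ : ℕ, ∀ k, k₀ ≤ k → ∀ m, k ≤ m → ∀ x, s0 ^ m * x ∈ J l → s0 ^ k * x ∈ J l :=
    fun l => exists_colon_stable (J l) s0
  choose k₀ hk₀ using h1
  set k : ℕ := 1 + ∑ l, k₀ l with hk
  have hkl : ∀ l, k₀ l ≤ k := by
    intro l
    have : k₀ l ≤ ∑ l, k₀ l :=
      Finset.single_le_sum (fun _ _ => Nat.zero_le _) (Finset.mem_univ l)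
    omega
  refine ⟨s0 ^ k, fun h => hs0q (Ideal.IsPrime.mem_of_pow_mem inferInstance k h), ?_⟩
  intro l x hx
  have h2 : (s0 ^ k) ^ 2 * x ∈ colonElt (J l) (π ^ 2) := by
    rw [mem_colonElt]
    have : π ^ 2 * ((s0 ^ k) ^ 2 * x) = (s0 ^ k * π) ^ 2 * x := by ring
    rw [this]
    exact hx
  have h3 : s0 ^ (2 * k + 1) * x ∈ J l := by
    have := hs0l l _ h2
    have h4 : s0 * ((s0 ^ k) ^ 2 * x) = s0 ^ (2 * k + 1) * x := by
      rw [← pow_mul, mul_comm k 2, pow_succ]; ring
    rwa [h4] at this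
  have h5 := hk₀ l k (hkl l) (2 * k + 1) (by omega) x h3
  have h6 : s0 ^ k * π * x = π * (s0 ^ k * x) := by ring
  rw [h6]
  exact Ideal.mul_mem_left _ _ h5

end multi

section main

variable {Λ : Type u} [CommRing Λ] [IsNoetherianRing Λ] (q : Ideal Λ) [q.IsPrime]
  [IsRegularLocalRing (Localization.AtPrime q)]

lemma JP_congr {d : ℕ} (e : ℕ) (π π' : Fin d → Λ) (T : Set (Fin d))
    (h : ∀ j ∈ T, π' j = π j) : JP π' e T = JP π e T := by
  unfold JP
  congr 1
  ext y
  constructor
  · rintro ⟨j, hj, rfl⟩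
    exact ⟨j, hj, by dsimp only; rw [h j hj]⟩
  · rintro ⟨j, hj, rfl⟩
    exact ⟨j, hj, by dsimp only; rw [h j hj]⟩

lemma map_JP_eq_Jpow {d : ℕ} (e : ℕ) (he : 0 < e) (π : Fin d → Λ) (T : Set (Fin d))
    [DecidablePred (· ∈ T)] :
    (JP π e T).map (algebraMap Λ (Localization.AtPrime q)) =
      Jpow (fun j => algebraMap Λ (Localization.AtPrime q) (π j))
        (fun j => if j ∈ T then e else 0) := by
  unfold JP Jpow
  rw [Ideal.map_span]
  congr 1
  ext y
  constructor
  · rintro ⟨_, ⟨j, hj, rfl⟩, rfl⟩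
    refine ⟨j, ?_, ?_⟩
    · dsimp only
      rw [if_pos hj]; omega
    · dsimp only
      rw [if_pos hj, map_pow]
  · rintro ⟨j, hj, rfl⟩
    dsimp only at hj ⊢
    have hjT : j ∈ T := by
      by_contra hcon
      rw [if_neg hcon] at hj
      exact hj rfl
    refine ⟨π j ^ e, ⟨j, hjT, rfl⟩, ?_⟩
    rw [if_pos hjT, map_pow]

/-- the property maintained along the induction -/
def GoodAll {d : ℕ} (e : ℕ) (π : Fin d → Λ) (t : ℕ) : Prop :=
  ∀ i : Fin d, (i : ℕ) < t → ∀ T : Set (Fin d), (∀ j ∈ T, (j : ℕ) < (i : ℕ)) →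
    ∀ y, π i ^ 2 * y ∈ JP π e T → π i * y ∈ JP π e T

lemma exists_goodAll {d : ℕ} (hd : ringKrullDim (Localization.AtPrime q) = d) (e : ℕ)
    (he : 0 < e) (π₀ : Fin d → Λ)
    (hgen : Ideal.span (Set.range fun i => algebraMap Λ (Localization.AtPrime q) (π₀ i)) =
      IsLocalRing.maximalIdeal (Localization.AtPrime q)) :
    ∀ t : ℕ, t ≤ d → ∃ τ : Fin d → Λ, (∀ i, τ i ∉ q) ∧
      GoodAll e (fun i => τ i * π₀ i) t := by
  classical
  intro t
  induction t with
  | zero =>
    intro _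
    refine ⟨fun _ => 1, fun _ => (Ideal.ne_top_iff_one q).mp (Ideal.IsPrime.ne_top inferInstance),
      ?_⟩
    intro i hi
    exact absurd hi (Nat.not_lt_zero _)
  | succ t ih =>
    intro ht
    obtain ⟨τ, hτ, hgood⟩ := ih (by omega)
    let i0 : Fin d := ⟨t, by omega⟩
    set π : Fin d → Λ := fun i => τ i * π₀ i with hπ
    have hgenπ : Ideal.span (Set.range fun i => algebraMap Λ (Localization.AtPrime q) (π i)) =
        IsLocalRing.maximalIdeal (Localization.AtPrime q) := by
      rw [← hgen]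
      apply span_range_unit_mul
      intro i
      refine ⟨algebraMap Λ (Localization.AtPrime q) (τ i),
        IsLocalization.map_units _ (⟨τ i, hτ i⟩ : q.primeCompl), ?_⟩
      rw [hπ, map_mul]
    -- the finite family of ideals
    let ι := {T : Set (Fin d) // ∀ j ∈ T, (j : ℕ) < (i0 : ℕ)}
    haveI : Finite ι := Subtype.finite
    have hreg : ∀ l : ι, ∀ z, π i0 ^ 2 * z ∈ JP π e l.1 →
        algebraMap Λ (Localization.AtPrime q) z ∈
          (JP π e l.1).map (algebraMap Λ (Localization.AtPrime q)) := by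
      intro l z hz
      have hr : Reg ((JP π e l.1).map (algebraMap Λ (Localization.AtPrime q)))
          (algebraMap Λ (Localization.AtPrime q) (π i0) ^ 2) := by
        rw [map_JP_eq_Jpow q e he π l.1]
        apply reg_pow_of_reg
        refine reg_powers_of_rsop hd (fun j => algebraMap Λ (Localization.AtPrime q) (π j))
          hgenπ _ i0 ?_
        have : i0 ∉ l.1 := fun h => lt_irrefl _ (l.2 i0 h)
        rw [if_neg this]
      apply hr
      rw [← map_pow, ← map_mul]
      exact Ideal.mem_map_of_mem _ hz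
    obtain ⟨s, hsq, hs⟩ := exists_multiplier_multi q (fun l : ι => JP π e l.1) (π i0) hreg
    refine ⟨Function.update τ i0 (s * τ i0), ?_, ?_⟩
    · intro i
      by_cases hi : i = i0
      · subst hi
        rw [Function.update_self]
        exact fun h => (Ideal.IsPrime.mem_or_mem inferInstance h).elim hsq (hτ _)
      · rw [Function.update_of_ne hi]
        exact hτ i
    · set π' : Fin d → Λ := fun i => Function.update τ i0 (s * τ i0) i * π₀ i with hπ'
      have hupd : ∀ j : Fin d, j ≠ i0 → π' j = π j := by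
        intro j hj
        rw [hπ', hπ]
        dsimp only
        rw [Function.update_of_ne hj]
      have hupd0 : π' i0 = s * π i0 := by
        rw [hπ', hπ]
        dsimp only
        rw [Function.update_self, mul_assoc]
      intro i hi T hT y hy
      have hTne : ∀ j ∈ T, j ≠ i0 := by
        intro j hj hji
        have h1 := hT j hj
        rw [hji] at h1
        have : (i : ℕ) ≤ t := by omega
        exact absurd h1 (by show ¬ (t < (i : ℕ)); omega)
      have hJ : JP π' e T = JP π e T := JP_congr e π π' T (fun j hj => hupd j (hTne j hj))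
      rw [hJ] at hy ⊢
      by_cases hit : (i : ℕ) < t
      · have hne : i ≠ i0 := fun h => by rw [h] at hit; exact lt_irrefl _ hit
        rw [hupd i hne] at hy ⊢
        exact hgood i hit T hT y hy
      · have hi0 : i = i0 := Fin.ext (by show (i : ℕ) = t; omega)
        subst hi0
        rw [hupd0] at hy ⊢
        exact hs ⟨T, hT⟩ y hy

/-- **Theorem E.** -/
theorem exists_multipliers {d : ℕ} (hd : ringKrullDim (Localization.AtPrime q) = d) (e : ℕ)
    (he : 0 < e) (π₀ : Fin d → Λ)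
    (hgen : Ideal.span (Set.range fun i => algebraMap Λ (Localization.AtPrime q) (π₀ i)) =
      IsLocalRing.maximalIdeal (Localization.AtPrime q)) :
    ∃ τ : Fin d → Λ, (∀ i, τ i ∉ q) ∧
      ∀ i : Fin d, ∀ T : Set (Fin d), (∀ j ∈ T, (j : ℕ) < (i : ℕ)) →
        ∀ y, (τ i * π₀ i) ^ 2 * y ∈ JP (fun i => τ i * π₀ i) e T →
          (τ i * π₀ i) * y ∈ JP (fun i => τ i * π₀ i) e T := by
  obtain ⟨τ, hτ, hgood⟩ := exists_goodAll q hd e he π₀ hgen d le_rfl
  exact ⟨τ, hτ, fun i T hT y hy => hgood i i.2 T hT y hy⟩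

/-- the full collection `{j < i}` gives the ideal `Jt` of `AnnStable` -/
lemma JP_lt_eq_Jt {d : ℕ} (e : ℕ) (π : Fin d → Λ) (i : Fin d) :
    JP π e {j | (j : ℕ) < (i : ℕ)} = Jt e π i := by
  unfold JP Jt
  congr 1
  ext y
  constructor
  · rintro ⟨j, hj, rfl⟩
    exact ⟨⟨j, hj⟩, rfl⟩
  · rintro ⟨j, rfl⟩
    exact ⟨j.1, j.2, rfl⟩

end main

end Groth.Agent.Lib.Helper14.InsepE
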