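import Mathlib
import Groth.Prelude.Def_Smoothing
import Groth.Agent.Lib.Helper27.SepE
import Groth.Agent.S2034

/-!
# Resolving a zero-dimensional local problem from one smooth factorization (helper14)
-/

set_option autoImplicit false

namespace Groth.Agent.Lib.Helper14.InsepG

open Smoothing TensorProduct

universe u

/-- If the localized map `Rₚ ⊗ C₀ → Λq` factors through a smooth `Rₚ`-algebra and `Λq` is
zero-dimensional, then the problem `R₀ → C₀ → Λ₀ ⊇ 𝔮₀` can be resolved. -/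
theorem resolvable_of_factor {R₀ C₀ Λ₀ Rₚ Λq : Type u} [CommRing R₀]
    [IsNoetherianRing R₀]
    [CommRing C₀] [Algebra R₀ C₀] [Algebra.FinitePresentation R₀ C₀] [CommRing Λ₀]
    [Algebra R₀ Λ₀] (φ₀ : C₀ →ₐ[R₀] Λ₀) (𝔮₀ : Ideal Λ₀) [𝔮₀.IsPrime]
    [CommRing Rₚ] [Algebra R₀ Rₚ] [IsLocalization.AtPrime Rₚ (𝔮₀.comap (algebraMap R₀ Λ₀))]
    [CommRing Λq] [Algebra Λ₀ Λq] [IsLocalization.AtPrime Λq 𝔮₀] [Algebra R₀ Λq]
    [IsScalarTower R₀ Λ₀ Λq] [Algebra Rₚ Λq] [IsScalarTower R₀ Rₚ Λq]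
    (hdim : ringKrullDim Λq = 0)
    (hfac : ∃ (G' : Type u) (_ : CommRing G') (_ : Algebra Rₚ G'), Algebra.Smooth Rₚ G' ∧
      ∃ (g : Rₚ ⊗[R₀] C₀ →ₐ[Rₚ] G') (h : G' →ₐ[Rₚ] Λq),
        h.comp g = (Algebra.TensorProduct.lift (Algebra.ofId Rₚ Λq)
          ((IsScalarTower.toAlgHom R₀ Λ₀ Λq).comp φ₀) (fun _ _ => Commute.all _ _))) :
    Resolvable R₀ φ₀ 𝔮₀ := by
  by_cases hle : singRad R₀ φ₀ ≤ 𝔮₀
  · haveI : IsLocalRing Λq := IsLocalization.AtPrime.isLocalRing Λq 𝔮₀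
    haveI : Ring.KrullDimLE 0 Λq := ringKrullDimZero_iff_ringKrullDim_eq_zero.mpr hdim
    have hmin : 𝔮₀ ∈ (singRad R₀ φ₀).minimalPrimes := by
      refine ⟨⟨inferInstance, hle⟩, ?_⟩
      rintro P ⟨hP, -⟩ hP𝔮
      have hdisj : Disjoint (𝔮₀.primeCompl : Set Λ₀) P := by
        rw [Set.disjoint_left]
        intro x hx hxP
        exact hx (hP𝔮 hxP)
      have hP' : (P.map (algebraMap Λ₀ Λq)).IsPrime :=
        IsLocalization.isPrime_of_isPrime_disjoint 𝔮₀.primeCompl Λq P hP hdisj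
      have hmax : P.map (algebraMap Λ₀ Λq) = IsLocalRing.maximalIdeal Λq :=
        IsLocalRing.eq_maximalIdeal hP'.isMaximal'
      have h1 : (P.map (algebraMap Λ₀ Λq)).under Λ₀ = P :=
        IsLocalization.under_map_of_isPrime_disjoint 𝔮₀.primeCompl Λq hP hdisj
      have h2 : (IsLocalRing.maximalIdeal Λq).under Λ₀ = 𝔮₀ :=
        IsLocalization.AtPrime.under_maximalIdeal Λq 𝔮₀
      rw [← h1, hmax, h2]
    refine Groth.Agent.S2034.result (Rₚ := Rₚ) (Λq := Λq) φ₀ 𝔮₀ hmin hdim ?_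
    obtain ⟨D, _, _, hsm, g, h, hgh⟩ := hfac
    haveI := hsm
    have htop : singRad Rₚ h = ⊤ := by
      unfold singRad
      rw [Groth.Agent.Lib.Helper27.SepE.singularIdeal_eq_top, Ideal.map_top, Ideal.radical_top]
    refine ⟨D, inferInstance, inferInstance, hsm.2, g, h, hgh, ?_, ?_⟩
    · rw [htop]; exact le_top
    · rw [htop, top_le_iff]
      have : (𝔮₀.map (algebraMap Λ₀ Λq)) = IsLocalRing.maximalIdeal Λq :=
        IsLocalization.AtPrime.map_eq_maximalIdeal 𝔮₀ Λq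
      rw [this]
      exact Ideal.IsPrime.ne_top inferInstance
  · exact ⟨C₀, inferInstance, inferInstance, inferInstance, AlgHom.id R₀ C₀, φ₀,
      AlgHom.comp_id φ₀, le_rfl, hle⟩

end Groth.Agent.Lib.Helper14.InsepG
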