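import Mathlib

/-!
# Algebraic lemmas for the inseparable case of the local smoothing problem (helper14)

* `pow_card_mul_le`: `(p_i : i ∈ s)^(|s| e) ⊆ (p_i^e : i ∈ s)`;
* `exists_coeffs`: elements of `I * (α_1, …, α_r)` are `∑ ν_j α_j` with `ν_j ∈ I`;
* `exists_global_relation`: a relation `π^N = ∑ α_j μ_j` holding modulo `m^n` in the local ring
  `Λ_q` can be corrected to an exact relation `σ π^N = ∑ α_j λ_j` in `Λ` with `σ ∉ q` and
  `λ_j ≡ σ μ_j` modulo `m^(n-N)`;
* `mem_of_map_mem_of_faithfullyFlat`: descent of ideal membership along a flat local map.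
-/

set_option autoImplicit false

namespace Groth.Agent.Lib.Helper14.InsepL

universe u

section pigeon

variable {B : Type*} [CommRing B] {ι : Type*}

lemma pow_card_mul_le [DecidableEq ι] (p : ι → B) (e : ℕ) (s : Finset ι) :
    (Ideal.span (p '' (s : Set ι))) ^ (s.card * e + 1) ≤
      Ideal.span ((fun i => p i ^ e) '' (s : Set ι)) := by
  induction s using Finset.induction_on with
  | empty => simp
  | insert i s hi ih =>
    rw [Finset.card_insert_of_notMem hi, Finset.coe_insert, Set.image_insert_eq,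
      Set.image_insert_eq, Ideal.span_insert, Ideal.span_insert]
    have h1 : (s.card + 1) * e + 1 = e + (s.card * e + 1) := by ring
    rw [h1]
    refine le_trans Ideal.sup_pow_add_le_pow_sup_pow ?_
    refine sup_le_sup ?_ ih
    rw [Ideal.span_singleton_pow]

lemma pow_mul_le_of_span_range {d : ℕ} (p : Fin d → B) (e : ℕ) :
    (Ideal.span (Set.range p)) ^ (d * e + 1) ≤ Ideal.span (Set.range fun i => p i ^ e) := by
  classical
  have h := pow_card_mul_le p e (Finset.univ : Finset (Fin d))
  rw [Finset.card_univ, Fintype.card_fin, Finset.coe_univ, Set.image_univ, Set.image_univ] at h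
  exact h

end pigeon

section coeffs

variable {B : Type*} [CommRing B]

lemma exists_coeffs {r : ℕ} (I : Ideal B) (α : Fin r → B) (x : B)
    (hx : x ∈ I * Ideal.span (Set.range α)) :
    ∃ ν : Fin r → B, (∀ j, ν j ∈ I) ∧ x = ∑ j, α j * ν j := by
  rw [← smul_eq_mul] at hx
  refine Submodule.smul_induction_on hx ?_ ?_
  · intro i hi b hb
    obtain ⟨c, rfl⟩ := Ideal.mem_span_range_iff_exists_fun.mp hb
    refine ⟨fun j => i * c j, fun j => Ideal.mul_mem_right _ _ hi, ?_⟩
    rw [smul_eq_mul, Finset.mul_sum]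
    exact Finset.sum_congr rfl fun j _ => by ring
  · rintro x y ⟨ν, hν, rfl⟩ ⟨ν', hν', rfl⟩
    refine ⟨fun j => ν j + ν' j, fun j => add_mem (hν j) (hν' j), ?_⟩
    rw [← Finset.sum_add_distrib]
    exact Finset.sum_congr rfl fun j _ => by ring

end coeffs

section globalrel

variable {Λ : Type u} [CommRing Λ] (q : Ideal Λ) [q.IsPrime]

local notation "S" => Localization.AtPrime q
local notation "𝔪" => IsLocalRing.maximalIdeal (Localization.AtPrime q)

theorem exists_global_relation {r : ℕ} (α : Fin r → Λ) (π : Λ) (N n : ℕ) (hNn : N ≤ n)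
    (hpow : 𝔪 ^ N ≤ Ideal.span (Set.range fun j => algebraMap Λ S (α j)))
    (μ : Fin r → S)
    (hμ : algebraMap Λ S π ^ N - ∑ j, algebraMap Λ S (α j) * μ j ∈ 𝔪 ^ n) :
    ∃ (σ : Λ) (l : Fin r → Λ), σ ∉ q ∧ σ * π ^ N = ∑ j, α j * l j ∧
      ∀ j, algebraMap Λ S (l j) - algebraMap Λ S σ * μ j ∈ 𝔪 ^ (n - N) := by
  classical
  -- absorb the error term
  have h1 : 𝔪 ^ n ≤ 𝔪 ^ (n - N) * Ideal.span (Set.range fun j => algebraMap Λ S (α j)) := by
    have : n = (n - N) + N := by omega
    conv_lhs => rw [this, pow_add]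
    exact Ideal.mul_mono_right hpow
  obtain ⟨ν, hν, hνeq⟩ := exists_coeffs _ _ _ (h1 hμ)
  have h2 : algebraMap Λ S π ^ N = ∑ j, algebraMap Λ S (α j) * (μ j + ν j) := by
    have : ∑ j, algebraMap Λ S (α j) * (μ j + ν j) =
        ∑ j, algebraMap Λ S (α j) * μ j + ∑ j, algebraMap Λ S (α j) * ν j := by
      rw [← Finset.sum_add_distrib]
      exact Finset.sum_congr rfl fun j _ => by ring
    rw [this, ← hνeq]
    ring
  -- common denominator
  obtain ⟨s, hs⟩ := IsLocalization.exist_integer_multiples_of_finset q.primeCompl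
    (Finset.univ.image fun j => μ j + ν j)
  have hs' : ∀ j, ∃ l'' : Λ, algebraMap Λ S l'' = algebraMap Λ S (s : Λ) * (μ j + ν j) := by
    intro j
    obtain ⟨l'', hl''⟩ := hs (μ j + ν j) (Finset.mem_image_of_mem _ (Finset.mem_univ j))
    exact ⟨l'', by rw [hl'', Algebra.smul_def]⟩
  choose l'' hl'' using hs'
  have h3 : algebraMap Λ S ((s : Λ) * π ^ N) = algebraMap Λ S (∑ j, α j * l'' j) := by
    rw [map_mul, map_pow, h2, map_sum, Finset.mul_sum]
    refine Finset.sum_congr rfl fun j _ => ?_
    rw [map_mul, hl'']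
    ring
  obtain ⟨s', hs'⟩ := (IsLocalization.eq_iff_exists q.primeCompl S).mp h3
  refine ⟨(s' : Λ) * (s : Λ), fun j => (s' : Λ) * l'' j, ?_, ?_, ?_⟩
  · exact fun h => (Ideal.IsPrime.mem_or_mem inferInstance h).elim s'.2 s.2
  · rw [mul_assoc, hs', Finset.mul_sum]
    exact Finset.sum_congr rfl fun j _ => by ring
  · intro j
    have : algebraMap Λ S ((s' : Λ) * l'' j) - algebraMap Λ S ((s' : Λ) * (s : Λ)) * μ j =
        algebraMap Λ S ((s' : Λ) * (s : Λ)) * ν j := by
      rw [map_mul, hl'', map_mul]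
      ring
    rw [this]
    exact Ideal.mul_mem_left _ _ (hν j)

end globalrel

section descent

/-- descent of ideal membership along a flat local homomorphism of local rings -/
theorem mem_of_map_mem_of_flat_local {D T : Type*} [CommRing D] [CommRing T] [IsLocalRing D]
    [IsLocalRing T] [Algebra D T] [Module.Flat D T] [IsLocalHom (algebraMap D T)]
    (I : Ideal D) (x : D) (hx : algebraMap D T x ∈ I.map (algebraMap D T)) : x ∈ I := by
  haveI : Module.FaithfullyFlat D T := Module.FaithfullyFlat.of_flat_of_isLocalHom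
  have := Ideal.comap_map_eq_self_of_faithfullyFlat (B := T) I
  rw [← this]
  exact hx

end descent

end Groth.Agent.Lib.Helper14.InsepL
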