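import Mathlib
import Groth.Prelude.Def_Smoothing
import Groth.Agent.Lib.Helper27.SepB

/-!
# The twisted factorization through a smooth algebra (helper14)

`B = A[x,z]/(x_i^N - ∑ z_ij a_j)` over `k[x]`.  Given an ind-smooth `Pn`-algebra `D` receiving
`A`, with `g_i^N = ∑ a_j μ_ij` in `D` (`g_i` the image of `x_i` in `Pn`), and a `Pn`-algebra `W`
in which `x_i` acts as `t_i g_i`, every ring map `θ : B → L` of the shape
`a ↦ ι(a)`, `x_i ↦ t_i g_i`, `z_ij ↦ t_i^N ι(μ_ij)` factors through a smooth `W`-algebra.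
-/

set_option autoImplicit false

namespace Groth.Agent.Lib.Helper14.InsepT

open MvPolynomial Smoothing TensorProduct
open Groth.Agent.Lib.Helper27.SepB

universe u

section ext

variable {k A : Type u} [CommRing k] [CommRing A] [Algebra k A] {d r : ℕ} (n : ℕ) (a : Fin r → A)

/-- ring homs out of `Bq` are determined by their values on `A`, `x_i`, `z_ij` -/
theorem bq_ringHom_ext {L : Type*} [CommRing L] (f f' : Bq d n a →+* L)
    (hA : ∀ x : A, f (algebraMap A (Bq d n a) x) = f' (algebraMap A (Bq d n a) x))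
    (hx : ∀ i, f (xb n a i) = f' (xb n a i))
    (hz : ∀ i j, f (zb n a i j) = f' (zb n a i j)) : f = f' := by
  apply Ideal.Quotient.ringHom_ext
  apply MvPolynomial.ringHom_ext
  · intro x
    exact hA x
  · rintro (i | ⟨i, j⟩)
    · exact hx i
    · exact hz i j

end ext

section twist

variable {k A : Type u} [Field k] [CommRing A] [Algebra k A]
  {d r : ℕ} (N₀ : ℕ) (a : Fin r → A)
  {Pn W G G' : Type u} [CommRing Pn] [CommRing W] [CommRing G] [CommRing G']
  [Algebra k Pn] [Algebra (MvPolynomial (Fin d) k) Pn]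
  [IsScalarTower k (MvPolynomial (Fin d) k) Pn]
  [Algebra k W] [Algebra (MvPolynomial (Fin d) k) W] [IsScalarTower k (MvPolynomial (Fin d) k) W]
  [Algebra Pn W] [IsScalarTower k Pn W]
  [Algebra Pn G] [Algebra W G']

/-- the twisted map `B → G'` -/
theorem exists_twist (tt : Fin d → W)
    (htt : ∀ i, algebraMap (MvPolynomial (Fin d) k) W (X i) =
      tt i * algebraMap Pn W (algebraMap (MvPolynomial (Fin d) k) Pn (X i)))
    (j : G →+* G')
    (hj : ∀ y : Pn, j (algebraMap Pn G y) = algebraMap W G' (algebraMap Pn W y))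
    (g₁ : Pn ⊗[MvPolynomial (Fin d) k] Bq d N₀ a →+* G)
    (hg₁ : ∀ y : Pn, g₁ (y ⊗ₜ[MvPolynomial (Fin d) k] (1 : Bq d N₀ a)) = algebraMap Pn G y) :
    ∃ v : Bq d N₀ a →+* G',
      (∀ x : A, v (algebraMap A (Bq d N₀ a) x) =
        j (g₁ ((1 : Pn) ⊗ₜ algebraMap A (Bq d N₀ a) x))) ∧
      (∀ i, v (xb N₀ a i) = algebraMap W G' (algebraMap (MvPolynomial (Fin d) k) W (X i))) ∧
      (∀ i j', v (zb N₀ a i j') =
        algebraMap W G' (tt i) ^ N₀ * j (g₁ ((1 : Pn) ⊗ₜ zb N₀ a i j'))) ∧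
      (∀ p : MvPolynomial (Fin d) k, v (algebraMap (MvPolynomial (Fin d) k) (Bq d N₀ a) p) =
        algebraMap W G' (algebraMap (MvPolynomial (Fin d) k) W p)) := by
  classical
  letI algkG' : Algebra k G' := ((algebraMap W G').comp (algebraMap k W)).toAlgebra
  letI algkxG' : Algebra (MvPolynomial (Fin d) k) G' :=
    ((algebraMap W G').comp (algebraMap (MvPolynomial (Fin d) k) W)).toAlgebra
  haveI : IsScalarTower k (MvPolynomial (Fin d) k) G' := IsScalarTower.of_algebraMap_eq fun c => by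
    show algebraMap W G' (algebraMap k W c) =
      algebraMap W G' (algebraMap (MvPolynomial (Fin d) k) W (algebraMap k _ c))
    rw [← IsScalarTower.algebraMap_apply k (MvPolynomial (Fin d) k) W]
  -- scalars from `Pn` move across
  have hmove : ∀ (p : MvPolynomial (Fin d) k),
      g₁ ((1 : Pn) ⊗ₜ[MvPolynomial (Fin d) k]
        algebraMap (MvPolynomial (Fin d) k) (Bq d N₀ a) p) =
        algebraMap Pn G (algebraMap (MvPolynomial (Fin d) k) Pn p) := by
    intro p
    have h1 : ((1 : Pn) ⊗ₜ[MvPolynomial (Fin d) k]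
        algebraMap (MvPolynomial (Fin d) k) (Bq d N₀ a) p) =
        (algebraMap (MvPolynomial (Fin d) k) Pn p) ⊗ₜ[MvPolynomial (Fin d) k]
          (1 : Bq d N₀ a) := by
      rw [Algebra.algebraMap_eq_smul_one (A := Pn), TensorProduct.smul_tmul,
        ← Algebra.algebraMap_eq_smul_one]
    rw [h1, hg₁]
  -- the map on `A`
  let ψA : A →ₐ[k] G' :=
    { toFun := fun x => j (g₁ ((1 : Pn) ⊗ₜ algebraMap A (Bq d N₀ a) x))
      map_one' := by
        rw [map_one, ← Algebra.TensorProduct.one_def, map_one, map_one]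
      map_mul' := fun x y => by
        rw [map_mul, ← one_mul (1 : Pn), ← Algebra.TensorProduct.tmul_mul_tmul, map_mul, map_mul,
          one_mul]
      map_zero' := by rw [map_zero, TensorProduct.tmul_zero, map_zero, map_zero]
      map_add' := fun x y => by rw [map_add, TensorProduct.tmul_add, map_add, map_add]
      commutes' := fun c => by
        show j (g₁ ((1 : Pn) ⊗ₜ algebraMap A (Bq d N₀ a) (algebraMap k A c))) =
          algebraMap W G' (algebraMap k W c)
        rw [← IsScalarTower.algebraMap_apply k A (Bq d N₀ a),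
          IsScalarTower.algebraMap_apply k (MvPolynomial (Fin d) k) (Bq d N₀ a), hmove,
          hj, ← IsScalarTower.algebraMap_apply k (MvPolynomial (Fin d) k) Pn,
          ← IsScalarTower.algebraMap_apply k Pn W] }
  have hψA : ∀ x, ψA x = j (g₁ ((1 : Pn) ⊗ₜ algebraMap A (Bq d N₀ a) x)) := fun _ => rfl
  let ζ : Fin d × Fin r → G' := fun p =>
    algebraMap W G' (tt p.1) ^ N₀ * j (g₁ ((1 : Pn) ⊗ₜ zb N₀ a p.1 p.2))
  have hrel : ∀ i, algebraMap (MvPolynomial (Fin d) k) G' (X i) ^ N₀ =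
      ∑ j', ψA (a j') * ζ (i, j') := by
    intro i
    have h1 : ∑ j', ψA (a j') * ζ (i, j') =
        algebraMap W G' (tt i) ^ N₀ *
          j (g₁ ((1 : Pn) ⊗ₜ (∑ j', algebraMap A (Bq d N₀ a) (a j') * zb N₀ a i j'))) := by
      rw [TensorProduct.tmul_sum, map_sum, map_sum, Finset.mul_sum]
      refine Finset.sum_congr rfl fun j' _ => ?_
      rw [hψA]
      show _ * (algebraMap W G' (tt i) ^ N₀ * _) = _
      rw [← one_mul (1 : Pn), ← Algebra.TensorProduct.tmul_mul_tmul, map_mul, map_mul, one_mul]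
      ring
    rw [h1, ← rel_eq, ← algebraMap_R_X (k := k) N₀ a i,
      ← map_pow (algebraMap (MvPolynomial (Fin d) k) (Bq d N₀ a)), hmove, hj]
    show (algebraMap W G' (algebraMap (MvPolynomial (Fin d) k) W (X i))) ^ N₀ = _
    rw [htt, map_mul, mul_pow, map_pow (algebraMap (MvPolynomial (Fin d) k) Pn),
      map_pow (algebraMap Pn W), map_pow (algebraMap W G')]
  let vB : Bq d N₀ a →ₐ[MvPolynomial (Fin d) k] G' := liftB N₀ a ψA ζ hrel
  refine ⟨vB.toRingHom, ?_, ?_, ?_, ?_⟩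
  · intro x
    show vB (algebraMap A (Bq d N₀ a) x) = _
    rw [liftB_apply, lift₁_algebraMap_A, hψA]
  · intro i
    show vB (xb N₀ a i) = _
    rw [liftB_apply, lift₁_xb]
    rfl
  · intro i j'
    show vB (zb N₀ a i j') = _
    rw [liftB_apply, lift₁_zb]
  · intro p
    show vB (algebraMap (MvPolynomial (Fin d) k) (Bq d N₀ a) p) = _
    rw [AlgHom.commutes]
    rfl

end twist

section factor

variable {k A : Type u} [Field k] [CommRing A] [Algebra k A] [Algebra.FinitePresentation k A]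
  {d r : ℕ} (N₀ : ℕ) (a : Fin r → A)
  {Pn D W L : Type u} [CommRing Pn] [CommRing D] [CommRing W] [CommRing L]
  [Algebra k Pn] [Algebra (MvPolynomial (Fin d) k) Pn]
  [IsScalarTower k (MvPolynomial (Fin d) k) Pn]
  [Algebra Pn D] [Algebra k D] [IsScalarTower k Pn D]
  [Algebra k W] [Algebra (MvPolynomial (Fin d) k) W] [IsScalarTower k (MvPolynomial (Fin d) k) W]
  [Algebra Pn W] [IsScalarTower k Pn W]
  [Algebra W L] [Algebra Pn L] [IsScalarTower Pn W L]

theorem exists_twist_factor (hind : IndSmooth Pn D) (tt : Fin d → W)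
    (htt : ∀ i, algebraMap (MvPolynomial (Fin d) k) W (X i) =
      tt i * algebraMap Pn W (algebraMap (MvPolynomial (Fin d) k) Pn (X i)))
    (ιL : D →ₐ[Pn] L) (ψD : A →ₐ[k] D) (μ : Fin d × Fin r → D)
    (hμ : ∀ i, algebraMap Pn D (algebraMap (MvPolynomial (Fin d) k) Pn (X i)) ^ N₀ =
      ∑ j, ψD (a j) * μ (i, j))
    (θ : Bq d N₀ a →+* L)
    (hθA : ∀ x, θ (algebraMap A (Bq d N₀ a) x) = ιL (ψD x))
    (hθx : ∀ i, θ (xb N₀ a i) = algebraMap W L (algebraMap (MvPolynomial (Fin d) k) W (X i)))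
    (hθz : ∀ i j, θ (zb N₀ a i j) = algebraMap W L (tt i) ^ N₀ * ιL (μ (i, j))) :
    ∃ (G' : Type u) (_ : CommRing G') (_ : Algebra W G'), Algebra.Smooth W G' ∧
      ∃ (v : Bq d N₀ a →+* G') (h' : G' →ₐ[W] L),
        (∀ p : MvPolynomial (Fin d) k, v (algebraMap (MvPolynomial (Fin d) k) (Bq d N₀ a) p) =
          algebraMap W G' (algebraMap (MvPolynomial (Fin d) k) W p)) ∧
        ∀ b, h' (v b) = θ b := by
  classical
  letI algkxD : Algebra (MvPolynomial (Fin d) k) D :=
    ((algebraMap Pn D).comp (algebraMap (MvPolynomial (Fin d) k) Pn)).toAlgebra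
  haveI : IsScalarTower (MvPolynomial (Fin d) k) Pn D := IsScalarTower.of_algebraMap_eq fun _ => rfl
  haveI : IsScalarTower k (MvPolynomial (Fin d) k) D := IsScalarTower.of_algebraMap_eq fun c => by
    show algebraMap k D c = algebraMap Pn D (algebraMap (MvPolynomial (Fin d) k) Pn (algebraMap k _ c))
    rw [← IsScalarTower.algebraMap_apply k (MvPolynomial (Fin d) k) Pn,
      ← IsScalarTower.algebraMap_apply k Pn D]
  let τB : Bq d N₀ a →ₐ[MvPolynomial (Fin d) k] D := liftB N₀ a ψD μ hμ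
  let τT : Pn ⊗[MvPolynomial (Fin d) k] Bq d N₀ a →ₐ[Pn] D :=
    Algebra.TensorProduct.lift (Algebra.ofId Pn D) τB (fun _ _ => Commute.all _ _)
  have hτT : ∀ b, τT ((1 : Pn) ⊗ₜ b) = τB b := by
    intro b
    show (Algebra.ofId Pn D) 1 * τB b = τB b
    rw [map_one, one_mul]
  obtain ⟨G, instG, instPG, hsm, g₁, h₁, hgh⟩ :=
    hind (Pn ⊗[MvPolynomial (Fin d) k] Bq d N₀ a) inferInstance τT
  haveI := hsm
  have hgh' : ∀ x, h₁ (g₁ x) = τT x := fun x => DFunLike.congr_fun hgh x
  obtain ⟨v, hvA, hvx, hvz, hvp⟩ := exists_twist (G' := W ⊗[Pn] G) N₀ a tt htt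
    (Algebra.TensorProduct.includeRight : G →ₐ[Pn] W ⊗[Pn] G).toRingHom
    (fun y => by
      show (1 : W) ⊗ₜ[Pn] algebraMap Pn G y = algebraMap W (W ⊗[Pn] G) (algebraMap Pn W y)
      calc (1 : W) ⊗ₜ[Pn] algebraMap Pn G y = (1 : W) ⊗ₜ[Pn] (y • (1 : G)) := by
            rw [Algebra.algebraMap_eq_smul_one]
        _ = (y • (1 : W)) ⊗ₜ[Pn] (1 : G) := (TensorProduct.smul_tmul y 1 1).symm
        _ = (algebraMap Pn W y) ⊗ₜ[Pn] (1 : G) := by rw [Algebra.algebraMap_eq_smul_one]
        _ = algebraMap W (W ⊗[Pn] G) (algebraMap Pn W y) := by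
            rw [Algebra.TensorProduct.algebraMap_apply]; rfl) g₁.toRingHom
    (fun y => g₁.commutes' y)
  let h' : W ⊗[Pn] G →ₐ[W] L :=
    Algebra.TensorProduct.lift (Algebra.ofId W L) (ιL.comp h₁) (fun _ _ => Commute.all _ _)
  have hh' : ∀ (w : W) (y : G), h' (w ⊗ₜ y) = algebraMap W L w * ιL (h₁ y) := fun _ _ => rfl
  refine ⟨W ⊗[Pn] G, inferInstance, inferInstance, inferInstance, v, h', hvp, ?_⟩
  have key : (h' : W ⊗[Pn] G →+* L).comp v = θ := by
    apply bq_ringHom_ext
    · intro x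
      show h' (v (algebraMap A (Bq d N₀ a) x)) = _
      rw [hvA, hθA]
      show h' ((1 : W) ⊗ₜ g₁ _) = _
      rw [hh', map_one, one_mul]
      refine (congrArg ιL ((hgh' _).trans (hτT _))).trans ?_
      show ιL (lift₁ N₀ a ψD μ hμ (algebraMap A (Bq d N₀ a) x)) = _
      rw [lift₁_algebraMap_A]
    · intro i
      show h' (v (xb N₀ a i)) = _
      rw [hvx, hθx, AlgHom.commutes]
    · intro i j
      show h' (v (zb N₀ a i j)) = _
      rw [hvz, hθz, map_mul, map_pow, AlgHom.commutes]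
      congr 1
      show h' ((1 : W) ⊗ₜ g₁ _) = _
      rw [hh', map_one, one_mul]
      refine (congrArg ιL ((hgh' _).trans (hτT _))).trans ?_
      show ιL (lift₁ N₀ a ψD μ hμ (zb N₀ a i j)) = _
      rw [lift₁_zb]
  intro b
  exact DFunLike.congr_fun key b

end factor

end Groth.Agent.Lib.Helper14.InsepT
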