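import Mathlib
import Groth.Prelude.Def_Smoothing
import Groth.Agent.Lib.Helper14.InsepT
import Groth.Agent.Lib.Helper14.InsepG

/-!
# The reduced problem in the inseparable case (helper14)
-/

set_option autoImplicit false

namespace Groth.Agent.Lib.Helper14.InsepR

open MvPolynomial Smoothing TensorProduct
open Groth.Agent.Lib.Helper27.SepB

universe u

set_option maxHeartbeats 1600000 in
theorem reduced_resolvable
    {k A Λ : Type u} [Field k] [CommRing A] [Algebra k A] [Algebra.FinitePresentation k A]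
    [CommRing Λ]
    (𝔮 : Ideal Λ) [𝔮.IsPrime]
    {d r : ℕ} (N₀ : ℕ) (a : Fin r → A)
    {R : Type u} [CommRing R] [IsNoetherianRing R] [Algebra k R]
    [Algebra (MvPolynomial (Fin d) k) R] [IsScalarTower k (MvPolynomial (Fin d) k) R]
    [Algebra R Λ] [Algebra (MvPolynomial (Fin d) k) Λ]
    [IsScalarTower (MvPolynomial (Fin d) k) R Λ]
    {C : Type u} [CommRing C] [Algebra (Bq d N₀ a) C] [Algebra (MvPolynomial (Fin d) k) C]
    [IsScalarTower (MvPolynomial (Fin d) k) (Bq d N₀ a) C]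
    [Algebra.FinitePresentation (MvPolynomial (Fin d) k) C]
    (ρ : C →ₐ[Bq d N₀ a] Bq d N₀ a) (hB : Bq d N₀ a →ₐ[MvPolynomial (Fin d) k] Λ)
    (K : Ideal R) (hKfg : K.FG)
    (φK : ((R ⊗[MvPolynomial (Fin d) k] C) ⧸
        K.map (algebraMap R (R ⊗[MvPolynomial (Fin d) k] C))) →ₐ[R ⧸ K]
      (Λ ⧸ K.map (algebraMap R Λ)))
    (hφK : ∀ (x : R) (c : C), φK (Ideal.Quotient.mk _ (x ⊗ₜ c)) =
      Ideal.Quotient.mk _ (algebraMap R Λ x * hB (ρ c)))
    [h𝔮₀ : (𝔮.map (Ideal.Quotient.mk (K.map (algebraMap R Λ)))).IsPrime]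
    {W Λq : Type u} [CommRing W] [Algebra (R ⧸ K) W]
    [IsLocalization.AtPrime W ((𝔮.map (Ideal.Quotient.mk (K.map (algebraMap R Λ)))).comap
      (algebraMap (R ⧸ K) (Λ ⧸ K.map (algebraMap R Λ))))]
    [CommRing Λq] [Algebra (Λ ⧸ K.map (algebraMap R Λ)) Λq]
    [IsLocalization.AtPrime Λq (𝔮.map (Ideal.Quotient.mk (K.map (algebraMap R Λ))))]
    [Algebra (R ⧸ K) Λq] [IsScalarTower (R ⧸ K) (Λ ⧸ K.map (algebraMap R Λ)) Λq]
    [Algebra W Λq] [IsScalarTower (R ⧸ K) W Λq]
    (hdim : ringKrullDim Λq = 0)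
    {Pn D : Type u} [CommRing Pn] [CommRing D] [Algebra k Pn]
    [Algebra (MvPolynomial (Fin d) k) Pn] [IsScalarTower k (MvPolynomial (Fin d) k) Pn]
    [Algebra Pn D] [Algebra k D] [IsScalarTower k Pn D]
    (hind : IndSmooth Pn D)
    (pw : Pn →+* W)
    (hpwk : ∀ c : k, pw (algebraMap k Pn c) =
      algebraMap (R ⧸ K) W (Ideal.Quotient.mk K (algebraMap k R c)))
    (tt : Fin d → W)
    (htt : ∀ i, algebraMap (R ⧸ K) W
        (Ideal.Quotient.mk K (algebraMap (MvPolynomial (Fin d) k) R (X i))) =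
      tt i * pw (algebraMap (MvPolynomial (Fin d) k) Pn (X i)))
    (ιL : D →+* Λq) (hιL : ∀ y, ιL (algebraMap Pn D y) = algebraMap W Λq (pw y))
    (ψD : A →ₐ[k] D) (μ : Fin d × Fin r → D)
    (hμ : ∀ i, algebraMap Pn D (algebraMap (MvPolynomial (Fin d) k) Pn (X i)) ^ N₀ =
      ∑ j, ψD (a j) * μ (i, j))
    (hθA : ∀ x : A, algebraMap (Λ ⧸ K.map (algebraMap R Λ)) Λq
        (Ideal.Quotient.mk _ (hB (algebraMap A (Bq d N₀ a) x))) = ιL (ψD x))
    (hθz : ∀ i j, algebraMap (Λ ⧸ K.map (algebraMap R Λ)) Λq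
        (Ideal.Quotient.mk _ (hB (zb N₀ a i j))) = algebraMap W Λq (tt i) ^ N₀ * ιL (μ (i, j))) :
    Resolvable (R ⧸ K) φK (𝔮.map (Ideal.Quotient.mk (K.map (algebraMap R Λ)))) := by
  classical
  -- abbreviations
  let kx := MvPolynomial (Fin d) k
  let B := Bq d N₀ a
  let CR := R ⊗[kx] C
  let KC : Ideal CR := K.map (algebraMap R CR)
  let KΛ : Ideal Λ := K.map (algebraMap R Λ)
  let R₀ := R ⧸ K
  let Λ₀ := Λ ⧸ KΛ
  let C₀ := CR ⧸ KC
  -- finite presentation
  haveI : Algebra.FinitePresentation R C₀ :=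
    Algebra.FinitePresentation.quotient (by
      obtain ⟨s, hs⟩ := hKfg
      show (K.map (algebraMap R CR)).FG
      rw [← hs, Ideal.map_span]
      exact Submodule.fg_span (s.finite_toSet.image _))
  haveI : Algebra.FinitePresentation R₀ C₀ :=
    Algebra.FinitePresentation.of_restrict_scalars_finitePresentation R R₀ C₀
  -- algebra structures on `W`
  letI algRW : Algebra R W := ((algebraMap R₀ W).comp (algebraMap R R₀)).toAlgebra
  haveI : IsScalarTower R R₀ W := IsScalarTower.of_algebraMap_eq fun _ => rfl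
  letI algkxW : Algebra kx W := ((algebraMap R W).comp (algebraMap kx R)).toAlgebra
  haveI : IsScalarTower kx R W := IsScalarTower.of_algebraMap_eq fun _ => rfl
  letI algkW : Algebra k W := ((algebraMap R W).comp (algebraMap k R)).toAlgebra
  haveI : IsScalarTower k R W := IsScalarTower.of_algebraMap_eq fun _ => rfl
  haveI : IsScalarTower k kx W := IsScalarTower.of_algebraMap_eq fun c => by
    show algebraMap R W (algebraMap k R c) = algebraMap R W (algebraMap kx R (algebraMap k kx c))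
    rw [← IsScalarTower.algebraMap_apply k kx R]
  letI algPnW : Algebra Pn W := pw.toAlgebra
  haveI : IsScalarTower k Pn W := IsScalarTower.of_algebraMap_eq fun c => (hpwk c).symm
  letI algPnL : Algebra Pn Λq := ((algebraMap W Λq).comp pw).toAlgebra
  haveI : IsScalarTower Pn W Λq := IsScalarTower.of_algebraMap_eq fun _ => rfl
  let ιL' : D →ₐ[Pn] Λq := { ιL with commutes' := hιL }
  have hιL' : ∀ x, ιL' x = ιL x := fun _ => rfl
  -- the target map
  let θ : B →+* Λq := (algebraMap Λ₀ Λq).comp ((Ideal.Quotient.mk KΛ).comp hB.toRingHom)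
  have hθ : ∀ b, θ b = algebraMap Λ₀ Λq (Ideal.Quotient.mk KΛ (hB b)) := fun _ => rfl
  have hRΛq : ∀ x : R, algebraMap W Λq (algebraMap R W x) =
      algebraMap Λ₀ Λq (Ideal.Quotient.mk KΛ (algebraMap R Λ x)) := by
    intro x
    show algebraMap W Λq (algebraMap R₀ W (Ideal.Quotient.mk K x)) = _
    rw [← IsScalarTower.algebraMap_apply R₀ W Λq, IsScalarTower.algebraMap_apply R₀ Λ₀ Λq]
    rfl
  obtain ⟨G', instG', instWG', hsm, v, h', hvp, hv⟩ :=
    Groth.Agent.Lib.Helper14.InsepT.exists_twist_factor (k := k) (W := W) (L := Λq) N₀ a hind tt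
      htt ιL' ψD μ hμ θ
      (fun x => by rw [hθ, hθA, hιL'])
      (fun i => by
        rw [hθ, ← algebraMap_R_X (k := k) N₀ a i, AlgHom.commutes,
          IsScalarTower.algebraMap_apply kx R Λ, ← hRΛq]
        rfl)
      (fun i j => by rw [hθ, hθz, hιL'])
  haveI := hsm
  -- algebra structures on `G'`
  letI algRG' : Algebra R G' := ((algebraMap W G').comp (algebraMap R W)).toAlgebra
  haveI : IsScalarTower R W G' := IsScalarTower.of_algebraMap_eq fun _ => rfl
  letI algkxG' : Algebra kx G' := ((algebraMap W G').comp (algebraMap kx W)).toAlgebra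
  haveI : IsScalarTower kx W G' := IsScalarTower.of_algebraMap_eq fun _ => rfl
  haveI : IsScalarTower kx R G' := IsScalarTower.of_algebraMap_eq fun _ => rfl
  letI algR₀G' : Algebra R₀ G' := ((algebraMap W G').comp (algebraMap R₀ W)).toAlgebra
  haveI : IsScalarTower R₀ W G' := IsScalarTower.of_algebraMap_eq fun _ => rfl
  -- the map `C → G'`
  let vB : B →ₐ[kx] G' := { v with commutes' := hvp }
  have hvB : ∀ b, vB b = v b := fun _ => rfl
  let w : C →ₐ[kx] G' := vB.comp (ρ.restrictScalars kx)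
  have hw : ∀ c, w c = v (ρ c) := fun _ => rfl
  let f : CR →ₐ[R] G' :=
    Algebra.TensorProduct.lift (Algebra.ofId R G') w (fun _ _ => Commute.all _ _)
  have hf : ∀ (x : R) (c : C), f (x ⊗ₜ c) = algebraMap R G' x * v (ρ c) := fun _ _ => rfl
  have hfK : ∀ y ∈ KC, f y = 0 := by
    have hle : KC ≤ RingHom.ker f.toRingHom := by
      show K.map (algebraMap R CR) ≤ _
      rw [Ideal.map_le_iff_le_comap]
      intro x hx
      show f (algebraMap R CR x) = 0
      rw [AlgHom.commutes]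
      show algebraMap W G' (algebraMap R₀ W (Ideal.Quotient.mk K x)) = 0
      rw [Ideal.Quotient.eq_zero_iff_mem.mpr hx, map_zero, map_zero]
    exact fun y hy => hle hy
  let u₀ : C₀ →+* G' := Ideal.Quotient.lift KC f.toRingHom hfK
  have hu₀ : ∀ y : CR, u₀ (Ideal.Quotient.mk KC y) = f y := fun _ => rfl
  let u : C₀ →ₐ[R₀] G' :=
    { u₀ with
      commutes' := by
        intro x
        obtain ⟨x, rfl⟩ := Ideal.Quotient.mk_surjective x
        show u₀ (Ideal.Quotient.mk KC (algebraMap R CR x)) = _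
        rw [hu₀, AlgHom.commutes]
        rfl }
  have hu : ∀ y : CR, u (Ideal.Quotient.mk KC y) = f y := fun _ => rfl
  -- compatibility
  have hcomp : ∀ c₀ : C₀, h' (u c₀) = algebraMap Λ₀ Λq (φK c₀) := by
    intro c₀
    obtain ⟨y, rfl⟩ := Ideal.Quotient.mk_surjective c₀
    induction y using TensorProduct.induction_on with
    | zero => rw [map_zero, map_zero, map_zero, map_zero, map_zero]
    | tmul x c =>
      rw [hu, hf, map_mul, hφK, map_mul, map_mul, hv, hθ]
      congr 1
      show h' (algebraMap W G' (algebraMap R W x)) = _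
      rw [AlgHom.commutes, hRΛq]
    | add y z hy hz => rw [map_add, map_add, map_add, map_add, map_add, hy, hz]
  refine Groth.Agent.Lib.Helper14.InsepG.resolvable_of_factor (Rₚ := W) (Λq := Λq) φK _ hdim
    ⟨G', instG', instWG', hsm,
      Algebra.TensorProduct.lift (Algebra.ofId W G') u (fun _ _ => Commute.all _ _), h', ?_⟩
  apply Algebra.TensorProduct.ext'
  intro y c₀
  show h' (algebraMap W G' y * u c₀) = algebraMap W Λq y * algebraMap Λ₀ Λq (φK c₀)
  rw [map_mul, AlgHom.commutes, hcomp]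

end Groth.Agent.Lib.Helper14.InsepR
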