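import Mathlib
import Groth.Prelude.Def_Smoothing
import Groth.Agent.Lib.Helper27.PopG
import Groth.Agent.Lib.Helper27.SepF
import Groth.Agent.Lib.Helper27.SepH
import Groth.Agent.Lib.Helper14.InsepM
import Groth.Agent.Lib.Helper14.InsepE
import Groth.Agent.Lib.Helper14.InsepL
import Groth.Agent.Lib.Helper14.InsepR
import Groth.Agent.S6822
import Groth.Agent.S6829

/-!
# Assembly of the inseparable case from the local data (helper14)
-/

set_option autoImplicit false

namespace Groth.Agent.Lib.Helper14.InsepN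

open MvPolynomial Smoothing TensorProduct
open Groth.Agent.Lib.Helper27.SepB
open Groth.Agent.Lib.Helper14.InsepM (JP γ)
open Groth.Agent.Lib.Helper6.AnnStable (Jt)

universe u

/-- base change of membership in the singular ideal -/
theorem tmul_mem_singularIdeal {R₁ C R : Type u} [CommRing R₁] [CommRing C] [Algebra R₁ C]
    [Algebra.FinitePresentation R₁ C] [CommRing R] [Algebra R₁ R] (c : C)
    (hc : c ∈ singularIdeal R₁ C) : (1 : R) ⊗ₜ[R₁] c ∈ singularIdeal R (R ⊗[R₁] C) := by
  rw [Groth.Agent.Lib.Helper27.PopG.mem_singularIdeal_iff] at hc ⊢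
  haveI := hc
  haveI : Algebra.Smooth R (R ⊗[R₁] Localization.Away c) := inferInstance
  exact Algebra.Smooth.of_equiv
    (IsLocalization.Away.tensorProductEquivTMulRight R₁ R c (Localization.Away c))

/-- the annihilator condition for powers, in quotient form -/
theorem ann_quot {R : Type*} [CommRing R] (J : Ideal R) (p : R)
    (h : ∀ y, p ^ 2 * y ∈ J → p * y ∈ J) (c : ℕ) (hc : 1 ≤ c) (J' : Ideal R) (hJ : J' = J)
    (x : R ⧸ J') (hx : Ideal.Quotient.mk J' (p ^ c) ^ 2 * x = 0) :
    Ideal.Quotient.mk J' (p ^ c) * x = 0 := by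
  subst hJ
  obtain ⟨y, rfl⟩ := Ideal.Quotient.mk_surjective x
  rw [← map_pow, ← map_mul, Ideal.Quotient.eq_zero_iff_mem] at hx
  rw [← map_mul, Ideal.Quotient.eq_zero_iff_mem]
  exact Groth.Agent.Lib.Helper27.SepF.ann_pow' _ p h c hc y hx

end Groth.Agent.Lib.Helper14.InsepN
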