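import Mathlib
import Groth.Prelude.Def_Smoothing
import Groth.Agent.Lib.Helper14.InsepN

/-!
# Assembly of the inseparable case: the reduced problem from the explicit data (helper14)
-/

set_option autoImplicit false

namespace Groth.Agent.Lib.Helper14.InsepP1

open MvPolynomial Smoothing TensorProduct
open Groth.Agent.Lib.Helper27.SepB
open Groth.Agent.Lib.Helper14.InsepM (JP γ)
open Groth.Agent.Lib.Helper14.InsepN

universe u

set_option maxHeartbeats 6400000 in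
theorem reduced_step {k A Λ : Type u} [Field k] [CommRing A] [Algebra k A]
    [Algebra.FinitePresentation k A] [CommRing Λ] [Algebra k Λ] [IsNoetherianRing Λ]
    (φ : A →ₐ[k] Λ) (𝔮 : Ideal Λ) [𝔮.IsPrime]
    {r : ℕ} (a : Fin r → A) (d : ℕ) (N₀ : ℕ)
    {C : Type u} [CommRing C] [Algebra (Bq d N₀ a) C] [Algebra (MvPolynomial (Fin d) k) C]
    [IsScalarTower (MvPolynomial (Fin d) k) (Bq d N₀ a) C]
    [Algebra.FinitePresentation (MvPolynomial (Fin d) k) C]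
    (ρ : C →ₐ[Bq d N₀ a] Bq d N₀ a)
    (c : ℕ) (hc : 1 ≤ c)
    {P : Type u} [CommRing P] [Algebra k P] (ψ₀ : P →ₐ[k] Λ) (n : ℕ)
    {Pn D : Type u} [CommRing Pn] [CommRing D] [Algebra P Pn]
    [Algebra Pn D]
    (hPn_lift : ∀ (W : Type u) [CommRing W] (f : P →+* W),
      (∀ x, ψ₀ x ∉ 𝔮 → IsUnit (f x)) → (∀ x ∈ (𝔮.comap ψ₀.toRingHom) ^ n, f x = 0) →
      ∃ pw : Pn →+* W, ∀ x, pw (algebraMap P Pn x) = f x)
    (hPn_ext : ∀ (T : Type u) [CommRing T] (f₁ f₂ : Pn →+* T),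
      (∀ x, f₁ (algebraMap P Pn x) =
        f₂ (algebraMap P Pn x)) → f₁ = f₂)
    (hind : IndSmooth Pn D)
    (ιD : D →+* Localization.AtPrime 𝔮 ⧸
      IsLocalRing.maximalIdeal (Localization.AtPrime 𝔮) ^ n)
    (hcompat : ∀ f : P,
      ιD (algebraMap Pn D (algebraMap P Pn f)) =
        Ideal.Quotient.mk _ (algebraMap Λ (Localization.AtPrime 𝔮) (ψ₀ f)))
    (hn : d * (c * 8) + 1 ≤ n)
    (g : Fin d → P) (hg_mem : ∀ i, ψ₀ (g i) ∈ 𝔮)
    (hg_gen : ∀ f : P, ψ₀ f ∈ 𝔮 →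
      ∃ s : P, ψ₀ s ∉ 𝔮 ∧ s * f ∈ Ideal.span (Set.range g))
    (δ : Fin d → Λ) (hδ : ∀ i, δ i ∉ 𝔮)
    (hgen : Ideal.span (Set.range fun i =>
        algebraMap Λ (Localization.AtPrime 𝔮) (δ i * ψ₀ (g i))) =
      IsLocalRing.maximalIdeal (Localization.AtPrime 𝔮))
    (l : Fin d → Fin r → Λ)
    {R : Type u} [CommRing R] [IsNoetherianRing R] [Algebra k R]
    [Algebra P R] [IsScalarTower k P R]
    (t : Fin d → R)
    [Algebra R Λ]
    [Algebra (MvPolynomial (Fin d) k) R]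
    [IsScalarTower k (MvPolynomial (Fin d) k) R]
    [Algebra (MvPolynomial (Fin d) k) Λ]
    [IsScalarTower (MvPolynomial (Fin d) k) R Λ]
    (hRX : ∀ i, algebraMap R Λ (t i) = δ i)
    (hRC : ∀ f : P,
      algebraMap R Λ (algebraMap P R f) = ψ₀ f)
    (hkxX : ∀ i, algebraMap (MvPolynomial (Fin d) k) R (X i) =
      t i * algebraMap P R (g i))
    (hB : Bq d N₀ a →ₐ[MvPolynomial (Fin d) k] Λ)
    (hBA : ∀ x : A, hB (algebraMap A (Bq d N₀ a) x) = φ x)
    (hBz : ∀ i j, hB (zb N₀ a i j) = l i j)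
    (ψD : A →+* D)
    (hψDk : ∀ c' : k, ψD (algebraMap k A c') =
      algebraMap Pn D (algebraMap P Pn (algebraMap k P c')))
    (hψD : ∀ x, ιD (ψD x) =
      Ideal.Quotient.mk _ (algebraMap Λ (Localization.AtPrime 𝔮) (φ x)))
    (μ : Fin d → Fin r → D)
    (hμ : ∀ i, (algebraMap Pn D (algebraMap P Pn (g i))) ^ N₀ =
      ∑ j, ψD (a j) * μ i j)
    (hμl : ∀ i j, ∃ μ' : Localization.AtPrime 𝔮, Ideal.Quotient.mk _ μ' = ιD (μ i j) ∧
      algebraMap Λ (Localization.AtPrime 𝔮) (l i j) -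
        algebraMap Λ (Localization.AtPrime 𝔮) (δ i) ^ N₀ * μ' ∈
          IsLocalRing.maximalIdeal (Localization.AtPrime 𝔮) ^ (d * (c * 8) + 1))
    (K : Ideal R)
    (hK : K = Ideal.span (Set.range fun i =>
      ((t i * algebraMap P R (g i)) ^ c) ^ 8))
    (φK : ((R ⊗[MvPolynomial (Fin d) k] C) ⧸
        K.map (algebraMap R (R ⊗[MvPolynomial (Fin d) k] C))) →ₐ[R ⧸ K]
      (Λ ⧸ K.map (algebraMap R Λ)))
    (hφK : ∀ (x : R) (c₁ : C),
      φK (Ideal.Quotient.mk _ (x ⊗ₜ c₁)) =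
        Ideal.Quotient.mk _ (algebraMap R Λ x * hB (ρ c₁))) :
    Resolvable (R ⧸ K) φK (𝔮.map (Ideal.Quotient.mk (K.map (algebraMap R Λ)))) := by
  classical
  let kx := MvPolynomial (Fin d) k
  set γ' : Fin d → R := fun i => t i * algebraMap P R (g i) with hγ'
  let S := Localization.AtPrime 𝔮
  let B := Bq d N₀ a
  set e : ℕ := c * 8 with he
  have he1 : 1 ≤ e := by omega
  set π' : Fin d → Λ := fun i => δ i * ψ₀ (g i) with hπ'
  have hπ'𝔮 : ∀ i, π' i ∈ 𝔮 := fun i => Ideal.mul_mem_left _ _ (hg_mem i)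
  have hγ : ∀ i, algebraMap R Λ (γ' i) = π' i := fun i => by
    show algebraMap R Λ (t i * algebraMap P R (g i)) = _
    rw [map_mul, hRX, hRC]
  let KΛ : Ideal Λ := K.map (algebraMap R Λ)
  let JS : Ideal S := KΛ.map (algebraMap Λ S)
  let p : Fin d → S := fun i => algebraMap Λ S (π' i)
  have hγK : ∀ i, γ' i ^ e ∈ K := by
    intro i
    rw [hK, show γ' i ^ e = (γ' i ^ c) ^ 8 from pow_mul _ _ _]
    exact Ideal.subset_span ⟨i, rfl⟩
  have hKΛ𝔮 : KΛ ≤ 𝔮 := by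
    show K.map (algebraMap R Λ) ≤ 𝔮
    rw [hK, Ideal.map_span, Ideal.span_le]
    rintro _ ⟨_, ⟨i, rfl⟩, rfl⟩
    show algebraMap R Λ ((γ' i ^ c) ^ 8) ∈ 𝔮
    rw [map_pow, map_pow, hγ]
    exact Ideal.pow_mem_of_mem 𝔮 (Ideal.pow_mem_of_mem 𝔮 (hπ'𝔮 i) c (by omega)) 8 (by norm_num)
  haveI h𝔮₀ : (𝔮.map (Ideal.Quotient.mk KΛ)).IsPrime :=
    Ideal.map_isPrime_of_surjective Ideal.Quotient.mk_surjective
      (by rw [Ideal.mk_ker]; exact hKΛ𝔮)
  have hsub : Algebra.algebraMapSubmonoid (Λ ⧸ KΛ) 𝔮.primeCompl =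
      (𝔮.map (Ideal.Quotient.mk KΛ)).primeCompl := by
    ext x
    constructor
    · rintro ⟨y, hy, rfl⟩ hmem
      exact hy ((Ideal.mem_quotient_iff_mem hKΛ𝔮).mp hmem)
    · intro hx
      obtain ⟨y, rfl⟩ := Ideal.Quotient.mk_surjective x
      exact ⟨y, fun hy => hx (Ideal.mem_map_of_mem _ hy), rfl⟩
  haveI hloc : IsLocalization.AtPrime (S ⧸ JS) (𝔮.map (Ideal.Quotient.mk KΛ)) := by
    show IsLocalization (𝔮.map (Ideal.Quotient.mk KΛ)).primeCompl (S ⧸ JS)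
    rw [← hsub]
    infer_instance
  letI algR₀ : Algebra (R ⧸ K) (S ⧸ JS) :=
    ((algebraMap (Λ ⧸ KΛ) (S ⧸ JS)).comp (algebraMap (R ⧸ K) (Λ ⧸ KΛ))).toAlgebra
  haveI : IsScalarTower (R ⧸ K) (Λ ⧸ KΛ) (S ⧸ JS) := IsScalarTower.of_algebraMap_eq fun _ => rfl
  have halg : ∀ q : R, algebraMap (R ⧸ K) (S ⧸ JS) (Ideal.Quotient.mk K q) =
      Ideal.Quotient.mk JS (algebraMap Λ S (algebraMap R Λ q)) := fun q => rfl
  have hΛalg : ∀ y : Λ, algebraMap (Λ ⧸ KΛ) (S ⧸ JS) (Ideal.Quotient.mk KΛ y) =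
      Ideal.Quotient.mk JS (algebraMap Λ S y) := fun y => rfl
  have hJSmax : JS ≤ IsLocalRing.maximalIdeal S := by
    have h1 : JS ≤ 𝔮.map (algebraMap Λ S) := Ideal.map_mono hKΛ𝔮
    rwa [IsLocalization.AtPrime.map_eq_maximalIdeal 𝔮 S] at h1
  have hJS_eq : JS = Ideal.span (Set.range fun l => p l ^ e) := by
    show (K.map (algebraMap R Λ)).map (algebraMap Λ S) = _
    rw [hK, Ideal.map_span, Ideal.map_span, ← Set.range_comp, ← Set.range_comp]
    congr 2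
    funext i
    show algebraMap Λ S (algebraMap R Λ ((γ' i ^ c) ^ 8)) = p i ^ (c * 8)
    rw [map_pow, map_pow, map_pow, map_pow, ← pow_mul, hγ]
  have hpow : ∀ i, p i ^ e ∈ JS := by
    intro i
    rw [hJS_eq]
    exact Ideal.subset_span ⟨i, rfl⟩
  have hdim : ringKrullDim (S ⧸ JS) = 0 :=
    Groth.Agent.Lib.Helper27.SepF.ringKrullDim_quotient_eq_zero p hgen e JS hJSmax hpow
  have hmle : IsLocalRing.maximalIdeal S ^ (d * e + 1) ≤ JS := by
    rw [hJS_eq, ← hgen]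
    exact Groth.Agent.Lib.Helper14.InsepL.pow_mul_le_of_span_range p e
  have hmnle : IsLocalRing.maximalIdeal S ^ n ≤ JS :=
    le_trans (Ideal.pow_le_pow_right hn) hmle
  -- the local ring `W`
  let 𝔭 : Ideal (R ⧸ K) := (𝔮.map (Ideal.Quotient.mk KΛ)).comap (algebraMap (R ⧸ K) (Λ ⧸ KΛ))
  let W := Localization.AtPrime 𝔭
  have hnotmem : ∀ q : R, algebraMap R Λ q ∉ 𝔮 → Ideal.Quotient.mk K q ∈ 𝔭.primeCompl := by
    intro q hq hmem
    have h1 : Ideal.Quotient.mk KΛ (algebraMap R Λ q) ∈ 𝔮.map (Ideal.Quotient.mk KΛ) := hmem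
    exact hq ((Ideal.mem_quotient_iff_mem hKΛ𝔮).mp h1)
  have hunitW : ∀ q : R, algebraMap R Λ q ∉ 𝔮 →
      IsUnit (algebraMap (R ⧸ K) W (Ideal.Quotient.mk K q)) := fun q hq =>
    IsLocalization.map_units W ⟨_, hnotmem q hq⟩
  have hunitL : ∀ y : 𝔭.primeCompl, IsUnit (algebraMap (R ⧸ K) (S ⧸ JS) y) := by
    intro y
    have h1 : algebraMap (R ⧸ K) (Λ ⧸ KΛ) y ∈ (𝔮.map (Ideal.Quotient.mk KΛ)).primeCompl := y.2
    exact IsLocalization.map_units (S ⧸ JS) ⟨_, h1⟩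
  letI algWL : Algebra W (S ⧸ JS) :=
    (IsLocalization.lift (M := 𝔭.primeCompl) (S := W) hunitL).toAlgebra
  haveI : IsScalarTower (R ⧸ K) W (S ⧸ JS) := IsScalarTower.of_algebraMap_eq fun x =>
    (IsLocalization.lift_eq (M := 𝔭.primeCompl) (S := W) hunitL x).symm
  -- the map `Pn → W`
  let f : P →+* W := (algebraMap (R ⧸ K) W).comp ((Ideal.Quotient.mk K).comp (algebraMap P R))
  have hf : ∀ x : P, f x = algebraMap (R ⧸ K) W (Ideal.Quotient.mk K (algebraMap P R x)) :=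
    fun _ => rfl
  have hfunit : ∀ x, ψ₀ x ∉ 𝔮 → IsUnit (f x) := fun x hx =>
    hunitW _ (by rw [hRC]; exact hx)
  have hfg : ∀ i, f (g i) ^ e = 0 := by
    intro i
    have h1 : algebraMap (R ⧸ K) W (Ideal.Quotient.mk K (t i)) ^ e * f (g i) ^ e = 0 := by
      rw [hf, ← mul_pow, ← map_mul, ← map_mul, ← map_pow, ← map_pow]
      show algebraMap (R ⧸ K) W (Ideal.Quotient.mk K (γ' i ^ e)) = 0
      rw [Ideal.Quotient.eq_zero_iff_mem.mpr (hγK i), map_zero]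
    have hu : IsUnit (algebraMap (R ⧸ K) W (Ideal.Quotient.mk K (t i)) ^ e) :=
      (hunitW _ (by rw [hRX]; exact hδ i)).pow e
    exact (hu.mul_right_eq_zero).mp h1
  have hfpp : (𝔮.comap ψ₀.toRingHom).map f ≤ Ideal.span (Set.range fun i => f (g i)) := by
    rw [Ideal.map_le_iff_le_comap]
    intro x hx
    obtain ⟨s, hs, hsx⟩ := hg_gen x hx
    have h1 : f (s * x) ∈ Ideal.span (Set.range fun i => f (g i)) := by
      have h2 : Ideal.span (Set.range g) ≤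
          (Ideal.span (Set.range fun i => f (g i))).comap f := by
        rw [Ideal.span_le]
        rintro _ ⟨i, rfl⟩
        exact Ideal.subset_span ⟨i, rfl⟩
      exact h2 hsx
    rw [map_mul] at h1
    rw [Ideal.mem_comap]
    obtain ⟨u, hu⟩ := hfunit s hs
    have h3 : f x = (↑u⁻¹ : W) * (f s * f x) := by
      rw [← hu, ← mul_assoc, Units.inv_mul, one_mul]
    rw [h3]
    exact Ideal.mul_mem_left _ _ h1
  have hfkill : ∀ x ∈ (𝔮.comap ψ₀.toRingHom) ^ n, f x = 0 := by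
    intro x hx
    have h1 : f x ∈ ((𝔮.comap ψ₀.toRingHom) ^ n).map f := Ideal.mem_map_of_mem _ hx
    rw [Ideal.map_pow] at h1
    have h2 : ((𝔮.comap ψ₀.toRingHom).map f) ^ n ≤ ⊥ := by
      refine le_trans (Ideal.pow_right_mono hfpp n) ?_
      refine le_trans (Ideal.pow_le_pow_right hn) ?_
      refine le_trans (Groth.Agent.Lib.Helper14.InsepL.pow_mul_le_of_span_range _ e) ?_
      rw [Ideal.span_le]
      rintro _ ⟨i, rfl⟩
      show f (g i) ^ e ∈ _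
      rw [hfg]
      exact zero_mem _
    exact (Submodule.mem_bot _).mp (h2 h1)
  obtain ⟨pw, hpw⟩ := hPn_lift W f hfunit hfkill
  -- algebra structures on `Pn` and `D`
  letI algkPn : Algebra k Pn := ((algebraMap P Pn).comp (algebraMap k P)).toAlgebra
  haveI : IsScalarTower k P Pn := IsScalarTower.of_algebraMap_eq fun _ => rfl
  letI algkxPn : Algebra kx Pn :=
    (aeval (fun i => algebraMap P Pn (g i)) : kx →ₐ[k] Pn).toRingHom.toAlgebra
  haveI : IsScalarTower k kx Pn := IsScalarTower.of_algebraMap_eq fun c' =>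
    ((aeval (fun i => algebraMap P Pn (g i)) : kx →ₐ[k] Pn).commutes c').symm
  have hkxPn : ∀ i, algebraMap kx Pn (X i) = algebraMap P Pn (g i) := fun i => aeval_X _ i
  letI algkD : Algebra k D := ((algebraMap Pn D).comp (algebraMap k Pn)).toAlgebra
  haveI : IsScalarTower k Pn D := IsScalarTower.of_algebraMap_eq fun _ => rfl
  let ψD' : A →ₐ[k] D :=
    { ψD with
      commutes' := fun c' => by
        show ψD (algebraMap k A c') = algebraMap Pn D (algebraMap P Pn (algebraMap k P c'))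
        rw [hψDk] }
  have hψD' : ∀ x, ψD' x = ψD x := fun _ => rfl
  -- the map `D → S ⧸ JS`
  let ιL : D →+* S ⧸ JS := (Ideal.Quotient.factor hmnle).comp ιD
  have hιLmk : ∀ (y : D) (s : S), ιD y = Ideal.Quotient.mk _ s → ιL y = Ideal.Quotient.mk JS s := by
    intro y s hys
    show Ideal.Quotient.factor hmnle (ιD y) = _
    rw [hys, Ideal.Quotient.factor_mk]
  have hWL : ∀ q : R, algebraMap W (S ⧸ JS) (algebraMap (R ⧸ K) W (Ideal.Quotient.mk K q)) =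
      Ideal.Quotient.mk JS (algebraMap Λ S (algebraMap R Λ q)) := by
    intro q
    rw [← IsScalarTower.algebraMap_apply (R ⧸ K) W (S ⧸ JS), halg]
  have hιL : ∀ y, ιL (algebraMap Pn D y) = algebraMap W (S ⧸ JS) (pw y) := by
    have h1 := hPn_ext (S ⧸ JS) (ιL.comp (algebraMap Pn D)) ((algebraMap W (S ⧸ JS)).comp pw)
      (fun x => by
        show ιL (algebraMap Pn D (algebraMap P Pn x)) =
          algebraMap W (S ⧸ JS) (pw (algebraMap P Pn x))
        rw [hpw, hf, hWL, hRC, hιLmk _ _ (hcompat x)])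
    intro y
    exact RingHom.congr_fun h1 y
  refine Groth.Agent.Lib.Helper14.InsepR.reduced_resolvable (k := k) (W := W) (Λq := S ⧸ JS)
    𝔮 N₀ a ρ hB K ?_ φK hφK hdim hind pw ?_
    (fun i => algebraMap (R ⧸ K) W (Ideal.Quotient.mk K (t i))) ?_ ιL hιL ψD'
    (fun p => μ p.1 p.2) ?_ ?_ ?_
  · rw [hK]
    exact Submodule.fg_span (Set.finite_range _)
  · intro c'
    show pw (algebraMap P Pn (algebraMap k P c')) = _
    rw [hpw, hf, ← IsScalarTower.algebraMap_apply k P R]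
  · intro i
    rw [hkxX, hkxPn, hpw, hf, ← map_mul, ← map_mul]
  · intro i
    rw [hkxPn]
    exact hμ i
  · intro x
    rw [hBA, hΛalg, hψD']
    exact (hιLmk _ _ (hψD x)).symm
  · intro i j
    obtain ⟨μ', hμ', hdiff⟩ := hμl i j
    rw [hBz, hΛalg, hWL, hRX, hιLmk _ _ hμ'.symm, ← map_pow, ← map_pow, ← map_mul]
    rw [Ideal.Quotient.eq]
    rw [map_pow]
    exact hmle hdiff

end Groth.Agent.Lib.Helper14.InsepP1
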