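import Mathlib
import Groth.Prelude.Def_Smoothing
import Groth.Agent.Lib.Helper14.InsepN
import Groth.Agent.Lib.Helper14.InsepP1

/-!
# Assembly of the inseparable case from the local data, part II (helper14)
-/

set_option autoImplicit false

namespace Groth.Agent.Lib.Helper14.InsepP

open MvPolynomial Smoothing TensorProduct
open Groth.Agent.Lib.Helper27.SepB
open Groth.Agent.Lib.Helper14.InsepM (JP γ)
open Groth.Agent.Lib.Helper6.AnnStable (Jt)
open Groth.Agent.Lib.Helper14.InsepN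

universe u

set_option maxHeartbeats 6400000 in
theorem main_of_data {k A Λ : Type u} [Field k] [CommRing A] [Algebra k A]
    [Algebra.FinitePresentation k A] [CommRing Λ] [Algebra k Λ] [IsNoetherianRing Λ]
    (φ : A →ₐ[k] Λ) (𝔮 : Ideal Λ) [𝔮.IsPrime]
    {r : ℕ} (a : Fin r → A) (ha : Ideal.span (Set.range a) = singularIdeal k A)
    (d : ℕ) (hd0 : 0 < d) (N₀ : ℕ)
    {C : Type u} [CommRing C] [Algebra (Bq d N₀ a) C] [Algebra (MvPolynomial (Fin d) k) C]
    [IsScalarTower (MvPolynomial (Fin d) k) (Bq d N₀ a) C]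
    [Algebra.FinitePresentation (MvPolynomial (Fin d) k) C]
    (ρ : C →ₐ[Bq d N₀ a] Bq d N₀ a)
    (hCsing : ∀ j, algebraMap (Bq d N₀ a) C (algebraMap A (Bq d N₀ a) (a j)) ∈
        singularIdeal (MvPolynomial (Fin d) k) C)
    (c : ℕ) (hc : 1 ≤ c)
    (hstd : ∀ i : Fin d, IsStrictlyStandard (MvPolynomial (Fin d) k) C
        (algebraMap (MvPolynomial (Fin d) k) C (X i ^ c)))
    {P : Type u} [CommRing P] [Algebra k P] [IsNoetherianRing P] [Algebra.Smooth k P]
    (ψ₀ : P →ₐ[k] Λ) (n : ℕ)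
    {Pn D : Type u} [CommRing Pn] [CommRing D] [Algebra P Pn]
    [Algebra Pn D]
    (hPn_lift : ∀ (W : Type u) [CommRing W] (f : P →+* W),
      (∀ x, ψ₀ x ∉ 𝔮 → IsUnit (f x)) → (∀ x ∈ (𝔮.comap ψ₀.toRingHom) ^ n, f x = 0) →
      ∃ pw : Pn →+* W, ∀ x, pw (algebraMap P Pn x) = f x)
    (hPn_ext : ∀ (T : Type u) [CommRing T] (f₁ f₂ : Pn →+* T),
      (∀ x, f₁ (algebraMap P Pn x) =
        f₂ (algebraMap P Pn x)) → f₁ = f₂)
    (hind : IndSmooth Pn D)
    (ιD : D →+* Localization.AtPrime 𝔮 ⧸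
      IsLocalRing.maximalIdeal (Localization.AtPrime 𝔮) ^ n)
    (hcompat : ∀ f : P,
      ιD (algebraMap Pn D (algebraMap P Pn f)) =
        Ideal.Quotient.mk _ (algebraMap Λ (Localization.AtPrime 𝔮) (ψ₀ f)))
    (hn : d * (c * 8) + 1 ≤ n)
    (g : Fin d → P) (hg_mem : ∀ i, ψ₀ (g i) ∈ 𝔮)
    (hg_gen : ∀ f : P, ψ₀ f ∈ 𝔮 →
      ∃ s : P, ψ₀ s ∉ 𝔮 ∧ s * f ∈ Ideal.span (Set.range g))
    (hg_ann : ∀ (i : Fin d) (T : Set (Fin d)), (∀ j ∈ T, (j : ℕ) < (i : ℕ)) →
      ∀ y, g i ^ 2 * y ∈ JP g (c * 8) T → g i * y ∈ JP g (c * 8) T)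
    (δ : Fin d → Λ) (hδ : ∀ i, δ i ∉ 𝔮)
    (hgen : Ideal.span (Set.range fun i =>
        algebraMap Λ (Localization.AtPrime 𝔮) (δ i * ψ₀ (g i))) =
      IsLocalRing.maximalIdeal (Localization.AtPrime 𝔮))
    (hΛ_ann : ∀ (i : Fin d) (x : Λ),
      (δ i * ψ₀ (g i)) ^ 2 * x ∈ Jt (c * 8) (fun i => δ i * ψ₀ (g i)) i →
        (δ i * ψ₀ (g i)) * x ∈ Jt (c * 8) (fun i => δ i * ψ₀ (g i)) i)
    (l : Fin d → Fin r → Λ) (hl : ∀ i, (δ i * ψ₀ (g i)) ^ N₀ = ∑ j, φ (a j) * l i j)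
    (ψD : A →+* D)
    (hψDk : ∀ c' : k, ψD (algebraMap k A c') =
      algebraMap Pn D (algebraMap P Pn (algebraMap k P c')))
    (hψD : ∀ x, ιD (ψD x) =
      Ideal.Quotient.mk _ (algebraMap Λ (Localization.AtPrime 𝔮) (φ x)))
    (μ : Fin d → Fin r → D)
    (hμ : ∀ i, (algebraMap Pn D (algebraMap P Pn (g i))) ^ N₀ =
      ∑ j, ψD (a j) * μ i j)
    (hμl : ∀ i j, ∃ μ' : Localization.AtPrime 𝔮, Ideal.Quotient.mk _ μ' = ιD (μ i j) ∧
      algebraMap Λ (Localization.AtPrime 𝔮) (l i j) -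
        algebraMap Λ (Localization.AtPrime 𝔮) (δ i) ^ N₀ * μ' ∈
          IsLocalRing.maximalIdeal (Localization.AtPrime 𝔮) ^ (d * (c * 8) + 1)) :
    Resolvable k φ 𝔮 := by
  classical
  let kx := MvPolynomial (Fin d) k
  let R := MvPolynomial (Fin d) P
  let S := Localization.AtPrime 𝔮
  let B := Bq d N₀ a
  set e : ℕ := c * 8 with he
  have he1 : 1 ≤ e := by omega
  set π' : Fin d → Λ := fun i => δ i * ψ₀ (g i) with hπ'
  have hπ'𝔮 : ∀ i, π' i ∈ 𝔮 := fun i => Ideal.mul_mem_left _ _ (hg_mem i)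
  -- instances
  letI algPΛ : Algebra P Λ := ψ₀.toRingHom.toAlgebra
  haveI : IsScalarTower k P Λ := IsScalarTower.of_algebraMap_eq fun c' => (ψ₀.commutes c').symm
  have hPΛ : ∀ f : P, algebraMap P Λ f = ψ₀ f := fun _ => rfl
  let ψ : R →ₐ[P] Λ := aeval δ
  letI algRΛ : Algebra R Λ := ψ.toRingHom.toAlgebra
  haveI : IsScalarTower P R Λ := IsScalarTower.of_algebraMap_eq fun f => (ψ.commutes f).symm
  haveI : IsScalarTower k R Λ := IsScalarTower.of_algebraMap_eq fun c' => by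
    rw [IsScalarTower.algebraMap_apply k P R, ← IsScalarTower.algebraMap_apply P R Λ,
      ← IsScalarTower.algebraMap_apply k P Λ]
  have hRX : ∀ i, algebraMap R Λ (X i) = δ i := fun i => aeval_X δ i
  have hRC : ∀ f : P, algebraMap R Λ (MvPolynomial.C f) = ψ₀ f := fun f => by
    show ψ (MvPolynomial.C f) = _
    rw [← MvPolynomial.algebraMap_eq, AlgHom.commutes]
    rfl
  have hγ : ∀ i, algebraMap R Λ (γ g i) = π' i := fun i => by
    show algebraMap R Λ (X i * MvPolynomial.C (g i)) = _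
    rw [map_mul, hRX, hRC]
  letI algkxR : Algebra kx R := (aeval (γ g) : kx →ₐ[k] R).toRingHom.toAlgebra
  haveI : IsScalarTower k kx R := IsScalarTower.of_algebraMap_eq fun c' =>
    ((aeval (γ g) : kx →ₐ[k] R).commutes c').symm
  have hkxX : ∀ i, algebraMap kx R (X i) = γ g i := fun i => aeval_X _ i
  letI algkxΛ : Algebra kx Λ := ((algebraMap R Λ).comp (algebraMap kx R)).toAlgebra
  haveI : IsScalarTower kx R Λ := IsScalarTower.of_algebraMap_eq fun _ => rfl
  haveI : IsScalarTower k kx Λ := IsScalarTower.of_algebraMap_eq fun c' => by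
    show algebraMap k Λ c' = algebraMap R Λ (algebraMap kx R (algebraMap k kx c'))
    rw [← IsScalarTower.algebraMap_apply k kx R, ← IsScalarTower.algebraMap_apply k R Λ]
  have hkxΛX : ∀ i, algebraMap kx Λ (X i) = π' i := fun i => by
    show algebraMap R Λ (algebraMap kx R (X i)) = _
    rw [hkxX, hγ]
  have hrel : ∀ i, algebraMap kx Λ (X i) ^ N₀ =
      ∑ j, φ (a j) * (fun p : Fin d × Fin r => l p.1 p.2) (i, j) := fun i => by
    rw [hkxΛX]; exact hl i
  let hB : B →ₐ[kx] Λ := liftB N₀ a φ (fun p => l p.1 p.2) hrel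
  have hBA : ∀ x : A, hB (algebraMap A B x) = φ x := fun x =>
    lift₁_algebraMap_A N₀ a φ _ hrel x
  have hBz : ∀ i j, hB (zb N₀ a i j) = l i j := fun i j => lift₁_zb N₀ a φ _ hrel i j
  let φC : C →ₐ[kx] Λ := hB.comp (ρ.restrictScalars kx)
  let CR := R ⊗[kx] C
  let φCR : CR →ₐ[R] Λ :=
    Algebra.TensorProduct.lift (Algebra.ofId R Λ) φC (fun _ _ => Commute.all _ _)
  have hφCR : ∀ (x : R) (c₁ : C), φCR (x ⊗ₜ c₁) = algebraMap R Λ x * hB (ρ c₁) := fun _ _ => rfl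
  haveI : Algebra.Smooth P R := ⟨inferInstance, inferInstance⟩
  haveI : Algebra.Smooth k R := Algebra.Smooth.comp k P R
  -- descend to `R`
  let ι : A →+* CR := (Algebra.TensorProduct.includeRight : C →ₐ[kx] CR).toRingHom.comp
    ((algebraMap B C).comp (algebraMap A B))
  have hιapp : ∀ x : A, ι x = (1 : R) ⊗ₜ[kx] algebraMap B C (algebraMap A B x) := fun _ => rfl
  have hι : ∀ c' : k, ι (algebraMap k A c') = algebraMap R CR (algebraMap k R c') := by
    intro c'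
    rw [hιapp, ← IsScalarTower.algebraMap_apply k A B, IsScalarTower.algebraMap_apply k kx B,
      ← IsScalarTower.algebraMap_apply kx B C, IsScalarTower.algebraMap_apply k kx R,
      Algebra.TensorProduct.algebraMap_apply, Algebra.algebraMap_eq_smul_one (A := C),
      ← TensorProduct.smul_tmul, ← Algebra.algebraMap_eq_smul_one]
    rfl
  have hcomp : ∀ x, φCR (ι x) = φ x := by
    intro x
    rw [hιapp, hφCR, map_one, one_mul, AlgHom.commutes, Algebra.algebraMap_self, RingHom.id_apply,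
      hBA]
  have hsing : ∀ x ∈ singularIdeal k A, ι x ∈ singularIdeal R CR := by
    intro x hx
    rw [← ha] at hx
    have hle : Ideal.span (Set.range a) ≤ (singularIdeal R CR).comap ι := by
      rw [Ideal.span_le]
      rintro _ ⟨j, rfl⟩
      rw [SetLike.mem_coe, Ideal.mem_comap, hιapp]
      exact tmul_mem_singularIdeal _ (hCsing j)
    exact hle hx
  refine Groth.Agent.Lib.Helper27.SepH.resolvable_descend (R := R) (C := CR) φ ι hι φCR hcomp 𝔮
    hsing ?_
  -- the reduction modulo `K`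
  let K : Ideal R := Ideal.span (Set.range fun i => (γ g i ^ c) ^ 8)
  obtain ⟨φK, hφK⟩ := Groth.Agent.Lib.Helper27.SepH.exists_quotient_map (R := R) (C := CR) (Λ := Λ) φCR K
  refine Groth.Agent.S6822.result φCR 𝔮 hd0 (fun i => γ g i ^ c) ?_ ?_ ?_ ?_ K rfl φK hφK ?_
  · intro i
    rw [map_pow, hγ]
    exact Ideal.pow_mem_of_mem 𝔮 (hπ'𝔮 i) c (by omega)
  · intro i x hx
    exact ann_quot (Groth.Agent.Lib.Helper14.InsepM.J g e i) (γ g i)
      (Groth.Agent.Lib.Helper14.InsepM.ann_γ g e i (hg_ann i)) c hc _ (by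
        unfold Groth.Agent.Lib.Helper14.InsepM.J
        congr 2
        funext j
        rw [← pow_mul]) x hx
  · intro i x hx
    have hJ : Ideal.span (Set.range fun j : {j : Fin d // (j : ℕ) < (i : ℕ)} =>
        algebraMap R Λ (γ g j ^ c) ^ 8) = Jt e π' i := by
      unfold Jt
      congr 2
      funext j
      rw [map_pow, hγ, ← pow_mul]
    have h1 : algebraMap R Λ (γ g i ^ c) = π' i ^ c := by rw [map_pow, hγ]
    rw [h1] at hx ⊢
    exact ann_quot (Jt e π' i) (π' i) (hΛ_ann i) c hc _ hJ x hx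
  · intro i
    have h1 : algebraMap R CR (γ g i ^ c) = (1 : R) ⊗ₜ[kx] algebraMap kx C (X i ^ c) := by
      rw [Algebra.TensorProduct.algebraMap_apply, Algebra.algebraMap_self, RingHom.id_apply,
        ← hkxX, ← map_pow, Algebra.algebraMap_eq_smul_one (A := C), ← TensorProduct.smul_tmul,
        ← Algebra.algebraMap_eq_smul_one]
    rw [h1]
    exact (Groth.Agent.S6829.result (R := kx) (A := C) (R' := R) _).2 (hstd i)
  · exact Groth.Agent.Lib.Helper14.InsepP1.reduced_step φ 𝔮 a d N₀ ρ c hc ψ₀ n hPn_lift hPn_ext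
      hind ιD hcompat hn g hg_mem hg_gen δ hδ hgen l (R := R) (fun i => X i) hRX hRC hkxX hB hBA
      hBz ψD hψDk hψD μ hμ hμl K rfl φK (fun x c₁ => by rw [hφK, hφCR])

end Groth.Agent.Lib.Helper14.InsepP
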