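import Mathlib
import Groth.Prelude.Def_Smoothing
import Groth.Prelude.Def_Found
import Groth.Agent.Lib.Helper14.InsepE
import Groth.Agent.Lib.Helper14.GeomReducedFin
import Groth.Agent.Lib.Helper9.RegLocal
import Groth.Agent.Lib.Helper26.GenSmoothRed
import Groth.Agent.Lib.Helper27.SepE

/-!
# Auxiliary lemmas for the global part of the inseparable case (helper14)
-/

set_option autoImplicit false

namespace Groth.Agent.Lib.Helper14.InsepQ1

open Smoothing TensorProduct
open Groth.Agent.Lib.Helper6.AnnStable Groth.Agent.Lib.Helper14.InsepM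

universe u

section rsop

variable {Λ : Type u} [CommRing Λ] [IsNoetherianRing Λ] (q : Ideal Λ) [q.IsPrime]
  [IsRegularLocalRing (Localization.AtPrime q)]

/-- a regular system of parameters of `Λ_q` coming from `Λ` -/
theorem exists_rsop {d : ℕ} (hd : ringKrullDim (Localization.AtPrime q) = d) :
    ∃ π₀ : Fin d → Λ, (∀ i, π₀ i ∈ q) ∧
      Ideal.span (Set.range fun i => algebraMap Λ (Localization.AtPrime q) (π₀ i)) =
        IsLocalRing.maximalIdeal (Localization.AtPrime q) := by
  classical
  obtain ⟨x, hx, -⟩ := Groth.Agent.Lib.Helper4.RegCM.exists_regular_system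
    (Localization.AtPrime q) d hd
  choose a ha using fun i => IsLocalization.surj q.primeCompl (x i)
  have hgen0 : Ideal.span (Set.range fun i =>
      algebraMap Λ (Localization.AtPrime q) (a i).1) =
      IsLocalRing.maximalIdeal (Localization.AtPrime q) := by
    rw [← hx]
    apply span_range_unit_mul
    intro i
    refine ⟨algebraMap Λ (Localization.AtPrime q) ((a i).2 : Λ),
      IsLocalization.map_units _ (a i).2, ?_⟩
    rw [← ha i, mul_comm]
  refine ⟨fun i => (a i).1, fun i => ?_, hgen0⟩
  rw [← IsLocalization.AtPrime.to_map_mem_maximal_iff (Localization.AtPrime q) q, ← hgen0]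
  exact Ideal.subset_span ⟨i, rfl⟩

/-- a regular system of parameters satisfying the annihilator conditions modulo all
sub-collections -/
theorem exists_good_rsop {d : ℕ} (hd : ringKrullDim (Localization.AtPrime q) = d) (e : ℕ)
    (he : 0 < e) :
    ∃ g : Fin d → Λ, (∀ i, g i ∈ q) ∧
      Ideal.span (Set.range fun i => algebraMap Λ (Localization.AtPrime q) (g i)) =
        IsLocalRing.maximalIdeal (Localization.AtPrime q) ∧
      ∀ i : Fin d, ∀ T : Set (Fin d), (∀ j ∈ T, (j : ℕ) < (i : ℕ)) →
        ∀ y, g i ^ 2 * y ∈ JP g e T → g i * y ∈ JP g e T := by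
  obtain ⟨π₀, hπ₀, hgen⟩ := exists_rsop q hd
  obtain ⟨τ, hτ, hann⟩ := Groth.Agent.Lib.Helper14.InsepE.exists_multipliers q hd e he π₀ hgen
  refine ⟨fun i => τ i * π₀ i, fun i => Ideal.mul_mem_left _ _ (hπ₀ i), ?_, hann⟩
  rw [← hgen]
  apply span_range_unit_mul
  intro i
  exact ⟨algebraMap Λ (Localization.AtPrime q) (τ i),
    IsLocalization.map_units _ (⟨τ i, hτ i⟩ : q.primeCompl), by rw [map_mul]⟩

end rsop

section gen

variable {Λ : Type u} [CommRing Λ] (q : Ideal Λ) [q.IsPrime]

/-- elements of `q` are, up to a multiplier outside `q`, combinations of local generators -/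
theorem exists_mul_mem_span {d : ℕ} (g : Fin d → Λ)
    (hgen : Ideal.span (Set.range fun i => algebraMap Λ (Localization.AtPrime q) (g i)) =
      IsLocalRing.maximalIdeal (Localization.AtPrime q)) (f : Λ) (hf : f ∈ q) :
    ∃ s : Λ, s ∉ q ∧ s * f ∈ Ideal.span (Set.range g) := by
  have h1 : algebraMap Λ (Localization.AtPrime q) f ∈
      (Ideal.span (Set.range g)).map (algebraMap Λ (Localization.AtPrime q)) := by
    rw [Ideal.map_span, ← Set.range_comp]
    show _ ∈ Ideal.span (Set.range fun i => algebraMap Λ (Localization.AtPrime q) (g i))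
    rw [hgen]
    exact (IsLocalization.AtPrime.to_map_mem_maximal_iff (Localization.AtPrime q) q f).mpr hf
  obtain ⟨s, hs, hsf⟩ := (IsLocalization.algebraMap_mem_map_algebraMap_iff q.primeCompl
    (Localization.AtPrime q) _ _).mp h1
  exact ⟨s, hs, hsf⟩

end gen

section PnSec

variable {P : Type u} [CommRing P] (pp : Ideal P) [pp.IsPrime] (n : ℕ)

local notation "Pn" => Localization.AtPrime pp ⧸
  IsLocalRing.maximalIdeal (Localization.AtPrime pp) ^ n

theorem Pn_lift {W : Type u} [CommRing W] (f : P →+* W) (hunit : ∀ x, x ∉ pp → IsUnit (f x))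
    (hkill : ∀ x ∈ pp ^ n, f x = 0) :
    ∃ pw : Pn →+* W, ∀ x, pw (algebraMap P Pn x) = f x := by
  have hu : ∀ y : pp.primeCompl, IsUnit (f y) := fun y => hunit y y.2
  let f₁ : Localization.AtPrime pp →+* W := IsLocalization.lift hu
  have hf₁ : ∀ x, f₁ (algebraMap P (Localization.AtPrime pp) x) = f x :=
    fun x => IsLocalization.lift_eq hu x
  have hker : ∀ y ∈ IsLocalRing.maximalIdeal (Localization.AtPrime pp) ^ n, f₁ y = 0 := by
    intro y hy
    rw [← Localization.AtPrime.map_eq_maximalIdeal, ← Ideal.map_pow] at hy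
    have hle : (pp ^ n).map (algebraMap P (Localization.AtPrime pp)) ≤ RingHom.ker f₁ := by
      rw [Ideal.map_le_iff_le_comap]
      intro x hx
      rw [Ideal.mem_comap, RingHom.mem_ker, hf₁]
      exact hkill x hx
    exact hle hy
  refine ⟨Ideal.Quotient.lift _ f₁ hker, fun x => ?_⟩
  rw [IsScalarTower.algebraMap_apply P (Localization.AtPrime pp) Pn]
  show Ideal.Quotient.lift _ f₁ hker (Ideal.Quotient.mk _ _) = _
  rw [Ideal.Quotient.lift_mk, hf₁]

theorem Pn_ext {T : Type u} [CommRing T] (f₁ f₂ : Pn →+* T)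
    (h : ∀ x, f₁ (algebraMap P Pn x) = f₂ (algebraMap P Pn x)) : f₁ = f₂ := by
  apply Ideal.Quotient.ringHom_ext
  apply IsLocalization.ringHom_ext pp.primeCompl
  ext x
  exact h x

end PnSec

section red

/-- a regular ring is reduced -/
theorem isReduced_of_isRegularRing (R : Type u) [CommRing R] [IsRegularRing R] : IsReduced R := by
  apply Groth.Agent.Lib.Helper14.GeomReducedFin.isReduced_of_forall_isDomain
  intro p _
  exact Groth.Agent.Lib.Helper9.RegLocal.isDomain_of_isRegularLocalRing _

theorem isGeometricallyReduced_of_isGeometricallyRegular (k Λ : Type u) [Field k] [CommRing Λ]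
    [Algebra k Λ] (h : CAlg.IsGeometricallyRegular k Λ) : Algebra.IsGeometricallyReduced k Λ := by
  apply Groth.Agent.Lib.Helper14.GeomReducedFin.isGeometricallyReduced_of_forall_finite
  intro k' _ _ hfin
  haveI := h k' hfin
  exact isReduced_of_isRegularRing _

theorem isRegularRing_of_isGeometricallyRegular (k Λ : Type u) [Field k] [CommRing Λ]
    [Algebra k Λ] (h : CAlg.IsGeometricallyRegular k Λ) : IsRegularRing Λ := by
  haveI := h k (Module.Finite.self k)
  exact IsRegularRing.of_ringEquiv (Algebra.TensorProduct.lid k Λ).toRingEquiv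

/-- the zero-dimensional case -/
theorem zero_case {k A Λ : Type u} [Field k] [CommRing A] [Algebra k A]
    [Algebra.FinitePresentation k A] [CommRing Λ] [Algebra k Λ] [IsNoetherianRing Λ]
    (hreg : CAlg.IsGeometricallyRegular k Λ)
    (φ : A →ₐ[k] Λ) (𝔮 : Ideal Λ) [𝔮.IsPrime]
    [IsRegularLocalRing (Localization.AtPrime 𝔮)]
    (hd : ringKrullDim (Localization.AtPrime 𝔮) = 0) : Resolvable k φ 𝔮 := by
  let S := Localization.AtPrime 𝔮
  have hfin : (Submodule.spanFinrank (IsLocalRing.maximalIdeal S) : WithBot ℕ∞) = 0 := by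
    rw [IsRegularLocalRing.spanFinrank_maximalIdeal]
    exact hd
  have hbot : IsLocalRing.maximalIdeal S = ⊥ := by
    rw [← Submodule.spanFinrank_eq_zero_iff_eq_bot (IsNoetherian.noetherian _)]
    exact_mod_cast hfin
  have hfield : IsField S := IsLocalRing.isField_iff_maximalIdeal_eq.mpr hbot
  haveI := isGeometricallyReduced_of_isGeometricallyRegular k Λ hreg
  haveI : Algebra.IsGeometricallyReduced k S :=
    Groth.Agent.Lib.Helper26.GenSmoothRed.isGeometricallyReduced_of_isLocalization k Λ S
      𝔮.primeCompl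
  have hind : IndSmooth k S := Groth.Agent.Lib.Helper27.SepE.indSmooth_of_isField hfield
  refine Groth.Agent.Lib.Helper27.SepE.resolvable_of_indSmooth_loc (Λq := S) φ 𝔮 hd ?_ hind
  intro r hr
  refine IsUnit.mk0 _ ?_
  rintro rfl
  exact hr (by rw [map_zero]; exact 𝔮.zero_mem)

end red

end Groth.Agent.Lib.Helper14.InsepQ1
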