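import Mathlib
import Groth.Prelude.Def_Smoothing
import Groth.Agent.Lib.Helper14.InsepP
import Groth.Agent.Lib.Helper14.InsepQ1

/-!
# The inseparable case from the output of the local lemma (helper14)
-/

set_option autoImplicit false

namespace Groth.Agent.Lib.Helper14.InsepQ2

open MvPolynomial Smoothing TensorProduct
open Groth.Agent.Lib.Helper27.SepB
open Groth.Agent.Lib.Helper14.InsepM (JP γ)
open Groth.Agent.Lib.Helper6.AnnStable (Jt span_range_unit_mul)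

universe u

set_option maxHeartbeats 3200000 in
theorem main_of_local {k A Λ : Type u} [Field k] [CommRing A] [Algebra k A]
    [Algebra.FinitePresentation k A] [CommRing Λ] [Algebra k Λ] [IsNoetherianRing Λ]
    (φ : A →ₐ[k] Λ) (𝔮 : Ideal Λ) [𝔮.IsPrime]
    [IsRegularLocalRing (Localization.AtPrime 𝔮)]
    {r : ℕ} (a : Fin r → A) (ha : Ideal.span (Set.range a) = singularIdeal k A)
    (d : ℕ) (hd0 : 0 < d) (hd : ringKrullDim (Localization.AtPrime 𝔮) = d)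
    (N₀ : ℕ) (hN₀ : 0 < N₀)
    (hpow : (𝔮 ^ N₀).map (algebraMap Λ (Localization.AtPrime 𝔮)) ≤
      (Ideal.span (Set.range fun j => φ (a j))).map (algebraMap Λ (Localization.AtPrime 𝔮)))
    {C : Type u} [CommRing C] [Algebra (Bq d N₀ a) C] [Algebra (MvPolynomial (Fin d) k) C]
    [IsScalarTower (MvPolynomial (Fin d) k) (Bq d N₀ a) C]
    [Algebra.FinitePresentation (MvPolynomial (Fin d) k) C]
    (ρ : C →ₐ[Bq d N₀ a] Bq d N₀ a)
    (hCsing : ∀ j, algebraMap (Bq d N₀ a) C (algebraMap A (Bq d N₀ a) (a j)) ∈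
        singularIdeal (MvPolynomial (Fin d) k) C)
    (c : ℕ) (hc : 1 ≤ c)
    (hstd : ∀ i : Fin d, IsStrictlyStandard (MvPolynomial (Fin d) k) C
        (algebraMap (MvPolynomial (Fin d) k) C (X i ^ c)))
    {P : Type u} [CommRing P] [Algebra k P] [IsNoetherianRing P] [IsRegularRing P]
    [Algebra.Smooth k P]
    (ψ₀ : P →ₐ[k] Λ) (n : ℕ) (hn : n = N₀ + (d * (c * 8) + 1))
    (hdimP : ringKrullDim (Localization.AtPrime (𝔮.comap ψ₀.toRingHom)) = d)
    (hmax : (𝔮.comap ψ₀.toRingHom).map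
        ((algebraMap Λ (Localization.AtPrime 𝔮)).comp ψ₀.toRingHom) =
      IsLocalRing.maximalIdeal (Localization.AtPrime 𝔮))
    {Pn D : Type u} [CommRing Pn] [CommRing D] [Algebra P Pn]
    [Algebra Pn D]
    (hPn_lift : ∀ (W : Type u) [CommRing W] (f : P →+* W),
      (∀ x, ψ₀ x ∉ 𝔮 → IsUnit (f x)) → (∀ x ∈ (𝔮.comap ψ₀.toRingHom) ^ n, f x = 0) →
      ∃ pw : Pn →+* W, ∀ x, pw (algebraMap P Pn x) = f x)
    (hPn_ext : ∀ (T : Type u) [CommRing T] (f₁ f₂ : Pn →+* T),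
      (∀ x, f₁ (algebraMap P Pn x) =
        f₂ (algebraMap P Pn x)) → f₁ = f₂)
    (hind : IndSmooth Pn D)
    [IsLocalRing D]
    (ιD : D →+* Localization.AtPrime 𝔮 ⧸
      IsLocalRing.maximalIdeal (Localization.AtPrime 𝔮) ^ n)
    (hιD_inj : Function.Injective ιD) (hflat : ιD.Flat) [hloc : IsLocalHom ιD]
    (hcompat : ∀ f : P,
      ιD (algebraMap Pn D (algebraMap P Pn f)) =
        Ideal.Quotient.mk _ (algebraMap Λ (Localization.AtPrime 𝔮) (ψ₀ f)))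
    (hφD : ∀ x : A, ∃ y : D,
      ιD y = Ideal.Quotient.mk _ (algebraMap Λ (Localization.AtPrime 𝔮) (φ x))) :
    Resolvable k φ 𝔮 := by
  classical
  let S := Localization.AtPrime 𝔮
  let 𝔪 := IsLocalRing.maximalIdeal S
  let pp : Ideal P := 𝔮.comap ψ₀.toRingHom
  have he0 : 0 < c * 8 := by omega
  have hmem_pp : ∀ f : P, f ∈ pp ↔ ψ₀ f ∈ 𝔮 := fun f => Iff.rfl
  -- parameters on the `P`-side
  obtain ⟨g, hg_pp, hg_genP, hg_ann⟩ :=
    Groth.Agent.Lib.Helper14.InsepQ1.exists_good_rsop pp hdimP (c * 8) he0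
  have hg_mem : ∀ i, ψ₀ (g i) ∈ 𝔮 := fun i => hg_pp i
  have hg_gen : ∀ f : P, ψ₀ f ∈ 𝔮 → ∃ s : P, ψ₀ s ∉ 𝔮 ∧ s * f ∈ Ideal.span (Set.range g) :=
    fun f hf => Groth.Agent.Lib.Helper14.InsepQ1.exists_mul_mem_span pp g hg_genP f hf
  -- the images generate the maximal ideal of `S`
  let p₀ : Fin d → S := fun i => algebraMap Λ S (ψ₀ (g i))
  have hp₀_mem : ∀ i, p₀ i ∈ 𝔪 := fun i =>
    (IsLocalization.AtPrime.to_map_mem_maximal_iff S 𝔮 _).mpr (hg_mem i)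
  have hgen₀ : Ideal.span (Set.range p₀) = 𝔪 := by
    apply le_antisymm
    · rw [Ideal.span_le]
      rintro _ ⟨i, rfl⟩
      exact hp₀_mem i
    · show IsLocalRing.maximalIdeal (Localization.AtPrime 𝔮) ≤ _
      rw [← hmax, Ideal.map_le_iff_le_comap]
      intro f hf
      obtain ⟨s, hs, hsf⟩ := hg_gen f hf
      rw [Ideal.mem_comap]
      have h1 : ((algebraMap Λ S).comp ψ₀.toRingHom) (s * f) ∈ Ideal.span (Set.range p₀) := by
        have h2 : Ideal.span (Set.range g) ≤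
            (Ideal.span (Set.range p₀)).comap ((algebraMap Λ S).comp ψ₀.toRingHom) := by
          rw [Ideal.span_le]
          rintro _ ⟨i, rfl⟩
          exact Ideal.subset_span ⟨i, rfl⟩
        exact h2 hsf
      rw [map_mul] at h1
      have hu : IsUnit (((algebraMap Λ S).comp ψ₀.toRingHom) s) :=
        IsLocalization.map_units S (⟨ψ₀ s, hs⟩ : 𝔮.primeCompl)
      obtain ⟨u, hu⟩ := hu
      have h3 : ((algebraMap Λ S).comp ψ₀.toRingHom) f =
          (↑u⁻¹ : S) * (((algebraMap Λ S).comp ψ₀.toRingHom) s *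
            ((algebraMap Λ S).comp ψ₀.toRingHom) f) := by
        rw [← hu, ← mul_assoc, Units.inv_mul, one_mul]
      rw [h3]
      exact Ideal.mul_mem_left _ _ h1
  -- the map `A → D`
  let fA : A →+* S ⧸ 𝔪 ^ n := (Ideal.Quotient.mk _).comp ((algebraMap Λ S).comp φ.toRingHom)
  let eD : D ≃+* ιD.range :=
    RingEquiv.ofBijective ιD.rangeRestrict ⟨fun x y hxy => hιD_inj (by
      have := congrArg Subtype.val hxy
      exact this), ιD.rangeRestrict_surjective⟩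
  have heD : ∀ y : ιD.range, ιD (eD.symm y) = y.1 := by
    intro y
    have h1 : eD (eD.symm y) = y := eD.apply_symm_apply y
    have h2 : (eD (eD.symm y)).1 = ιD (eD.symm y) := rfl
    rw [← h2, h1]
  let fA' : A →+* ιD.range := fA.codRestrict ιD.range (fun x => by
    obtain ⟨y, hy⟩ := hφD x
    exact ⟨y, hy⟩)
  let ψD : A →+* D := eD.symm.toRingHom.comp fA'
  have hψD : ∀ x, ιD (ψD x) = Ideal.Quotient.mk _ (algebraMap Λ S (φ x)) := by
    intro x
    show ιD (eD.symm (fA' x)) = _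
    rw [heD]
    rfl
  have hψDk : ∀ c' : k, ψD (algebraMap k A c') =
      algebraMap Pn D (algebraMap P Pn (algebraMap k P c')) := by
    intro c'
    apply hιD_inj
    rw [hψD, hcompat, AlgHom.commutes, AlgHom.commutes]
  -- the relations in `D`
  have hpow' : 𝔪 ^ N₀ ≤ Ideal.span (Set.range fun j => algebraMap Λ S (φ (a j))) := by
    have h1 := hpow
    rw [Ideal.map_pow, Localization.AtPrime.map_eq_maximalIdeal, Ideal.map_span,
      ← Set.range_comp] at h1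
    exact h1
  have hNn : N₀ ≤ n := by omega
  have hn1 : 1 ≤ n := by omega
  haveI : Nontrivial (S ⧸ 𝔪 ^ n) := by
    apply Ideal.Quotient.nontrivial_iff.mpr
    intro htop
    have h1 : 𝔪 ^ n ≤ 𝔪 := Ideal.pow_le_self (by omega)
    rw [htop] at h1
    exact (IsLocalRing.maximalIdeal.isMaximal S).ne_top (top_le_iff.mp h1)
  haveI : IsLocalRing (S ⧸ 𝔪 ^ n) :=
    IsLocalRing.of_surjective' (Ideal.Quotient.mk (𝔪 ^ n)) Ideal.Quotient.mk_surjective
  let xg : Fin d → D := fun i => algebraMap Pn D (algebraMap P Pn (g i))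
  have hxg : ∀ i, ιD (xg i) = Ideal.Quotient.mk _ (p₀ i) := fun i => hcompat (g i)
  have hμ_ex : ∀ i, ∃ μi : Fin r → D, xg i ^ N₀ = ∑ j, ψD (a j) * μi j := by
    intro i
    letI := ιD.toAlgebra
    haveI : Module.Flat D (S ⧸ 𝔪 ^ n) := hflat
    haveI : IsLocalHom (algebraMap D (S ⧸ 𝔪 ^ n)) := hloc
    have h1 : xg i ^ N₀ ∈ Ideal.span (Set.range fun j => ψD (a j)) := by
      apply Groth.Agent.Lib.Helper14.InsepL.mem_of_map_mem_of_flat_local (T := S ⧸ 𝔪 ^ n)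
      show ιD (xg i ^ N₀) ∈ (Ideal.span (Set.range fun j => ψD (a j))).map ιD
      rw [Ideal.map_span, ← Set.range_comp, map_pow, hxg, ← map_pow]
      have h2 : p₀ i ^ N₀ ∈ Ideal.span (Set.range fun j => algebraMap Λ S (φ (a j))) :=
        hpow' (Ideal.pow_mem_pow (hp₀_mem i) N₀)
      have h3 := Ideal.mem_map_of_mem (Ideal.Quotient.mk (𝔪 ^ n)) h2
      rw [Ideal.map_span, ← Set.range_comp] at h3
      convert h3 using 3
      funext j
      exact hψD (a j)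
    obtain ⟨μi, hμi⟩ := Ideal.mem_span_range_iff_exists_fun.mp h1
    exact ⟨μi, by rw [← hμi]; exact Finset.sum_congr rfl fun j _ => mul_comm _ _⟩
  choose μ hμ using hμ_ex
  have hμ'_ex : ∀ i j, ∃ μ' : S, Ideal.Quotient.mk (𝔪 ^ n) μ' = ιD (μ i j) := fun i j =>
    Ideal.Quotient.mk_surjective _
  choose μ' hμ' using hμ'_ex
  have hrelS : ∀ i, algebraMap Λ S (ψ₀ (g i)) ^ N₀ -
      ∑ j, algebraMap Λ S (φ (a j)) * μ' i j ∈ 𝔪 ^ n := by
    intro i
    rw [← Ideal.Quotient.eq_zero_iff_mem, map_sub, map_pow, map_sum]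
    have h1 : ∀ j, Ideal.Quotient.mk (𝔪 ^ n) (algebraMap Λ S (φ (a j)) * μ' i j) =
        ιD (ψD (a j) * μ i j) := by
      intro j
      rw [map_mul, map_mul, hμ', hψD]
    rw [Finset.sum_congr rfl fun j _ => h1 j, ← map_sum, ← hμ i, map_pow, hxg, sub_self]
  -- global relations
  have hglob : ∀ i, ∃ (σ : Λ) (l₀ : Fin r → Λ), σ ∉ 𝔮 ∧
      σ * ψ₀ (g i) ^ N₀ = ∑ j, φ (a j) * l₀ j ∧
      ∀ j, algebraMap Λ S (l₀ j) - algebraMap Λ S σ * μ' i j ∈ 𝔪 ^ (n - N₀) := fun i =>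
    Groth.Agent.Lib.Helper14.InsepL.exists_global_relation 𝔮 (fun j => φ (a j)) (ψ₀ (g i)) N₀ n
      hNn hpow' (μ' i) (hrelS i)
  choose σ l₀ hσ hσrel hl₀ using hglob
  -- multipliers on the `Λ`-side
  have hgen₁ : Ideal.span (Set.range fun i => algebraMap Λ S (σ i * ψ₀ (g i))) = 𝔪 := by
    rw [← hgen₀]
    apply span_range_unit_mul
    intro i
    exact ⟨algebraMap Λ S (σ i), IsLocalization.map_units S (⟨σ i, hσ i⟩ : 𝔮.primeCompl),
      by rw [map_mul]⟩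
  obtain ⟨τ, hτ, hann⟩ := Groth.Agent.Lib.Helper14.InsepE.exists_multipliers 𝔮 hd (c * 8) he0
    (fun i => σ i * ψ₀ (g i)) hgen₁
  let δ : Fin d → Λ := fun i => τ i * σ i
  have hδ : ∀ i, δ i ∉ 𝔮 := fun i h =>
    (Ideal.IsPrime.mem_or_mem inferInstance h).elim (hτ i) (hσ i)
  have hfun : (fun i => τ i * (σ i * ψ₀ (g i))) = fun i => δ i * ψ₀ (g i) := by
    funext i
    show τ i * (σ i * ψ₀ (g i)) = τ i * σ i * ψ₀ (g i)
    rw [mul_assoc]
  have hann' : ∀ i : Fin d, ∀ T : Set (Fin d), (∀ j ∈ T, (j : ℕ) < (i : ℕ)) →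
      ∀ y, (δ i * ψ₀ (g i)) ^ 2 * y ∈ JP (fun i => δ i * ψ₀ (g i)) (c * 8) T →
        (δ i * ψ₀ (g i)) * y ∈ JP (fun i => δ i * ψ₀ (g i)) (c * 8) T := by
    intro i T hT y hy
    have h1 := hann i T hT y
    rw [hfun] at h1
    have h2 : τ i * (σ i * ψ₀ (g i)) = δ i * ψ₀ (g i) := (mul_assoc _ _ _).symm
    rw [h2] at h1
    exact h1 hy
  have hgen : Ideal.span (Set.range fun i => algebraMap Λ S (δ i * ψ₀ (g i))) = 𝔪 := by
    rw [← hgen₀]
    apply span_range_unit_mul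
    intro i
    exact ⟨algebraMap Λ S (δ i), IsLocalization.map_units S (⟨δ i, hδ i⟩ : 𝔮.primeCompl),
      by rw [map_mul]⟩
  have hΛ_ann : ∀ (i : Fin d) (x : Λ),
      (δ i * ψ₀ (g i)) ^ 2 * x ∈ Jt (c * 8) (fun i => δ i * ψ₀ (g i)) i →
        (δ i * ψ₀ (g i)) * x ∈ Jt (c * 8) (fun i => δ i * ψ₀ (g i)) i := by
    intro i x hx
    rw [← Groth.Agent.Lib.Helper14.InsepE.JP_lt_eq_Jt] at hx ⊢
    exact hann' i {j | (j : ℕ) < (i : ℕ)} (fun j hj => hj) x hx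
  let l : Fin d → Fin r → Λ := fun i j => δ i ^ (N₀ - 1) * τ i * l₀ i j
  have hl : ∀ i, (δ i * ψ₀ (g i)) ^ N₀ = ∑ j, φ (a j) * l i j := by
    intro i
    have h1 : (δ i * ψ₀ (g i)) ^ N₀ = δ i ^ (N₀ - 1) * τ i * (σ i * ψ₀ (g i) ^ N₀) := by
      obtain ⟨N', rfl⟩ : ∃ N', N₀ = N' + 1 := ⟨N₀ - 1, by omega⟩
      show (τ i * σ i * ψ₀ (g i)) ^ (N' + 1) =
        (τ i * σ i) ^ (N' + 1 - 1) * τ i * (σ i * ψ₀ (g i) ^ (N' + 1))
      rw [Nat.add_sub_cancel]
      ring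
    rw [h1, hσrel, Finset.mul_sum]
    exact Finset.sum_congr rfl fun j _ => by ring
  have hμl : ∀ i j, ∃ μ'' : S, Ideal.Quotient.mk _ μ'' = ιD (μ i j) ∧
      algebraMap Λ S (l i j) - algebraMap Λ S (δ i) ^ N₀ * μ'' ∈ 𝔪 ^ (d * (c * 8) + 1) := by
    intro i j
    refine ⟨μ' i j, hμ' i j, ?_⟩
    have hpowδ : algebraMap Λ S (δ i) ^ N₀ =
        algebraMap Λ S (δ i ^ (N₀ - 1) * τ i) * algebraMap Λ S (σ i) := by
      rw [← map_mul, ← map_pow]
      congr 1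
      show (τ i * σ i) ^ N₀ = (τ i * σ i) ^ (N₀ - 1) * τ i * σ i
      rw [mul_assoc, ← pow_succ]
      congr 1
      omega
    have h1 : algebraMap Λ S (l i j) - algebraMap Λ S (δ i) ^ N₀ * μ' i j =
        algebraMap Λ S (δ i ^ (N₀ - 1) * τ i) *
          (algebraMap Λ S (l₀ i j) - algebraMap Λ S (σ i) * μ' i j) := by
      show algebraMap Λ S (δ i ^ (N₀ - 1) * τ i * l₀ i j) - _ = _
      rw [hpowδ, map_mul (algebraMap Λ S) (δ i ^ (N₀ - 1) * τ i) (l₀ i j)]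
      ring
    rw [h1]
    have h2 := hl₀ i j
    have h3 : n - N₀ = d * (c * 8) + 1 := by omega
    rw [h3] at h2
    exact Ideal.mul_mem_left _ _ h2
  exact Groth.Agent.Lib.Helper14.InsepP.main_of_data φ 𝔮 a ha d hd0 N₀ ρ hCsing c hc hstd ψ₀ n
    hPn_lift hPn_ext hind ιD hcompat (by omega) g hg_mem hg_gen hg_ann δ hδ hgen hΛ_ann l hl ψD
    hψDk hψD μ (fun i => hμ i) hμl

end Groth.Agent.Lib.Helper14.InsepQ2
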