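import Mathlib
import Groth.Prelude.Def_Smoothing
import Groth.Prelude.Def_Found
import Groth.Agent.Lib.Helper14.InsepQ2
import Groth.Agent.Lib.Helper18.PcK
import Groth.Agent.Lib.Helper27.SepI

/-!
# Resolvability in the inseparable case (Stacks 16.11.4): final assembly (helper14)
-/

set_option autoImplicit false

namespace Groth.Agent.Lib.Helper14.InsepS

open MvPolynomial Smoothing TensorProduct
open Groth.Agent.Lib.Helper27 Groth.Agent.Lib.Helper27.SepB
open Groth.Agent.Lib.Helper18.DR.Pc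
open Groth.Agent.Lib.Helper14.InsepQ1

universe u

set_option maxHeartbeats 3200000 in
theorem main {k A Λ : Type u} [Field k] (p : ℕ) [Fact p.Prime]
    [CharP k p] [CommRing A] [Algebra k A] [Algebra.FinitePresentation k A] [CommRing Λ]
    [Algebra k Λ] [IsNoetherianRing Λ] (hreg : CAlg.IsGeometricallyRegular k Λ) (φ : A →ₐ[k] Λ)
    (𝔮 : Ideal Λ) [𝔮.IsPrime] (hmin : 𝔮 ∈ (singRad k φ).minimalPrimes) : Resolvable k φ 𝔮 := by
  classical
  haveI : IsRegularRing Λ := isRegularRing_of_isGeometricallyRegular k Λ hreg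
  haveI : IsNoetherianRing A := Algebra.FiniteType.isNoetherianRing k A
  obtain ⟨r, a, ha⟩ := Submodule.fg_iff_exists_fin_generating_family.mp
    (IsNoetherian.noetherian (singularIdeal k A))
  let S := Localization.AtPrime 𝔮
  obtain ⟨d, hd⟩ : ∃ d : ℕ, ringKrullDim S = d :=
    ⟨_, (IsRegularLocalRing.spanFinrank_maximalIdeal (R := S)).symm⟩
  rcases Nat.eq_zero_or_pos d with rfl | hd0
  · exact zero_case hreg φ 𝔮 (by rw [hd]; rfl)
  · have hI : (singularIdeal k A).map φ = Ideal.span (Set.range fun j => φ (a j)) := by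
      rw [← ha]
      show Ideal.map φ (Ideal.span (Set.range a)) = _
      rw [Ideal.map_span, ← Set.range_comp]
      rfl
    have hmin' : 𝔮 ∈ (Ideal.span (Set.range fun j => φ (a j))).minimalPrimes := by
      rw [← hI, ← Ideal.radical_minimalPrimes]
      exact hmin
    obtain ⟨N₀, hN₀, hpow⟩ := SepH.exists_pow_le _ 𝔮 hmin'
    have hsm : ∀ j, Algebra.Smooth k (Localization.Away (a j)) := by
      intro j
      rw [← PopG.mem_singularIdeal_iff, ← ha]
      exact Ideal.subset_span ⟨j, rfl⟩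
    obtain ⟨C, iC, iBC, iRC, iT, hfp, ⟨ρ⟩, hCsing, c, hc, hstd⟩ := SepI.exists_C a hsm d N₀
    haveI := hfp
    obtain ⟨s, hs⟩ := (Algebra.FiniteType.out : (⊤ : Subalgebra k A).FG)
    have hn0 : 0 < N₀ + (d * (c * 8) + 1) := by omega
    obtain ⟨P, iP1, iP2, iP3, iP4, iP5, iP6, m, eP, ψ, D, iD, hflat, hmap, hdim, hE, hψD, hArt,
      hflatD, hess, hunit, θ, hθ, hind⟩ :=
      lemmaL p hreg 𝔮 hn0 (s.image φ)
    letI algPnD : Algebra (PnQ (𝔮.comap ψ.toRingHom) (N₀ + (d * (c * 8) + 1))) D := θ.toAlgebra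
    have hφD : ∀ x : A, cl (k := k) 𝔮 (N₀ + (d * (c * 8) + 1)) (φ x) ∈ D := by
      let D' : Subalgebra k A := D.comap ((cl (k := k) 𝔮 (N₀ + (d * (c * 8) + 1))).comp φ)
      have h1 : Algebra.adjoin k (s : Set A) ≤ D' :=
        Algebra.adjoin_le (fun x hx => hE (φ x) (Finset.mem_image_of_mem φ hx))
      rw [hs] at h1
      exact fun x => h1 Algebra.mem_top
    haveI hloc : IsLocalHom D.val.toRingHom := ⟨fun x hx => (hunit x).mpr hx⟩
    exact Groth.Agent.Lib.Helper14.InsepQ2.main_of_local φ 𝔮 a ha d hd0 hd N₀ hN₀ hpow ρ hCsing c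
      hc hstd ψ (N₀ + (d * (c * 8) + 1)) rfl (hdim.trans hd) hmap
      (Pn := PnQ (𝔮.comap ψ.toRingHom) (N₀ + (d * (c * 8) + 1))) (D := D)
      (fun W _ f hu hk => Pn_lift (𝔮.comap ψ.toRingHom) _ f hu hk)
      (fun T _ f₁ f₂ h => Pn_ext (𝔮.comap ψ.toRingHom) _ f₁ f₂ h)
      hind D.val.toRingHom Subtype.val_injective hflatD
      (fun f => hθ f)
      (fun x => ⟨⟨_, hφD x⟩, rfl⟩)

end Groth.Agent.Lib.Helper14.InsepS
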