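import Mathlib
import Groth.Prelude.Def_IntMult
import Groth.Agent.Lib.Lead.IntMultCartier
import Groth.Agent.Lib.Helper7.TorBalance3
import Groth.Agent.Lib.Helper7.TorRegGen
import Groth.Agent.Lib.Helper4.CM
import Groth.Agent.Lib.Helper14.CMMod.Transfer

/-!
# Algebra of the Tor-formula intersection multiplicity (helper14)

* `length_quot_tensor_quot`: `length ((A/J) ⊗ (A/I)) = length (A/(J + I))`.
* `ringKrullDim_quot_sup_eq_zero`.
* `quotQuotEquiv`: `(A/J)/I(A/J) ≃ A/(J + I)`.
* `chi_eq_of_tor_vanishing`, `tor_subsingleton_of_isWeaklyRegular`.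
* `chi_eq_length_of_isRegular_of_cm`: `χ(A/J, A/(rs)) = length (A/(J + (rs)))` for `rs` an
  `A`-regular sequence and `A/J` Cohen–Macaulay of dimension `|rs|` with `A/(J + (rs))` Artinian.
-/

set_option autoImplicit false
universe u
open CategoryTheory TensorProduct RingTheory.Sequence

namespace Groth.Agent.Lib.Helper14.IntMultAlg

variable {A : Type u} [CommRing A]

/-- `length ((A/J) ⊗ (A/I)) = length (A/(J + I))`. -/
theorem length_quot_tensor_quot (J I : Ideal A) :
    Module.length A ((A ⧸ J) ⊗[A] (A ⧸ I)) = Module.length A (A ⧸ (J ⊔ I)) := by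
  have hs : Function.Surjective (algebraMap A (A ⧸ J)) := Ideal.Quotient.mk_surjective
  rw [Module.length_eq_of_surjective (S := A) (R := A ⧸ J)
    (M := (A ⧸ J) ⊗[A] (A ⧸ I)) hs]
  rw [← (Algebra.TensorProduct.quotIdealMapEquivTensorQuot (A ⧸ J) I).toLinearEquiv.length_eq]
  have h2 := Groth.Agent.Lib.Lead.GysinFlat.length_quot_map_of_surjective (Ideal.Quotient.mk J)
    Ideal.Quotient.mk_surjective I
  rw [Ideal.mk_ker, sup_comm I J] at h2
  exact h2

/-- the quotient by two ideals whose sum is only contained in the maximal ideal has dimension 0 -/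
theorem ringKrullDim_quot_sup_eq_zero [IsLocalRing A] (I J : Ideal A)
    (hI : I ≤ IsLocalRing.maximalIdeal A) (hJ : J ≤ IsLocalRing.maximalIdeal A)
    (h : ∀ P : Ideal A, P.IsPrime → I ≤ P → J ≤ P → P = IsLocalRing.maximalIdeal A) :
    ringKrullDim (A ⧸ (I ⊔ J)) = 0 := by
  have hne : I ⊔ J ≠ ⊤ := by
    intro htop
    have : (⊤ : Ideal A) ≤ IsLocalRing.maximalIdeal A := htop ▸ sup_le hI hJ
    exact (IsLocalRing.maximalIdeal.isMaximal A).ne_top (top_le_iff.mp this)
  haveI : Nontrivial (A ⧸ (I ⊔ J)) := Ideal.Quotient.nontrivial_iff.mpr hne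
  haveI : Ring.KrullDimLE 0 (A ⧸ (I ⊔ J)) := by
    apply Ring.KrullDimLE.mk₀
    intro Q hQ
    have hsurj : Function.Surjective (Ideal.Quotient.mk (I ⊔ J)) := Ideal.Quotient.mk_surjective
    haveI : (Q.comap (Ideal.Quotient.mk (I ⊔ J))).IsPrime := Ideal.comap_isPrime _ _
    have hle : I ⊔ J ≤ Q.comap (Ideal.Quotient.mk (I ⊔ J)) := by
      intro x hx
      rw [Ideal.mem_comap, Ideal.Quotient.eq_zero_iff_mem.mpr hx]
      exact Q.zero_mem
    have h1 := h _ inferInstance (le_sup_left.trans hle) (le_sup_right.trans hle)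
    have h2 : Q = (IsLocalRing.maximalIdeal A).map (Ideal.Quotient.mk (I ⊔ J)) := by
      rw [← h1, Ideal.map_comap_of_surjective _ hsurj]
    rcases Ideal.map_eq_top_or_isMaximal_of_surjective (Ideal.Quotient.mk (I ⊔ J)) hsurj
      (IsLocalRing.maximalIdeal.isMaximal A) with h3 | h3
    · exact absurd (h2.trans h3) hQ.ne_top
    · rw [h2]; exact h3
  apply le_antisymm
  · exact Ring.krullDimLE_iff.mp inferInstance
  · exact ringKrullDim_nonneg_of_nontrivial

/-- `(A/J)/I(A/J) ≃ A/(J + I)` as `A`-modules -/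
noncomputable def quotQuotEquiv (J I : Ideal A) :
    ((A ⧸ J) ⧸ I • (⊤ : Submodule A (A ⧸ J))) ≃ₗ[A] (A ⧸ (J ⊔ I)) := by
  let φ : (A ⧸ J) →ₗ[A] (A ⧸ (J ⊔ I)) :=
    (Ideal.Quotient.factorₐ A (le_sup_left : J ≤ J ⊔ I)).toLinearMap
  have hφ : ∀ a : A, φ (Ideal.Quotient.mk J a) = Ideal.Quotient.mk (J ⊔ I) a := fun a => rfl
  have hφs : Function.Surjective φ := by
    intro y
    obtain ⟨a, rfl⟩ := Ideal.Quotient.mk_surjective y
    exact ⟨Ideal.Quotient.mk J a, hφ a⟩
  have hker : LinearMap.ker φ = I • (⊤ : Submodule A (A ⧸ J)) := by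
    apply le_antisymm
    · intro x hx
      obtain ⟨a, rfl⟩ := Ideal.Quotient.mk_surjective x
      rw [LinearMap.mem_ker, hφ, Ideal.Quotient.eq_zero_iff_mem] at hx
      obtain ⟨j, hj, i, hi, rfl⟩ := Submodule.mem_sup.mp hx
      have h1 : Ideal.Quotient.mk J (j + i) = i • (1 : A ⧸ J) := by
        rw [map_add, Ideal.Quotient.eq_zero_iff_mem.mpr hj, zero_add, Algebra.smul_def, mul_one]
        rfl
      rw [h1]
      exact Submodule.smul_mem_smul hi Submodule.mem_top
    · rw [Submodule.smul_le]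
      intro i hi m _
      rw [LinearMap.mem_ker, map_smul]
      obtain ⟨b, hb⟩ := Ideal.Quotient.mk_surjective (φ m)
      rw [← hb, Algebra.smul_def, Ideal.Quotient.algebraMap_eq, ← map_mul,
        Ideal.Quotient.eq_zero_iff_mem]
      exact Ideal.mul_mem_right _ _ (Ideal.mem_sup_right hi)
  exact (Submodule.quotEquivOfEq _ _ hker.symm).trans (φ.quotKerEquivOfSurjective hφs)

/-- if all higher Tor vanish then `χ` is the length of the tensor product -/
theorem chi_eq_of_tor_vanishing (M N : Type u) [AddCommGroup M] [Module A M] [AddCommGroup N]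
    [Module A N] (h : ∀ i : ℕ, 1 ≤ i → Subsingleton (DRing.Tor A i M N)) :
    IntMult.chi A M N = ((Module.length A (M ⊗[A] N)).toNat : ℤ) := by
  have hlen : Module.length A (DRing.Tor A 0 M N) = Module.length A (M ⊗[A] N) :=
    (Groth.Agent.Lib.Helper7.tor0Equiv (ModuleCat.of A M) (ModuleCat.of A N)).length_eq
  unfold IntMult.chi
  rw [finsum_eq_single _ 0]
  · rw [pow_zero, one_mul, hlen]
  · intro k hk
    haveI := h k (Nat.one_le_iff_ne_zero.mpr hk)
    rw [Module.length_eq_zero]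
    simp

/-- Tor-vanishing against a quotient by a sequence regular on `A` and on `M` (quotient in the second
variable) -/
theorem tor_subsingleton_of_isWeaklyRegular (M : Type u) [AddCommGroup M] [Module A M]
    (rs : List A) (hA : IsWeaklyRegular A rs) (hM : IsWeaklyRegular M rs) (i : ℕ) (hi : 1 ≤ i) :
    Subsingleton (DRing.Tor A i M (A ⧸ Ideal.ofList rs)) := by
  have h1 := Groth.Agent.Lib.Helper7.Tor_vanishing_of_isWeaklyRegular M rs hA hM i hi
  obtain ⟨e⟩ := Groth.Agent.Lib.Helper7.nonempty_Tor_equiv_flip (ModuleCat.of A M)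
    (ModuleCat.of A (A ⧸ Ideal.ofList rs)) i
  haveI := ModuleCat.subsingleton_of_isZero h1
  exact e.toEquiv.subsingleton

/-- the core computation: regular sequence against a Cohen–Macaulay quotient of the right
dimension -/
theorem chi_eq_length_of_isRegular_of_cm [IsLocalRing A] [IsNoetherianRing A] (J : Ideal A)
    (rs : List A) (hreg : IsRegular A rs) (hCM : LocCoh.IsCohenMacaulayLocalRing (A ⧸ J))
    (hdim : ((rs.length : ℕ) : WithBot ℕ∞) ≤ ringKrullDim (A ⧸ J))
    (h0 : ringKrullDim (A ⧸ (J ⊔ Ideal.ofList rs)) = 0) :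
    IntMult.chi A (A ⧸ J) (A ⧸ Ideal.ofList rs) =
      ((Module.length A (A ⧸ (J ⊔ Ideal.ofList rs))).toNat : ℤ) := by
  haveI : IsLocalRing (A ⧸ J) := hCM.toIsLocalRing
  have hs : Function.Surjective (algebraMap A (A ⧸ J)) := Ideal.Quotient.mk_surjective
  have hcm : LocCoh.IsCohenMacaulayModule A (A ⧸ J) :=
    (Groth.Agent.Lib.Helper14.CMMod.cm_iff_of_surjective hs (A ⧸ J)).mpr hCM.supportDim_eq_depth
  have hmem : ∀ x ∈ rs, x ∈ IsLocalRing.maximalIdeal A := by
    intro x hx
    by_contra hxm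
    have hu : IsUnit x := by
      by_contra hnu
      exact hxm ((IsLocalRing.mem_maximalIdeal x).mpr hnu)
    apply hreg.2
    rw [eq_comm, eq_top_iff]
    have h1 : Ideal.ofList rs = ⊤ :=
      Ideal.eq_top_of_isUnit_mem _ (Ideal.subset_span hx) hu
    rw [h1, Submodule.top_smul]
  have hM : IsWeaklyRegular (A ⧸ J) rs := by
    apply Groth.Agent.Lib.Helper4.cm_isWeaklyRegular_of_supportDim hcm rs hmem
    have h2 := Groth.Agent.Lib.Helper4.supportDim_le_supportDim_quot_ofList_add_length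
      (M := A ⧸ J) rs hmem
    rw [Module.supportDim_eq_of_equiv (quotQuotEquiv J (Ideal.ofList rs)),
      Module.supportDim_quotient_eq_ringKrullDim (J ⊔ Ideal.ofList rs), h0, zero_add,
      Module.supportDim_quotient_eq_ringKrullDim J] at h2 ⊢
    exact le_antisymm hdim h2
  rw [chi_eq_of_tor_vanishing _ _
    (tor_subsingleton_of_isWeaklyRegular (A ⧸ J) rs hreg.toIsWeaklyRegular hM),
    length_quot_tensor_quot]

end Groth.Agent.Lib.Helper14.IntMultAlg
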