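import Mathlib
import Groth.Prelude.Def_IntMult
import Groth.Agent.Lib.Helper14.IntMultAlgA
import Groth.Agent.Lib.Helper22.Samuel14
import Groth.Agent.Lib.Helper4.KS3
import Groth.Agent.S1914

/-!
# Tor-formula multiplicity as a Samuel multiplicity (helper14)

* `chi_symm`: `χ(M, N) = χ(N, M)`.
* `tendsto_chi`: `c! length (A/(J + I^t)) / t^c → χ(A/J, A/I)` for `I` generated by a regular
  sequence of length `c` with `A/(J + I)` Artinian (from S1914).
* `one_le_of_tendsto`: such a limit is `≥ 1` when `dim A/J = c`.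
* `tendsto_and_pos`: the combination.
-/

set_option autoImplicit false
universe u
open CategoryTheory TensorProduct RingTheory.Sequence Filter Topology

namespace Groth.Agent.Lib.Helper14.IntMultAlg

variable {A : Type u} [CommRing A]

/-- symmetry of `χ` -/
theorem chi_symm (M N : Type u) [AddCommGroup M] [Module A M] [AddCommGroup N] [Module A N] :
    IntMult.chi A M N = IntMult.chi A N M := by
  unfold IntMult.chi
  congr 1
  funext i
  obtain ⟨e⟩ := Groth.Agent.Lib.Helper7.nonempty_Tor_equiv_flip (ModuleCat.of A M)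
    (ModuleCat.of A N) i
  rw [e.length_eq]

/-- convergence of the normalized Samuel function to `χ` -/
theorem tendsto_chi [IsLocalRing A] [IsNoetherianRing A] (J : Ideal A) (c : ℕ) (g : Fin c → A)
    (hreg : IsRegular A (List.ofFn g))
    (h0 : ringKrullDim (A ⧸ (J ⊔ Ideal.span (Set.range g))) = 0) :
    Tendsto (fun t : ℕ => (c.factorial : ℝ) *
      ((Module.length A (A ⧸ (J ⊔ Ideal.span (Set.range g) ^ t))).toNat : ℝ) / (t : ℝ) ^ c) atTop
      (𝓝 (IntMult.chi A (A ⧸ J) (A ⧸ Ideal.span (Set.range g)) : ℝ)) := by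
  have h1 := Groth.Agent.S1914.result A c g hreg (A ⧸ J) (by
    rw [Module.supportDim_eq_of_equiv (quotQuotEquiv J (Ideal.span (Set.range g))),
      Module.supportDim_quotient_eq_ringKrullDim, h0])
  rw [chi_symm] at h1
  refine h1.congr (fun t => ?_)
  rw [(quotQuotEquiv J (Ideal.span (Set.range g) ^ t)).length_eq]

/-- positivity of the Samuel multiplicity of `A/J` with respect to `I` when `dim A/J = c` and
`A/(J+I)` is Artinian: any limit of the normalized Samuel function is `≥ 1`. -/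
theorem one_le_of_tendsto [IsLocalRing A] [IsNoetherianRing A] (J I : Ideal A)
    (hJ : J ≤ IsLocalRing.maximalIdeal A) (c : ℕ)
    (hdim : ringKrullDim (A ⧸ J) = c)
    (h0 : ringKrullDim (A ⧸ (J ⊔ I)) = 0) (L : ℝ)
    (hL : Tendsto (fun t : ℕ => (c.factorial : ℝ) *
      ((Module.length A (A ⧸ (J ⊔ I ^ t))).toNat : ℝ) / (t : ℝ) ^ c) atTop (𝓝 L)) :
    1 ≤ L := by
  have hJne : J ≠ ⊤ := fun h => (IsLocalRing.maximalIdeal.isMaximal A).ne_top
    (top_le_iff.mp (h ▸ hJ))
  haveI : Nontrivial (A ⧸ J) := Ideal.Quotient.nontrivial_iff.mpr hJne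
  haveI : IsLocalRing (A ⧸ J) :=
    IsLocalRing.of_surjective' (Ideal.Quotient.mk J) Ideal.Quotient.mk_surjective
  set IB : Ideal (A ⧸ J) := I.map (Ideal.Quotient.mk J) with hIB
  have hdim0 : ringKrullDim ((A ⧸ J) ⧸ IB) = 0 := by
    rw [ringKrullDim_eq_of_ringEquiv (DoubleQuot.quotQuotEquivQuotSup J I)]
    exact h0
  haveI : IsArtinianRing ((A ⧸ J) ⧸ IB) := by
    rw [isArtinianRing_iff_isNoetherianRing_krullDimLE_zero]
    refine ⟨inferInstance, ?_⟩
    rw [Ring.krullDimLE_iff, hdim0]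
    rfl
  have hIBj : IB ≤ Ring.jacobson (A ⧸ J) := by
    rw [IsLocalRing.ringJacobson_eq_maximalIdeal]
    apply IsLocalRing.le_maximalIdeal
    intro htop
    have : Subsingleton ((A ⧸ J) ⧸ IB) := by
      rw [htop]; exact Ideal.Quotient.subsingleton_iff.mpr rfl
    have h1 : ringKrullDim ((A ⧸ J) ⧸ IB) = ⊥ := ringKrullDim_eq_bot_of_subsingleton
    rw [hdim0] at h1
    exact absurd h1 (by decide)
  have hsd : Module.supportDim (A ⧸ J) (A ⧸ J) = (c : WithBot ℕ∞) := by
    rw [Module.supportDim_self_eq_ringKrullDim, hdim]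
  obtain ⟨c', hc', hc0⟩ := Groth.Agent.Lib.Helper22.Samuel.exists_tendsto_nchi IB (A ⧸ J) c hsd.le
  have h1 := Groth.Agent.Lib.Helper22.Samuel.one_le_of_supportDim_eq IB hIBj (A ⧸ J) c hsd c' hc' hc0
  have hcongr : ∀ t : ℕ, Groth.Agent.Lib.Helper22.Samuel.nchi IB c (A ⧸ J) t =
      (c.factorial : ℝ) * ((Module.length A (A ⧸ (J ⊔ I ^ t))).toNat : ℝ) / (t : ℝ) ^ c := by
    intro t
    simp only [Groth.Agent.Lib.Helper22.Samuel.nchi, Groth.Agent.Lib.Helper22.Samuel.chi]
    have h2 : IB ^ t • (⊤ : Submodule (A ⧸ J) (A ⧸ J)) = (I ^ t).map (Ideal.Quotient.mk J) := by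
      rw [smul_eq_mul, Ideal.mul_top, hIB, Ideal.map_pow]
    have h3 := Groth.Agent.Lib.Lead.GysinFlat.length_quot_map_of_surjective (Ideal.Quotient.mk J)
      Ideal.Quotient.mk_surjective (I ^ t)
    rw [Ideal.mk_ker, sup_comm] at h3
    rw [(Submodule.quotEquivOfEq _ _ h2).length_eq, h3]
    rw [Int.cast_natCast]
  have h4 : Tendsto (Groth.Agent.Lib.Helper22.Samuel.nchi IB c (A ⧸ J)) atTop (𝓝 L) :=
    hL.congr (fun t => (hcongr t).symm)
  have h5 : L = (c' : ℝ) := tendsto_nhds_unique h4 hc'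
  rw [h5]
  exact_mod_cast h1

/-- elements of a regular sequence lie in the maximal ideal -/
theorem mem_maximalIdeal_of_isRegular [IsLocalRing A] (rs : List A) (hreg : IsRegular A rs) :
    ∀ x ∈ rs, x ∈ IsLocalRing.maximalIdeal A := by
  intro x hx
  by_contra hxm
  have hu : IsUnit x := by
    by_contra hnu
    exact hxm ((IsLocalRing.mem_maximalIdeal x).mpr hnu)
  apply hreg.2
  rw [eq_comm, eq_top_iff]
  have h1 : Ideal.ofList rs = ⊤ :=
    Ideal.eq_top_of_isUnit_mem _ (Ideal.subset_span hx) hu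
  rw [h1, Submodule.top_smul]

/-- Krull's bound: `dim A/J ≤ |rs|` if `A/(J + (rs))` has dimension `0` -/
theorem ringKrullDim_quot_le [IsLocalRing A] [IsNoetherianRing A] (J : Ideal A) (rs : List A)
    (hmem : ∀ x ∈ rs, x ∈ IsLocalRing.maximalIdeal A)
    (h0 : ringKrullDim (A ⧸ (J ⊔ Ideal.ofList rs)) = 0) :
    ringKrullDim (A ⧸ J) ≤ ((rs.length : ℕ) : WithBot ℕ∞) := by
  have h2 := Groth.Agent.Lib.Helper4.supportDim_le_supportDim_quot_ofList_add_length
    (M := A ⧸ J) rs hmem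
  rw [Module.supportDim_eq_of_equiv (quotQuotEquiv J (Ideal.ofList rs)),
    Module.supportDim_quotient_eq_ringKrullDim (J ⊔ Ideal.ofList rs), h0, zero_add,
    Module.supportDim_quotient_eq_ringKrullDim J] at h2
  exact h2

/-- the limit formula and positivity -/
theorem tendsto_and_pos [IsLocalRing A] [IsNoetherianRing A] (J : Ideal A)
    (hJ : J ≤ IsLocalRing.maximalIdeal A) (c : ℕ) (g : Fin c → A)
    (hreg : IsRegular A (List.ofFn g))
    (hdim : ((c : ℕ) : WithBot ℕ∞) ≤ ringKrullDim (A ⧸ J))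
    (h0 : ringKrullDim (A ⧸ (J ⊔ Ideal.span (Set.range g))) = 0) :
    Tendsto (fun t : ℕ => (c.factorial : ℝ) *
      ((Module.length A (A ⧸ (J ⊔ Ideal.span (Set.range g) ^ t))).toNat : ℝ) / (t : ℝ) ^ c) atTop
      (𝓝 (IntMult.chi A (A ⧸ J) (A ⧸ Ideal.span (Set.range g)) : ℝ)) ∧
    0 < IntMult.chi A (A ⧸ J) (A ⧸ Ideal.span (Set.range g)) := by
  have h1 := tendsto_chi J c g hreg h0
  refine ⟨h1, ?_⟩
  have e := Groth.Agent.Lib.Helper4.KS.span_range_eq_ofList g
  have h0' : ringKrullDim (A ⧸ (J ⊔ Ideal.ofList (List.ofFn g))) = 0 := e ▸ h0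
  have hle := ringKrullDim_quot_le J (List.ofFn g) (mem_maximalIdeal_of_isRegular _ hreg) h0'
  rw [List.length_ofFn] at hle
  have hdim' : ringKrullDim (A ⧸ J) = (c : WithBot ℕ∞) := le_antisymm hle hdim
  have h2 := one_le_of_tendsto J (Ideal.span (Set.range g)) hJ c hdim' h0 _ h1
  have h3 : (1 : ℤ) ≤ IntMult.chi A (A ⧸ J) (A ⧸ Ideal.span (Set.range g)) := by
    exact_mod_cast h2
  omega

end Groth.Agent.Lib.Helper14.IntMultAlg
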