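import Mathlib
import Groth.Agent.Lib.Helper9.RegLocal
import Groth.Agent.Lib.Helper4.RegCM
import Groth.Agent.Lib.Helper26.RegSeq

/-!
# Transversal pairs of ideals in a regular local ring (helper14)

* `cotSpan I`: the subspace of `m/m²` spanned by the classes of the elements of `I`.
* `regular_pair`: if `I + J = m` in a regular local ring `A` and `dim A ≤ dim A/I + dim A/J`, then
  `A/I` and `A/J` are regular and `I` is generated by a regular sequence of length `dim A/J`.
-/

set_option autoImplicit false
universe u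
open IsLocalRing RingTheory.Sequence

namespace Groth.Agent.Lib.Helper14.IntMultAlg

section cot

variable {A : Type u} [CommRing A] [IsLocalRing A]

/-- the subspace of the cotangent space spanned by the classes of the elements of `I` -/
noncomputable def cotSpan (I : Ideal A) : Submodule (ResidueField A) (CotangentSpace A) :=
  Submodule.span (ResidueField A)
    ((maximalIdeal A).toCotangent '' {z : maximalIdeal A | (z : A) ∈ I})

theorem exists_of_mem_cotSpan (I : Ideal A) (v : CotangentSpace A) (hv : v ∈ cotSpan I) :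
    ∃ z : maximalIdeal A, (z : A) ∈ I ∧ (maximalIdeal A).toCotangent z = v := by
  unfold cotSpan at hv
  induction hv using Submodule.span_induction with
  | mem v hv =>
    obtain ⟨z, hz, rfl⟩ := hv
    exact ⟨z, hz, rfl⟩
  | zero => exact ⟨0, by simp, by simp⟩
  | add v w _ _ hv hw =>
    obtain ⟨z, hz, rfl⟩ := hv
    obtain ⟨z', hz', rfl⟩ := hw
    exact ⟨z + z', by simpa using I.add_mem hz hz', by simp⟩
  | smul c v _ hv =>
    obtain ⟨z, hz, rfl⟩ := hv
    obtain ⟨r, rfl⟩ := IsLocalRing.residue_surjective c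
    refine ⟨r • z, ?_, ?_⟩
    · simpa using I.mul_mem_left r hz
    · rw [map_smul]
      rfl

theorem toCotangent_mem_cotSpan (I : Ideal A) (z : maximalIdeal A) (hz : (z : A) ∈ I) :
    (maximalIdeal A).toCotangent z ∈ cotSpan I :=
  Submodule.subset_span ⟨z, hz, rfl⟩

theorem cotSpan_sup_eq_top (I J : Ideal A) (hIJ : I ⊔ J = maximalIdeal A) :
    cotSpan I ⊔ cotSpan J = ⊤ := by
  rw [eq_top_iff]
  intro v _
  obtain ⟨z, rfl⟩ := (maximalIdeal A).toCotangent_surjective v
  have hz : (z : A) ∈ I ⊔ J := by rw [hIJ]; exact z.2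
  obtain ⟨i, hi, j, hj, hij⟩ := Submodule.mem_sup.mp hz
  have hIm : I ≤ maximalIdeal A := by rw [← hIJ]; exact le_sup_left
  have hJm : J ≤ maximalIdeal A := by rw [← hIJ]; exact le_sup_right
  have hz' : z = ⟨i, hIm hi⟩ + ⟨j, hJm hj⟩ := Subtype.ext hij.symm
  rw [hz', map_add]
  exact Submodule.add_mem_sup (toCotangent_mem_cotSpan I _ hi) (toCotangent_mem_cotSpan J _ hj)

end cot

/-- two ideals of a regular local ring adding up to the maximal ideal whose quotients have
complementary dimensions: both quotients are regular and `I` is generated by a regular sequence of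
length `dim A/J`. -/
theorem regular_pair (A : Type u) [CommRing A] [IsRegularLocalRing A] (I J : Ideal A)
    (hIJ : I ⊔ J = maximalIdeal A) (d a b : ℕ) (hd : ringKrullDim A = d)
    (ha : ringKrullDim (A ⧸ I) = a) (hb : ringKrullDim (A ⧸ J) = b) (hab : d ≤ a + b) :
    IsRegularLocalRing (A ⧸ I) ∧ IsRegularLocalRing (A ⧸ J) ∧
      ∃ x : Fin b → A, I = Ideal.span (Set.range x) ∧ IsRegular A (List.ofFn x) := by
  classical
  have hIm : I ≤ maximalIdeal A := by rw [← hIJ]; exact le_sup_left
  have hJm : J ≤ maximalIdeal A := by rw [← hIJ]; exact le_sup_right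
  have hIne : I ≠ ⊤ := ne_top_of_le_ne_top (maximalIdeal.isMaximal A).ne_top hIm
  have hJne : J ≠ ⊤ := ne_top_of_le_ne_top (maximalIdeal.isMaximal A).ne_top hJm
  haveI : Nontrivial (A ⧸ I) := Ideal.Quotient.nontrivial_iff.mpr hIne
  haveI : Nontrivial (A ⧸ J) := Ideal.Quotient.nontrivial_iff.mpr hJne
  haveI : IsLocalRing (A ⧸ I) :=
    IsLocalRing.of_surjective' (Ideal.Quotient.mk I) Ideal.Quotient.mk_surjective
  haveI : IsLocalRing (A ⧸ J) :=
    IsLocalRing.of_surjective' (Ideal.Quotient.mk J) Ideal.Quotient.mk_surjective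
  -- a basis of `cotSpan I` by classes of elements of `I`
  set W := cotSpan I with hW
  set p := Module.finrank (ResidueField A) W with hp
  let bI := Module.finBasis (ResidueField A) W
  have hx' : ∀ i : Fin p, ∃ z : maximalIdeal A, (z : A) ∈ I ∧
      (maximalIdeal A).toCotangent z = (bI i : CotangentSpace A) :=
    fun i => exists_of_mem_cotSpan I _ (bI i).2
  choose x hxI hxb using hx'
  have hxfun : (fun i => (maximalIdeal A).toCotangent (x i)) = W.subtype ∘ bI := funext hxb
  have hxli : LinearIndependent (ResidueField A)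
      (fun i => (maximalIdeal A).toCotangent (x i)) := by
    rw [hxfun]
    exact bI.linearIndependent.map' _ (Submodule.ker_subtype _)
  have hxspan : Submodule.span (ResidueField A)
      (Set.range fun i => (maximalIdeal A).toCotangent (x i)) = W := by
    rw [hxfun, Set.range_comp, ← Submodule.map_span, bI.span_eq, Submodule.map_top,
      Submodule.range_subtype]
  -- a complementary family from `J`
  set q := Module.finrank (ResidueField A) (CotangentSpace A ⧸ W) with hq
  have hpq : q + p = Module.finrank (ResidueField A) (CotangentSpace A) :=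
    Submodule.finrank_quotient_add_finrank W
  let bQ := Module.finBasis (ResidueField A) (CotangentSpace A ⧸ W)
  have hy' : ∀ j : Fin q, ∃ z : maximalIdeal A, (z : A) ∈ J ∧
      W.mkQ ((maximalIdeal A).toCotangent z) = bQ j := by
    intro j
    obtain ⟨v, hv⟩ := W.mkQ_surjective (bQ j)
    have hv' : v ∈ cotSpan I ⊔ cotSpan J := by rw [cotSpan_sup_eq_top I J hIJ]; trivial
    obtain ⟨v1, hv1, v2, hv2, rfl⟩ := Submodule.mem_sup.mp hv'
    obtain ⟨z, hz, rfl⟩ := exists_of_mem_cotSpan J v2 hv2
    refine ⟨z, hz, ?_⟩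
    rw [← hv, map_add]
    have : W.mkQ v1 = 0 := (Submodule.Quotient.mk_eq_zero W).mpr hv1
    rw [this, zero_add]
  choose y hyJ hyb using hy'
  have hyfun : (W.mkQ ∘ fun j => (maximalIdeal A).toCotangent (y j)) = bQ := funext hyb
  have hyli : LinearIndependent (ResidueField A)
      (fun j => (maximalIdeal A).toCotangent (y j)) := by
    have h1 : LinearIndependent (ResidueField A)
        (W.mkQ ∘ fun j => (maximalIdeal A).toCotangent (y j)) := by
      rw [hyfun]; exact bQ.linearIndependent
    exact h1.of_comp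
  have hspan : Submodule.span (ResidueField A)
      (Set.range fun i => (maximalIdeal A).toCotangent (x i)) ⊔
      Submodule.span (ResidueField A)
        (Set.range fun j => (maximalIdeal A).toCotangent (y j)) = ⊤ := by
    rw [hxspan, ← Submodule.map_mkQ_eq_top, Submodule.map_span, ← Set.range_comp, hyfun,
      bQ.span_eq]
  have hm : Ideal.span (Set.range fun i => (x i : A)) ⊔
      Ideal.span (Set.range fun j => (y j : A)) = maximalIdeal A :=
    (Groth.Agent.Lib.Helper9.RegLocal.span_cotangent_sup_eq_top_iff x y).1 hspan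
  obtain ⟨hdx, hregx⟩ := Groth.Agent.Lib.Helper9.RegLocal.quotient_regular A p x hxli
  -- numerics
  have hdpq : d = q + p := by
    have h1 : ((maximalIdeal A).spanFinrank : WithBot ℕ∞) = ringKrullDim A :=
      IsRegularLocalRing.spanFinrank_maximalIdeal
    rw [hd, spanFinrank_maximalIdeal_eq_finrank_cotangentSpace, ← hpq] at h1
    exact_mod_cast h1.symm
  set Ix := Ideal.span (Set.range fun i => (x i : A)) with hIx
  set Jy := Ideal.span (Set.range fun j => (y j : A)) with hJy
  have hIxI : Ix ≤ I := by
    rw [hIx, Ideal.span_le]; rintro _ ⟨i, rfl⟩; exact hxI i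
  have hJyJ : Jy ≤ J := by
    rw [hJy, Ideal.span_le]; rintro _ ⟨j, rfl⟩; exact hyJ j
  have hIxm : Ix ≤ maximalIdeal A := hIxI.trans hIm
  have hJym : Jy ≤ maximalIdeal A := hJyJ.trans hJm
  have hmI : I ⊔ Jy = maximalIdeal A :=
    le_antisymm (sup_le hIm hJym) (hm ▸ sup_le_sup_right hIxI Jy)
  have hmJ : J ⊔ Ix = maximalIdeal A :=
    le_antisymm (sup_le hJm hIxm) (by rw [← hm, sup_comm]; exact sup_le_sup_right hJyJ Ix)
  have hmbarI := Groth.Agent.Lib.Helper9.RegLocal.maximalIdeal_quotient_eq_span I
    (fun j => (y j : A)) hmI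
  have hmbarJ := Groth.Agent.Lib.Helper9.RegLocal.maximalIdeal_quotient_eq_span J
    (fun i => (x i : A)) hmJ
  have h1I : (maximalIdeal (A ⧸ I)).spanFinrank ≤ q := by
    rw [hmbarI]; exact Groth.Agent.Lib.Helper9.RegLocal.spanFinrank_span_range_le _
  have h1J : (maximalIdeal (A ⧸ J)).spanFinrank ≤ p := by
    rw [hmbarJ]; exact Groth.Agent.Lib.Helper9.RegLocal.spanFinrank_span_range_le _
  have hdI : ringKrullDim (A ⧸ I) ≤ q :=
    (ringKrullDim_le_spanFinrank_maximalIdeal (A ⧸ I)).trans (by exact_mod_cast h1I)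
  have hdJ : ringKrullDim (A ⧸ J) ≤ p :=
    (ringKrullDim_le_spanFinrank_maximalIdeal (A ⧸ J)).trans (by exact_mod_cast h1J)
  rw [ha] at hdI
  rw [hb] at hdJ
  have haq' : a ≤ q := by exact_mod_cast hdI
  have hbp' : b ≤ p := by exact_mod_cast hdJ
  have haq : a = q := by omega
  have hbp : b = p := by omega
  refine ⟨?_, ?_, ?_⟩
  · apply IsRegularLocalRing.of_spanFinrank_maximalIdeal_le
    rw [ha, haq]; exact_mod_cast h1I
  · apply IsRegularLocalRing.of_spanFinrank_maximalIdeal_le
    rw [hb, hbp]; exact_mod_cast h1J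
  · subst hbp
    have hIeq : I = Ix := by
      by_contra hne
      have hlt : Ix < I := lt_of_le_of_ne hIxI (Ne.symm hne)
      obtain ⟨r, hrI, hrIx⟩ := SetLike.exists_of_lt hlt
      haveI : IsRegularLocalRing (A ⧸ Ix) := hregx
      haveI : IsDomain (A ⧸ Ix) :=
        Groth.Agent.Lib.Helper9.RegLocal.isDomain_of_isRegularLocalRing (A ⧸ Ix)
      have hr0 : Ideal.Quotient.mk Ix r ≠ 0 := by
        rwa [Ne, Ideal.Quotient.eq_zero_iff_mem]
      have hrnz : Ideal.Quotient.mk Ix r ∈ nonZeroDivisors (A ⧸ Ix) :=
        mem_nonZeroDivisors_of_ne_zero hr0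
      have h1 := ringKrullDim_succ_le_of_surjective (Ideal.Quotient.factor hIxI)
        (Ideal.Quotient.factor_surjective hIxI) hrnz (by
          rw [Ideal.Quotient.factor_mk, Ideal.Quotient.eq_zero_iff_mem]; exact hrI)
      rw [ha] at h1
      rw [hd, hdpq] at hdx
      have key : ∀ D : WithBot ℕ∞, D + ((p : ℕ) : WithBot ℕ∞) = ((q + p : ℕ) : WithBot ℕ∞) →
          ((a : ℕ) : WithBot ℕ∞) + 1 ≤ D → a + 1 ≤ q := by
        intro D h2 h3
        induction D using WithBot.recBotCoe with
        | bot =>
          rw [WithBot.bot_add] at h2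
          exact absurd h2.symm (WithBot.natCast_ne_bot _)
        | coe n =>
          induction n using ENat.recTopCoe with
          | top =>
            exfalso
            have h4 : ((⊤ : ℕ∞) + (p : ℕ∞) : ℕ∞) = ((q + p : ℕ) : ℕ∞) := by exact_mod_cast h2
            rw [top_add] at h4
            exact ENat.top_ne_coe _ h4
          | coe n =>
            have h4 : n + p = q + p := by exact_mod_cast h2
            have h5 : a + 1 ≤ n := by exact_mod_cast h3
            omega
      have := key _ hdx h1
      omega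
    refine ⟨fun i => (x i : A), hIeq, ?_⟩
    set x' : Fin p → A := fun i => (x i : A) with hx'def
    set y' : Fin q → A := fun j => (y j : A) with hy'def
    have hz : Ideal.span (Set.range (Fin.append x' y')) = maximalIdeal A := by
      rw [← hm]
      have hr : Set.range (Fin.append x' y') = Set.range x' ∪ Set.range y' := by
        ext r
        constructor
        · rintro ⟨i, rfl⟩
          induction i using Fin.addCases with
          | left i => rw [Fin.append_left]; exact Or.inl ⟨i, rfl⟩
          | right j => rw [Fin.append_right]; exact Or.inr ⟨j, rfl⟩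
        · rintro (⟨i, rfl⟩ | ⟨j, rfl⟩)
          · exact ⟨Fin.castAdd q i, Fin.append_left _ _ _⟩
          · exact ⟨Fin.natAdd p j, Fin.append_right _ _ _⟩
      rw [hr, Ideal.span_union]
    have hd' : ringKrullDim A = ((p + q : ℕ) : WithBot ℕ∞) := by
      rw [hd, hdpq, add_comm]
    have hreg := Groth.Agent.Lib.Helper26.RegSeq.isRegular_ofFn hd' (Fin.append x' y') hz
    rw [List.ofFn_fin_append] at hreg
    have hw := hreg.toIsWeaklyRegular
    rw [RingTheory.Sequence.isWeaklyRegular_append_iff] at hw
    refine RingTheory.Sequence.IsRegular.of_isWeaklyRegular_of_mem_maximalIdeal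
      (mem := ?_) (reg := hw.1)
    intro r hr
    rw [List.mem_ofFn] at hr
    obtain ⟨i, rfl⟩ := hr
    exact (x i).2

end Groth.Agent.Lib.Helper14.IntMultAlg
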