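import Mathlib
import Groth.Prelude.Def_IntMult
import Groth.Agent.Lib.Helper7.AusBuch
import Groth.Agent.Lib.Helper7.TorLES
import Groth.Agent.Lib.Helper7.TorLin
import Groth.Agent.Lib.Helper4.Depth
import Groth.Agent.Lib.Helper4.Depth2

/-!
# Tor-rigidity from depth (helper14)

* `idealDepth_le_tensor_of_flat`: `depth N ≤ depth (F ⊗ N)` for flat `F`.
* `tor_vanishing_of_depth`: over a Noetherian local ring, if `pd M ≤ e ≤ depth N` and the
  `Tor_i(M, N)`, `i ≥ 1`, are killed by an `𝔪`-primary ideal, then they vanish and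
  `depth N ≤ depth (M ⊗ N) + e` (acyclicity lemma / Auslander's depth formula).
-/

set_option autoImplicit false
universe u
open CategoryTheory TensorProduct RingTheory.Sequence IsLocalRing

namespace Groth.Agent.Lib.Helper14.IntMultAlg

open Groth.Agent.Lib.Helper4 Groth.Agent.Lib.Helper7

section depthFlat

variable {R : Type u} [CommRing R]

/-- tensoring with a flat module does not lower the depth -/
theorem idealDepth_le_tensor_of_flat (𝔪 : Ideal R) (F N : Type u) [AddCommGroup F] [Module R F]
    [Module.Flat R F] [AddCommGroup N] [Module R N] :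
    LocCoh.idealDepth 𝔪 N ≤ LocCoh.idealDepth 𝔪 (F ⊗[R] N) := by
  by_cases hF : 𝔪 • (⊤ : Submodule R (F ⊗[R] N)) = ⊤
  · rw [idealDepth_of_smul_top_eq 𝔪 hF]; exact le_top
  · have hN : 𝔪 • (⊤ : Submodule R N) ≠ ⊤ := by
      intro h
      apply hF
      rw [Submodule.eq_top_iff']
      intro z
      induction z using TensorProduct.induction_on with
      | zero => exact Submodule.zero_mem _
      | add x y hx hy => exact Submodule.add_mem _ hx hy
      | tmul f n =>
        have hn : n ∈ 𝔪 • (⊤ : Submodule R N) := by rw [h]; trivial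
        refine Submodule.smul_induction_on hn ?_ ?_
        · intro r hr n' _
          rw [TensorProduct.tmul_smul]
          exact Submodule.smul_mem_smul hr Submodule.mem_top
        · intro x y hx hy
          rw [TensorProduct.tmul_add]
          exact Submodule.add_mem _ hx hy
    rw [idealDepth_of_smul_top_ne 𝔪 hN]
    refine iSup₂_le ?_
    intro rs hrs
    exact length_le_idealDepth 𝔪 rs hrs.1.isWeaklyRegular_lTensor hrs.2

end depthFlat

section main

variable (R : Type u) [CommRing R] [IsLocalRing R] [IsNoetherianRing R]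

omit [IsNoetherianRing R] in
/-- a submodule killed by an `𝔪`-primary ideal inside a module of positive depth is zero -/
theorem eq_zero_of_killed_of_one_le_depth (𝔞 : Ideal R) (h𝔞 : maximalIdeal R ≤ 𝔞.radical)
    (X : Type u) [AddCommGroup X] [Module R X] [Module.Finite R X]
    (hX : 1 ≤ LocCoh.depth R X) (t : X) (ht : ∀ r ∈ 𝔞, r • t = 0) : t = 0 := by
  by_cases hnt : Nontrivial X
  · have hIM : maximalIdeal R • (⊤ : Submodule R X) ≠ ⊤ := maximalIdeal_smul_top_ne_top
    obtain ⟨x, hxm, hxreg⟩ := (one_le_idealDepth_iff (maximalIdeal R) hIM).mp hX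
    obtain ⟨k, hk⟩ := h𝔞 hxm
    have h1 := ht _ hk
    exact (hxreg.pow k) (h1.trans (smul_zero _).symm)
  · rw [not_nontrivial_iff_subsingleton] at hnt
    exact Subsingleton.elim _ _

/-- **Tor-rigidity from depth** (Auslander/Peskine–Szpiro): if `pd M ≤ e ≤ depth N` and all
`Tor_i(M, N)`, `i ≥ 1`, are killed by an `𝔪`-primary ideal, then they vanish and
`depth N ≤ depth (M ⊗ N) + e`. -/
theorem tor_vanishing_of_depth (𝔞 : Ideal R) (h𝔞 : maximalIdeal R ≤ 𝔞.radical)
    (N : Type u) [AddCommGroup N] [Module R N] [Module.Finite R N] :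
    ∀ (e : ℕ) (M : Type u) [AddCommGroup M] [Module R M] [Module.Finite R M],
      HasProjectiveDimensionLT (ModuleCat.of R M) (e + 1) →
      (e : ℕ∞) ≤ LocCoh.depth R N →
      (∀ i : ℕ, 1 ≤ i → ∀ z : DRing.Tor R i M N, ∀ r ∈ 𝔞, r • z = 0) →
      (∀ i : ℕ, 1 ≤ i → Subsingleton (DRing.Tor R i M N)) ∧
        LocCoh.depth R N ≤ LocCoh.depth R (M ⊗[R] N) + e := by
  intro e
  induction e with
  | zero =>
    intro M _ _ _ h1 _ _
    haveI : Module.Free R M := SyzFree.free_of_hasProjectiveDimensionLT_one R M h1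
    refine ⟨fun i hi => ?_, ?_⟩
    · exact Tor_subsingleton_of_flat_left (ModuleCat.of R M) (ModuleCat.of R N)
        (inferInstance : Module.Flat R M) i hi
    · rw [Nat.cast_zero, add_zero]
      exact idealDepth_le_tensor_of_flat (maximalIdeal R) M N
  | succ e ih =>
    intro M _ _ _ h1 hdN hkill
    obtain ⟨b, p, hp, -⟩ := AusBuch.exists_minimal_presentation R M
    let K := LinearMap.ker p
    let S : ShortComplex (ModuleCat.{u} R) :=
      ModuleCat.shortComplexOfCompEqZero K.subtype p
        (LinearMap.exact_subtype_ker_map p).linearMap_comp_eq_zero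
    have hS : S.ShortExact := ModuleCat.shortComplex_shortExact S
      (LinearMap.exact_subtype_ker_map p) K.injective_subtype hp
    haveI : Projective (ModuleCat.of R (Fin b → R)) :=
      (IsProjective.iff_projective (R := R) (Fin b → R)).1 inferInstance
    have hF : ∀ n, 1 ≤ n → HasProjectiveDimensionLT S.X₂ n := fun n hn =>
      hasProjectiveDimensionLT_of_ge (ModuleCat.of R (Fin b → R)) 1 n hn
    have hK1 : HasProjectiveDimensionLT (ModuleCat.of R K) (e + 1) :=
      hS.hasProjectiveDimensionLT_X₁ (e + 1) (hF _ (by omega)) h1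
    have hshift : ∀ k : ℕ, Nonempty (DRing.Tor R (k + 2) M N ≃ₗ[R] DRing.Tor R (k + 1) K N) :=
      fun k => nonempty_Tor_shift' K.subtype p K.injective_subtype
        (LinearMap.exact_subtype_ker_map p) hp (ModuleCat.of R N) k
    have hdN' : (e : ℕ∞) ≤ LocCoh.depth R N := le_trans (by exact_mod_cast Nat.le_succ e) hdN
    have hkillK : ∀ i : ℕ, 1 ≤ i → ∀ z : DRing.Tor R i K N, ∀ r ∈ 𝔞, r • z = 0 := by
      intro i hi z r hr
      obtain ⟨k, rfl⟩ : ∃ k, i = k + 1 := ⟨i - 1, by omega⟩
      obtain ⟨eq⟩ := hshift k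
      have h2 := hkill (k + 2) (by omega) (eq.symm z) r hr
      have h3 := congrArg eq h2
      rwa [map_smul, LinearEquiv.apply_symm_apply, map_zero] at h3
    obtain ⟨hTK, hdK⟩ := ih K hK1 hdN' hkillK
    -- `Tor_1(M, N) = ker (K ⊗ N → F ⊗ N)` vanishes
    obtain ⟨e1⟩ := nonempty_Tor1_equiv_ker' K.subtype p K.injective_subtype
      (LinearMap.exact_subtype_ker_map p) hp N
    have hdX : 1 ≤ LocCoh.depth R (↥K ⊗[R] N) := by
      have h2 : ((e + 1 : ℕ) : ℕ∞) ≤ LocCoh.depth R (↥K ⊗[R] N) + e := hdN.trans hdK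
      generalize LocCoh.depth R (↥K ⊗[R] N) = dX at h2
      induction dX using ENat.recTopCoe with
      | top => exact le_top
      | coe n =>
        have : e + 1 ≤ n + e := by exact_mod_cast h2
        exact_mod_cast (by omega : 1 ≤ n)
    have hker : LinearMap.ker (K.subtype.rTensor N) = ⊥ := by
      rw [eq_bot_iff]
      intro t ht
      rw [Submodule.mem_bot]
      apply eq_zero_of_killed_of_one_le_depth R 𝔞 h𝔞 (↥K ⊗[R] N) hdX t
      intro r hr
      have h2 := hkill 1 le_rfl (e1.symm ⟨t, ht⟩) r hr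
      have h3 := congrArg e1 h2
      rw [map_smul, LinearEquiv.apply_symm_apply, map_zero] at h3
      exact congrArg Subtype.val h3
    refine ⟨?_, ?_⟩
    · intro i hi
      rcases Nat.lt_or_ge i 2 with h2 | h2
      · obtain rfl : i = 1 := by omega
        haveI : Subsingleton (LinearMap.ker (K.subtype.rTensor N)) := by
          rw [hker]; infer_instance
        exact e1.toEquiv.subsingleton
      · obtain ⟨k, rfl⟩ : ∃ k, i = k + 2 := ⟨i - 2, by omega⟩
        obtain ⟨eq⟩ := hshift k
        haveI := hTK (k + 1) (by omega)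
        exact eq.toEquiv.subsingleton
    · have hinj : Function.Injective (K.subtype.rTensor N) := by
        rw [injective_iff_map_eq_zero]
        intro t ht
        have h2 : t ∈ LinearMap.ker (K.subtype.rTensor N) := ht
        rw [hker] at h2
        exact h2
      have hex : Function.Exact (K.subtype.rTensor N) (p.rTensor N) :=
        rTensor_exact N (LinearMap.exact_subtype_ker_map p) hp
      have hsurj : Function.Surjective (p.rTensor N) := LinearMap.rTensor_surjective N hp
      obtain ⟨-, hdl2, -⟩ := idealDepth_shortExact (maximalIdeal R) (N' := ↥K ⊗[R] N)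
        (N := (Fin b → R) ⊗[R] N) (N'' := M ⊗[R] N) (K.subtype.rTensor N)
        (p.rTensor N) hinj hsurj hex
      have hdF : LocCoh.depth R N ≤ LocCoh.depth R ((Fin b → R) ⊗[R] N) :=
        idealDepth_le_tensor_of_flat (maximalIdeal R) (Fin b → R) N
      change min (LocCoh.depth R ((Fin b → R) ⊗[R] N)) (LocCoh.depth R (↥K ⊗[R] N) - 1) ≤
        LocCoh.depth R (M ⊗[R] N) at hdl2
      rcases min_le_iff.mp hdl2 with h | h
      · exact (hdF.trans h).trans le_self_add
      · have h2 : LocCoh.depth R (↥K ⊗[R] N) ≤ LocCoh.depth R (M ⊗[R] N) + 1 :=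
          tsub_le_iff_right.mp h
        calc LocCoh.depth R N ≤ LocCoh.depth R (↥K ⊗[R] N) + e := hdK
          _ ≤ LocCoh.depth R (M ⊗[R] N) + 1 + e := by gcongr
          _ = LocCoh.depth R (M ⊗[R] N) + ((e + 1 : ℕ) : ℕ∞) := by
            push_cast; rw [add_assoc, add_comm (1 : ℕ∞) (e : ℕ∞)]

end main

end Groth.Agent.Lib.Helper14.IntMultAlg
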