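import Mathlib
import Groth.Prelude.Def_IntMult
import Groth.Agent.Lib.Helper14.TorDepth
import Groth.Agent.Lib.Helper14.IntMultAlgA
import Groth.Agent.Lib.Helper4.RegCM
import Groth.Agent.S0563

/-!
# Serre's Tor-formula for Cohen–Macaulay pairs (helper14)

* `chi_eq_length_of_cm_cm`: in a regular local ring, if `A/I`, `A/J` are Cohen–Macaulay with
  `dim A ≤ dim A/I + dim A/J` and the only prime containing `I + J` is the maximal ideal, then
  `χ(A/J, A/I) = length (A/(I + J))`.
-/

set_option autoImplicit false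
universe u
open CategoryTheory TensorProduct RingTheory.Sequence IsLocalRing

namespace Groth.Agent.Lib.Helper14.IntMultAlg

open Groth.Agent.Lib.Helper4 Groth.Agent.Lib.Helper7

/-- depth of a Cohen–Macaulay quotient over the ambient ring -/
theorem depth_quot_of_cm (A : Type u) [CommRing A] [IsLocalRing A] (I : Ideal A)
    (hI : LocCoh.IsCohenMacaulayLocalRing (A ⧸ I)) (a : ℕ) (ha : ringKrullDim (A ⧸ I) = a) :
    LocCoh.depth A (A ⧸ I) = a := by
  haveI : IsLocalRing (A ⧸ I) := hI.toIsLocalRing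
  have hs : Function.Surjective (algebraMap A (A ⧸ I)) := Ideal.Quotient.mk_surjective
  rw [Groth.Agent.Lib.Helper14.CMMod.depth_eq_of_surjective hs (A ⧸ I)]
  have h1 := hI.supportDim_eq_depth
  rw [Module.supportDim_self_eq_ringKrullDim, ha] at h1
  exact_mod_cast h1.symm

/-- Serre: for Cohen–Macaulay quotients of complementary dimension of a regular local ring with
Artinian intersection, `χ` is the length of the intersection. -/
theorem chi_eq_length_of_cm_cm (A : Type u) [CommRing A] [IsRegularLocalRing A] (I J : Ideal A)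
    (hI : LocCoh.IsCohenMacaulayLocalRing (A ⧸ I)) (hJ : LocCoh.IsCohenMacaulayLocalRing (A ⧸ J))
    (d a b : ℕ) (hd : ringKrullDim A = d) (ha : ringKrullDim (A ⧸ I) = a)
    (hb : ringKrullDim (A ⧸ J) = b) (hab : d ≤ a + b)
    (hP : ∀ P : Ideal A, P.IsPrime → I ≤ P → J ≤ P → P = maximalIdeal A) :
    IntMult.chi A (A ⧸ J) (A ⧸ I) = ((Module.length A (A ⧸ (I ⊔ J))).toNat : ℤ) := by
  classical
  have hdA : LocCoh.depth A A = d := by
    have h1 := RegCM.depth_eq_ringKrullDim A
    rw [hd] at h1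
    exact_mod_cast h1
  have hdI := depth_quot_of_cm A I hI a ha
  have hdJ := depth_quot_of_cm A J hJ b hb
  haveI : IsLocalRing (A ⧸ J) := hJ.toIsLocalRing
  -- the projective dimension of `A/J`
  have hex : ∃ e : ℕ, HasProjectiveDimensionLT (ModuleCat.of A (A ⧸ J)) (e + 1) :=
    ⟨d, Groth.Agent.S0563.result A d hd (A ⧸ J)⟩
  have he := Nat.find_spec hex
  have hea : Nat.find hex ≤ a := by
    rcases Nat.eq_zero_or_pos (Nat.find hex) with h0 | hpos
    · omega
    · have hmin := Nat.find_min hex (Nat.sub_lt hpos Nat.one_pos)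
      rw [Nat.sub_add_cancel hpos] at hmin
      have h1 := AusBuch.depth_eq_add A (Nat.find hex) (A ⧸ J) he hmin
      rw [hdA, hdJ] at h1
      have h2 : d = Nat.find hex + b := by exact_mod_cast h1
      omega
  have h𝔞 : maximalIdeal A ≤ (I ⊔ J).radical := by
    rw [Ideal.radical_eq_sInf]
    refine le_sInf ?_
    rintro P ⟨hle, hPp⟩
    rw [hP P hPp (le_sup_left.trans hle) (le_sup_right.trans hle)]
  have hkill : ∀ i : ℕ, 1 ≤ i → ∀ z : DRing.Tor A i (A ⧸ J) (A ⧸ I), ∀ r ∈ I ⊔ J, r • z = 0 := by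
    intro i _ z r hr
    obtain ⟨x, hx, y, hy, rfl⟩ := Submodule.mem_sup.mp hr
    rw [add_smul]
    have h1 : x • z = 0 := tor_smul_eq_zero_of_smul_eq_zero i (ModuleCat.of A (A ⧸ J))
      (ModuleCat.of A (A ⧸ I)) x (fun w => by
        obtain ⟨w, rfl⟩ := Ideal.Quotient.mk_surjective (I := I) w
        show x • Ideal.Quotient.mk I w = 0
        rw [Algebra.smul_def, Ideal.Quotient.algebraMap_eq, ← map_mul,
          Ideal.Quotient.eq_zero_iff_mem]
        exact I.mul_mem_right _ hx) z
    have h2 : y • z = 0 := tor_smul_eq_zero_of_smul_eq_zero_left i (ModuleCat.of A (A ⧸ J))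
      (ModuleCat.of A (A ⧸ I)) y (fun w => by
        obtain ⟨w, rfl⟩ := Ideal.Quotient.mk_surjective (I := J) w
        show y • Ideal.Quotient.mk J w = 0
        rw [Algebra.smul_def, Ideal.Quotient.algebraMap_eq, ← map_mul,
          Ideal.Quotient.eq_zero_iff_mem]
        exact J.mul_mem_right _ hy) z
    rw [h1, h2, add_zero]
  have hvan := (tor_vanishing_of_depth A (I ⊔ J) h𝔞 (A ⧸ I) (Nat.find hex) (A ⧸ J) he
    (by rw [hdI]; exact_mod_cast hea) hkill).1
  rw [chi_eq_of_tor_vanishing _ _ hvan, length_quot_tensor_quot, sup_comm]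

end Groth.Agent.Lib.Helper14.IntMultAlg
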