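import Mathlib
import Groth.Prelude.Def_IntMult
import Groth.Agent.Lib.Helper14.IntMultGeoA
import Groth.Agent.Lib.Helper14.IntMultAlgA

/-!
# Geometry of the Tor-formula intersection multiplicity, II (helper14)

* `stalkIdeal_le_maximalIdeal`: the stalk of an ideal sheaf at a point of its support is a proper
  ideal.
* `ringKrullDim_quot_sup_eq_zero`: `O_{X,ξ}/(I_{W,ξ} + I_{V,ξ})` has dimension `0` at a maximal point
  of `V ∩ W`.
-/

set_option autoImplicit false
universe u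
open AlgebraicGeometry CategoryTheory

namespace Groth.Agent.Lib.Helper14.IntMultGeo

theorem stalkIdeal_le_maximalIdeal {X : Scheme.{u}} (I : X.IdealSheafData) (ξ : X)
    (hξ : ξ ∈ I.support) :
    IntMult.stalkIdeal I ξ ≤ IsLocalRing.maximalIdeal (X.presheaf.stalk ξ) := by
  obtain ⟨z, rfl⟩ := Groth.Agent.Lib.Lead.IntMultCartier.exists_subscheme_point I ξ hξ
  apply IsLocalRing.le_maximalIdeal
  rw [Groth.Agent.Lib.Lead.IntMultCartier.stalkIdeal_eq_ker]
  exact RingHom.ker_ne_top _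

theorem ringKrullDim_quot_sup_eq_zero {X : Scheme.{u}} (IV IW : X.IdealSheafData) (ξ : X)
    (hξV : ξ ∈ IV.support) (hξW : ξ ∈ IW.support)
    (hmax : ∀ ξ' : X, ξ' ∈ IV.support → ξ' ∈ IW.support → ξ' ⤳ ξ → ξ' = ξ) :
    ringKrullDim (X.presheaf.stalk ξ ⧸ (IntMult.stalkIdeal IW ξ ⊔ IntMult.stalkIdeal IV ξ)) = 0 :=
  Groth.Agent.Lib.Helper14.IntMultAlg.ringKrullDim_quot_sup_eq_zero
    (IntMult.stalkIdeal IW ξ) (IntMult.stalkIdeal IV ξ)
    (stalkIdeal_le_maximalIdeal IW ξ hξW) (stalkIdeal_le_maximalIdeal IV ξ hξV)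
    (fun P hP hWP hVP => by
      haveI := hP
      exact eq_maximalIdeal_of_le IV IW ξ hmax P hVP hWP)

end Groth.Agent.Lib.Helper14.IntMultGeo
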