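import Mathlib

/-!
# Isomorphisms via charts

`isIso_of_charts`: a morphism `r : X ⟶ Y` is an isomorphism if there are open immersions
`c i : V i ⟶ X`, `a i : W i ⟶ Y` and isomorphisms `t i : V i ⟶ W i` with `c i ≫ r = t i ≫ a i`,
the `a i` cover `Y`, and `r⁻¹ (range (a i)) = range (c i)`.
-/

open CategoryTheory AlgebraicGeometry

namespace Groth.Agent.Lib.Helper14

universe u

theorem isIso_of_charts {X Y : Scheme.{u}} (r : X ⟶ Y) {ι : Type*} {V W : ι → Scheme.{u}}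
    (c : ∀ i, V i ⟶ X) (a : ∀ i, W i ⟶ Y) [∀ i, IsOpenImmersion (c i)]
    [∀ i, IsOpenImmersion (a i)] (t : ∀ i, V i ⟶ W i) [∀ i, IsIso (t i)]
    (h : ∀ i, c i ≫ r = t i ≫ a i) (hcov : ⨆ i, (a i).opensRange = ⊤)
    (hpre : ∀ i, r ⁻¹ᵁ (a i).opensRange = (c i).opensRange) : IsIso r := by
  change MorphismProperty.isomorphisms Scheme r
  rw [IsZariskiLocalAtTarget.iff_of_iSup_eq_top (P := .isomorphisms Scheme) _ hcov]
  intro i
  let U := (a i).opensRange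
  let e₂ : W i ≅ U.toScheme := IsOpenImmersion.isoOfRangeEq (a i) U.ι (by
    rw [Scheme.Opens.range_ι]; rfl)
  let e₁ : V i ≅ (r ⁻¹ᵁ U).toScheme := IsOpenImmersion.isoOfRangeEq (c i) (r ⁻¹ᵁ U).ι (by
    rw [Scheme.Opens.range_ι, hpre]; rfl)
  have h1 : e₁.hom ≫ (r ∣_ U) = t i ≫ e₂.hom := by
    rw [← cancel_mono U.ι, Category.assoc, morphismRestrict_ι, Category.assoc,
      IsOpenImmersion.isoOfRangeEq_hom_fac, IsOpenImmersion.isoOfRangeEq_hom_fac_assoc, h]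
  have h2 : r ∣_ U = e₁.inv ≫ t i ≫ e₂.hom := by
    rw [← h1, Iso.inv_hom_id_assoc]
  change IsIso (r ∣_ U)
  rw [h2]
  infer_instance

end Groth.Agent.Lib.Helper14
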