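import Mathlib.AlgebraicGeometry.Noetherian
import Mathlib.Topology.NoetherianSpace
import Mathlib.Topology.Sober

/-!
# Isolated points in (locally) Noetherian sober spaces

* `isOpen_singleton_of_isClosed_of_forall_specializes`: in a Noetherian quasi-sober `T₀` space a closed
  point without proper generizations is open.
* `Scheme.isOpen_singleton_of_isClosed_of_forall_specializes`: the same in a locally Noetherian scheme.
* `finite_setOf_isOpen_singleton`: a Noetherian space has only finitely many open points.
-/

set_option autoImplicit false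
universe u
open TopologicalSpace AlgebraicGeometry

namespace Groth.Agent.Lib.Helper14

theorem isOpen_singleton_of_isClosed_of_forall_specializes {W : Type*} [TopologicalSpace W]
    [NoetherianSpace W] [QuasiSober W] (a : W) (hcl : IsClosed ({a} : Set W))
    (hgen : ∀ y : W, y ⤳ a → y = a) : IsOpen ({a} : Set W) := by
  have hfin := NoetherianSpace.finite_irreducibleComponents (α := W)
  have hcompl : ({a} : Set W)ᶜ = ⋃₀ (irreducibleComponents W \ {{a}}) := by
    ext y
    constructor
    · intro hy
      refine ⟨irreducibleComponent y,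
        ⟨irreducibleComponent_mem_irreducibleComponents y, ?_⟩, mem_irreducibleComponent⟩
      intro h
      have h' : irreducibleComponent y = {a} := h
      have : y ∈ ({a} : Set W) := h' ▸ mem_irreducibleComponent
      exact hy this
    · rintro ⟨Z, ⟨hZ, hZa⟩, hyZ⟩ hya
      obtain ⟨ξ, hξ⟩ := QuasiSober.sober hZ.1 (isClosed_of_mem_irreducibleComponents Z hZ)
      have hya' : y = a := hya
      have h1 : ξ ⤳ a := hξ.specializes (hya' ▸ hyZ)
      have h2 := hgen ξ h1
      apply hZa
      rw [Set.mem_singleton_iff, ← hξ.def, h2, hcl.closure_eq]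
  rw [← isClosed_compl_iff, hcompl, Set.sUnion_eq_biUnion]
  exact (hfin.subset Set.diff_subset).isClosed_biUnion fun Z hZ =>
    isClosed_of_mem_irreducibleComponents Z hZ.1

theorem _root_.AlgebraicGeometry.Scheme.isOpen_singleton_of_isClosed_of_forall_specializes
    (Z : Scheme.{u}) [IsLocallyNoetherian Z] (a : Z) (hcl : IsClosed ({a} : Set Z))
    (hgen : ∀ y : Z, y ⤳ a → y = a) : IsOpen ({a} : Set Z) := by
  obtain ⟨_, ⟨(W : Z.Opens), hW : IsAffineOpen W, rfl⟩, haW, -⟩ :=
    Z.isBasis_affineOpens.exists_subset_of_mem_open (Set.mem_univ a) isOpen_univ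
  have : IsNoetherianRing Γ(Z, W) := IsLocallyNoetherian.component_noetherian ⟨W, hW⟩
  have : NoetherianSpace ↥W := noetherianSpace_of_isAffineOpen W hW
  have : QuasiSober ↥W := W.isOpenEmbedding'.quasiSober
  have hcl' : IsClosed ({⟨a, haW⟩} : Set ↥W) := by
    have := hcl.preimage (continuous_subtype_val (p := fun x => x ∈ W))
    convert this using 1
    ext y
    simp [Subtype.ext_iff]
  have hopen : IsOpen ({⟨a, haW⟩} : Set ↥W) := by
    apply Groth.Agent.Lib.Helper14.isOpen_singleton_of_isClosed_of_forall_specializes _ hcl'
    intro y hy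
    have := hgen y.1 (hy.map continuous_subtype_val)
    exact Subtype.ext this
  have := W.2.isOpenMap_subtype_val _ hopen
  simpa using this

theorem finite_setOf_isOpen_singleton (W : Type*) [TopologicalSpace W] [NoetherianSpace W] :
    {a : W | IsOpen ({a} : Set W)}.Finite := by
  set D : Set W := {a : W | IsOpen ({a} : Set W)} with hD
  have hc : IsCompact D := NoetherianSpace.isCompact D
  have hdisc : DiscreteTopology ↥D := by
    rw [discreteTopology_iff_isOpen_singleton]
    intro a
    have : ({a} : Set ↥D) = Subtype.val ⁻¹' ({a.1} : Set W) := by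
      ext y; simp [Subtype.ext_iff]
    rw [this]
    exact a.2.preimage continuous_subtype_val
  have : CompactSpace ↥D := isCompact_iff_compactSpace.mp hc
  have : Finite ↥D := finite_of_compact_of_discrete
  exact Set.toFinite D

end Groth.Agent.Lib.Helper14
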