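import Mathlib

/-!
# Kernel of `Ω[P/R] → Ω[B/R]` for a surjection `P → B`

`ker_map_le`: the kernel is contained in `span {dg | g ∈ I} ⊔ I • ⊤`, `I = ker (P → B)`.
-/

open TensorProduct

namespace Groth.Agent.Lib.Helper14

universe u v w

section

variable {P : Type u} {B : Type v} [CommRing P] [CommRing B] [Algebra P B]
  {M : Type w} [AddCommGroup M] [Module P M]

/-- If `P → B` is surjective and `1 ⊗ m = 0` in `B ⊗[P] M`, then `m ∈ I M`. -/
theorem mem_ker_smul_top_of_one_tmul_eq_zero (h : Function.Surjective (algebraMap P B)) (m : M)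
    (hm : (1 : B) ⊗ₜ[P] m = 0) : m ∈ (RingHom.ker (algebraMap P B)) • (⊤ : Submodule P M) := by
  let I := RingHom.ker (algebraMap P B)
  let e : (P ⧸ I) ≃ₐ[P] B :=
    Ideal.quotientKerAlgEquivOfSurjective (f := Algebra.ofId P B) h
  let ψ : B ⊗[P] M ≃ₗ[P] M ⧸ (I • (⊤ : Submodule P M)) :=
    (TensorProduct.congr e.symm.toLinearEquiv (LinearEquiv.refl P M)) ≪≫ₗ
      TensorProduct.quotTensorEquivQuotSMul M I
  have h1 : ψ ((1 : B) ⊗ₜ[P] m) = Submodule.Quotient.mk m := by
    simp only [ψ, LinearEquiv.trans_apply, TensorProduct.congr_tmul, LinearEquiv.refl_apply,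
      AlgEquiv.toLinearEquiv_apply, map_one]
    exact TensorProduct.quotTensorEquivQuotSMul_mk_one_tmul I m
  rw [hm, map_zero] at h1
  exact (Submodule.Quotient.mk_eq_zero _).mp h1.symm

end

section

variable (R : Type u) (P : Type v) (B : Type w) [CommRing R] [CommRing P] [CommRing B]
  [Algebra R P] [Algebra P B] [Algebra R B] [IsScalarTower R P B]

theorem span_D_ker_le_ker_map :
    Submodule.span P (KaehlerDifferential.D R P '' (RingHom.ker (algebraMap P B) : Set P)) ≤
      LinearMap.ker (KaehlerDifferential.map R R P B) := by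
  rw [Submodule.span_le]
  rintro _ ⟨g, hg, rfl⟩
  have hg' : algebraMap P B g = 0 := hg
  simp [hg']

theorem ker_map_le (h : Function.Surjective (algebraMap P B)) :
    LinearMap.ker (KaehlerDifferential.map R R P B) ≤
      Submodule.span P (KaehlerDifferential.D R P '' (RingHom.ker (algebraMap P B) : Set P)) ⊔
        (RingHom.ker (algebraMap P B)) • (⊤ : Submodule P (KaehlerDifferential R P)) := by
  intro ω hω
  have h1 : KaehlerDifferential.mapBaseChange R P B ((1 : B) ⊗ₜ[P] ω) = 0 := by
    rw [KaehlerDifferential.mapBaseChange_tmul, one_smul]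
    exact hω
  obtain ⟨c, hc⟩ :=
    (KaehlerDifferential.exact_kerCotangentToTensor_mapBaseChange R P B h _).mp h1
  obtain ⟨g, rfl⟩ := Ideal.toCotangent_surjective _ c
  rw [KaehlerDifferential.kerCotangentToTensor_toCotangent] at hc
  have h2 : (1 : B) ⊗ₜ[P] (ω - KaehlerDifferential.D R P g.1) = 0 := by
    rw [TensorProduct.tmul_sub, hc, sub_self]
  have h3 := mem_ker_smul_top_of_one_tmul_eq_zero h _ h2
  have : ω = KaehlerDifferential.D R P g.1 + (ω - KaehlerDifferential.D R P g.1) := by abel
  rw [this]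
  exact Submodule.add_mem_sup (Submodule.subset_span ⟨g.1, g.2, rfl⟩) h3

end

end Groth.Agent.Lib.Helper14
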