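import Mathlib
import Groth.Agent.Lib.Helper14.KaehlerKer

/-!
# Vanishing of the localized module of differentials of a quotient

For `P → B` surjective with kernel `I`, `q` a prime of `B` and `𝔮` its preimage:
`(Ω[B/R])_q = 0` iff the `dg`, `g ∈ I`, span `(Ω[P/R])_𝔮`, if `Ω[P/R]` is a finite `P`-module.
-/

open TensorProduct

namespace Groth.Agent.Lib.Helper14

universe u v w

section

variable {P : Type u} [CommRing P] {M : Type v} [AddCommGroup M] [Module P M]

theorem localized'_eq_top_iff (𝔮 : Ideal P) [𝔮.IsPrime] (N : Submodule P M) :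
    N.localized' (Localization.AtPrime 𝔮) 𝔮.primeCompl
        (LocalizedModule.mkLinearMap 𝔮.primeCompl M) = ⊤ ↔
      ∀ ω : M, ∃ t ∉ 𝔮, t • ω ∈ N := by
  constructor
  · intro h ω
    have h1 : LocalizedModule.mkLinearMap 𝔮.primeCompl M ω ∈
        N.localized' (Localization.AtPrime 𝔮) 𝔮.primeCompl
          (LocalizedModule.mkLinearMap 𝔮.primeCompl M) := by
      rw [h]; trivial
    obtain ⟨m, hm, s, hs⟩ := (Submodule.mem_localized' _ _ _ _ _).mp h1
    rw [IsLocalizedModule.mk'_eq_iff, Submonoid.smul_def, ← map_smul] at hs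
    obtain ⟨c, hc⟩ := (IsLocalizedModule.eq_iff_exists 𝔮.primeCompl
      (LocalizedModule.mkLinearMap 𝔮.primeCompl M)).mp hs
    refine ⟨(c : P) * (s : P), (c * s).2, ?_⟩
    rw [mul_smul]
    have : (c : P) • ((s : P) • ω) = (c : P) • m := hc.symm
    rw [this]
    exact N.smul_mem _ hm
  · intro h
    rw [eq_top_iff]
    rintro x -
    obtain ⟨⟨ω, s⟩, rfl⟩ := IsLocalizedModule.mk'_surjective 𝔮.primeCompl
      (LocalizedModule.mkLinearMap 𝔮.primeCompl M) x
    obtain ⟨t, ht, htω⟩ := h ω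
    refine (Submodule.mem_localized' _ _ _ _ _).mpr ⟨t • ω, htω, (⟨t, ht⟩ : 𝔮.primeCompl) * s, ?_⟩
    exact IsLocalizedModule.mk'_cancel_left (f := LocalizedModule.mkLinearMap 𝔮.primeCompl M)
      ω (⟨t, ht⟩ : 𝔮.primeCompl) s

/-- Nakayama in support form: if `M/N` is finite, `I ≤ 𝔮` and every `ω` has a multiple
`t ω ∈ N + I M` with `t ∉ 𝔮`, then every `ω` has a multiple in `N`. -/
theorem exists_smul_mem_of_exists_smul_mem_sup [Module.Finite P M] (𝔮 : Ideal P) [𝔮.IsPrime]
    (I : Ideal P) (hI : I ≤ 𝔮) (N : Submodule P M)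
    (h : ∀ ω : M, ∃ t ∉ 𝔮, t • ω ∈ N ⊔ I • (⊤ : Submodule P M)) :
    ∀ ω : M, ∃ t ∉ 𝔮, t • ω ∈ N := by
  let 𝔮' : PrimeSpectrum P := ⟨𝔮, inferInstance⟩
  have h1 : 𝔮' ∉ Module.support P ((M ⧸ N) ⧸ (I • (⊤ : Submodule P (M ⧸ N)))) := by
    rw [Module.notMem_support_iff']
    intro m
    obtain ⟨m, rfl⟩ := Submodule.mkQ_surjective _ m
    obtain ⟨ω, rfl⟩ := Submodule.mkQ_surjective _ m
    obtain ⟨t, ht, htω⟩ := h ω
    refine ⟨t, ht, ?_⟩
    rw [← map_smul, ← map_smul, Submodule.mkQ_apply, Submodule.Quotient.mk_eq_zero]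
    obtain ⟨n, hn, i, hi, hni⟩ := Submodule.mem_sup.mp htω
    have h2 : N.mkQ (t • ω) = N.mkQ i := by
      have h0 : N.mkQ n = 0 := by
        rw [Submodule.mkQ_apply]
        exact (Submodule.Quotient.mk_eq_zero N).mpr hn
      rw [← hni, map_add, h0, zero_add]
    rw [h2]
    have h3 : N.mkQ i ∈ (I • (⊤ : Submodule P M)).map N.mkQ := Submodule.mem_map_of_mem hi
    rw [Submodule.map_smul''] at h3
    exact Submodule.smul_mono le_rfl le_top h3
  rw [Module.support_quotient] at h1
  have h4 : 𝔮' ∉ Module.support P (M ⧸ N) := fun h5 => h1 ⟨h5, fun x hx => hI hx⟩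
  rw [Module.notMem_support_iff'] at h4
  intro ω
  obtain ⟨r, hr, hrω⟩ := h4 (N.mkQ ω)
  refine ⟨r, hr, ?_⟩
  rwa [← map_smul, Submodule.mkQ_apply, Submodule.Quotient.mk_eq_zero] at hrω

end

section

variable (R : Type u) (P : Type v) (B : Type w) [CommRing R] [CommRing P] [CommRing B]
  [Algebra R P] [Algebra P B] [Algebra R B] [IsScalarTower R P B]

theorem kaehler_localized_subsingleton_iff [Module.Finite P (KaehlerDifferential R P)]
    (h : Function.Surjective (algebraMap P B)) (q : Ideal B) [q.IsPrime] :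
    Subsingleton (LocalizedModule q.primeCompl (KaehlerDifferential R B)) ↔
      Submodule.span (Localization.AtPrime (q.comap (algebraMap P B)))
        ((LocalizedModule.mkLinearMap (q.comap (algebraMap P B)).primeCompl
            (KaehlerDifferential R P)) ''
          ((KaehlerDifferential.D R P) '' (RingHom.ker (algebraMap P B) : Set P))) = ⊤ := by
  set I := RingHom.ker (algebraMap P B) with hI
  set 𝔮 := q.comap (algebraMap P B) with h𝔮
  set N := Submodule.span P (KaehlerDifferential.D R P '' (I : Set P)) with hN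
  have hI𝔮 : I ≤ 𝔮 := fun x hx => by
    change algebraMap P B x ∈ q
    rw [show algebraMap P B x = 0 from hx]
    exact q.zero_mem
  rw [← Submodule.localized'_span (Localization.AtPrime 𝔮) 𝔮.primeCompl
    (LocalizedModule.mkLinearMap 𝔮.primeCompl (KaehlerDifferential R P)), localized'_eq_top_iff]
  have K2 : Subsingleton (LocalizedModule q.primeCompl (KaehlerDifferential R B)) ↔
      ∀ ω : KaehlerDifferential R P, ∃ t ∉ 𝔮,
        t • ω ∈ LinearMap.ker (KaehlerDifferential.map R R P B) := by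
    rw [LocalizedModule.subsingleton_iff]
    constructor
    · intro H ω
      obtain ⟨s, hs, hsω⟩ := H (KaehlerDifferential.map R R P B ω)
      obtain ⟨t, rfl⟩ := h s
      refine ⟨t, hs, ?_⟩
      rw [LinearMap.mem_ker, map_smul, ← algebraMap_smul B t, hsω]
    · intro H ω'
      obtain ⟨ω, rfl⟩ := KaehlerDifferential.map_surjective_of_surjective R R P B h ω'
      obtain ⟨t, ht, htω⟩ := H ω
      refine ⟨algebraMap P B t, ht, ?_⟩
      rw [algebraMap_smul, ← map_smul]
      exact htω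
  rw [K2]
  constructor
  · intro H
    refine exists_smul_mem_of_exists_smul_mem_sup 𝔮 I hI𝔮 N fun ω => ?_
    obtain ⟨t, ht, htω⟩ := H ω
    exact ⟨t, ht, ker_map_le R P B h htω⟩
  · intro H ω
    obtain ⟨t, ht, htω⟩ := H ω
    exact ⟨t, ht, span_D_ker_le_ker_map R P B htω⟩

end

end Groth.Agent.Lib.Helper14
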