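import Groth.Agent.Lib.Helper14.KoszulFun

/-!
# Compatibility of the cone-model Koszul complex with additive functors

For an additive functor `G : ModuleCat R ⥤ ModuleCat R'` and lists `l`, `l'` such that `G` sends
multiplication by `l_i` to multiplication by `l'_i`, `G(K(M; l)) ≅ K(G M; l')`.
-/

set_option autoImplicit false

universe u

open CategoryTheory CategoryTheory.Limits CochainComplex HomComplex

namespace Groth.Agent.Lib.Helper14.KoszulFun

open CohIII

section coneIso

variable {A : Type u} [CommRing A] (g : A) {X Y : CochainComplex (ModuleCat.{u} A) ℤ}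

lemma coneMap_id : coneMap g (𝟙 X) = 𝟙 (T g X) := by
  have := coneMap_smul_id (X := X) g (1 : A)
  rwa [one_smul, one_smul] at this

/-- Functoriality of the cone in isomorphisms. -/
noncomputable def coneIso (e : X ≅ Y) : T g X ≅ T g Y where
  hom := coneMap g e.hom
  inv := coneMap g e.inv
  hom_inv_id := by rw [← coneMap_comp, e.hom_inv_id, coneMap_id]
  inv_hom_id := by rw [← coneMap_comp, e.inv_hom_id, coneMap_id]

end coneIso

section iso

variable {A : Type u} [CommRing A]

lemma koszulMap_id (M : ModuleCat.{u} A) (l : List A) : koszulMap (𝟙 M) l = 𝟙 _ := by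
  have := koszulMap_smul_id M (1 : A) l
  rwa [one_smul, one_smul] at this

/-- An isomorphism of modules induces an isomorphism of Koszul complexes. -/
noncomputable def koszulIso {M N : ModuleCat.{u} A} (e : M ≅ N) (l : List A) :
    koszulCx M l ≅ koszulCx N l where
  hom := koszulMap e.hom l
  inv := koszulMap e.inv l
  hom_inv_id := by rw [← koszulMap_comp, e.hom_inv_id, koszulMap_id]
  inv_hom_id := by rw [← koszulMap_comp, e.inv_hom_id, koszulMap_id]

end iso

section functor

variable {R R' : Type u} [CommRing R] [CommRing R']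
  (G : ModuleCat.{u} R ⥤ ModuleCat.{u} R') [G.Additive]

/-- The compatibility relation between scalars of `R` and `R'` under `G`. -/
def ScalarCompat (r : R) (r' : R') : Prop :=
  ∀ X : ModuleCat.{u} R, G.map (r • 𝟙 X) = r' • 𝟙 (G.obj X)

lemma map_smul_id_of_compat {r : R} {r' : R'} (h : ScalarCompat G r r')
    (K : CochainComplex (ModuleCat.{u} R) ℤ) :
    (G.mapHomologicalComplex (ComplexShape.up ℤ)).map (r • 𝟙 K) =
      r' • 𝟙 ((G.mapHomologicalComplex (ComplexShape.up ℤ)).obj K) := by
  ext i : 1
  exact h (K.X i)

/-- `G(K(M; l)) ≅ K(G M; l')`. -/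
theorem nonempty_mapKoszulIso (M : ModuleCat.{u} R) {l : List R} {l' : List R'}
    (h : List.Forall₂ (ScalarCompat G) l l') :
    Nonempty ((G.mapHomologicalComplex (ComplexShape.up ℤ)).obj (koszulCx M l) ≅
      koszulCx (G.obj M) l') := by
  induction h with
  | nil =>
    exact ⟨(HomologicalComplex.singleMapHomologicalComplex G (ComplexShape.up ℤ) 0).app M⟩
  | @cons r r' l l' hr _ ih =>
    obtain ⟨e⟩ := ih
    have e1 := mappingCone.mapHomologicalComplexIso (r • 𝟙 (koszulCx M l)) G
    rw [map_smul_id_of_compat G hr] at e1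
    exact ⟨e1 ≪≫ coneIso r' e⟩

end functor

end Groth.Agent.Lib.Helper14.KoszulFun
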