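import Groth.Agent.Lib.Helper14.KoszulTop
import Groth.Agent.Lib.Helper14.KoszulReg
import Groth.Agent.Lib.Helper4.Koszul

/-!
# Depth sensitivity of the Koszul complex
-/

set_option autoImplicit false

universe u

open CategoryTheory CategoryTheory.Limits CochainComplex HomComplex

namespace Groth.Agent.Lib.Helper14.KoszulFun

variable {A : Type u} [CommRing A]

open CohIII RingTheory.Sequence Pointwise

/-- The Koszul complex vanishes in degrees below `-length`. -/
lemma isZero_koszulCx_X_neg (M : ModuleCat.{u} A) :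
    ∀ (xs : List A) (n : ℤ), n < -(xs.length : ℤ) → IsZero ((koszulCx M xs).X n)
  | [], n, hn => HomologicalComplex.isZero_single_obj_X _ _ _ _ (by simp at hn; omega)
  | x :: xs, n, hn => by
    rw [show koszulCx M (x :: xs) = mappingCone (x • 𝟙 (koszulCx M xs)) from rfl,
      mappingCone.isZero_X_iff]
    simp only [List.length_cons, Nat.cast_add, Nat.cast_one] at hn
    exact ⟨isZero_koszulCx_X_neg M xs (n + 1) (by omega), isZero_koszulCx_X_neg M xs n (by omega)⟩

section general

variable {S : ShortComplex (CochainComplex (ModuleCat.{u} A) ℤ)} (hS : S.ShortExact)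

include hS in
lemma isZero_X₁_homology (i j : ℤ) (hij : i + 1 = j)
    (h0 : HomologicalComplex.homologyMap S.f j = 0) (h3 : IsZero (S.X₃.homology i)) :
    IsZero (S.X₁.homology j) := by
  have hepi : Epi (hS.δ i j hij) := (hS.homology_exact₁ i j hij).epi_f_iff.mpr h0
  exact IsZero.of_epi (hS.δ i j hij) h3

include hS in
lemma not_isZero_X₁_homology (i j : ℤ) (hij : i + 1 = j)
    (h2 : IsZero (S.X₂.homology i)) (h3 : ¬ IsZero (S.X₃.homology i)) :
    ¬ IsZero (S.X₁.homology j) := by
  intro hz
  have := hS.mono_δ i j hij h2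
  exact h3 (IsZero.of_mono (hS.δ i j hij) hz)

include hS in
lemma not_isZero_X₂_homology (i j : ℤ) (hij : i + 1 = j)
    (h3 : IsZero (S.X₃.homology i)) (h1 : ¬ IsZero (S.X₁.homology j)) :
    ¬ IsZero (S.X₂.homology j) := by
  intro hz
  have hmono : Mono (HomologicalComplex.homologyMap S.f j) :=
    (hS.homology_exact₁ i j hij).mono_g_iff.mpr (h3.eq_of_src _ _)
  exact h1 (IsZero.of_mono (HomologicalComplex.homologyMap S.f j) hz)

end general

/-- Elements of the ideal act as zero on Koszul cohomology. -/
lemma homologyMap_smul_id_eq_zero (M : ModuleCat.{u} A) (xs : List A) (y : A)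
    (hy : y ∈ Ideal.span {x | x ∈ xs}) (j : ℤ) :
    HomologicalComplex.homologyMap (y • 𝟙 (koszulCx M xs)) j = 0 := by
  obtain ⟨h⟩ := Groth.Agent.Lib.Helper4.koszulCx_smul_homotopic_zero M xs y hy
  rw [h.homologyMap_eq, HomologicalComplex.homologyMap_zero]

/-- **Vanishing below the length of a regular sequence in the ideal.** -/
theorem isZero_homology_of_regular_in_ideal (xs : List A) :
    ∀ (rs : List A) (M : Type u) [AddCommGroup M] [Module A M],
      IsWeaklyRegular M rs → (∀ r ∈ rs, r ∈ Ideal.span {x | x ∈ xs}) →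
      ∀ p : ℕ, p < rs.length →
        IsZero ((koszulCx (ModuleCat.of A M) xs).homology ((p : ℤ) - xs.length))
  | [], M, _, _, _, _, p, hp => by simp at hp
  | y :: rs, M, _, _, hreg, hmem, p, hp => by
    rw [isWeaklyRegular_cons_iff] at hreg
    have hS := SK_shortExact y M hreg.1 xs
    have hy : y ∈ Ideal.span {x | x ∈ xs} := hmem y (List.mem_cons_self)
    have h0 : HomologicalComplex.homologyMap (SK y M xs).f ((p : ℤ) - xs.length) = 0 :=
      homologyMap_smul_id_eq_zero _ xs y hy _
    refine isZero_X₁_homology hS ((p : ℤ) - xs.length - 1) _ (by ring) h0 ?_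
    cases p with
    | zero =>
      apply isZero_homology_of_isZero_X
      apply isZero_koszulCx_X_neg
      simp
    | succ p =>
      have ih := isZero_homology_of_regular_in_ideal xs rs (QuotSMulTop y M) hreg.2
        (fun r hr => hmem r (List.mem_cons_of_mem _ hr)) p
        (by simpa using hp)
      have e : ((p + 1 : ℕ) : ℤ) - xs.length - 1 = (p : ℤ) - xs.length := by push_cast; ring
      rw [e]
      exact ih

/-- Bottom Koszul cohomology of a nonzero module killed by all the `xs` is nonzero. -/
theorem not_isZero_bottom_of_killed (N : Type u) [AddCommGroup N] [Module A N] [Nontrivial N] :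
    ∀ xs : List A, (∀ x ∈ xs, ∀ n : N, x • n = 0) →
      ¬ IsZero ((koszulCx (ModuleCat.of A N) xs).homology (-(xs.length : ℤ)))
  | [], _ => by
    intro hz
    have e := HomologicalComplex.singleObjHomologySelfIso (ComplexShape.up ℤ) (0 : ℤ)
      (ModuleCat.of A N)
    have hz0 : IsZero ((koszulCx (ModuleCat.of A N) []).homology 0) := by simpa using hz
    have hz' : IsZero (ModuleCat.of A N) := IsZero.of_iso hz0 e.symm
    rw [ModuleCat.isZero_of_iff_subsingleton] at hz'
    exact not_subsingleton N hz'
  | x :: xs, hk => by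
    have ih := not_isZero_bottom_of_killed N xs (fun y hy => hk y (List.mem_cons_of_mem _ hy))
    have hx0 : x • 𝟙 (ModuleCat.of A N) = 0 := by
      ext n
      simpa using hk x List.mem_cons_self n
    have hφ : x • 𝟙 (koszulCx (ModuleCat.of A N) xs) = 0 := by
      rw [← koszulMap_smul_id, hx0, koszulMap_zero]
    have hφ' : HomologicalComplex.homologyMap (x • 𝟙 (koszulCx (ModuleCat.of A N) xs))
        (-(xs.length : ℤ)) = 0 := by
      rw [hφ, HomologicalComplex.homologyMap_zero]
    have := Groth.Agent.Lib.Helper14.ConeLES.not_isZero_cone_of_homologyMap_eq_zero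
      (x • 𝟙 (koszulCx (ModuleCat.of A N) xs)) (-((x :: xs).length : ℤ)) (-(xs.length : ℤ))
      (by simp) hφ' ih
    exact this

/-- The submodule of elements killed by all the `xs`. -/
def killed (xs : List A) (M : Type u) [AddCommGroup M] [Module A M] : Submodule A M where
  carrier := {m | ∀ x ∈ xs, x • m = 0}
  add_mem' := by
    intro a b ha hb x hx
    rw [smul_add, ha x hx, hb x hx, add_zero]
  zero_mem' := fun x _ => smul_zero x
  smul_mem' := by
    intro c m hm x hx
    rw [smul_comm, hm x hx, smul_zero]

/-- The short exact sequence `0 → N → M → M/N → 0` in `ModuleCat`. -/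
noncomputable def subSES {M : Type u} [AddCommGroup M] [Module A M] (N : Submodule A M) :
    ShortComplex (ModuleCat.{u} A) :=
  ShortComplex.mk (ModuleCat.ofHom N.subtype) (ModuleCat.ofHom N.mkQ) (by
    ext n
    simp)

lemma subSES_shortExact {M : Type u} [AddCommGroup M] [Module A M] (N : Submodule A M) :
    (subSES N).ShortExact := by
  refine ShortComplex.ShortExact.mk' ?_ ?_ ?_
  · rw [ShortComplex.moduleCat_exact_iff]
    intro x hx
    change N.mkQ x = 0 at hx
    rw [Submodule.mkQ_apply, Submodule.Quotient.mk_eq_zero] at hx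
    exact ⟨⟨x, hx⟩, rfl⟩
  · rw [ModuleCat.mono_iff_injective]
    exact N.injective_subtype
  · rw [ModuleCat.epi_iff_surjective]
    exact N.mkQ_surjective

/-- Bottom Koszul cohomology is nonzero when some nonzero element is killed by all the `xs`. -/
theorem not_isZero_bottom (M : Type u) [AddCommGroup M] [Module A M] (xs : List A)
    (h : ∃ m : M, m ≠ 0 ∧ ∀ x ∈ xs, x • m = 0) :
    ¬ IsZero ((koszulCx (ModuleCat.of A M) xs).homology (-(xs.length : ℤ))) := by
  obtain ⟨m, hm0, hm⟩ := h
  haveI : Nontrivial (killed xs M) :=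
    ⟨⟨⟨m, hm⟩, 0, fun h => hm0 (congrArg Subtype.val h)⟩⟩
  have hS := koszul_shortExact (subSES (killed xs M)) (subSES_shortExact _) xs
  have h1 : ¬ IsZero ((koszulCx (ModuleCat.of A (killed xs M)) xs).homology (-(xs.length : ℤ))) :=
    not_isZero_bottom_of_killed (killed xs M) xs (fun x hx n => Subtype.ext (n.2 x hx))
  exact not_isZero_X₂_homology hS (-(xs.length : ℤ) - 1) _ (by ring)
    (isZero_homology_of_isZero_X _ _ (isZero_koszulCx_X_neg _ xs _ (by omega))) h1

/-- **Non-vanishing at the length of a maximal regular sequence in the ideal.** -/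
theorem not_isZero_homology_of_regular_maximal (xs : List A) :
    ∀ (rs : List A) (M : Type u) [AddCommGroup M] [Module A M],
      IsWeaklyRegular M rs → (∀ r ∈ rs, r ∈ Ideal.span {x | x ∈ xs}) →
      (∃ m : M ⧸ (Ideal.ofList rs • (⊤ : Submodule A M)), m ≠ 0 ∧ ∀ x ∈ xs, x • m = 0) →
      ¬ IsZero ((koszulCx (ModuleCat.of A M) xs).homology ((rs.length : ℤ) - xs.length))
  | [], M, _, _, _, _, hm => by
    obtain ⟨m, hm0, hm⟩ := hm
    have h0 : (Ideal.ofList ([] : List A) • (⊤ : Submodule A M)) = ⊥ := by
      rw [Ideal.ofList_nil, Submodule.bot_smul]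
    let e := Submodule.quotEquivOfEqBot _ h0
    have := not_isZero_bottom M xs ⟨e m, by simpa using hm0,
      fun x hx => by rw [← map_smul, hm x hx, map_zero]⟩
    simpa using this
  | y :: rs, M, _, _, hreg, hmem, hm => by
    have hreg' := (isWeaklyRegular_cons_iff M y rs).mp hreg
    obtain ⟨m, hm0, hm⟩ := hm
    let e := Submodule.quotOfListConsSMulTopEquivQuotSMulTopInner M y rs
    have ih := not_isZero_homology_of_regular_maximal xs rs (QuotSMulTop y M) hreg'.2
      (fun r hr => hmem r (List.mem_cons_of_mem _ hr))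
      ⟨e m, by simpa using hm0, fun x hx => by rw [← map_smul, hm x hx, map_zero]⟩
    have hS := SK_shortExact y M hreg'.1 xs
    have h2 : IsZero ((koszulCx (ModuleCat.of A M) xs).homology ((rs.length : ℤ) - xs.length)) :=
      isZero_homology_of_regular_in_ideal xs (y :: rs) M hreg hmem rs.length (by simp)
    exact not_isZero_X₁_homology hS ((rs.length : ℤ) - xs.length)
      (((y :: rs).length : ℤ) - xs.length) (by simp; ring) h2 ih

end Groth.Agent.Lib.Helper14.KoszulFun
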