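import Groth.Agent.Lib.Helper14.KoszulDepth
import Groth.Prelude.Def_CAlg

/-!
# Depth sensitivity of the Koszul complex: assembly
-/

set_option autoImplicit false

universe u

open CategoryTheory CategoryTheory.Limits CochainComplex HomComplex

namespace Groth.Agent.Lib.Helper14.KoszulFun

open CohIII RingTheory.Sequence Pointwise IsLocalRing

/-- An ideal of zero divisors on a finite module over a Noetherian ring kills a nonzero element. -/
theorem exists_ne_zero_killed {R : Type u} [CommRing R] [IsNoetherianRing R] (M : Type u)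
    [AddCommGroup M] [Module R M] [Module.Finite R M] (a : Ideal R)
    (h : ∀ y ∈ a, ∃ x : M, x ≠ 0 ∧ y • x = 0) (hne : a ≠ ⊤ ∨ Nontrivial M) :
    ∃ m : M, m ≠ 0 ∧ ∀ y ∈ a, y • m = 0 := by
  have fin := associatedPrimes.finite R M
  obtain ⟨P, hP, haP⟩ : ∃ P ∈ associatedPrimes R M, a ≤ P := by
    refine (a.subset_union_prime_finite fin (f := id) 0 0 fun _ h _ _ ↦ h.1).1 ?_
    simp_rw [id, biUnion_associatedPrimes_eq_zero_divisors]
    exact fun y hy => h y hy
  rw [AssociatedPrimes.mem_iff, isAssociatedPrime_iff] at hP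
  obtain ⟨prime, x, rfl⟩ := hP
  refine ⟨x, ?_, ?_⟩
  · rintro rfl
    apply prime.ne_top
    rw [Ideal.eq_top_iff_one, Submodule.mem_colon_singleton]
    simp
  · intro y hy
    have := haP hy
    rw [Submodule.mem_colon_singleton] at this
    simpa using this

variable {R : Type u} [CommRing R] [IsNoetherianRing R] [IsLocalRing R]
  (M : Type u) [AddCommGroup M] [Module R M] [Module.Finite R M] [Nontrivial M]
  (xs : List R) (hxs : ∀ x ∈ xs, x ∈ maximalIdeal R)

include hxs in
theorem span_smul_top_ne_top :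
    Ideal.span {x | x ∈ xs} • (⊤ : Submodule R M) ≠ ⊤ := by
  have ha : Ideal.span {x | x ∈ xs} ≤ maximalIdeal R := Ideal.span_le.mpr hxs
  have hann : Module.annihilator R M ≠ ⊤ := by
    intro h
    have h1 : (1 : R) ∈ Module.annihilator R M := by rw [h]; trivial
    rw [Module.mem_annihilator] at h1
    obtain ⟨m, hm⟩ := exists_ne (0 : M)
    exact hm (by simpa using h1 m)
  have := Submodule.top_ne_ideal_smul_of_le_jacobson_annihilator (R := R) (M := M)
    (I := Ideal.span {x | x ∈ xs}) (by rw [IsLocalRing.jacobson_eq_maximalIdeal _ hann]; exact ha)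
  exact this.symm

include hxs in
theorem not_isZero_homology_zero :
    ¬ IsZero ((koszulCx (ModuleCat.of R M) xs).homology 0) := by
  obtain ⟨e⟩ := nonempty_homology_zero_equiv (A := R) M xs
  intro hz
  have hsub := ModuleCat.subsingleton_of_isZero hz
  have h1 : Subsingleton (M ⧸ (Ideal.ofList xs • (⊤ : Submodule R M))) := e.symm.subsingleton
  have h2 : Nontrivial (M ⧸ (Ideal.ofList xs • (⊤ : Submodule R M))) :=
    Submodule.Quotient.nontrivial_iff.mpr (span_smul_top_ne_top M xs hxs)
  exact not_subsingleton _ h1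

include hxs in
theorem depth_sensitivity :
    LocCoh.idealDepth (Ideal.span {x | x ∈ xs}) M ≤ xs.length ∧
      (∀ p : ℕ, (p : ℕ∞) < LocCoh.idealDepth (Ideal.span {x | x ∈ xs}) M →
        IsZero (CohIII.koszulH xs (ModuleCat.of R M) p)) ∧
      (∀ r : ℕ, LocCoh.idealDepth (Ideal.span {x | x ∈ xs}) M = r →
        ¬ IsZero (CohIII.koszulH xs (ModuleCat.of R M) r)) := by
  classical
  have hne := span_smul_top_ne_top M xs hxs
  have hH0 := not_isZero_homology_zero M xs hxs
  unfold LocCoh.idealDepth
  rw [if_neg hne]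
  have bound : ∀ rs : List R, IsWeaklyRegular M rs ∧ (∀ r ∈ rs, r ∈ Ideal.span {x | x ∈ xs}) →
      rs.length ≤ xs.length := by
    intro rs hrs
    by_contra hlt
    push Not at hlt
    have := isZero_homology_of_regular_in_ideal xs rs M hrs.1 hrs.2 xs.length hlt
    rw [sub_self] at this
    exact hH0 this
  refine ⟨?_, ?_, ?_⟩
  · exact iSup₂_le fun rs hrs => by exact_mod_cast bound rs hrs
  · intro p hp
    obtain ⟨rs, hp⟩ := lt_iSup_iff.mp hp
    obtain ⟨hrs, hp⟩ := lt_iSup_iff.mp hp
    exact isZero_homology_of_regular_in_ideal xs rs M hrs.1 hrs.2 p (by exact_mod_cast hp)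
  · intro r hr
    -- the supremum is attained
    obtain ⟨rs, hrs, hlen⟩ : ∃ rs : List R, (IsWeaklyRegular M rs ∧
        (∀ r ∈ rs, r ∈ Ideal.span {x | x ∈ xs})) ∧ rs.length = r := by
      by_contra hcon
      push Not at hcon
      have hle : ∀ rs : List R, IsWeaklyRegular M rs ∧
          (∀ r ∈ rs, r ∈ Ideal.span {x | x ∈ xs}) → rs.length ≤ r := by
        intro rs hrs
        have h1 : (rs.length : ℕ∞) ≤ r := by
          rw [← hr]
          exact le_iSup₂ (f := fun (rs : List R) (_ : IsWeaklyRegular M rs ∧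
            (∀ r ∈ rs, r ∈ Ideal.span {x | x ∈ xs})) => (rs.length : ℕ∞)) rs hrs
        exact_mod_cast h1
      cases r with
      | zero => exact hcon [] ⟨IsWeaklyRegular.nil R M, by simp⟩ rfl
      | succ r =>
        have hle' : (⨆ (rs : List R) (_ : IsWeaklyRegular M rs ∧
            (∀ r ∈ rs, r ∈ Ideal.span {x | x ∈ xs})), (rs.length : ℕ∞)) ≤ (r : ℕ∞) := by
          refine iSup₂_le fun rs hrs => ?_
          have h1 := hle rs hrs
          have h2 := hcon rs hrs
          have : rs.length ≤ r := by omega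
          exact_mod_cast this
        rw [hr] at hle'
        have : r + 1 ≤ r := by exact_mod_cast hle'
        omega
    -- maximality
    have hmax : ∀ y ∈ Ideal.span {x | x ∈ xs}, ¬ IsWeaklyRegular M (rs ++ [y]) := by
      intro y hy hreg
      have h1 : ((rs ++ [y]).length : ℕ∞) ≤ r := by
        rw [← hr]
        exact le_iSup₂ (f := fun (rs : List R) (_ : IsWeaklyRegular M rs ∧
          (∀ r ∈ rs, r ∈ Ideal.span {x | x ∈ xs})) => (rs.length : ℕ∞)) (rs ++ [y])
          ⟨hreg, by
            intro z hz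
            rcases List.mem_append.mp hz with hz | hz
            · exact hrs.2 z hz
            · rw [List.mem_singleton.mp hz]; exact hy⟩
      have : (rs ++ [y]).length ≤ r := by exact_mod_cast h1
      simp at this
      omega
    have hzd : ∀ y ∈ Ideal.span {x | x ∈ xs},
        ∃ m : M ⧸ (Ideal.ofList rs • (⊤ : Submodule R M)), m ≠ 0 ∧ y • m = 0 := by
      intro y hy
      have h1 := hmax y hy
      rw [isWeaklyRegular_append_iff, not_and] at h1
      have h2 := h1 hrs.1
      rw [isWeaklyRegular_singleton_iff, isSMulRegular_iff_right_eq_zero_of_smul] at h2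
      push Not at h2
      obtain ⟨m, hm, hm0⟩ := h2
      exact ⟨m, hm0, hm⟩
    have hle : Ideal.ofList rs • (⊤ : Submodule R M) ≤
        Ideal.span {x | x ∈ xs} • (⊤ : Submodule R M) :=
      Submodule.smul_mono_left (Ideal.span_le.mpr hrs.2)
    haveI : Nontrivial (M ⧸ (Ideal.ofList rs • (⊤ : Submodule R M))) :=
      Submodule.Quotient.nontrivial_iff.mpr
        (fun h => hne (top_le_iff.mp (le_trans (le_of_eq h.symm) hle)))
    obtain ⟨m, hm0, hm⟩ := exists_ne_zero_killed
      (M ⧸ (Ideal.ofList rs • (⊤ : Submodule R M))) (Ideal.span {x | x ∈ xs}) hzd (Or.inr ‹_›)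
    have := not_isZero_homology_of_regular_maximal xs rs M hrs.1 hrs.2
      ⟨m, hm0, fun x hx => hm x (Ideal.subset_span hx)⟩
    rw [hlen] at this
    exact this

end Groth.Agent.Lib.Helper14.KoszulFun
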