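import Groth.Agent.Lib.Helper14.KoszulH0

/-!
# A Koszul complex which is a flat resolution of a flat module stays exact after tensoring

`A` a ring, `B` a flat `A`-algebra, `l` a list in `B` with `K(B; l)` acyclic off degree `0` and
`B/(l)` flat over `A`.  Then `K(B ⊗_A N; l)` is acyclic off degree `0` for every `A`-module `N`.
-/

set_option autoImplicit false

universe u

open CategoryTheory CategoryTheory.Limits CochainComplex HomComplex TensorProduct MonoidalCategory

namespace Groth.Agent.Lib.Helper14.KoszulFun

open CohIII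

variable (A B : Type u) [CommRing A] [CommRing B] [Algebra A B]

/-- `Φ(N) = B ⊗_A N` as a `B`-module. -/
noncomputable abbrev Phi (N : Type u) [AddCommGroup N] [Module A N] : ModuleCat.{u} B :=
  ModuleCat.of B (B ⊗[A] N)

section ses

variable {A B}
variable {N₁ N₂ N₃ : Type u} [AddCommGroup N₁] [AddCommGroup N₂] [AddCommGroup N₃]
  [Module A N₁] [Module A N₂] [Module A N₃] (f : N₁ →ₗ[A] N₂) (g : N₂ →ₗ[A] N₃)

/-- The short complex `Φ N₁ → Φ N₂ → Φ N₃`. -/
noncomputable def PhiSC (hfg : Function.Exact f g) : ShortComplex (ModuleCat.{u} B) :=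
  ShortComplex.mk (ModuleCat.ofHom (f.baseChange B)) (ModuleCat.ofHom (g.baseChange B)) (by
    ext x
    simp [hfg.apply_apply_eq_zero])

theorem PhiSC_shortExact [Module.Flat A B] (hfg : Function.Exact f g)
    (hf : Function.Injective f) (hg : Function.Surjective g) : (PhiSC (B := B) f g hfg).ShortExact := by
  refine ShortComplex.ShortExact.mk' ?_ ?_ ?_
  · rw [ShortComplex.ShortExact.moduleCat_exact_iff_function_exact]
    exact lTensor_exact B hfg hg
  · rw [ModuleCat.mono_iff_injective]
    exact Module.Flat.lTensor_preserves_injective_linearMap f hf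
  · rw [ModuleCat.epi_iff_surjective]
    exact LinearMap.lTensor_surjective B hg

end ses

section free

variable {A B}

/-- Acyclicity for free modules. -/
theorem isZero_homology_koszul_Phi_free (l : List B) (i : ℤ)
    (h : IsZero ((koszulCx (ModuleCat.of B B) l).homology i)) (ι : Type u) :
    IsZero ((koszulCx (Phi A B (ι →₀ A)) l).homology i) := by
  classical
  let Y : ModuleCat.{u} B := ModuleCat.of B (ι →₀ B)
  have h1 := isZero_homology_koszul_tensorLeft Y (ModuleCat.of B B) l i h
  let e : Y ⊗ ModuleCat.of B B ≅ Phi A B (ι →₀ A) :=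
    (ρ_ Y) ≪≫ (TensorProduct.finsuppScalarRight A B B ι).symm.toModuleIso
  exact h1.of_iso ((HomologicalComplex.homologyFunctor _ _ i).mapIso (koszulIso e l)).symm

end free

section tensorIdeal

variable {A B}
variable (I : Ideal B)

/-- The inclusion `I → B` as an `A`-linear map. -/
noncomputable abbrev jI : ↥(I.restrictScalars A) →ₗ[A] B := (I.restrictScalars A).subtype

/-- The quotient map `B → B/I` as an `A`-linear map. -/
noncomputable abbrev qI : B →ₗ[A] B ⧸ I := (Ideal.Quotient.mkₐ A I).toLinearMap

lemma exact_jI_qI : Function.Exact (jI (A := A) I) (qI (A := A) I) := by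
  intro b
  constructor
  · intro hb
    have hb' : b ∈ I := Ideal.Quotient.eq_zero_iff_mem.mp hb
    exact ⟨⟨b, hb'⟩, rfl⟩
  · rintro ⟨⟨a, ha⟩, rfl⟩
    exact Ideal.Quotient.eq_zero_iff_mem.mpr ha

lemma qI_surjective : Function.Surjective (qI (A := A) I) := Ideal.Quotient.mk_surjective

variable (N : Type u) [AddCommGroup N] [Module A N]

lemma rTensor_jI_mem (y : ↥(I.restrictScalars A) ⊗[A] N) :
    ((jI (A := A) I).rTensor N) y ∈ I • (⊤ : Submodule B (B ⊗[A] N)) := by
  induction y using TensorProduct.induction_on with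
  | zero => rw [map_zero]; exact Submodule.zero_mem _
  | add x y hx hy => rw [map_add]; exact Submodule.add_mem _ hx hy
  | tmul a n =>
    have : ((jI (A := A) I).rTensor N) (a ⊗ₜ[A] n) = (a : B) • ((1 : B) ⊗ₜ[A] n) := by
      rw [LinearMap.rTensor_tmul, TensorProduct.smul_tmul', smul_eq_mul, mul_one]
      rfl
    rw [this]
    exact Submodule.smul_mem_smul a.2 Submodule.mem_top

lemma rTensor_qI_eq_zero (z : B ⊗[A] N) (hz : z ∈ I • (⊤ : Submodule B (B ⊗[A] N))) :
    ((qI (A := A) I).rTensor N) z = 0 := by
  refine Submodule.smul_induction_on hz ?_ ?_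
  · intro a ha w hw
    clear hw
    induction w using TensorProduct.induction_on with
    | zero => rw [smul_zero, map_zero]
    | add x y hx hy => rw [smul_add, map_add, hx, hy, add_zero]
    | tmul b n =>
      rw [TensorProduct.smul_tmul', LinearMap.rTensor_tmul]
      have : (qI (A := A) I) (a • b) = 0 :=
        Ideal.Quotient.eq_zero_iff_mem.mpr (I.mul_mem_right b ha)
      rw [this, TensorProduct.zero_tmul]
  · intro x y hx hy
    rw [map_add, hx, hy, add_zero]

variable {N}
variable {F : Type u} [AddCommGroup F] [Module A F]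

/-- Key consequence of flatness of `B/I`. -/
theorem mem_smul_top_of_baseChange_mem [Module.Flat A (B ⧸ I)] (ι : N →ₗ[A] F)
    (hι : Function.Injective ι) (x : B ⊗[A] N)
    (hx : (ι.baseChange B) x ∈ I • (⊤ : Submodule B (B ⊗[A] F))) :
    x ∈ I • (⊤ : Submodule B (B ⊗[A] N)) := by
  have h1 : ((qI (A := A) I).rTensor F) ((ι.lTensor B) x) = 0 :=
    rTensor_qI_eq_zero I F _ hx
  have hc : ((qI (A := A) I).rTensor F) ∘ₗ (ι.lTensor B) =
      (ι.lTensor (B ⧸ I)) ∘ₗ ((qI (A := A) I).rTensor N) := by
    rw [LinearMap.rTensor_comp_lTensor, LinearMap.lTensor_comp_rTensor]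
  have h2 : (ι.lTensor (B ⧸ I)) (((qI (A := A) I).rTensor N) x) = 0 := by
    have := congrArg (fun φ => φ x) hc
    simp only [LinearMap.comp_apply] at this
    rw [← this, h1]
  have h3 : ((qI (A := A) I).rTensor N) x = 0 :=
    (injective_iff_map_eq_zero _).mp
      (Module.Flat.lTensor_preserves_injective_linearMap ι hι) _ h2
  obtain ⟨y, rfl⟩ := (rTensor_exact N (exact_jI_qI (A := A) I) (qI_surjective I) x).mp h3
  exact rTensor_jI_mem I N y

end tensorIdeal

section H0inj

variable {A B}
variable {N F : Type u} [AddCommGroup N] [Module A N] [AddCommGroup F] [Module A F]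

theorem homologyMap_zero_injective (l : List B) [Module.Flat A (B ⧸ Ideal.ofList l)]
    (ι : N →ₗ[A] F) (hι : Function.Injective ι) :
    Function.Injective (HomologicalComplex.homologyMap
      (koszulMap (ModuleCat.ofHom (ι.baseChange B) : Phi A B N ⟶ Phi A B F) l) 0) := by
  rw [injective_iff_map_eq_zero]
  intro z hz
  obtain ⟨m, rfl⟩ := toH0_surjective (Phi A B N) l z
  have hnat := ConcreteCategory.congr_hom
    (toH0_naturality (ModuleCat.ofHom (ι.baseChange B) : Phi A B N ⟶ Phi A B F) l) m
  rw [ConcreteCategory.comp_apply, ConcreteCategory.comp_apply] at hnat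
  rw [hnat] at hz
  rw [toH0_eq_zero_iff] at hz
  rw [toH0_eq_zero_iff]
  exact mem_smul_top_of_baseChange_mem (Ideal.ofList l) ι hι m hz

end H0inj

section main

variable (A B : Type u) [CommRing A] [CommRing B] [Algebra A B]

/-- The canonical free cover of `N`. -/
noncomputable def pN (N : Type u) [AddCommGroup N] [Module A N] : (N →₀ A) →ₗ[A] N :=
  Finsupp.linearCombination A (id : N → N)

theorem pN_surjective (N : Type u) [AddCommGroup N] [Module A N] : Function.Surjective (pN A N) :=
  Finsupp.linearCombination_surjective A Function.surjective_id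

/-- The short exact sequence `Φ(ker) → Φ(free) → Φ(N)`. -/
noncomputable def resSC (N : Type u) [AddCommGroup N] [Module A N] :
    ShortComplex (ModuleCat.{u} B) :=
  PhiSC (A := A) (B := B) (N₁ := LinearMap.ker (pN A N)) (N₂ := N →₀ A) (N₃ := N)
    (LinearMap.ker (pN A N)).subtype (pN A N) (LinearMap.exact_subtype_ker_map _)

set_option maxHeartbeats 400000 in
theorem resSC_shortExact [Module.Flat A B] (N : Type u) [AddCommGroup N] [Module A N] :
    (resSC A B N).ShortExact := by
  unfold resSC
  apply PhiSC_shortExact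
  · exact (Submodule.subtype_injective (LinearMap.ker (pN A N)))
  · exact (pN_surjective A N)

lemma resSC_X₁ (N : Type u) [AddCommGroup N] [Module A N] :
    (resSC A B N).X₁ = Phi A B (LinearMap.ker (pN A N)) := rfl
lemma resSC_X₂ (N : Type u) [AddCommGroup N] [Module A N] :
    (resSC A B N).X₂ = Phi A B (N →₀ A) := rfl
lemma resSC_X₃ (N : Type u) [AddCommGroup N] [Module A N] :
    (resSC A B N).X₃ = Phi A B N := rfl
lemma resSC_f (N : Type u) [AddCommGroup N] [Module A N] :
    (resSC A B N).f = ModuleCat.ofHom ((LinearMap.ker (pN A N)).subtype.baseChange B) := rfl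

variable {A B}

/-- One step of dimension shifting. -/
theorem isZero_step [Module.Flat A B] (l : List B) (N : Type u) [AddCommGroup N] [Module A N]
    (i j : ℤ) (hij : i + 1 = j)
    (hfree : IsZero ((koszulCx (Phi A B (N →₀ A)) l).homology i))
    (hker : IsZero ((koszulCx (Phi A B (LinearMap.ker (pN A N))) l).homology j) ∨
      Mono (HomologicalComplex.homologyMap (koszulMap (resSC A B N).f l) j)) :
    IsZero ((koszulCx (Phi A B N) l).homology i) := by
  have hS := koszul_shortExact _ (resSC_shortExact A B N) l
  have ex3 := hS.homology_exact₃ i j (by simp; omega)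
  have hmono := ex3.mono_g (IsZero.eq_of_src hfree _ _)
  rcases hker with hker | hker
  · exact @IsZero.of_mono _ _ _ _ _ _ hmono hker
  · have ex1 := hS.homology_exact₁ i j (by simp; omega)
    have hδ : hS.δ i j (by simp; omega) = 0 := by
      have := hS.δ_comp i j (by simp; omega)
      exact @zero_of_comp_mono _ _ _ _ _ _ _ _ hker this
    exact @IsZero.of_mono_eq_zero _ _ _ _ _ _ hmono hδ


theorem isZero_homology_koszul_Phi_neg [Module.Flat A B] (l : List B)
    [Module.Flat A (B ⧸ Ideal.ofList l)]
    (h : ∀ i : ℤ, i ≠ 0 → IsZero ((koszulCx (ModuleCat.of B B) l).homology i)) :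
    ∀ (n : ℕ) (i : ℤ), i + (n + 1 : ℤ) = 0 → ∀ (N : Type u) [AddCommGroup N] [Module A N],
      IsZero ((koszulCx (Phi A B N) l).homology i) := by
  intro n
  induction n with
  | zero =>
    intro i hi N _ _
    have hi0 : i ≠ 0 := by omega
    have hfree : IsZero ((koszulCx (Phi A B (N →₀ A)) l).homology i) :=
      isZero_homology_koszul_Phi_free (A := A) (B := B) l i (h i hi0) N
    have hsub : Function.Injective (LinearMap.ker (pN A N)).subtype :=
      Submodule.subtype_injective _
    have hinj : Function.Injective (HomologicalComplex.homologyMap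
        (koszulMap (ModuleCat.ofHom ((LinearMap.ker (pN A N)).subtype.baseChange B)) l) 0) :=
      homologyMap_zero_injective (A := A) (B := B) (N := LinearMap.ker (pN A N)) (F := N →₀ A) l _ hsub
    have hmono : Mono (HomologicalComplex.homologyMap (koszulMap (resSC A B N).f l) 0) := by
      rw [ModuleCat.mono_iff_injective]
      exact hinj
    have hij : i + 1 = 0 := by omega
    exact isZero_step l N i 0 hij hfree (Or.inr hmono)
  | succ n ih =>
    intro i hi N _ _
    have hi0 : i ≠ 0 := by omega
    have hfree : IsZero ((koszulCx (Phi A B (N →₀ A)) l).homology i) :=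
      isZero_homology_koszul_Phi_free (A := A) (B := B) l i (h i hi0) N
    have hi1 : (i + 1) + (n + 1 : ℤ) = 0 := by push_cast at hi; omega
    have hker := ih (i + 1) hi1 (LinearMap.ker (pN A N))
    exact isZero_step l N i (i + 1) rfl hfree (Or.inl hker)

theorem isZero_homology_koszul_Phi [Module.Flat A B] (l : List B)
    [Module.Flat A (B ⧸ Ideal.ofList l)]
    (h : ∀ i : ℤ, i ≠ 0 → IsZero ((koszulCx (ModuleCat.of B B) l).homology i))
    (N : Type u) [AddCommGroup N] [Module A N] (i : ℤ) (hi : i ≠ 0) :
    IsZero ((koszulCx (Phi A B N) l).homology i) := by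
  rcases lt_or_gt_of_ne hi with hneg | hpos
  · exact isZero_homology_koszul_Phi_neg l h (-i - 1).toNat i (by omega) N
  · exact isZero_homology_of_isZero_X _ i (isZero_koszulCx_X_pos _ l i hpos)

end main

end Groth.Agent.Lib.Helper14.KoszulFun
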