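import Groth.Prelude.Def_ega3

/-!
# Functoriality and exactness of the iterated-mapping-cone Koszul complex in the module
-/

set_option autoImplicit false

universe u

open CategoryTheory CategoryTheory.Limits CochainComplex HomComplex

namespace Groth.Agent.Lib.Helper14.KoszulFun

variable {A : Type u} [CommRing A]

section cone

variable (g : A) {X Y Z : CochainComplex (ModuleCat.{u} A) ℤ}

/-- The cone of multiplication by `g`. -/
noncomputable abbrev T (X : CochainComplex (ModuleCat.{u} A) ℤ) : CochainComplex (ModuleCat.{u} A) ℤ :=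
  mappingCone (g • 𝟙 X)

/-- Functoriality of the cone of multiplication by `g`. -/
noncomputable def coneMap (φ : X ⟶ Y) : T g X ⟶ T g Y :=
  mappingCone.map _ _ φ φ (by simp)

@[reassoc]
lemma inl_coneMap (φ : X ⟶ Y) (p q : ℤ) (hpq : p + (-1) = q) :
    (mappingCone.inl (g • 𝟙 X)).v p q hpq ≫ (coneMap g φ).f q =
      φ.f p ≫ (mappingCone.inl (g • 𝟙 Y)).v p q hpq := by
  simp [coneMap, mappingCone.map]

@[reassoc]
lemma inr_coneMap (φ : X ⟶ Y) (p : ℤ) :
    (mappingCone.inr (g • 𝟙 X)).f p ≫ (coneMap g φ).f p =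
      φ.f p ≫ (mappingCone.inr (g • 𝟙 Y)).f p := by
  simp [coneMap, mappingCone.map]

@[reassoc]
lemma coneMap_fst (φ : X ⟶ Y) (p q : ℤ) (hpq : p + 1 = q) :
    (coneMap g φ).f p ≫ (mappingCone.fst (g • 𝟙 Y)).1.v p q hpq =
      (mappingCone.fst (g • 𝟙 X)).1.v p q hpq ≫ φ.f q := by
  apply mappingCone.ext_from _ q p hpq
  · rw [inl_coneMap_assoc g φ q p (by omega)]
    simp
  · rw [inr_coneMap_assoc]
    simp

@[reassoc]
lemma coneMap_snd (φ : X ⟶ Y) (p : ℤ) :
    (coneMap g φ).f p ≫ (mappingCone.snd (g • 𝟙 Y)).v p p (add_zero p) =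
      (mappingCone.snd (g • 𝟙 X)).v p p (add_zero p) ≫ φ.f p := by
  apply mappingCone.ext_from _ (p + 1) p rfl
  · rw [inl_coneMap_assoc g φ (p + 1) p (by omega)]
    simp
  · rw [inr_coneMap_assoc]
    simp

lemma coneMap_smul_id (f : A) : coneMap g (f • 𝟙 X) = f • 𝟙 (T g X) := by
  ext p : 1
  apply mappingCone.ext_from _ (p + 1) p rfl
  · rw [inl_coneMap g _ (p + 1) p (by omega)]
    simp
  · rw [inr_coneMap]
    simp

lemma coneMap_comp (φ : X ⟶ Y) (ψ : Y ⟶ Z) :
    coneMap g (φ ≫ ψ) = coneMap g φ ≫ coneMap g ψ := by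
  ext p : 1
  apply mappingCone.ext_from _ (p + 1) p rfl
  · rw [inl_coneMap g _ (p + 1) p (by omega)]
    simp only [HomologicalComplex.comp_f, Category.assoc]
    rw [inl_coneMap_assoc g _ (p + 1) p (by omega), inl_coneMap g _ (p + 1) p (by omega)]
  · rw [inr_coneMap]
    simp only [HomologicalComplex.comp_f, Category.assoc]
    rw [inr_coneMap_assoc, inr_coneMap]

lemma coneMap_zero : coneMap g (0 : X ⟶ Y) = 0 := by
  ext p : 1
  apply mappingCone.ext_from _ (p + 1) p rfl
  · rw [inl_coneMap g _ (p + 1) p (by omega)]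
    simp
  · rw [inr_coneMap]
    simp

section elements

variable (n : ℤ)

lemma decomp (z : (T g X).X n) :
    z = ((mappingCone.inl (g • 𝟙 X)).v (n + 1) n (by omega))
          (((mappingCone.fst (g • 𝟙 X)).1.v n (n + 1) rfl) z) +
        ((mappingCone.inr (g • 𝟙 X)).f n) (((mappingCone.snd (g • 𝟙 X)).v n n (add_zero n)) z) := by
  have h := ConcreteCategory.congr_hom (mappingCone.id_X (g • 𝟙 X) n (n + 1) rfl) z
  simp only [ModuleCat.hom_add, ModuleCat.hom_comp, LinearMap.add_apply, LinearMap.comp_apply,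
    ModuleCat.hom_id, LinearMap.id_apply] at h
  exact h.symm

lemma fst_coneMap_apply (φ : X ⟶ Y) (z : (T g X).X n) :
    ((mappingCone.fst (g • 𝟙 Y)).1.v n (n + 1) rfl) ((coneMap g φ).f n z) =
      φ.f (n + 1) (((mappingCone.fst (g • 𝟙 X)).1.v n (n + 1) rfl) z) := by
  have h := ConcreteCategory.congr_hom (coneMap_fst g φ n (n + 1) rfl) z
  simpa only [ModuleCat.hom_comp, LinearMap.comp_apply] using h

lemma snd_coneMap_apply (φ : X ⟶ Y) (z : (T g X).X n) :
    ((mappingCone.snd (g • 𝟙 Y)).v n n (add_zero n)) ((coneMap g φ).f n z) =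
      φ.f n (((mappingCone.snd (g • 𝟙 X)).v n n (add_zero n)) z) := by
  have h := ConcreteCategory.congr_hom (coneMap_snd g φ n) z
  simpa only [ModuleCat.hom_comp, LinearMap.comp_apply] using h

lemma coneMap_inl_apply (φ : X ⟶ Y) (x : X.X (n + 1)) :
    (coneMap g φ).f n (((mappingCone.inl (g • 𝟙 X)).v (n + 1) n (by omega)) x) =
      ((mappingCone.inl (g • 𝟙 Y)).v (n + 1) n (by omega)) (φ.f (n + 1) x) := by
  have h := ConcreteCategory.congr_hom (inl_coneMap g φ (n + 1) n (by omega)) x
  simpa only [ModuleCat.hom_comp, LinearMap.comp_apply] using h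

lemma coneMap_inr_apply (φ : X ⟶ Y) (x : X.X n) :
    (coneMap g φ).f n (((mappingCone.inr (g • 𝟙 X)).f n) x) =
      ((mappingCone.inr (g • 𝟙 Y)).f n) (φ.f n x) := by
  have h := ConcreteCategory.congr_hom (inr_coneMap g φ n) x
  simpa only [ModuleCat.hom_comp, LinearMap.comp_apply] using h

end elements

end cone

section exact

variable (g : A) (S : ShortComplex (CochainComplex (ModuleCat.{u} A) ℤ))

/-- The cone-of-multiplication functor applied to a short complex of complexes. -/
noncomputable def TS : ShortComplex (CochainComplex (ModuleCat.{u} A) ℤ) :=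
  ShortComplex.mk (coneMap g S.f) (coneMap g S.g) (by rw [← coneMap_comp, S.zero, coneMap_zero])

theorem TS_shortExact (hS : S.ShortExact) : (TS g S).ShortExact := by
  have hdeg := (HomologicalComplex.shortExact_iff_degreewise_shortExact S).mp hS
  have hf_inj : ∀ i, Function.Injective (S.f.f i) := fun i =>
    (ModuleCat.mono_iff_injective _).mp (hdeg i).mono_f
  have hg_surj : ∀ i, Function.Surjective (S.g.f i) := fun i =>
    (ModuleCat.epi_iff_surjective _).mp (hdeg i).epi_g
  have hex : ∀ i (x : S.X₂.X i), S.g.f i x = 0 → ∃ y, S.f.f i y = x := fun i =>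
    (ShortComplex.moduleCat_exact_iff _).mp (hdeg i).exact
  apply HomologicalComplex.shortExact_of_degreewise_shortExact
  intro n
  refine ShortComplex.ShortExact.mk' ?_ ?_ ?_
  · rw [ShortComplex.moduleCat_exact_iff]
    intro z hz
    change (coneMap g S.g).f n z = 0 at hz
    have h1 : S.g.f (n + 1) (((mappingCone.fst (g • 𝟙 S.X₂)).1.v n (n + 1) rfl) z) = 0 := by
      rw [← fst_coneMap_apply, hz, map_zero]
    have h2 : S.g.f n (((mappingCone.snd (g • 𝟙 S.X₂)).v n n (add_zero n)) z) = 0 := by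
      rw [← snd_coneMap_apply, hz, map_zero]
    obtain ⟨y1, hy1⟩ := hex _ _ h1
    obtain ⟨y2, hy2⟩ := hex _ _ h2
    refine ⟨((mappingCone.inl (g • 𝟙 S.X₁)).v (n + 1) n (by omega)) y1 +
      ((mappingCone.inr (g • 𝟙 S.X₁)).f n) y2, ?_⟩
    change (coneMap g S.f).f n _ = z
    rw [map_add, coneMap_inl_apply, coneMap_inr_apply, hy1, hy2]
    exact (decomp g n z).symm
  · rw [ModuleCat.mono_iff_injective]
    change Function.Injective ((coneMap g S.f).f n)
    rw [injective_iff_map_eq_zero]
    intro z hz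
    have h1 : S.f.f (n + 1) (((mappingCone.fst (g • 𝟙 S.X₁)).1.v n (n + 1) rfl) z) = 0 := by
      rw [← fst_coneMap_apply, hz, map_zero]
    have h2 : S.f.f n (((mappingCone.snd (g • 𝟙 S.X₁)).v n n (add_zero n)) z) = 0 := by
      rw [← snd_coneMap_apply, hz, map_zero]
    rw [decomp g n z, (injective_iff_map_eq_zero _).mp (hf_inj _) _ h1,
      (injective_iff_map_eq_zero _).mp (hf_inj _) _ h2, map_zero, map_zero, add_zero]
  · rw [ModuleCat.epi_iff_surjective]
    change Function.Surjective ((coneMap g S.g).f n)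
    intro w
    obtain ⟨x1, hx1⟩ := hg_surj (n + 1) (((mappingCone.fst (g • 𝟙 S.X₃)).1.v n (n + 1) rfl) w)
    obtain ⟨x2, hx2⟩ := hg_surj n (((mappingCone.snd (g • 𝟙 S.X₃)).v n n (add_zero n)) w)
    refine ⟨((mappingCone.inl (g • 𝟙 S.X₂)).v (n + 1) n (by omega)) x1 +
      ((mappingCone.inr (g • 𝟙 S.X₂)).f n) x2, ?_⟩
    rw [map_add, coneMap_inl_apply, coneMap_inr_apply, hx1, hx2]
    exact (decomp g n w).symm

end exact

section koszul

open CohIII

/-- Functoriality of the Koszul complex in the module. -/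
noncomputable def koszulMap {M N : ModuleCat.{u} A} (φ : M ⟶ N) :
    ∀ fs : List A, koszulCx M fs ⟶ koszulCx N fs
  | [] => (HomologicalComplex.single (ModuleCat.{u} A) (ComplexShape.up ℤ) 0).map φ
  | f :: fs => coneMap f (koszulMap φ fs)

lemma koszulMap_nil {M N : ModuleCat.{u} A} (φ : M ⟶ N) :
    koszulMap φ [] = (HomologicalComplex.single (ModuleCat.{u} A) (ComplexShape.up ℤ) 0).map φ := rfl

lemma koszulMap_cons {M N : ModuleCat.{u} A} (φ : M ⟶ N) (f : A) (fs : List A) :
    koszulMap φ (f :: fs) = coneMap f (koszulMap φ fs) := rfl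

lemma koszulMap_comp {M N P : ModuleCat.{u} A} (φ : M ⟶ N) (ψ : N ⟶ P) :
    ∀ fs : List A, koszulMap (φ ≫ ψ) fs = koszulMap φ fs ≫ koszulMap ψ fs
  | [] => by
    rw [koszulMap_nil, koszulMap_nil, koszulMap_nil, Functor.map_comp]
    rfl
  | f :: fs => by
    rw [koszulMap_cons, koszulMap_cons, koszulMap_cons, koszulMap_comp φ ψ fs, coneMap_comp]
    rfl

lemma koszulMap_zero {M N : ModuleCat.{u} A} :
    ∀ fs : List A, koszulMap (0 : M ⟶ N) fs = 0
  | [] => by
    rw [koszulMap_nil, Functor.map_zero]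
    rfl
  | f :: fs => by
    rw [koszulMap_cons, koszulMap_zero fs, coneMap_zero]
    rfl

lemma koszulMap_smul_id (M : ModuleCat.{u} A) (a : A) :
    ∀ fs : List A, koszulMap (a • 𝟙 M) fs = a • 𝟙 (koszulCx M fs)
  | [] => by
    rw [koszulMap_nil]
    apply HomologicalComplex.from_single_hom_ext
    rw [HomologicalComplex.single_map_f_self]
    simp [koszulCx]
    rfl
  | f :: fs => by
    rw [koszulMap_cons, koszulMap_smul_id M a fs, coneMap_smul_id]
    rfl

/-- The short complex of Koszul complexes attached to a short complex of modules. -/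
noncomputable def KS (S0 : ShortComplex (ModuleCat.{u} A)) (fs : List A) :
    ShortComplex (CochainComplex (ModuleCat.{u} A) ℤ) :=
  ShortComplex.mk (koszulMap S0.f fs) (koszulMap S0.g fs)
    (by rw [← koszulMap_comp, S0.zero, koszulMap_zero])

lemma KS_cons (S0 : ShortComplex (ModuleCat.{u} A)) (f : A) (fs : List A) :
    KS S0 (f :: fs) = TS f (KS S0 fs) := rfl

/-- The Koszul complex is exact in the module. -/
theorem koszul_shortExact (S0 : ShortComplex (ModuleCat.{u} A)) (hS0 : S0.ShortExact) :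
    ∀ fs : List A, (KS S0 fs).ShortExact
  | [] => hS0.map_of_exact (HomologicalComplex.single (ModuleCat.{u} A) (ComplexShape.up ℤ) 0)
  | f :: fs => by
    rw [KS_cons]
    exact TS_shortExact f _ (koszul_shortExact S0 hS0 fs)

end koszul

end Groth.Agent.Lib.Helper14.KoszulFun
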