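import Groth.Agent.Lib.Helper14.KoszulFlatRes
import Groth.Agent.Lib.Helper8.LocalCriterion
set_option autoImplicit false
universe u
open CategoryTheory CategoryTheory.Limits TensorProduct
namespace Groth.Agent.Lib.Helper14.KoszulFun
open CohIII

section cmp
variable (A B : Type u) [CommRing A] [CommRing B] [Algebra A B] (J : Ideal A)
variable (N : Type u) [AddCommGroup N] [Module A N] [Module (A ⧸ J) N] [IsScalarTower A (A ⧸ J) N]

local notation "JB" => Ideal.map (algebraMap A B) J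

instance : TensorProduct.CompatibleSMul A (A ⧸ J) (B ⧸ JB) N :=
  TensorProduct.CompatibleSMul.of_algebraMap_surjective _ _ Ideal.Quotient.mk_surjective

/-- second piece of the comparison: `B̄ ⊗[A] N ≃ B̄ ⊗[Ā] N`. -/
noncomputable def cmp2 : (B ⧸ JB) ⊗[A] N ≃ₗ[B ⧸ JB] (B ⧸ JB) ⊗[A ⧸ J] N :=
  TensorProduct.equivOfCompatibleSMul (A ⧸ J) A (B ⧸ JB) (B ⧸ JB) N

lemma cmp2_tmul (b : B ⧸ JB) (n : N) : cmp2 A B J N (b ⊗ₜ n) = b ⊗ₜ n := rfl

include J in
lemma smul_eq_zero_of_mem_of_tower (a : A) (ha : a ∈ J) (n : N) : a • n = 0 := by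
  rw [← one_smul (A ⧸ J) n, ← smul_assoc]
  have : a • (1 : A ⧸ J) = 0 := by
    rw [Algebra.smul_def, mul_one]
    exact Ideal.Quotient.eq_zero_iff_mem.mpr ha
  rw [this, zero_smul]

lemma tmul_eq_zero_of_mem (x : B) (hx : x ∈ JB) (n : N) : x ⊗ₜ[A] n = 0 := by
  induction hx using Submodule.span_induction with
  | mem x hx =>
    obtain ⟨a, ha, rfl⟩ := hx
    rw [Algebra.algebraMap_eq_smul_one, TensorProduct.smul_tmul,
      smul_eq_zero_of_mem_of_tower A J N a ha n, TensorProduct.tmul_zero]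
  | zero => rw [TensorProduct.zero_tmul]
  | add x y _ _ hx hy => rw [TensorProduct.add_tmul, hx, hy, add_zero]
  | smul b x _ hx =>
    rw [← TensorProduct.smul_tmul', hx, smul_zero]

lemma rTensor_jI_eq_zero (y : ↥((JB).restrictScalars A) ⊗[A] N) :
    ((jI (A := A) (JB)).rTensor N) y = 0 := by
  induction y using TensorProduct.induction_on with
  | zero => rw [map_zero]
  | add x y hx hy => rw [map_add, hx, hy, add_zero]
  | tmul a n =>
    rw [LinearMap.rTensor_tmul]
    exact tmul_eq_zero_of_mem A B J N _ a.2 n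

lemma cmp1_bijective : Function.Bijective ((qI (A := A) (JB)).rTensor N) := by
  constructor
  · rw [injective_iff_map_eq_zero]
    intro x hx
    obtain ⟨y, rfl⟩ := (rTensor_exact N (exact_jI_qI (A := A) (JB)) (qI_surjective (JB)) x).mp hx
    exact rTensor_jI_eq_zero A B J N y
  · exact LinearMap.rTensor_surjective N (qI_surjective (JB))


/-- The comparison map `B ⊗[A] N → B̄ ⊗[Ā] N`, additive version. -/
noncomputable def cmpFun : B ⊗[A] N →ₗ[A] (B ⧸ JB) ⊗[A ⧸ J] N :=
  ((cmp2 A B J N).toLinearMap.restrictScalars A) ∘ₗ ((qI (A := A) (JB)).rTensor N)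

lemma cmpFun_tmul (b : B) (n : N) :
    cmpFun A B J N (b ⊗ₜ n) = (Ideal.Quotient.mk (JB) b) ⊗ₜ n := rfl

lemma cmpFun_smul (b : B) (x : B ⊗[A] N) :
    cmpFun A B J N (b • x) = (Ideal.Quotient.mk (JB) b) • cmpFun A B J N x := by
  induction x using TensorProduct.induction_on with
  | zero => rw [smul_zero, map_zero, smul_zero]
  | add x y hx hy => rw [smul_add, map_add, map_add, hx, hy, smul_add]
  | tmul b' n =>
    rw [TensorProduct.smul_tmul', cmpFun_tmul, cmpFun_tmul, TensorProduct.smul_tmul']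
    rfl

/-- The comparison morphism `B ⊗[A] N ⟶ B̄ ⊗[Ā] N` of `B`-modules. -/
noncomputable def cmpHom : Phi A B N ⟶
    (ModuleCat.restrictScalars (Ideal.Quotient.mk (JB))).obj (Phi (A ⧸ J) (B ⧸ JB) N) :=
  ModuleCat.ofHom
    (Y := (ModuleCat.restrictScalars (Ideal.Quotient.mk (JB))).obj (Phi (A ⧸ J) (B ⧸ JB) N))
    { toFun := fun x => cmpFun A B J N x
      map_add' := fun x y => map_add (cmpFun A B J N) x y
      map_smul' := fun b x => cmpFun_smul A B J N b x }

lemma cmpHom_bijective : Function.Bijective (cmpHom A B J N) :=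
  (cmp2 A B J N).bijective.comp (cmp1_bijective A B J N)

instance : IsIso (cmpHom A B J N) :=
  (ConcreteCategory.isIso_iff_bijective _).mpr (cmpHom_bijective A B J N)


instance flat_quot [Module.Flat A B] : Module.Flat (A ⧸ J) (B ⧸ JB) :=
  haveI := Module.Flat.baseChange A (A ⧸ J) B
  Module.Flat.of_linearEquiv (Algebra.TensorProduct.quotIdealMapEquivQuotTensor B J).toLinearEquiv

theorem acyc_tors [Module.Flat A B] (l : List B)
    (hreg : ∀ i : ℤ, i ≠ 0 → IsZero ((koszulCx (ModuleCat.of (B ⧸ JB) (B ⧸ JB))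
      (l.map (Ideal.Quotient.mk (JB)))).homology i))
    [Module.Flat (A ⧸ J) ((B ⧸ JB) ⧸ Ideal.ofList (l.map (Ideal.Quotient.mk (JB))))]
    (i : ℤ) (hi : i ≠ 0) : IsZero ((koszulCx (Phi A B N) l).homology i) := by
  have h1 := isZero_homology_koszul_Phi (A := A ⧸ J) (B := B ⧸ JB)
    (l.map (Ideal.Quotient.mk (JB))) hreg N i hi
  have h2 := (isZero_homology_koszul_restrictScalars_iff (Ideal.Quotient.mk (JB))
    (Phi (A ⧸ J) (B ⧸ JB) N) l i).mpr h1
  exact h2.of_iso ((HomologicalComplex.homologyFunctor _ _ i).mapIso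
    (koszulIso (asIso (cmpHom A B J N)) l))

end cmp

section lift
variable {A B : Type u} [CommRing A] [CommRing B] [Algebra A B] (J : Ideal A)

local notation "JB" => Ideal.map (algebraMap A B) J

theorem jTors (hJ : J * J = ⊥) : Module.IsTorsionBySet A J (J : Set A) := by
  rintro x ⟨a, ha⟩
  apply Subtype.ext
  have h : a * x.1 ∈ J * J := Ideal.mul_mem_mul ha x.2
  rw [hJ] at h
  exact h

lemma exact_subtype_qI : Function.Exact J.subtype (qI (A := A) J) := by
  intro b
  constructor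
  · intro hb
    have hb' : b ∈ J := Ideal.Quotient.eq_zero_iff_mem.mp hb
    exact ⟨⟨b, hb'⟩, rfl⟩
  · rintro ⟨⟨a, ha⟩, rfl⟩
    exact Ideal.Quotient.eq_zero_iff_mem.mpr ha

/-- Acyclicity part of the lifting theorem, together with the `H⁰`-injectivity. -/
theorem koszul_lift_acyc [Module.Flat A B] (hJ : J * J = ⊥) (l : List B)
    (hreg : ∀ i : ℤ, i ≠ 0 → IsZero ((koszulCx (ModuleCat.of (B ⧸ JB) (B ⧸ JB))
      (l.map (Ideal.Quotient.mk (JB)))).homology i))
    [Module.Flat (A ⧸ J) ((B ⧸ JB) ⧸ Ideal.ofList (l.map (Ideal.Quotient.mk (JB))))] :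
    (∀ i : ℤ, i ≠ 0 → IsZero ((koszulCx (Phi A B A) l).homology i)) ∧
      (∀ m : B ⊗[A] J, (J.subtype.baseChange B) m ∈
          Ideal.ofList l • (⊤ : Submodule B (B ⊗[A] A)) →
        m ∈ Ideal.ofList l • (⊤ : Submodule B (B ⊗[A] J))) := by
  have hT := jTors J hJ
  let _ : Module (A ⧸ J) J := hT.module
  have : IsScalarTower A (A ⧸ J) J := hT.isScalarTower
  have hJacyc := fun i hi => acyc_tors A B J J l hreg i hi
  have hQacyc := fun i hi => acyc_tors A B J (A ⧸ J) l hreg i hi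
  have hS : (PhiSC (B := B) J.subtype (qI (A := A) J) (exact_subtype_qI J)).ShortExact :=
    PhiSC_shortExact _ _ _ (Submodule.subtype_injective _) (qI_surjective J)
  have hK := koszul_shortExact _ hS l
  constructor
  · intro i hi
    have ex := hK.homology_exact₂ i
    exact ex.isZero_of_both_zeros (IsZero.eq_of_src (hJacyc i hi) _ _)
      (IsZero.eq_of_tgt (hQacyc i hi) _ _)
  · intro m hm
    have ex1 := hK.homology_exact₁ (-1) 0 (by simp)
    have hmono := ex1.mono_g (IsZero.eq_of_src (hQacyc (-1) (by norm_num)) _ _)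
    rw [ModuleCat.mono_iff_injective] at hmono
    have hnat := ConcreteCategory.congr_hom
      (toH0_naturality (ModuleCat.ofHom (J.subtype.baseChange B) : Phi A B J ⟶ Phi A B A) l) m
    rw [ConcreteCategory.comp_apply, ConcreteCategory.comp_apply] at hnat
    have h0 : toH0 (Phi A B A) l ((ModuleCat.ofHom (J.subtype.baseChange B) :
        Phi A B J ⟶ Phi A B A) m) = 0 := (toH0_eq_zero_iff _ l _).mpr hm
    rw [h0] at hnat
    have hmono' : Function.Injective (HomologicalComplex.homologyMap (koszulMap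
        (ModuleCat.ofHom (J.subtype.baseChange B) : Phi A B J ⟶ Phi A B A) l) 0) := hmono
    have h1 : toH0 (Phi A B J) l m = 0 := hmono' (hnat.trans (map_zero _).symm)
    exact (toH0_eq_zero_iff (Phi A B J) l m).mp h1

end lift

section lift2
variable {A B : Type u} [CommRing A] [CommRing B] [Algebra A B] (J : Ideal A)

local notation "JB" => Ideal.map (algebraMap A B) J

/-- `H2` of the local criterion from the `H⁰`-injectivity. -/
theorem rTensor_subtype_injective_of (I : Ideal B)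
    (h : ∀ m : B ⊗[A] J, (J.subtype.baseChange B) m ∈ I • (⊤ : Submodule B (B ⊗[A] A)) →
        m ∈ I • (⊤ : Submodule B (B ⊗[A] J))) :
    Function.Injective (J.subtype.rTensor (B ⧸ I)) := by
  rw [← LinearMap.lTensor_inj_iff_rTensor_inj, injective_iff_map_eq_zero]
  intro z hz
  obtain ⟨m, rfl⟩ := LinearMap.rTensor_surjective J (qI_surjective (A := A) I) z
  have hc : (J.subtype.lTensor (B ⧸ I)) ∘ₗ ((qI (A := A) I).rTensor J) =
      ((qI (A := A) I).rTensor A) ∘ₗ (J.subtype.lTensor B) := by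
    rw [LinearMap.lTensor_comp_rTensor, LinearMap.rTensor_comp_lTensor]
  have h2 : ((qI (A := A) I).rTensor A) ((J.subtype.lTensor B) m) = 0 := by
    have := congrArg (fun φ => φ m) hc
    simp only [LinearMap.comp_apply] at this
    rw [← this, hz]
  obtain ⟨y, hy⟩ := (rTensor_exact A (exact_jI_qI (A := A) I) (qI_surjective I) _).mp h2
  have h3 : (J.subtype.baseChange B) m ∈ I • (⊤ : Submodule B (B ⊗[A] A)) := by
    have : (J.subtype.baseChange B) m = (J.subtype.lTensor B) m := rfl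
    rw [this, ← hy]
    exact rTensor_jI_mem I A y
  exact rTensor_qI_eq_zero I J m (h m h3)


/-- `H1` of the local criterion. -/
theorem flat_quot_tensor (l : List B)
    [Module.Flat (A ⧸ J) ((B ⧸ JB) ⧸ Ideal.ofList (l.map (Ideal.Quotient.mk (JB))))] :
    Module.Flat (A ⧸ J) ((A ⧸ J) ⊗[A] (B ⧸ Ideal.ofList l)) := by
  have h1 : Ideal.map (Ideal.Quotient.mkₐ A (Ideal.ofList l)) (JB) =
      Ideal.map (algebraMap A (B ⧸ Ideal.ofList l)) J := by
    show Ideal.map (Ideal.Quotient.mk (Ideal.ofList l)) (JB) = _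
    rw [Ideal.map_map]
    rfl
  have h2 : Ideal.map (Ideal.Quotient.mkₐ A (JB)) (Ideal.ofList l) =
      Ideal.ofList (l.map (Ideal.Quotient.mk (JB))) := by
    show Ideal.map (Ideal.Quotient.mk (JB)) (Ideal.ofList l) = _
    rw [Ideal.map_ofList]
  let e2 : ((B ⧸ JB) ⧸ Ideal.ofList (l.map (Ideal.Quotient.mk (JB)))) ≃ₗ[A]
      ((B ⧸ Ideal.ofList l) ⧸ Ideal.map (algebraMap A (B ⧸ Ideal.ofList l)) J) :=
    ((Ideal.quotientEquivAlgOfEq A h2.symm).trans
      ((DoubleQuot.quotQuotEquivCommₐ A (Ideal.ofList l) (JB)).symm.trans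
        (Ideal.quotientEquivAlgOfEq A h1))).toLinearEquiv
  let e3 : ((B ⧸ JB) ⧸ Ideal.ofList (l.map (Ideal.Quotient.mk (JB)))) ≃ₗ[A ⧸ J]
      ((B ⧸ Ideal.ofList l) ⧸ Ideal.map (algebraMap A (B ⧸ Ideal.ofList l)) J) :=
    LinearEquiv.extendScalarsOfSurjective Ideal.Quotient.mk_surjective e2
  have hF : Module.Flat (A ⧸ J)
      ((B ⧸ Ideal.ofList l) ⧸ Ideal.map (algebraMap A (B ⧸ Ideal.ofList l)) J) :=
    Module.Flat.of_linearEquiv e3.symm
  exact Module.Flat.of_linearEquiv
    (Algebra.TensorProduct.quotIdealMapEquivQuotTensor (B ⧸ Ideal.ofList l) J).toLinearEquiv.symm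


/-- **Lifting Koszul-regularity and flatness along a square-zero thickening of the base.** -/
theorem koszul_lift [Module.Flat A B] (hJ : J * J = ⊥) (l : List B)
    (hreg : ∀ i : ℤ, i ≠ 0 → IsZero ((koszulCx (ModuleCat.of (B ⧸ JB) (B ⧸ JB))
      (l.map (Ideal.Quotient.mk (JB)))).homology i))
    [Module.Flat (A ⧸ J) ((B ⧸ JB) ⧸ Ideal.ofList (l.map (Ideal.Quotient.mk (JB))))] :
    (∀ i : ℤ, i ≠ 0 → IsZero ((koszulCx (ModuleCat.of B B) l).homology i)) ∧
      Module.Flat A (B ⧸ Ideal.ofList l) := by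
  obtain ⟨hacyc, hinj⟩ := koszul_lift_acyc J hJ l hreg
  constructor
  · intro i hi
    let e : Phi A B A ≅ ModuleCat.of B B :=
      (TensorProduct.AlgebraTensorModule.rid A B B).toModuleIso
    exact (hacyc i hi).of_iso
      ((HomologicalComplex.homologyFunctor _ _ i).mapIso (koszulIso e l)).symm
  · have hnil : IsNilpotent J := ⟨2, by rw [pow_two, hJ]; rfl⟩
    exact Groth.Agent.Lib.Helper8.flat_of_isNilpotent J hnil (flat_quot_tensor J l)
      (rTensor_subtype_injective_of J _ hinj)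

end lift2
end Groth.Agent.Lib.Helper14.KoszulFun
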