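import Mathlib
import Groth.Agent.Lib.Helper26.RegularSmooth
import Groth.Agent.Lib.Helper26.RegularRing
import Groth.Agent.Lib.Helper5.RegQuot

/-!
Regularity of Kummer covers `A[t]/(t^e - s)`.
-/

namespace Groth.Agent.Lib.Helper14.Kummer

open Polynomial IsLocalRing

universe u

section Gen

variable {A : Type u} [CommRing A] (s : A) (e : ℕ)

/-- The Kummer polynomial. -/
noncomputable abbrev kp : A[X] := X ^ e - C s

lemma root_pow : AdjoinRoot.root (kp s e) ^ e = AdjoinRoot.of (kp s e) s := by
  have := AdjoinRoot.eval₂_root (kp s e)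
  simp only [kp, eval₂_sub, eval₂_pow, eval₂_X, eval₂_C] at this
  exact sub_eq_zero.mp this

lemma eval₂_zero (he : 0 < e) :
    (kp s e).eval₂ (Algebra.ofId A (A ⧸ Ideal.span {s}) : A →+* A ⧸ Ideal.span {s}) 0 = 0 := by
  simp only [kp, eval₂_sub, eval₂_pow, eval₂_X, eval₂_C, zero_pow he.ne', zero_sub, neg_eq_zero]
  exact Ideal.Quotient.eq_zero_iff_mem.mpr (Ideal.mem_span_singleton_self s)

/-- `A[t]/(t^e - s)` modulo `t` is `A/(s)`. -/
noncomputable def quotRootEquiv (he : 0 < e) :
    (AdjoinRoot (kp s e) ⧸ Ideal.span {AdjoinRoot.root (kp s e)}) ≃ₐ[A] (A ⧸ Ideal.span {s}) :=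
  AlgEquiv.ofAlgHom
    (Ideal.Quotient.liftₐ _ (AdjoinRoot.liftAlgHom (kp s e)
      (Algebra.ofId A (A ⧸ Ideal.span {s})) 0 (eval₂_zero s e he)) (by
        intro x hx
        obtain ⟨y, rfl⟩ := Ideal.mem_span_singleton'.mp hx
        rw [map_mul, AdjoinRoot.liftAlgHom_root, mul_zero]))
    (Ideal.Quotient.liftₐ _ ((Ideal.Quotient.mkₐ A _).comp
      (Algebra.ofId A (AdjoinRoot (kp s e)))) (by
        intro x hx
        obtain ⟨y, rfl⟩ := Ideal.mem_span_singleton'.mp hx
        rw [map_mul, AlgHom.comp_apply (Ideal.Quotient.mkₐ A _) _ s]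
        have h1 : (Algebra.ofId A (AdjoinRoot (kp s e))) s = AdjoinRoot.root (kp s e) ^ e := by
          rw [root_pow]
          rfl
        rw [h1, map_pow]
        have h2 : (Ideal.Quotient.mkₐ A (Ideal.span {AdjoinRoot.root (kp s e)}))
            (AdjoinRoot.root (kp s e)) = 0 :=
          Ideal.Quotient.eq_zero_iff_mem.mpr (Ideal.mem_span_singleton_self _)
        rw [h2, zero_pow he.ne', mul_zero]))
    (by
      apply Ideal.Quotient.algHom_ext
      exact AlgHom.ext fun a => (AlgHom.commutes _ a).trans (AlgHom.commutes _ a).symm)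
    (by
      apply Ideal.Quotient.algHom_ext
      apply AdjoinRoot.algHom_ext
      simp only [AlgHom.comp_apply, Ideal.Quotient.mkₐ_eq_mk, Ideal.Quotient.liftₐ_apply,
        Ideal.Quotient.lift_mk, AlgHom.id_apply]
      have h2 : (Ideal.Quotient.mk (Ideal.span {AdjoinRoot.root (kp s e)}))
          (AdjoinRoot.root (kp s e)) = 0 :=
        Ideal.Quotient.eq_zero_iff_mem.mpr (Ideal.mem_span_singleton_self _)
      refine Eq.trans ?_ h2.symm
      rw [RingHom.coe_coe, AdjoinRoot.liftAlgHom_root, map_zero])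

lemma root_nzd [IsDomain A] (hs : s ≠ 0) (he : 0 < e) (b : AdjoinRoot (kp s e))
    (hb : AdjoinRoot.root (kp s e) * b = 0) : b = 0 := by
  have hmonic : (kp s e).Monic := monic_X_pow_sub_C s he.ne'
  haveI : Module.Free A (AdjoinRoot (kp s e)) :=
    Module.Free.of_basis (AdjoinRoot.powerBasis' hmonic).basis
  have h1 : AdjoinRoot.root (kp s e) ^ e * b = 0 := by
    obtain ⟨e', rfl⟩ := Nat.exists_eq_succ_of_ne_zero he.ne'
    rw [pow_succ, mul_assoc, hb, mul_zero]
  rw [root_pow] at h1
  have h2 : s • b = 0 := by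
    rw [Algebra.smul_def]
    exact h1
  rcases smul_eq_zero.mp h2 with h | h
  · exact absurd h hs
  · exact h

/-- The standard étale pair `(t^e - s, t)`. -/
noncomputable def pair [Nontrivial A] (he : 0 < e) (u : A) (hu : (e : A) * u = 1) :
    StandardEtalePair A where
  f := kp s e
  monic_f := monic_X_pow_sub_C s he.ne'
  g := X
  cond := by
    refine ⟨C u * X, 0, e, ?_⟩
    obtain ⟨e', rfl⟩ := Nat.exists_eq_succ_of_ne_zero he.ne'
    simp only [kp, derivative_sub, derivative_X_pow, derivative_C, sub_zero, mul_zero, add_zero,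
      Nat.succ_sub_one, Nat.add_sub_cancel]
    have : (C ((e' + 1 : ℕ) : A) * X ^ e') * (C u * X) = C (((e' + 1 : ℕ) : A) * u) * X ^ (e' + 1) := by
      rw [C_mul, pow_succ]
      ring
    rw [this, hu, C_1, one_mul]

theorem isRegularRing_away [IsRegularRing A] [Nontrivial A] (he : 0 < e) (u : A)
    (hu : (e : A) * u = 1) :
    IsRegularRing (Localization.Away (AdjoinRoot.root (kp s e))) := by
  haveI : Algebra.Etale A (Localization.Away (AdjoinRoot.root (kp s e))) :=
    Algebra.Etale.of_equiv (pair s e he u hu).equivAwayAdjoinRoot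
  exact Groth.Agent.Lib.Helper26.RegularSmooth.isRegularRing_of_smooth A _

end Gen

section Main

variable (A : Type u) [CommRing A] [IsLocalRing A] [IsRegularRing A] (s : A) (e : ℕ)

theorem isRegularLocalRing_atPrime_of_root_mem (hs : s ≠ 0)
    (hreg : IsRegularRing (A ⧸ Ideal.span {s})) (he : 0 < e)
    (q : Ideal (AdjoinRoot (kp s e))) [hq : q.IsPrime] (ht : AdjoinRoot.root (kp s e) ∈ q) :
    IsRegularLocalRing (Localization.AtPrime q) := by
  haveI : IsRegularLocalRing A := IsRegularLocalRing.of_isRegularRing_of_isLocalRing A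
  haveI : IsDomain A := Groth.Agent.Lib.Helper9.RegLocal.isDomain_of_isRegularLocalRing A
  set B := AdjoinRoot (kp s e) with hB
  set t : B := AdjoinRoot.root (kp s e) with htdef
  set I : Ideal B := Ideal.span {t} with hI
  have hIq : I ≤ q := by
    rw [hI, Ideal.span_le, Set.singleton_subset_iff]
    exact ht
  -- the quotient `B / t` is regular
  haveI hregB : IsRegularRing (B ⧸ I) :=
    IsRegularRing.of_ringEquiv (quotRootEquiv s e he).symm.toRingEquiv
  -- the prime of the quotient
  set qb : Ideal (B ⧸ I) := q.map (Ideal.Quotient.mk I) with hqb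
  haveI hqbp : qb.IsPrime :=
    Ideal.map_isPrime_of_surjective Ideal.Quotient.mk_surjective (by rwa [Ideal.mk_ker])
  have hM : Algebra.algebraMapSubmonoid (B ⧸ I) q.primeCompl = qb.primeCompl := by
    ext x
    obtain ⟨b, rfl⟩ := Ideal.Quotient.mk_surjective x
    constructor
    · rintro ⟨c, hc, hcb⟩
      intro hmem
      rw [← hcb] at hmem
      have : c ∈ q := (Ideal.mem_quotient_iff_mem hIq).mp hmem
      exact hc this
    · intro hb
      refine ⟨b, ?_, rfl⟩
      intro hbq
      exact hb (Ideal.mem_map_of_mem _ hbq)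
  set Bq := Localization.AtPrime q with hBq
  haveI hloc : IsLocalization.AtPrime (Bq ⧸ I.map (algebraMap B Bq)) qb := by
    show IsLocalization qb.primeCompl (Bq ⧸ I.map (algebraMap B Bq))
    rw [← hM]
    infer_instance
  have hquot : IsRegularLocalRing (Bq ⧸ I.map (algebraMap B Bq)) :=
    Groth.Agent.Lib.Helper26.RegularRing.isRegularLocalRing_of_isLocalization_atPrime (B ⧸ I) qb
      (Bq ⧸ I.map (algebraMap B Bq))
  set t' : Bq := algebraMap B Bq t with ht'
  have hideal : Ideal.ofList [t'] = I.map (algebraMap B Bq) := by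
    rw [Ideal.ofList_singleton, hI, Ideal.map_span, Set.image_singleton]
  have hquot' : IsRegularLocalRing (Bq ⧸ Ideal.ofList [t']) :=
    @IsRegularLocalRing.of_ringEquiv _ _ hquot _ _ (Ideal.quotEquivOfEq hideal.symm)
  -- `t'` is a regular element in the maximal ideal
  have hmem : t' ∈ maximalIdeal Bq := by
    rw [← Localization.AtPrime.map_eq_maximalIdeal]
    exact Ideal.mem_map_of_mem _ ht
  have hsmul : IsSMulRegular Bq t' := by
    intro x y hxy
    have h0 : t' * (x - y) = 0 := by
      simp only [smul_eq_mul] at hxy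
      rw [mul_sub, hxy, sub_self]
    obtain ⟨b, u, hbu⟩ := IsLocalization.exists_mk'_eq q.primeCompl (x - y)
    rw [← hbu, ht', ← IsLocalization.mk'_one (M := q.primeCompl) Bq t,
      ← IsLocalization.mk'_mul, IsLocalization.mk'_eq_zero_iff] at h0
    obtain ⟨v, hv⟩ := h0
    have h1 : t * ((v : B) * b) = 0 := by
      rw [← hv]; ring
    have h2 := root_nzd s e hs he _ h1
    have h3 : IsLocalization.mk' Bq b u = 0 :=
      (IsLocalization.mk'_eq_zero_iff b u).mpr ⟨v, h2⟩
    rw [hbu] at h3
    exact sub_eq_zero.mp h3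
  have hregseq : RingTheory.Sequence.IsRegular Bq [t'] := by
    apply RingTheory.Sequence.IsRegular.of_isWeaklyRegular_of_mem_maximalIdeal
    · intro r hr
      rw [List.mem_singleton] at hr
      rw [hr]
      exact hmem
    · exact (RingTheory.Sequence.isWeaklyRegular_singleton_iff Bq t').mpr hsmul
  exact Groth.Agent.Lib.Helper5.RegQuot.isRegularLocalRing_of_quotient Bq [t'] hregseq hquot'

theorem isRegularRing_adjoinRoot (hs : s ≠ 0) (hreg : IsRegularRing (A ⧸ Ideal.span {s}))
    (he : 0 < e) (heu : IsUnit (e : A)) : IsRegularRing (AdjoinRoot (kp s e)) := by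
  obtain ⟨u, hu⟩ := heu.exists_right_inv
  haveI hRaway := isRegularRing_away s e he u hu
  rw [isRegularRing_iff]
  intro q hq
  by_cases ht : AdjoinRoot.root (kp s e) ∈ q
  · exact isRegularLocalRing_atPrime_of_root_mem A s e hs hreg he q ht
  · refine Groth.Agent.Lib.Helper26.RegularSmooth.isRegularLocalRing_atPrime_of_isLocalization
      (Submonoid.powers (AdjoinRoot.root (kp s e)))
      (Localization.Away (AdjoinRoot.root (kp s e))) q ?_ (fun Q _ => inferInstance)
    rw [Set.disjoint_left]
    rintro x ⟨n, rfl⟩ hx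
    exact ht (hq.mem_of_pow_mem n hx)

end Main

end Groth.Agent.Lib.Helper14.Kummer
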