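import Mathlib
import Groth.Prelude.Def_SGA1
import Groth.Agent.Lib.Helper9.RegLocal
import Groth.Agent.Lib.Helper12.IntegralDim

/-!
# Kummer covers `A[T_i]/(T_i^{n_i} - f_i)` of a regular local ring
-/

set_option autoImplicit false
universe u

namespace Groth.Agent.Lib.Helper14.KummerCover

open IsLocalRing MvPolynomial

section general

variable (A : Type u) [CommRing A] {r : ℕ} (f : Fin r → A) (n : Fin r → ℕ)

/-- The defining ideal. -/
noncomputable abbrev I : Ideal (MvPolynomial (Fin r) A) :=
  Ideal.span (Set.range fun i => (X i : MvPolynomial (Fin r) A) ^ n i - C (f i))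

/-- The class of `T_i`. -/
noncomputable def t (i : Fin r) : SGA1.kummerAlg A f n := Ideal.Quotient.mk _ (X i)

lemma algebraMap_eq (a : A) :
    algebraMap A (SGA1.kummerAlg A f n) a = Ideal.Quotient.mk _ (C a) := rfl

lemma t_pow (i : Fin r) : t A f n i ^ n i = algebraMap A (SGA1.kummerAlg A f n) (f i) := by
  rw [t, algebraMap_eq, ← map_pow, ← sub_eq_zero, ← map_sub, Ideal.Quotient.eq_zero_iff_mem]
  exact Ideal.subset_span ⟨i, rfl⟩

lemma adjoin_t : Algebra.adjoin A (Set.range (t A f n)) = ⊤ := by
  have h := MvPolynomial.adjoin_range_X (R := A) (σ := Fin r)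
  have h2 := congrArg (Subalgebra.map (Ideal.Quotient.mkₐ A (I A f n))) h
  rw [AlgHom.map_adjoin, Algebra.map_top, ← Set.range_comp] at h2
  rw [show Set.range (t A f n) = Set.range ((Ideal.Quotient.mkₐ A (I A f n)) ∘ X) from rfl, h2]
  exact (AlgHom.range_eq_top _).2 (Ideal.Quotient.mkₐ_surjective A _)

lemma isIntegral (hn : ∀ i, 1 ≤ n i) : Algebra.IsIntegral A (SGA1.kummerAlg A f n) := by
  refine ⟨fun b => ?_⟩
  have hb : b ∈ Algebra.adjoin A (Set.range (t A f n)) := by rw [adjoin_t]; trivial
  have hle : Algebra.adjoin A (Set.range (t A f n)) ≤ integralClosure A (SGA1.kummerAlg A f n) := by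
    refine Algebra.adjoin_le ?_
    rintro _ ⟨i, rfl⟩
    refine ⟨Polynomial.X ^ n i - Polynomial.C (f i),
      Polynomial.monic_X_pow_sub_C _ (by have := hn i; omega), ?_⟩
    rw [Polynomial.eval₂_sub, Polynomial.eval₂_pow, Polynomial.eval₂_X, Polynomial.eval₂_C, t_pow,
      sub_self]
  exact hle hb

end general

section loc

variable (A : Type u) [CommRing A] [IsLocalRing A] {r : ℕ} (f : Fin r → A) (n : Fin r → ℕ)

/-- The augmentation to the residue field, `T_i ↦ 0`. -/
noncomputable def eps (hm : ∀ i, f i ∈ maximalIdeal A) (hn : ∀ i, 1 ≤ n i) :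
    SGA1.kummerAlg A f n →+* ResidueField A :=
  Ideal.Quotient.lift _ (MvPolynomial.eval₂Hom (residue A) (fun _ => 0)) (by
    intro a ha
    have hle : I A f n ≤ RingHom.ker (MvPolynomial.eval₂Hom (residue A) (fun _ : Fin r => 0)) := by
      refine Ideal.span_le.2 ?_
      rintro _ ⟨i, rfl⟩
      have h0 : n i ≠ 0 := by have := hn i; omega
      simp only [SetLike.mem_coe, RingHom.mem_ker, map_sub, map_pow, MvPolynomial.coe_eval₂Hom,
        MvPolynomial.eval₂_X, MvPolynomial.eval₂_C, zero_pow h0, zero_sub, neg_eq_zero]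
      exact (residue_eq_zero_iff _).2 (hm i)
    exact hle ha)

variable (hm : ∀ i, f i ∈ maximalIdeal A) (hn : ∀ i, 1 ≤ n i)

lemma eps_algebraMap (a : A) :
    eps A f n hm hn (algebraMap A _ a) = residue A a := by
  rw [algebraMap_eq, eps, Ideal.Quotient.lift_mk]
  simp

lemma eps_t (i : Fin r) : eps A f n hm hn (t A f n i) = 0 := by
  rw [t, eps, Ideal.Quotient.lift_mk]
  simp

lemma eps_surjective : Function.Surjective (eps A f n hm hn) := by
  intro x
  obtain ⟨a, rfl⟩ := residue_surjective x
  exact ⟨_, eps_algebraMap A f n hm hn a⟩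

lemma ker_eps : RingHom.ker (eps A f n hm hn) =
    Ideal.map (algebraMap A (SGA1.kummerAlg A f n)) (maximalIdeal A) ⊔
      Ideal.span (Set.range (t A f n)) := by
  apply le_antisymm
  · intro b hb
    obtain ⟨P, rfl⟩ := Ideal.Quotient.mk_surjective b
    have hP : P = C (constantCoeff P) + (P - C (constantCoeff P)) := by ring
    have hQ : P - C (constantCoeff P) ∈ Ideal.span (X '' (Set.univ : Set (Fin r))) := by
      rw [MvPolynomial.mem_ideal_span_X_image]
      intro m hm'
      by_contra hcon
      push_neg at hcon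
      have hm0 : m = 0 := by
        ext i; exact hcon i (Set.mem_univ i)
      rw [hm0, MvPolynomial.mem_support_iff, MvPolynomial.coeff_sub,
        ← MvPolynomial.constantCoeff_eq, MvPolynomial.constantCoeff_C, sub_self] at hm'
      exact hm' rfl
    have hQ' : Ideal.Quotient.mk (I A f n) (P - C (constantCoeff P)) ∈
        Ideal.span (Set.range (t A f n)) := by
      have := Ideal.mem_map_of_mem (Ideal.Quotient.mk (I A f n)) hQ
      rw [Ideal.map_span, Set.image_univ, ← Set.range_comp] at this
      exact this
    have hc : constantCoeff P ∈ maximalIdeal A := by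
      rw [RingHom.mem_ker, hP, map_add, map_add] at hb
      have h2 : eps A f n hm hn (Ideal.Quotient.mk (I A f n) (P - C (constantCoeff P))) = 0 := by
        have hle : Ideal.span (Set.range (t A f n)) ≤ RingHom.ker (eps A f n hm hn) := by
          refine Ideal.span_le.2 ?_
          rintro _ ⟨i, rfl⟩
          exact eps_t A f n hm hn i
        exact hle hQ'
      rw [h2, add_zero, ← algebraMap_eq, eps_algebraMap] at hb
      exact (residue_eq_zero_iff _).1 hb
    rw [hP, map_add]
    refine Ideal.add_mem _ (Ideal.mem_sup_left ?_) (Ideal.mem_sup_right hQ')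
    exact Ideal.mem_map_of_mem _ hc
  · refine sup_le ?_ ?_
    · refine Ideal.map_le_iff_le_comap.2 ?_
      intro a ha
      rw [Ideal.mem_comap, RingHom.mem_ker, eps_algebraMap]
      exact (residue_eq_zero_iff _).2 ha
    · refine Ideal.span_le.2 ?_
      rintro _ ⟨i, rfl⟩
      exact eps_t A f n hm hn i

lemma ker_eps_isMaximal : (RingHom.ker (eps A f n hm hn)).IsMaximal :=
  RingHom.ker_isMaximal_of_surjective _ (eps_surjective A f n hm hn)

lemma le_of_isMaximal (M : Ideal (SGA1.kummerAlg A f n)) [hM : M.IsMaximal] :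
    RingHom.ker (eps A f n hm hn) ≤ M := by
  haveI := isIntegral A f n hn
  have h1 : (M.comap (algebraMap A (SGA1.kummerAlg A f n))).IsMaximal :=
    Ideal.isMaximal_comap_of_isIntegral_of_isMaximal M
  have h2 := IsLocalRing.eq_maximalIdeal h1
  rw [ker_eps]
  refine sup_le ?_ ?_
  · rw [Ideal.map_le_iff_le_comap, h2]
  · refine Ideal.span_le.2 ?_
    rintro _ ⟨i, rfl⟩
    have h3 : t A f n i ^ n i ∈ M := by
      rw [t_pow]
      have : f i ∈ M.comap (algebraMap A (SGA1.kummerAlg A f n)) := by rw [h2]; exact hm i
      exact this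
    exact hM.isPrime.mem_of_pow_mem _ h3

include hm hn in
lemma isLocalRing : IsLocalRing (SGA1.kummerAlg A f n) := by
  refine IsLocalRing.of_unique_max_ideal ⟨_, ker_eps_isMaximal A f n hm hn, ?_⟩
  intro M hM
  haveI := hM
  exact ((ker_eps_isMaximal A f n hm hn).eq_of_le hM.ne_top (le_of_isMaximal A f n hm hn M)).symm

include hm hn in
lemma maximalIdeal_eq [IsLocalRing (SGA1.kummerAlg A f n)] :
    maximalIdeal (SGA1.kummerAlg A f n) =
      Ideal.map (algebraMap A (SGA1.kummerAlg A f n)) (maximalIdeal A) ⊔
        Ideal.span (Set.range (t A f n)) := by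
  rw [← ker_eps A f n hm hn]
  exact (IsLocalRing.eq_maximalIdeal (ker_eps_isMaximal A f n hm hn)).symm

end loc


section inj

variable (A : Type u) [CommRing A] [IsDomain A] {r : ℕ} (f : Fin r → A) (n : Fin r → ℕ)

lemma algebraMap_injective (hn : ∀ i, 1 ≤ n i) :
    Function.Injective (algebraMap A (SGA1.kummerAlg A f n)) := by
  classical
  let K := AlgebraicClosure (FractionRing A)
  have hroot : ∀ i, ∃ z : K, z ^ n i = algebraMap A K (f i) := fun i =>
    IsAlgClosed.exists_pow_nat_eq _ (by have := hn i; omega)
  choose ρ hρ using hroot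
  let g : SGA1.kummerAlg A f n →+* K :=
    Ideal.Quotient.lift _ (MvPolynomial.eval₂Hom (algebraMap A K) ρ) (by
      intro a ha
      have hle : I A f n ≤ RingHom.ker (MvPolynomial.eval₂Hom (algebraMap A K) ρ) := by
        refine Ideal.span_le.2 ?_
        rintro _ ⟨i, rfl⟩
        simp only [SetLike.mem_coe, RingHom.mem_ker, map_sub, map_pow, MvPolynomial.coe_eval₂Hom,
          MvPolynomial.eval₂_X, MvPolynomial.eval₂_C, hρ, sub_self]
      exact hle ha)
  have hg : ∀ a, g (algebraMap A _ a) = algebraMap A K a := by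
    intro a
    rw [algebraMap_eq]
    simp [g]
  have hinj : Function.Injective (algebraMap A K) := by
    rw [IsScalarTower.algebraMap_eq A (FractionRing A) K]
    exact (algebraMap (FractionRing A) K).injective.comp (IsFractionRing.injective A (FractionRing A))
  intro a b hab
  apply hinj
  rw [← hg, ← hg, hab]

end inj

section reg

variable (A : Type u) [CommRing A] [IsRegularLocalRing A] {r : ℕ} (f : Fin r → A) (n : Fin r → ℕ)

theorem isRegularLocalRing (hm : ∀ i, f i ∈ maximalIdeal A)
    (hf : LinearIndependent (ResidueField A) (fun i => (maximalIdeal A).toCotangent ⟨f i, hm i⟩))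
    (hn : ∀ i, 1 ≤ n i) : IsRegularLocalRing (SGA1.kummerAlg A f n) := by
  classical
  haveI := Groth.Agent.Lib.Helper9.RegLocal.isDomain_of_isRegularLocalRing A
  haveI := isLocalRing A f n hm hn
  haveI := isIntegral A f n hn
  -- extend `f` to generators of the maximal ideal
  set x : Fin r → maximalIdeal A := fun i => ⟨f i, hm i⟩ with hx
  set W := Submodule.span (ResidueField A)
    (Set.range fun i => (maximalIdeal A).toCotangent (x i)) with hWdef
  have hW : Module.finrank (ResidueField A) W = r := by
    rw [hWdef, finrank_span_eq_card hf, Fintype.card_fin]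
  set e := Module.finrank (ResidueField A) (CotangentSpace A ⧸ W) with hedef
  have he : e + r = Module.finrank (ResidueField A) (CotangentSpace A) := by
    rw [← hW]; exact Submodule.finrank_quotient_add_finrank W
  let b := Module.finBasis (ResidueField A) (CotangentSpace A ⧸ W)
  have hlift : ∀ j : Fin e, ∃ y : maximalIdeal A,
      W.mkQ ((maximalIdeal A).toCotangent y) = b j := by
    intro j
    obtain ⟨v, hv⟩ := W.mkQ_surjective (b j)
    obtain ⟨y, rfl⟩ := (maximalIdeal A).toCotangent_surjective v
    exact ⟨y, hv⟩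
  choose y hy using hlift
  have hspan : W ⊔ Submodule.span (ResidueField A)
      (Set.range fun j => (maximalIdeal A).toCotangent (y j)) = ⊤ := by
    rw [← Submodule.map_mkQ_eq_top, Submodule.map_span, ← Set.range_comp]
    have : (W.mkQ ∘ fun j => (maximalIdeal A).toCotangent (y j)) = b := funext hy
    rw [this, b.span_eq]
  have hmA : Ideal.span (Set.range fun i => (x i : A)) ⊔
      Ideal.span (Set.range fun j => (y j : A)) = maximalIdeal A :=
    (Groth.Agent.Lib.Helper9.RegLocal.span_cotangent_sup_eq_top_iff x y).1 hspan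
  have hdA : ringKrullDim A = ((e + r : ℕ) : WithBot ℕ∞) := by
    rw [← IsRegularLocalRing.spanFinrank_maximalIdeal,
      spanFinrank_maximalIdeal_eq_finrank_cotangentSpace, he]
  -- generators of the maximal ideal of the Kummer algebra
  set φ := algebraMap A (SGA1.kummerAlg A f n) with hφ
  have hmB : maximalIdeal (SGA1.kummerAlg A f n) =
      Ideal.span (Set.range (fun j => φ (y j : A)) ∪ Set.range (t A f n)) := by
    have hmap : Ideal.map φ (maximalIdeal A) =
        Ideal.span (Set.range fun i => φ (x i : A)) ⊔ Ideal.span (Set.range fun j => φ (y j : A)) := by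
      calc Ideal.map φ (maximalIdeal A) = Ideal.map φ (Ideal.span (Set.range fun i => (x i : A)) ⊔
            Ideal.span (Set.range fun j => (y j : A))) := congrArg _ hmA.symm
        _ = _ := by
          rw [Ideal.map_sup, Ideal.map_span, Ideal.map_span, ← Set.range_comp, ← Set.range_comp]
          rfl
    rw [maximalIdeal_eq A f n hm hn, hmap, Ideal.span_union]
    apply le_antisymm
    · refine sup_le (sup_le ?_ le_sup_left) le_sup_right
      refine Ideal.span_le.2 ?_
      rintro _ ⟨i, rfl⟩
      refine Ideal.mem_sup_right ?_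
      change φ (f i) ∈ _
      rw [hφ, ← t_pow]
      have hti : t A f n i ∈ Ideal.span (Set.range (t A f n)) := Ideal.subset_span ⟨i, rfl⟩
      exact Ideal.pow_mem_of_mem _ hti _ (by have := hn i; omega)
    · exact sup_le (le_sup_of_le_left le_sup_right) le_sup_right
  have hfin : (Set.range (fun j => φ (y j : A)) ∪ Set.range (t A f n)).Finite :=
    (Set.finite_range _).union (Set.finite_range _)
  have hcard : (Set.range (fun j => φ (y j : A)) ∪ Set.range (t A f n)).ncard ≤ e + r := by
    refine (Set.ncard_union_le _ _).trans (add_le_add ?_ ?_)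
    · rw [← Set.image_univ]
      exact (Set.ncard_image_le Set.finite_univ).trans (by rw [Set.ncard_univ, Nat.card_fin])
    · rw [← Set.image_univ]
      exact (Set.ncard_image_le Set.finite_univ).trans (by rw [Set.ncard_univ, Nat.card_fin])
  have h1 : (maximalIdeal (SGA1.kummerAlg A f n)).spanFinrank ≤ e + r := by
    rw [hmB]
    exact (Submodule.spanFinrank_span_le_ncard_of_finite hfin).trans hcard
  have hdim : ringKrullDim A ≤ ringKrullDim (SGA1.kummerAlg A f n) :=
    Groth.Agent.Lib.Helper12.ringKrullDim_le_of_isIntegral_of_injective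
      (algebraMap_injective A f n hn)
  apply IsRegularLocalRing.of_spanFinrank_maximalIdeal_le
  refine le_trans ?_ hdim
  rw [hdA]
  exact_mod_cast h1

end reg


section etale

lemma root_unique {C : Type*} [CommRing C] (J : Ideal C) (hJ : J ^ 2 = ⊥) (n : ℕ) (hn : 1 ≤ n)
    (hnu : IsUnit (n : C)) (x y : C) (hxy : y - x ∈ J) (hx : IsUnit (x ^ n))
    (h : x ^ n = y ^ n) : x = y := by
  have hδ2 : (y - x) ^ 2 = 0 := by
    have : (y - x) ^ 2 ∈ J ^ 2 := Ideal.pow_mem_pow hxy 2
    rwa [hJ, Ideal.mem_bot] at this
  obtain ⟨k, hk⟩ := Polynomial.powAddExpansion x (y - x) n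
  have hy : x + (y - x) = y := by ring
  rw [hy, hδ2, mul_zero, add_zero, ← h] at hk
  have h0 : ((n : C) * x ^ (n - 1)) * (y - x) = 0 := by linear_combination -hk
  have hxu : IsUnit (x ^ (n - 1)) := by
    have : IsUnit x := (isUnit_pow_iff (by omega)).1 hx
    exact this.pow _
  have h1 : y - x = 0 := (hnu.mul hxu).mul_right_eq_zero.1 h0
  exact (sub_eq_zero.1 h1).symm

lemma root_exists {C : Type*} [CommRing C] (J : Ideal C) (hJ : J ^ 2 = ⊥) (n : ℕ) (hn : 1 ≤ n)
    (u : C) (hu : IsUnit ((n : C) * u)) (c' : C) (hc : c' ^ n - u ∈ J) :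
    ∃ c, c - c' ∈ J ∧ c ^ n = u := by
  obtain ⟨w, hw⟩ := hu.exists_right_inv
  obtain ⟨e, he'⟩ : ∃ e, e = c' ^ n - u := ⟨_, rfl⟩
  have he : c' ^ n = u + e := by rw [he']; ring
  have heJ : e ∈ J := he' ▸ hc
  have he2 : e ^ 2 = 0 := by
    have : e ^ 2 ∈ J ^ 2 := Ideal.pow_mem_pow heJ 2
    rwa [hJ, Ideal.mem_bot] at this
  have hδ : -w * c' * e ∈ J := J.mul_mem_left _ heJ
  have hδ2 : (-w * c' * e) ^ 2 = 0 := by rw [mul_pow, he2, mul_zero]
  obtain ⟨k, hk⟩ := Polynomial.powAddExpansion c' (-w * c' * e) n
  refine ⟨c' + -w * c' * e, by simpa using hδ, ?_⟩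
  rw [hk, hδ2, mul_zero, add_zero]
  have hpow : c' ^ (n - 1) * c' = u + e := by rw [← pow_succ, Nat.sub_add_cancel hn, he]
  linear_combination he - ((n : C) * w * e) * hpow - e * hw - ((n : C) * w) * he2

theorem formallyEtale_of_universal {R S : Type u} [CommRing R] [CommRing S] [Algebra R S]
    {ι : Type*} (t : ι → S) (n : ι → ℕ) (v : ι → R) (hn : ∀ i, 1 ≤ n i)
    (hnu : ∀ i, IsUnit ((n i : ℕ) : R)) (hv : ∀ i, IsUnit (v i))
    (ht : ∀ i, t i ^ n i = algebraMap R S (v i))
    (hext : ∀ (C : Type u) [CommRing C] [Algebra R C] (g g' : S →ₐ[R] C),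
      (∀ i, g (t i) = g' (t i)) → g = g')
    (hlift : ∀ (C : Type u) [CommRing C] [Algebra R C] (c : ι → C),
      (∀ i, c i ^ n i = algebraMap R C (v i)) → ∃ g : S →ₐ[R] C, ∀ i, g (t i) = c i) :
    Algebra.FormallyEtale R S := by
  rw [Algebra.FormallyEtale.iff_comp_bijective]
  intro C _ _ J hJ
  have hnC : ∀ i, IsUnit ((n i : ℕ) : C) := fun i => by
    have := (hnu i).map (algebraMap R C)
    rwa [map_natCast] at this
  have hvC : ∀ i, IsUnit (algebraMap R C (v i)) := fun i => (hv i).map _
  have hgt : ∀ (D : Type u) [CommRing D] [Algebra R D] (g : S →ₐ[R] D) (i : ι),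
      g (t i) ^ n i = algebraMap R D (v i) := by
    intro D _ _ g i
    rw [← map_pow, ht, AlgHom.commutes]
  constructor
  · intro g g' hgg'
    apply hext
    intro i
    refine root_unique J hJ (n i) (hn i) (hnC i) (g (t i)) (g' (t i)) ?_ ?_ ?_
    · have h1 := congrArg (fun h : S →ₐ[R] C ⧸ J => h (t i)) hgg'
      simp only [AlgHom.comp_apply, Ideal.Quotient.mkₐ_eq_mk] at h1
      rw [← Ideal.Quotient.eq]
      exact h1.symm
    · rw [hgt]; exact hvC i
    · rw [hgt, hgt]
  · intro gbar
    choose c' hc' using fun i => Ideal.Quotient.mk_surjective (gbar (t i))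
    have hex : ∀ i, ∃ c, c - c' i ∈ J ∧ c ^ n i = algebraMap R C (v i) := by
      intro i
      refine root_exists J hJ (n i) (hn i) _ ((hnC i).mul (hvC i)) (c' i) ?_
      rw [← Ideal.Quotient.eq, map_pow, hc', hgt]
      rfl
    choose c hc1 hc2 using hex
    obtain ⟨g, hg⟩ := hlift C c hc2
    refine ⟨g, hext _ _ _ ?_⟩
    intro i
    rw [AlgHom.comp_apply, hg, Ideal.Quotient.mkₐ_eq_mk, ← hc']
    exact Ideal.Quotient.eq.2 (hc1 i)

end etale


section etale2

variable (A : Type u) [CommRing A] {r : ℕ} (f : Fin r → A) (n : Fin r → ℕ)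

theorem etale_away (hn : ∀ i, 1 ≤ n i) (hnu : ∀ i, IsUnit ((n i : ℕ) : A)) :
    letI := (Localization.awayMap (algebraMap A (SGA1.kummerAlg A f n)) (∏ i, f i)).toAlgebra
    Algebra.Etale (Localization.Away (∏ i, f i))
      (Localization.Away (algebraMap A (SGA1.kummerAlg A f n) (∏ i, f i))) := by
  classical
  set F : A := ∏ i, f i with hF
  set B := SGA1.kummerAlg A f n with hB
  set φ := algebraMap A B with hφ
  letI : Algebra (Localization.Away F) (Localization.Away (φ F)) :=
    (Localization.awayMap φ F).toAlgebra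
  have hmap : ∀ a : A, algebraMap (Localization.Away F) (Localization.Away (φ F))
      (algebraMap A (Localization.Away F) a) = algebraMap B (Localization.Away (φ F)) (φ a) := by
    intro a
    change Localization.awayMap φ F (algebraMap A _ a) = _
    simp [Localization.awayMap, IsLocalization.Away.map]
  have hfu : ∀ i, IsUnit (algebraMap A (Localization.Away F) (f i)) := by
    intro i
    have h1 : f i ∣ F := Finset.dvd_prod_of_mem f (Finset.mem_univ i)
    exact isUnit_of_dvd_unit (map_dvd (algebraMap A (Localization.Away F)) h1)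
      (IsLocalization.Away.algebraMap_isUnit F)
  refine ⟨?_, ?_⟩
  · -- formally etale
    refine formallyEtale_of_universal
      (fun i => algebraMap B (Localization.Away (φ F)) (t A f n i)) n
      (fun i => algebraMap A (Localization.Away F) (f i)) hn ?_ hfu ?_ ?_ ?_
    · intro i
      have := (hnu i).map (algebraMap A (Localization.Away F))
      rwa [map_natCast] at this
    · intro i
      rw [← map_pow, t_pow, hmap]
    · intro D _ _ g g' hgg'
      apply AlgHom.coe_ringHom_injective
      refine IsLocalization.ringHom_ext (Submonoid.powers (φ F)) ?_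
      refine Ideal.Quotient.ringHom_ext ?_
      refine MvPolynomial.ringHom_ext ?_ ?_
      · intro a
        change g (algebraMap B _ (φ a)) = g' (algebraMap B _ (φ a))
        rw [← hmap, AlgHom.commutes, AlgHom.commutes]
      · intro i
        exact hgg' i
    · intro D _ _ c hc
      let ρ : A →+* D := (algebraMap (Localization.Away F) D).comp (algebraMap A (Localization.Away F))
      let g0 : B →+* D :=
        Ideal.Quotient.lift _ (MvPolynomial.eval₂Hom ρ c) (by
          intro a ha
          have hle : I A f n ≤ RingHom.ker (MvPolynomial.eval₂Hom ρ c) := by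
            refine Ideal.span_le.2 ?_
            rintro _ ⟨i, rfl⟩
            simp only [SetLike.mem_coe, RingHom.mem_ker, map_sub, map_pow,
              MvPolynomial.coe_eval₂Hom, MvPolynomial.eval₂_X, MvPolynomial.eval₂_C, hc, ρ,
              RingHom.comp_apply, sub_self]
          exact hle ha)
      have hg0φ : ∀ a, g0 (φ a) = ρ a := by
        intro a
        refine (Ideal.Quotient.lift_mk _ _ _).trans ?_
        simp
      have hg0t : ∀ i, g0 (t A f n i) = c i := by
        intro i
        refine (Ideal.Quotient.lift_mk _ _ _).trans ?_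
        simp
      have hunit : IsUnit (g0 (φ F)) := by
        rw [hg0φ]
        change IsUnit (algebraMap (Localization.Away F) D (algebraMap A (Localization.Away F) F))
        exact ((IsLocalization.Away.algebraMap_isUnit (S := Localization.Away F) F).map _)
      let g1 : Localization.Away (φ F) →+* D := IsLocalization.Away.lift (φ F) hunit
      have hg1 : ∀ b, g1 (algebraMap B _ b) = g0 b := fun b => IsLocalization.Away.lift_eq _ hunit b
      have hcomm : g1.comp (algebraMap (Localization.Away F) (Localization.Away (φ F))) =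
          algebraMap (Localization.Away F) D := by
        refine IsLocalization.ringHom_ext (Submonoid.powers F) ?_
        ext a
        simp only [RingHom.comp_apply]
        rw [hmap, hg1, hg0φ]
        rfl
      refine ⟨{ g1 with commutes' := fun x => RingHom.congr_fun hcomm x }, ?_⟩
      intro i
      change g1 (algebraMap B _ (t A f n i)) = c i
      rw [hg1, hg0t]
  · -- finite presentation
    haveI : IsScalarTower A (Localization.Away F) (Localization.Away (φ F)) :=
      IsScalarTower.of_algebraMap_eq fun a => by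
        rw [hmap, IsScalarTower.algebraMap_apply A B (Localization.Away (φ F))]
    haveI : Algebra.FinitePresentation A B := by
      refine Algebra.FinitePresentation.quotient ?_
      exact ⟨Finset.univ.image (fun i => (X i : MvPolynomial (Fin r) A) ^ n i - C (f i)), by
        rw [Finset.coe_image, Finset.coe_univ, Set.image_univ]⟩
    haveI : Algebra.FinitePresentation B (Localization.Away (φ F)) :=
      IsLocalization.Away.finitePresentation (φ F)
    haveI : Algebra.FinitePresentation A (Localization.Away (φ F)) :=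
      Algebra.FinitePresentation.trans A B _
    haveI : Algebra.FiniteType A (Localization.Away F) :=
      IsLocalization.finiteType_of_monoid_fg (Submonoid.powers F) _
    exact Algebra.FinitePresentation.of_restrict_scalars_finitePresentation A _ _

end etale2

end Groth.Agent.Lib.Helper14.KummerCover
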