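import Mathlib

/-!
# Descending finitely presented modules from a localization

Helper lemmas (helper14).
-/

set_option autoImplicit false

namespace Groth.Agent.Lib.Helper14

variable {R : Type*} [CommRing R] (S : Submonoid R)

theorem localizedModule_mk_eq_zero_iff {M : Type*} [AddCommGroup M] [Module R M] (m : M) (s : S) :
    LocalizedModule.mk m s = 0 ↔ ∃ t : S, t • m = 0 := by
  rw [← LocalizedModule.zero_mk s, LocalizedModule.mk_eq]
  constructor
  · rintro ⟨u, hu⟩
    refine ⟨u * s, ?_⟩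
    rw [smul_zero, smul_zero] at hu
    rw [mul_smul]
    exact hu
  · rintro ⟨t, ht⟩
    refine ⟨t, ?_⟩
    rw [smul_zero, smul_zero, smul_comm, ht, smul_zero]

/-- If `S⁻¹M` is a finite module, finitely many elements of `M` generate it. -/
theorem exists_finite_free_map_localizedModule_surjective (M : Type*) [AddCommGroup M] [Module R M]
    [Module.Finite (Localization S) (LocalizedModule S M)] :
    ∃ (n : ℕ) (φ₀ : (Fin n → R) →ₗ[R] M),
      Function.Surjective (LocalizedModule.map S φ₀) := by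
  classical
  obtain ⟨T, hT⟩ := (Module.Finite.fg_top :
    (⊤ : Submodule (Localization S) (LocalizedModule S M)).FG)
  have h1 : ∀ τ : LocalizedModule S M, ∃ (m : M) (s : S), LocalizedModule.mk m s = τ := by
    intro τ
    induction τ using LocalizedModule.induction_on with
    | h m s => exact ⟨m, s, rfl⟩
  choose m s hms using h1
  let e : T ≃ Fin T.card := T.equivFin
  refine ⟨T.card, Fintype.linearCombination R (fun i : Fin T.card => m (e.symm i)), ?_⟩
  rw [← LinearMap.range_eq_top, eq_top_iff, ← hT, Submodule.span_le]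
  intro τ hτ
  have h2 : LocalizedModule.mk (m τ) 1 ∈ LinearMap.range (LocalizedModule.map S
      (Fintype.linearCombination R (fun i : Fin T.card => m (e.symm i)))) := by
    refine ⟨LocalizedModule.mk (Pi.single (e ⟨τ, hτ⟩) 1) 1, ?_⟩
    rw [LocalizedModule.map_mk]
    congr 1
    rw [Fintype.linearCombination_apply_single, one_smul, Equiv.symm_apply_apply]
  have h3 : τ = Localization.mk 1 (s τ) • LocalizedModule.mk (m τ) 1 := by
    rw [LocalizedModule.mk_smul_mk, one_smul, mul_one, hms]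
  rw [h3]
  exact Submodule.smul_mem _ _ h2

/-- If `S⁻¹M` is finitely presented and `φ₀ : F → M` from a finite module is surjective after
localization, there is a finitely generated submodule of `ker φ₀` that agrees with `ker φ₀` after
localization. -/
theorem exists_fg_le_ker_of_localizedModule_map_surjective {F M : Type*} [AddCommGroup F] [Module R F]
    [Module.Finite R F] [AddCommGroup M] [Module R M]
    [Module.FinitePresentation (Localization S) (LocalizedModule S M)] (φ₀ : F →ₗ[R] M)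
    (hφ₀ : Function.Surjective (LocalizedModule.map S φ₀)) :
    ∃ K' : Submodule R F, K' ≤ LinearMap.ker φ₀ ∧ K'.FG ∧
      ∀ x : F, φ₀ x = 0 → ∃ u : S, u • x ∈ K' := by
  classical
  have : Module.Finite (Localization S) (LocalizedModule S F) :=
    Module.Finite.of_isLocalizedModule S (LocalizedModule.mkLinearMap S F)
  obtain ⟨T, hT⟩ := Module.FinitePresentation.fg_ker (LocalizedModule.map S φ₀) hφ₀
  have h1 : ∀ τ : LocalizedModule S F, ∃ (x : F) (s : S), LocalizedModule.mk x s = τ := by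
    intro τ
    induction τ using LocalizedModule.induction_on with
    | h m s => exact ⟨m, s, rfl⟩
  choose x s hxs using h1
  have h2 : ∀ τ ∈ T, ∃ t : S, t • φ₀ (x τ) = 0 := by
    intro τ hτ
    have : τ ∈ LinearMap.ker (LocalizedModule.map S φ₀) := by
      rw [← hT]; exact Submodule.subset_span hτ
    rw [LinearMap.mem_ker, ← hxs τ, LocalizedModule.map_mk, localizedModule_mk_eq_zero_iff] at this
    exact this
  choose! t ht using h2
  refine ⟨Submodule.span R ((fun τ => t τ • x τ) '' (T : Set (LocalizedModule S F))), ?_, ?_, ?_⟩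
  · rw [Submodule.span_le]
    rintro _ ⟨τ, hτ, rfl⟩
    simp only [SetLike.mem_coe, LinearMap.mem_ker]
    rw [Submonoid.smul_def, map_smul, ← Submonoid.smul_def, ht τ hτ]
  · exact Submodule.fg_span (T.finite_toSet.image _)
  · intro y hy
    set K' := Submodule.span R ((fun τ => t τ • x τ) '' (T : Set (LocalizedModule S F))) with hK'
    have h3 : LocalizedModule.mk y 1 ∈ LinearMap.ker (LocalizedModule.map S φ₀) := by
      rw [LinearMap.mem_ker, LocalizedModule.map_mk, hy, LocalizedModule.zero_mk]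
    have h4 : LinearMap.ker (LocalizedModule.map S φ₀) ≤
        K'.localized' (Localization S) S (LocalizedModule.mkLinearMap S F) := by
      rw [← hT, Submodule.span_le]
      intro τ hτ
      rw [SetLike.mem_coe, Submodule.mem_localized']
      refine ⟨t τ • x τ, Submodule.subset_span ⟨τ, hτ, rfl⟩, t τ * s τ, ?_⟩
      rw [← IsLocalizedModule.mk_eq_mk']
      conv_rhs => rw [← hxs τ]
      rw [LocalizedModule.mk_eq]
      refine ⟨1, ?_⟩
      simp only [one_smul, Submonoid.smul_def, Submonoid.coe_mul, mul_smul]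
      rw [smul_comm]
    have h5 := h4 h3
    rw [Submodule.mem_localized'] at h5
    obtain ⟨m, hm, s', hms'⟩ := h5
    rw [← IsLocalizedModule.mk_eq_mk', LocalizedModule.mk_eq] at hms'
    obtain ⟨u, hu⟩ := hms'
    refine ⟨u * s', ?_⟩
    rw [one_smul] at hu
    rw [mul_smul, ← hu]
    exact Submodule.smul_mem _ _ hm

/-- If `S⁻¹M` is finitely presented over `S⁻¹R`, some finitely presented `R`-module `M'` maps to `M`
inducing an isomorphism after localization. -/
theorem exists_finitePresentation_map_localizedModule_bijective (M : Type*) [AddCommGroup M]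
    [Module R M] [Module.FinitePresentation (Localization S) (LocalizedModule S M)] :
    ∃ (n : ℕ) (K' : Submodule R (Fin n → R)) (φ : ((Fin n → R) ⧸ K') →ₗ[R] M),
      K'.FG ∧ Module.FinitePresentation R ((Fin n → R) ⧸ K') ∧
        Function.Bijective (LocalizedModule.map S φ) := by
  classical
  obtain ⟨n, φ₀, hφ₀⟩ := exists_finite_free_map_localizedModule_surjective S M
  obtain ⟨K', hK'le, hK'fg, hK'⟩ := exists_fg_le_ker_of_localizedModule_map_surjective S φ₀ hφ₀
  refine ⟨n, K', K'.liftQ φ₀ hK'le, hK'fg, ?_, ?_, ?_⟩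
  · exact Module.finitePresentation_of_free_of_surjective K'.mkQ (Submodule.mkQ_surjective K')
      (by rw [Submodule.ker_mkQ]; exact hK'fg)
  · rw [injective_iff_map_eq_zero]
    intro z hz
    induction z using LocalizedModule.induction_on with
    | h q s =>
      obtain ⟨y, rfl⟩ := Submodule.mkQ_surjective K' q
      rw [LocalizedModule.map_mk, Submodule.mkQ_apply, Submodule.liftQ_apply,
        localizedModule_mk_eq_zero_iff] at hz
      obtain ⟨t, ht⟩ := hz
      have : φ₀ (t • y) = 0 := by rw [Submonoid.smul_def, map_smul, ← Submonoid.smul_def, ht]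
      obtain ⟨u, hu⟩ := hK' _ this
      rw [localizedModule_mk_eq_zero_iff]
      refine ⟨u * t, ?_⟩
      rw [Submodule.mkQ_apply, ← Submodule.Quotient.mk_smul, Submodule.Quotient.mk_eq_zero, mul_smul]
      exact hu
  · intro z
    obtain ⟨w, rfl⟩ := hφ₀ z
    induction w using LocalizedModule.induction_on with
    | h y s =>
      refine ⟨LocalizedModule.mk (K'.mkQ y) s, ?_⟩
      rw [LocalizedModule.map_mk, LocalizedModule.map_mk, Submodule.mkQ_apply, Submodule.liftQ_apply]


/-- Lifting a finitely presented module along a quotient map `R → R ⧸ I`. -/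
theorem exists_fg_quotient_smul_top_linearEquiv (I : Ideal R) (n : ℕ)
    (Kbar : Submodule (R ⧸ I) (Fin n → R ⧸ I)) (hK : Kbar.FG) :
    ∃ K : Submodule R (Fin n → R), K.FG ∧
      Nonempty ((((Fin n → R) ⧸ K) ⧸ (I • ⊤ : Submodule R ((Fin n → R) ⧸ K))) ≃ₗ[R ⧸ I]
        ((Fin n → R ⧸ I) ⧸ Kbar)) := by
  classical
  obtain ⟨T, hT⟩ := hK
  let ρ : (Fin n → R) →ₗ[R] (Fin n → R ⧸ I) := (Algebra.linearMap R (R ⧸ I)).compLeft (Fin n)
  have hρ : ∀ x i, ρ x i = Ideal.Quotient.mk I (x i) := fun x i => rfl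
  have hρsurj : Function.Surjective ρ := by
    intro v
    choose x hx using fun i => Ideal.Quotient.mk_surjective (v i)
    exact ⟨x, funext fun i => by rw [hρ, hx]⟩
  choose ℓ hℓ using hρsurj
  let K : Submodule R (Fin n → R) := Submodule.span R (ℓ '' (T : Set (Fin n → R ⧸ I)))
  have hKfg : K.FG := Submodule.fg_span (T.finite_toSet.image _)
  refine ⟨K, hKfg, ?_⟩
  let c₀ : (Fin n → R) →ₗ[R] ((Fin n → R ⧸ I) ⧸ Kbar) := (Kbar.mkQ.restrictScalars R) ∘ₗ ρ
  have hc₀ : ∀ x, c₀ x = Kbar.mkQ (ρ x) := fun x => rfl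
  have hK0 : K ≤ LinearMap.ker c₀ := by
    rw [Submodule.span_le]
    rintro _ ⟨τ, hτ, rfl⟩
    rw [SetLike.mem_coe, LinearMap.mem_ker, hc₀, hℓ, Submodule.mkQ_apply,
      Submodule.Quotient.mk_eq_zero, ← hT]
    exact Submodule.subset_span hτ
  let c₁ : ((Fin n → R) ⧸ K) →ₗ[R] ((Fin n → R ⧸ I) ⧸ Kbar) := K.liftQ c₀ hK0
  have hI0 : (I • ⊤ : Submodule R ((Fin n → R) ⧸ K)) ≤ LinearMap.ker c₁ := by
    rw [Submodule.smul_le]
    intro a ha m _
    rw [LinearMap.mem_ker, map_smul, ← algebraMap_smul (R ⧸ I) a (c₁ m),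
      Ideal.Quotient.algebraMap_eq, Ideal.Quotient.eq_zero_iff_mem.mpr ha, zero_smul]
  let c₂ : (((Fin n → R) ⧸ K) ⧸ (I • ⊤ : Submodule R ((Fin n → R) ⧸ K))) →ₗ[R]
      ((Fin n → R ⧸ I) ⧸ Kbar) := (I • ⊤ : Submodule R ((Fin n → R) ⧸ K)).liftQ c₁ hI0
  have hc₂ : ∀ x : Fin n → R, c₂ (Submodule.Quotient.mk (Submodule.Quotient.mk x)) =
      Kbar.mkQ (ρ x) := fun x => rfl
  let c : (((Fin n → R) ⧸ K) ⧸ (I • ⊤ : Submodule R ((Fin n → R) ⧸ K))) →ₗ[R ⧸ I]
      ((Fin n → R ⧸ I) ⧸ Kbar) :=
    { c₂ with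
      map_smul' := by
        intro r z
        obtain ⟨r, rfl⟩ := Ideal.Quotient.mk_surjective r
        obtain ⟨z, rfl⟩ := Submodule.Quotient.mk_surjective _ z
        simp only [AddHom.toFun_eq_coe, LinearMap.coe_toAddHom, RingHom.id_apply]
        rw [Module.Quotient.mk_smul_mk, Submodule.Quotient.mk_smul, map_smul,
          ← algebraMap_smul (R ⧸ I) r, Ideal.Quotient.algebraMap_eq] }
  have hc : ∀ z, c z = c₂ z := fun z => rfl
  -- elements of `Kbar` lift to `K`
  have hlift : ∀ v ∈ Kbar, ∃ k ∈ K, ρ k = v := by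
    intro v hv
    rw [← hT] at hv
    induction hv using Submodule.span_induction with
    | mem τ hτ => exact ⟨ℓ τ, Submodule.subset_span ⟨τ, hτ, rfl⟩, hℓ τ⟩
    | zero => exact ⟨0, zero_mem _, map_zero _⟩
    | add v w _ _ hv hw =>
      obtain ⟨k₁, hk₁, rfl⟩ := hv
      obtain ⟨k₂, hk₂, rfl⟩ := hw
      exact ⟨k₁ + k₂, add_mem hk₁ hk₂, map_add _ _ _⟩
    | smul r v _ hv =>
      obtain ⟨k, hk, rfl⟩ := hv
      obtain ⟨r, rfl⟩ := Ideal.Quotient.mk_surjective r
      refine ⟨r • k, Submodule.smul_mem _ _ hk, ?_⟩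
      rw [map_smul, ← algebraMap_smul (R ⧸ I) r, Ideal.Quotient.algebraMap_eq]
  refine ⟨LinearEquiv.ofBijective c ⟨?_, ?_⟩⟩
  · rw [injective_iff_map_eq_zero]
    intro z hz
    obtain ⟨z, rfl⟩ := Submodule.Quotient.mk_surjective _ z
    obtain ⟨x, rfl⟩ := Submodule.Quotient.mk_surjective _ z
    rw [hc, hc₂, Submodule.mkQ_apply, Submodule.Quotient.mk_eq_zero] at hz
    obtain ⟨k, hk, hkx⟩ := hlift _ hz
    rw [Submodule.Quotient.mk_eq_zero]
    have h1 : ∀ i, (x - k) i ∈ I := by
      intro i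
      rw [← Ideal.Quotient.eq_zero_iff_mem, ← hρ, map_sub, hkx, sub_self, Pi.zero_apply]
    have h2 : (Submodule.Quotient.mk x : (Fin n → R) ⧸ K) = Submodule.Quotient.mk (x - k) := by
      rw [Submodule.Quotient.mk_sub, (Submodule.Quotient.mk_eq_zero K).mpr hk, sub_zero]
    rw [h2, pi_eq_sum_univ (x - k), ← Submodule.mkQ_apply, map_sum]
    refine Submodule.sum_mem _ fun i _ => ?_
    rw [map_smul]
    exact Submodule.smul_mem_smul (h1 i) Submodule.mem_top
  · intro w
    obtain ⟨v, rfl⟩ := Submodule.Quotient.mk_surjective _ w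
    refine ⟨Submodule.Quotient.mk (Submodule.Quotient.mk (ℓ v)), ?_⟩
    rw [hc, hc₂, hℓ, Submodule.mkQ_apply]

end Groth.Agent.Lib.Helper14
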