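import Groth.Agent.Lib.Helper14.LocNilp

/-!
# Local isomorphism from an isomorphism modulo an ideal and flatness

Helper lemmas (helper14).
-/

set_option autoImplicit false

namespace Groth.Agent.Lib.Helper14

/-- The kernel of a surjection from a finite type algebra onto a finitely presented algebra is
finitely generated. -/
theorem ker_fg_of_finiteType_of_finitePresentation {R S S' : Type*} [CommRing R] [CommRing S]
    [CommRing S'] [Algebra R S] [Algebra R S'] [Algebra.FiniteType R S]
    [Algebra.FinitePresentation R S'] (f : S →ₐ[R] S') (hf : Function.Surjective f) :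
    (RingHom.ker f.toRingHom).FG := by
  obtain ⟨n, g, hg⟩ := Algebra.FiniteType.iff_quotient_mvPolynomial''.mp
    (inferInstance : Algebra.FiniteType R S)
  have := (Algebra.FinitePresentation.ker_fg_of_mvPolynomial (f.comp g) (hf.comp hg)).map
    g.toRingHom
  convert this
  simp_rw [RingHom.ker_eq_comap_bot, AlgHom.toRingHom_eq_coe, AlgHom.comp_toRingHom]
  rw [← Ideal.comap_comap, Ideal.map_comap_of_surjective (g : MvPolynomial (Fin n) R →+* S) hg]

theorem exists_awayMap_bijective_of_iso_mod_ideal_of_flat (R S S' : Type*) [CommRing R] [CommRing S]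
    [CommRing S'] [Algebra R S] [Algebra R S'] [Algebra.FiniteType R S]
    [Algebra.FinitePresentation R S']
    (I : Ideal R) (f : S →ₐ[R] S') (hf : Function.Surjective f) (q : Ideal S) [q.IsPrime]
    (hq : I.map (algebraMap R S) ≤ q)
    (hker : ∀ j : S, f j = 0 →
      algebraMap S (Localization.AtPrime q) j ∈ I.map (algebraMap R (Localization.AtPrime q)))
    (hflat : letI : Module S S' := f.toRingHom.toModule
      Module.Flat R (LocalizedModule q.primeCompl S')) :
    ∃ g : S, g ∉ q ∧ Function.Bijective (Localization.awayMap f.toRingHom g) := by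
  classical
  letI : Module S S' := f.toRingHom.toModule
  have hsmul : ∀ (s : S) (x : S'), s • x = f s * x := fun s x => rfl
  set K : Ideal S := RingHom.ker f.toRingHom with hK
  have hKfg : K.FG := ker_fg_of_finiteType_of_finitePresentation f hf
  have hKmem : ∀ k : S, k ∈ K ↔ f k = 0 := fun k => Iff.rfl
  let fl : S →ₗ[S] S' :=
    { toFun := f
      map_add' := map_add f
      map_smul' := fun s x => by
        simp only [RingHom.id_apply, smul_eq_mul, map_mul, hsmul] }
  have hfl : ∀ x, fl x = f x := fun x => rfl
  let φ : Localization.AtPrime q →ₗ[S] LocalizedModule q.primeCompl S' :=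
    IsLocalizedModule.map q.primeCompl (Algebra.linearMap S (Localization.AtPrime q))
      (LocalizedModule.mkLinearMap q.primeCompl S') fl
  have hφ : ∀ s : S, φ (algebraMap S (Localization.AtPrime q) s) =
      LocalizedModule.mkLinearMap q.primeCompl S' (f s) := fun s =>
    IsLocalizedModule.map_apply q.primeCompl (Algebra.linearMap S (Localization.AtPrime q))
      (LocalizedModule.mkLinearMap q.primeCompl S') fl s
  have hφsurj : Function.Surjective φ :=
    IsLocalizedModule.map_surjective q.primeCompl (Algebra.linearMap S (Localization.AtPrime q))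
      (LocalizedModule.mkLinearMap q.primeCompl S') fl hf
  let φR : Localization.AtPrime q →ₗ[R] LocalizedModule q.primeCompl S' := φ.restrictScalars R
  have key := smul_top_inf_ker_le_smul_ker_of_flat φR hφsurj I
  set Kq : Ideal (Localization.AtPrime q) := K.map (algebraMap S (Localization.AtPrime q)) with hKq
  have hKqfg : Kq.FG := hKfg.map _
  -- the kernel of `φ` is `Kq`
  have hker_eq : ∀ x : Localization.AtPrime q, φ x = 0 ↔ x ∈ Kq := by
    intro x
    constructor
    · intro hx
      have hx' : x ∈ LinearMap.ker φ := hx
      rw [LinearMap.ker_localizedMap_eq_localized₀_ker, Submodule.mem_localized₀] at hx'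
      obtain ⟨k, hk, s, rfl⟩ := hx'
      have h1 : algebraMap S (Localization.AtPrime q) k ∈ Kq :=
        Ideal.mem_map_of_mem _ ((hKmem k).mpr hk)
      have h2 := IsLocalizedModule.mk'_cancel' (Algebra.linearMap S (Localization.AtPrime q)) k s
      rw [Algebra.linearMap_apply] at h2
      rw [← h2, Submonoid.smul_def, Algebra.smul_def] at h1
      have hu : IsUnit (algebraMap S (Localization.AtPrime q) (s : S)) :=
        IsLocalization.map_units _ s
      exact (Ideal.unit_mul_mem_iff_mem Kq hu).mp h1
    · intro hx
      -- use the `Sq`-linear extension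
      let φ' : Localization.AtPrime q →ₗ[Localization.AtPrime q] LocalizedModule q.primeCompl S' :=
        φ.extendScalarsOfIsLocalization q.primeCompl (Localization.AtPrime q)
      have : Kq ≤ LinearMap.ker φ' := by
        rw [hKq, Ideal.map, Ideal.span_le]
        rintro _ ⟨k, hk, rfl⟩
        change φ _ = 0
        rw [hφ, (hKmem k).mp hk, map_zero]
      exact this hx
  have hKI : Kq ≤ I.map (algebraMap R (Localization.AtPrime q)) := by
    rw [hKq, Ideal.map_le_iff_le_comap]
    intro k hk
    exact hker k ((hKmem k).mp hk)
  have hkerR : LinearMap.ker φR = Kq.restrictScalars R := by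
    ext x
    exact hker_eq x
  have h1 : Kq ≤ (I.map (algebraMap R (Localization.AtPrime q))) • Kq := by
    intro x hx
    have hx1 : x ∈ I • (⊤ : Submodule R (Localization.AtPrime q)) := by
      rw [Ideal.smul_top_eq_map]
      exact hKI hx
    have hx2 : x ∈ I • LinearMap.ker φR := key ⟨hx1, (hker_eq x).mpr hx⟩
    rw [hkerR, ← Ideal.smul_restrictScalars] at hx2
    exact hx2
  have h3 : I.map (algebraMap R (Localization.AtPrime q)) ≤
      (⊥ : Ideal (Localization.AtPrime q)).jacobson := by
    rw [IsLocalRing.jacobson_eq_maximalIdeal _ bot_ne_top,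
      ← Localization.AtPrime.map_eq_maximalIdeal (I := q),
      IsScalarTower.algebraMap_eq R S (Localization.AtPrime q), ← Ideal.map_map]
    exact Ideal.map_mono hq
  have hKq0 : Kq = ⊥ := Submodule.eq_bot_of_le_smul_of_le_jacobson_bot _ Kq hKqfg h1 h3
  -- find `g`
  obtain ⟨T, hT⟩ := hKfg
  have h4 : ∀ t ∈ T, ∃ m : q.primeCompl, (m : S) * t = 0 := by
    intro t ht
    have : algebraMap S (Localization.AtPrime q) t ∈ Kq :=
      Ideal.mem_map_of_mem _ (hT ▸ Ideal.subset_span ht)
    rw [hKq0, Ideal.mem_bot] at this
    exact (IsLocalization.map_eq_zero_iff q.primeCompl _ t).mp this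
  choose! m hm using h4
  refine ⟨∏ t ∈ T, (m t : S), ?_, ?_⟩
  · have : ∏ t ∈ T, (m t : S) ∈ q.primeCompl := prod_mem fun t _ => (m t).2
    exact this
  · have hgK : ∀ k ∈ K, (∏ t ∈ T, (m t : S)) * k = 0 := by
      intro k hk
      rw [← hT] at hk
      induction hk using Submodule.span_induction with
      | mem t ht =>
        obtain ⟨c, hc⟩ := Finset.dvd_prod_of_mem (fun t => (m t : S)) ht
        rw [hc, mul_comm _ c, mul_assoc, hm t ht, mul_zero]
      | zero => rw [mul_zero]
      | add x y _ _ hx hy => rw [mul_add, hx, hy, add_zero]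
      | smul a x _ hx => rw [smul_eq_mul, mul_left_comm, hx, mul_zero]
    constructor
    · rw [Localization.awayMap_injective_iff]
      intro a ha
      exact ⟨1, by rw [pow_one]; exact hgK a ha⟩
    · rw [Localization.awayMap_surjective_iff]
      intro a
      obtain ⟨b, hb⟩ := hf a
      exact ⟨b, 0, by rw [pow_zero, one_mul]; exact hb⟩

end Groth.Agent.Lib.Helper14
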