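import Groth.Prelude.Def_CAlgX
import Mathlib

/-!
# McCoy's theorem for matrices over a commutative ring
(helper14)
-/

set_option autoImplicit false
universe u

open CAlgX Matrix

namespace Groth.Agent.Lib.Helper14

variable {R : Type u} [CommRing R] {m n : ℕ} (M : Matrix (Fin n) (Fin m) R)

lemma minorIdeal_zero : minorIdeal M 0 = ⊤ := by
  rw [Ideal.eq_top_iff_one]
  apply Ideal.subset_span
  refine ⟨(Fin.elim0, Fin.elim0), ?_⟩
  simp

lemma minorIdeal_eq_bot_of_lt {r : ℕ} (h : m < r) : minorIdeal M r = ⊥ := by
  rw [minorIdeal, Ideal.span_eq_bot]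
  rintro _ ⟨⟨σ, τ⟩, rfl⟩
  -- `τ` is not injective
  have hτ : ¬ Function.Injective τ := by
    intro hτ
    have := Fintype.card_le_of_injective τ hτ
    simp at this
    omega
  rw [Function.Injective] at hτ
  push Not at hτ
  obtain ⟨i, j, hij, hne⟩ := hτ
  exact Matrix.det_zero_of_column_eq hne (fun k => by simp [hij])

/-- Key step in McCoy's theorem. -/
lemma annihilator_minorIdeal_succ (hinj : Function.Injective (Matrix.mulVecLin M)) (r : ℕ)
    (hr : r < m) (hP : (minorIdeal M r).annihilator = ⊥) :
    (minorIdeal M (r + 1)).annihilator = ⊥ := by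
  classical
  rw [eq_bot_iff]
  intro a ha
  rw [Ideal.mem_bot]
  by_contra hne
  -- a minor of size `r` not killed by `a`
  have h1 : a ∉ (minorIdeal M r).annihilator := by
    rw [hP]; exact hne
  rw [minorIdeal, Submodule.mem_annihilator_span] at h1
  push Not at h1
  obtain ⟨⟨_, ⟨σ, τ⟩, rfl⟩, hστ⟩ := h1
  simp only [smul_eq_mul] at hστ
  -- a column not in the range of `τ`
  obtain ⟨c₀, hc₀⟩ : ∃ c₀ : Fin m, c₀ ∉ Set.range τ := by
    by_contra hcon
    push Not at hcon
    have hsurj : Function.Surjective τ := fun c => hcon c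
    have := Fintype.card_le_of_surjective τ hsurj
    simp at this
    omega
  let τ' : Fin (r + 1) → Fin m := Fin.snoc (α := fun _ => Fin m) τ c₀
  let d : Fin (r + 1) → R := fun k => det (M.submatrix σ (τ' ∘ k.succAbove))
  let cf : Fin (r + 1) → R := fun k => (-1) ^ (k : ℕ) * a * d k
  let v : Fin m → R := fun j => ∑ k, if τ' k = j then cf k else 0
  -- `M v = 0`
  have hMv : Matrix.mulVecLin M v = 0 := by
    ext i
    simp only [Matrix.mulVecLin_apply, Matrix.mulVec, dotProduct, Pi.zero_apply, v]
    have hsum : ∑ j, M i j * ∑ k, (if τ' k = j then cf k else 0) = ∑ k, M i (τ' k) * cf k := by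
      simp_rw [Finset.mul_sum]
      rw [Finset.sum_comm]
      refine Finset.sum_congr rfl fun k _ => ?_
      simp [mul_ite]
    rw [hsum]
    -- this is `a * det` of an `(r+1)`-minor
    have hdet : det (M.submatrix (Fin.cons i σ : Fin (r + 1) → Fin n) τ') =
        ∑ k : Fin (r + 1), (-1) ^ (k : ℕ) * M i (τ' k) * d k := by
      rw [Matrix.det_succ_row_zero]
      refine Finset.sum_congr rfl fun k _ => ?_
      simp only [Matrix.submatrix_apply, Fin.cons_zero, d]
      congr 1
    have hkill : a * det (M.submatrix (Fin.cons i σ : Fin (r + 1) → Fin n) τ') = 0 := by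
      rw [minorIdeal, Submodule.mem_annihilator_span] at ha
      exact ha ⟨_, ⟨(Fin.cons i σ, τ'), rfl⟩⟩
    rw [hdet, Finset.mul_sum] at hkill
    rw [← hkill]
    refine Finset.sum_congr rfl fun k _ => ?_
    simp only [cf]
    ring
  have hv : v = 0 := hinj (by rw [hMv, map_zero])
  have hvc : v c₀ = 0 := by rw [hv]; rfl
  -- but `v c₀ = ± a * det`
  have hvc' : v c₀ = (-1) ^ r * a * det (M.submatrix σ τ) := by
    simp only [v]
    rw [Fin.sum_univ_castSucc]
    have h0 : ∀ j : Fin r, (if τ' j.castSucc = c₀ then cf j.castSucc else 0) = 0 := by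
      intro j
      rw [if_neg]
      simp only [τ', Fin.snoc_castSucc]
      intro h
      exact hc₀ ⟨j, h⟩
    simp only [h0, Finset.sum_const_zero, zero_add]
    have hl : τ' (Fin.last r) = c₀ := by simp [τ']
    rw [if_pos hl]
    simp only [cf, d, Fin.val_last]
    congr 2
    ext i j
    simp [τ', Fin.succAbove_last]
  rw [hvc'] at hvc
  have hunit : IsUnit ((-1 : R) ^ r) := (isUnit_one.neg).pow r
  rw [mul_assoc] at hvc
  exact hστ (hunit.mul_right_eq_zero.mp hvc)

theorem annihilator_minorIdeal_of_injective (hinj : Function.Injective (Matrix.mulVecLin M)) :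
    ∀ r ≤ m, (minorIdeal M r).annihilator = ⊥ := by
  intro r
  induction r with
  | zero =>
    intro _
    rw [minorIdeal_zero, eq_bot_iff]
    intro a ha
    have := Submodule.mem_annihilator.mp ha 1 Submodule.mem_top
    simpa using this
  | succ r ih =>
    intro hr
    exact annihilator_minorIdeal_succ M hinj r (by omega) (ih (by omega))

theorem injective_of_annihilator_minorIdeal (h : (minorIdeal M m).annihilator = ⊥) :
    Function.Injective (Matrix.mulVecLin M) := by
  classical
  rw [← LinearMap.ker_eq_bot, LinearMap.ker_eq_bot']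
  intro v hv
  have hv' : M *ᵥ v = 0 := hv
  -- each maximal minor with identity columns kills `v`
  have h1 : ∀ (σ : Fin m → Fin n) (j : Fin m), det (M.submatrix σ id) * v j = 0 := by
    intro σ j
    have hN : (M.submatrix σ id) *ᵥ v = 0 := by
      ext i
      have := congrFun hv' (σ i)
      simpa [Matrix.mulVec, dotProduct] using this
    have : (det (M.submatrix σ id)) • v = 0 := by
      have h2 : (adjugate (M.submatrix σ id) * (M.submatrix σ id)) *ᵥ v = 0 := by
        rw [← Matrix.mulVec_mulVec, hN, Matrix.mulVec_zero]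
      rw [Matrix.adjugate_mul, Matrix.smul_mulVec, Matrix.one_mulVec] at h2
      exact h2
    have := congrFun this j
    simpa using this
  ext j
  have hj : v j ∈ (minorIdeal M m).annihilator := by
    rw [minorIdeal, Submodule.mem_annihilator_span]
    rintro ⟨_, ⟨σ, τ⟩, rfl⟩
    simp only [smul_eq_mul]
    have hfac : M.submatrix σ τ = M.submatrix σ id * (1 : Matrix (Fin m) (Fin m) R).submatrix id τ := by
      have := Matrix.mul_submatrix_one (Equiv.refl (Fin m)) τ (M.submatrix σ id)
      simp only [Equiv.coe_refl, Equiv.refl_symm, Function.id_comp] at this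
      rw [this]
      rfl
    rw [hfac, Matrix.det_mul]
    calc v j * (det (M.submatrix σ id) * det ((1 : Matrix (Fin m) (Fin m) R).submatrix id τ))
        = (det (M.submatrix σ id) * v j) *
            det ((1 : Matrix (Fin m) (Fin m) R).submatrix id τ) := by ring
      _ = 0 := by rw [h1 σ j, zero_mul]
  rw [h] at hj
  simpa using hj

theorem matrixRank_eq [Nontrivial R] (h : minorIdeal M m ≠ ⊥) : matrixRank M = m := by
  have hbdd : BddAbove {r : ℕ | minorIdeal M r ≠ ⊥} := by
    refine ⟨m, fun r hr => ?_⟩
    by_contra hcon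
    exact hr (minorIdeal_eq_bot_of_lt M (by omega))
  apply le_antisymm
  · apply csSup_le ⟨m, h⟩
    intro r hr
    by_contra hcon
    exact hr (minorIdeal_eq_bot_of_lt M (by omega))
  · exact le_csSup hbdd h

/-- McCoy's theorem. -/
theorem mulVec_injective_iff [Nontrivial R] :
    Function.Injective (Matrix.mulVecLin M) ↔
      matrixRank M = m ∧ (detIdeal M).annihilator = ⊥ := by
  constructor
  · intro hinj
    have h1 := annihilator_minorIdeal_of_injective M hinj m le_rfl
    have h2 : minorIdeal M m ≠ ⊥ := by
      intro h0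
      rw [h0, Submodule.annihilator_bot] at h1
      exact top_ne_bot h1
    have h3 := matrixRank_eq M h2
    refine ⟨h3, ?_⟩
    rw [detIdeal, h3]
    exact h1
  · rintro ⟨h1, h2⟩
    rw [detIdeal, h1] at h2
    exact injective_of_annihilator_minorIdeal M h2

end Groth.Agent.Lib.Helper14
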