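import Mathlib
import Groth.Agent.Lib.Helper14.CMRegTFAE
import Groth.Agent.Lib.Helper12.FlatDim
import Groth.Agent.Lib.Helper12.BaseChange2

/-!
# Miracle flatness for schemes of finite type over a field
-/

set_option autoImplicit false
set_option linter.style.haveILetI false
universe u

open AlgebraicGeometry CategoryTheory Limits IsLocalRing

namespace Groth.Agent.Lib.Helper14.MiracleSch

open Groth.Agent.Lib.Helper12 Groth.Agent.Lib.Helper12.SchemeDimFT
open Groth.Agent.Lib.Helper12.SchemeDimIneq Groth.Agent.Lib.Helper12.Equidim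

theorem flat_of_equidim (k : Type u) [Field k] {X Y : Scheme.{u}}
    (q : Y ⟶ Spec (CommRingCat.of k)) [LocallyOfFiniteType q] (f : X ⟶ Y)
    [LocallyOfFiniteType (f ≫ q)]
    (hY : ∀ y : Y, IsRegularLocalRing (Y.presheaf.stalk y))
    (hX : ∀ x : X, LocCoh.IsCohenMacaulayLocalRing (X.presheaf.stalk x))
    (e d : ℕ) (hde : d ≤ e)
    (hXe : ∀ Z ∈ irreducibleComponents (X : Type u), topologicalKrullDim Z = e)
    (hYd : ∀ Z ∈ irreducibleComponents (Y : Type u), topologicalKrullDim Z = d)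
    (hfib : ∀ y : Y, ∀ Z ∈ irreducibleComponents (f.base ⁻¹' {y}),
      topologicalKrullDim Z = (e - d : ℕ)) :
    Flat f := by
  haveI : LocallyOfFiniteType f := locallyOfFiniteType_of_comp f q
  haveI : IsLocallyNoetherian Y := LocallyOfFiniteType.isLocallyNoetherian q
  apply Flat.of_stalkMap
  intro x
  letI ovY : Y.Over (Spec (CommRingCat.of k)) := ⟨q⟩
  letI ovX : X.Over (Spec (CommRingCat.of k)) := ⟨f ≫ q⟩
  haveI : LocallyOfFiniteType (Y ↘ Spec (CommRingCat.of k)) := ‹LocallyOfFiniteType q›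
  haveI : LocallyOfFiniteType (X ↘ Spec (CommRingCat.of k)) :=
    inferInstanceAs (LocallyOfFiniteType (f ≫ q))
  letI ovF : (f.fiber (f x)).Over (Spec (CommRingCat.of (Y.residueField (f x)))) :=
    ⟨f.fiberToSpecResidueField (f x)⟩
  haveI : LocallyOfFiniteType
      ((f.fiber (f x)) ↘ Spec (CommRingCat.of (Y.residueField (f x)))) :=
    FibreRes.locallyOfFiniteType_fiberToSpecResidueField f (f x)
  obtain ⟨bx, hbx⟩ := exists_ringKrullDim_stalk_eq k X x
  obtain ⟨b', hby⟩ := exists_ringKrullDim_stalk_eq k Y (f x)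
  obtain ⟨bf, hbf⟩ := exists_ringKrullDim_stalk_eq (Y.residueField (f x)) (f.fiber (f x))
    (f.asFiber x)
  obtain ⟨t, ht⟩ := exists_trn_eq f x
  have h1 := localDim_eq k X x _ bx (tr_spec k X x) hbx
  rw [localDim_eq_of_equidim k X e hXe x] at h1
  have h2 := localDim_eq k Y (f x) _ b' (tr_spec k Y (f x)) hby
  rw [localDim_eq_of_equidim k Y d hYd (f x)] at h2
  have hfib' : ∀ Z ∈ irreducibleComponents (↥(f.fiber (f.base x)) : Type u),
      topologicalKrullDim (↥Z : Type u) = ((e - d : ℕ) : WithBot ℕ∞) := by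
    intro Z hZ
    have h := BaseChange.dims_irreducibleComponents_of_homeomorph (f.fiberHomeo (f.base x))
    have hmem : topologicalKrullDim ↥Z ∈ (fun T : Set ↥(f.fiber (f.base x)) =>
        topologicalKrullDim ↥T) '' irreducibleComponents ↥(f.fiber (f.base x)) := ⟨Z, hZ, rfl⟩
    rw [h] at hmem
    obtain ⟨Z', hZ', hdim⟩ := hmem
    rw [← hdim]
    exact hfib (f.base x) Z' hZ'
  have h3 := fibreDimAt_eq_trn_add f x
  rw [fibreDimAt_eq_of_equidim f x (e - d) hfib', hbf, ht] at h3
  have h4 := FlatDim.tr_eq_add_trn k q f x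
  rw [ht] at h4
  have e1 : e = tr k X x + bx := by exact_mod_cast h1
  have e2 : d = tr k Y (f x) + b' := by exact_mod_cast h2
  have e3 : e - d = t + bf := by
    generalize e - d = m at h3
    exact_mod_cast h3
  have e4 : tr k X x = tr k Y (f x) + t := by exact_mod_cast h4
  have e5 : bx = b' + bf := by omega
  refine ((Groth.Agent.Lib.Helper14.CMRegTFAE.tfae f x (hY _) (hX x)).out 4 1).1 ?_
  rw [hbx, hby, hbf, e5]
  push_cast
  rfl

end Groth.Agent.Lib.Helper14.MiracleSch
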