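import Mathlib.RingTheory.FiniteType
import Mathlib.RingTheory.Nilpotent.Lemmas
import Mathlib.RingTheory.Ideal.Quotient.Operations

/-!
# Finite type modulo a finitely generated nilpotent ideal

* `eq_top_of_top_le_sup_smul_of_isNilpotent`: Nakayama for nilpotent ideals (no finiteness).
* `finiteType_of_quotient_nilpotent`: if `m ⊆ A` is a finitely generated nilpotent ideal and `A ⧸ m`
  is of finite type over `B`, then so is `A`.
* `RingHom.finiteType_of_comp_mk_nilpotent`: ring hom version.
-/

set_option autoImplicit false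

namespace Groth.Agent.Lib.Helper14

theorem eq_top_of_top_le_sup_smul_of_isNilpotent {R M : Type*} [CommRing R] [AddCommGroup M]
    [Module R M] (I : Ideal R) (hI : IsNilpotent I) (N : Submodule R M)
    (h : (⊤ : Submodule R M) ≤ N ⊔ I • ⊤) : N = ⊤ := by
  obtain ⟨n, hn⟩ := hI
  have hstep : ∀ k : ℕ, (⊤ : Submodule R M) ≤ N ⊔ (I ^ k) • ⊤ := by
    intro k
    induction k with
    | zero => rw [pow_zero, Ideal.one_eq_top, Submodule.top_smul]; exact le_sup_right
    | succ k ih =>
      calc (⊤ : Submodule R M) ≤ N ⊔ (I ^ k) • ⊤ := ih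
        _ ≤ N ⊔ (I ^ k) • (N ⊔ I • ⊤) := by
            gcongr
        _ = N ⊔ ((I ^ k) • N ⊔ (I ^ k) • I • ⊤) := by rw [Submodule.smul_sup]
        _ ≤ N ⊔ (N ⊔ (I ^ (k + 1)) • ⊤) := by
            gcongr
            · exact Submodule.smul_le_right
            · rw [← Submodule.smul_assoc, smul_eq_mul, ← pow_succ]
        _ = N ⊔ (I ^ (k + 1)) • ⊤ := by rw [← sup_assoc, sup_idem]
  have := hstep n
  rw [hn, Ideal.zero_eq_bot, Submodule.bot_smul, sup_bot_eq] at this
  exact top_le_iff.mp this

theorem finiteType_of_quotient_nilpotent {B A : Type*} [CommRing B] [CommRing A] [Algebra B A]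
    (m : Ideal A) (hfg : m.FG) (hnil : IsNilpotent m) [hq : Algebra.FiniteType B (A ⧸ m)] :
    Algebra.FiniteType B A := by
  classical
  obtain ⟨s, hs⟩ := hq.out
  obtain ⟨g, hg⟩ := hfg
  -- lifts of the generators of the quotient
  have hlift : ∀ y : A ⧸ m, ∃ a : A, Ideal.Quotient.mk m a = y := Ideal.Quotient.mk_surjective
  choose σ hσ using hlift
  let t : Finset A := s.image σ ∪ g
  let A' : Subalgebra B A := Algebra.adjoin B (t : Set A)
  suffices hA' : A' = ⊤ from ⟨⟨t, hA'⟩⟩
  -- the quotient map restricted to `A'` is surjective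
  have hsurj : ∀ x : A, ∃ a ∈ A', x - a ∈ m := by
    intro x
    have hx : Ideal.Quotient.mk m x ∈ (⊤ : Subalgebra B (A ⧸ m)) := Algebra.mem_top
    rw [← hs] at hx
    have hle : Algebra.adjoin B (s : Set (A ⧸ m)) ≤ A'.map (Ideal.Quotient.mkₐ B m) := by
      rw [Algebra.adjoin_le_iff]
      intro y hy
      refine ⟨σ y, Algebra.subset_adjoin ?_, hσ y⟩
      exact Finset.mem_union_left _ (Finset.mem_image_of_mem _ hy)
    obtain ⟨a, ha, hax⟩ := hle hx
    refine ⟨a, ha, ?_⟩
    rw [← Ideal.Quotient.eq]
    exact hax.symm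
  have hgA' : ∀ y ∈ g, y ∈ A' := fun y hy =>
    Algebra.subset_adjoin (Finset.mem_union_right _ hy)
  -- Nakayama over the ring `A'`
  let I : Ideal A' := m.comap (algebraMap A' A)
  have hInil : IsNilpotent I := by
    obtain ⟨n, hn⟩ := hnil
    refine ⟨n, ?_⟩
    rw [Ideal.zero_eq_bot, eq_bot_iff]
    intro x hx
    have h1 : algebraMap A' A x ∈ (I ^ n).map (algebraMap A' A) := Ideal.mem_map_of_mem _ hx
    rw [Ideal.map_pow] at h1
    have h2 : (I.map (algebraMap A' A)) ^ n ≤ m ^ n := Ideal.pow_right_mono Ideal.map_comap_le n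
    have h3 := h2 h1
    rw [hn] at h3
    have h4 : (x : A) = 0 := h3
    exact Subtype.ext h4
  let N : Submodule A' A := LinearMap.range (Algebra.linearMap A' A)
  have hN : N = ⊤ := by
    apply eq_top_of_top_le_sup_smul_of_isNilpotent I hInil
    intro x _
    obtain ⟨a, ha, hxa⟩ := hsurj x
    have h1 : x - a ∈ I • (⊤ : Submodule A' A) := by
      rw [← hg] at hxa
      refine Submodule.span_induction (p := fun y _ => y ∈ I • (⊤ : Submodule A' A))
        ?_ ?_ ?_ ?_ hxa
      · intro y hy
        have hyI : (⟨y, hgA' y hy⟩ : A') ∈ I := by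
          change y ∈ m
          rw [← hg]
          exact Ideal.subset_span hy
        have : y = (⟨y, hgA' y hy⟩ : A') • (1 : A) := by
          rw [Algebra.smul_def, mul_one]; rfl
        rw [this]
        exact Submodule.smul_mem_smul hyI Submodule.mem_top
      · exact Submodule.zero_mem _
      · intro y z _ _ hy hz
        exact Submodule.add_mem _ hy hz
      · intro c y _ hy
        -- `c • y` with `c : A`; the set `I • ⊤` is stable under multiplication by `A`
        refine Submodule.smul_induction_on hy ?_ ?_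
        · intro r hr n _
          have : c • r • n = r • (c * n) := by
            rw [smul_eq_mul, Algebra.smul_def, Algebra.smul_def]; ring
          rw [this]
          exact Submodule.smul_mem_smul hr Submodule.mem_top
        · intro y z hy hz
          rw [smul_add]
          exact Submodule.add_mem _ hy hz
    have : x = a + (x - a) := by ring
    rw [this]
    refine Submodule.add_mem_sup ⟨⟨a, ha⟩, ?_⟩ h1
    simp [Algebra.linearMap_apply]
  rw [eq_top_iff]
  intro x _
  have hx : x ∈ N := hN ▸ Submodule.mem_top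
  obtain ⟨a, rfl⟩ := hx
  exact a.2

theorem _root_.RingHom.finiteType_of_comp_mk_nilpotent {B A : Type*} [CommRing B] [CommRing A]
    (φ : B →+* A) (m : Ideal A) (hfg : m.FG) (hnil : IsNilpotent m)
    (h : ((Ideal.Quotient.mk m).comp φ).FiniteType) : φ.FiniteType := by
  algebraize [φ]
  have h' : Algebra.FiniteType B (A ⧸ m) := by
    have e : ((Ideal.Quotient.mk m).comp φ) = algebraMap B (A ⧸ m) := rfl
    rw [e] at h
    exact h
  exact finiteType_of_quotient_nilpotent m hfg hnil

end Groth.Agent.Lib.Helper14
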