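import Mathlib

set_option autoImplicit false
universe u
open Polynomial

/-!
# DVRs of characteristic `p` with `[k : k^p] = p`: `p`-basis decomposition and Kähler differentials (helper14)
-/

namespace Groth.Agent.Lib.Helper14.PBasisDVR

section A
variable {R : Type*} [CommRing R] [IsDomain R]

lemma key_dvd {π : R} (hπ : Prime π) (p : ℕ) (a : Fin p → R)
    (h : π ^ p ∣ ∑ i : Fin p, π ^ (i : ℕ) * a i ^ p) : ∀ i, π ∣ a i := by
  intro i
  induction' hi : (i : ℕ) using Nat.strong_induction_on with j ih generalizing i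
  subst hi
  have hsplit : ∑ i' : Fin p, π ^ (i' : ℕ) * a i' ^ p =
      π ^ (i : ℕ) * a i ^ p + ∑ i' ∈ Finset.univ.erase i, π ^ (i' : ℕ) * a i' ^ p :=
    (Finset.add_sum_erase _ _ (Finset.mem_univ i)).symm
  have h1 : π ^ ((i : ℕ) + 1) ∣ ∑ i' ∈ Finset.univ.erase i, π ^ (i' : ℕ) * a i' ^ p := by
    refine Finset.dvd_sum (fun i' hi' => ?_)
    have hne : i' ≠ i := (Finset.mem_erase.mp hi').1
    rcases lt_or_gt_of_ne (fun h => hne (Fin.ext h) : (i' : ℕ) ≠ (i : ℕ)) with hlt | hgt
    · have h2 : π ∣ a i' := ih _ hlt i' rfl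
      have h3 : π ^ p ∣ a i' ^ p := pow_dvd_pow_of_dvd h2 p
      exact dvd_mul_of_dvd_right ((pow_dvd_pow π (by omega)).trans h3) _
    · exact dvd_mul_of_dvd_left (pow_dvd_pow π (by omega)) _
  have h2 : π ^ ((i : ℕ) + 1) ∣ ∑ i' : Fin p, π ^ (i' : ℕ) * a i' ^ p :=
    (pow_dvd_pow π (by omega)).trans h
  rw [hsplit] at h2
  have h3 : π ^ ((i : ℕ) + 1) ∣ π ^ (i : ℕ) * a i ^ p := (dvd_add_left h1).mp h2
  rw [pow_succ] at h3
  have h4 := (mul_dvd_mul_iff_left (pow_ne_zero _ hπ.ne_zero)).mp h3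
  exact hπ.dvd_of_dvd_pow h4

end A

section B
variable {R : Type*} [CommRing R] [IsDomain R] [IsDiscreteValuationRing R]
  {K : Type*} [Field K] [Algebra R K] [IsFractionRing R K]

lemma mem_range_of_sum {π : R} (hπ : Irreducible π) (p : ℕ) (r : R) (y : Fin p → K)
    (h : algebraMap R K r = ∑ i : Fin p, (algebraMap R K π) ^ (i : ℕ) * y i ^ p) :
    ∀ i, ∃ a : R, algebraMap R K a = y i := by
  classical
  have hπp : Prime π := hπ.prime
  have hinj : Function.Injective (algebraMap R K) := IsFractionRing.injective R K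
  have hπ0 : algebraMap R K π ≠ 0 := fun h0 => hπ.ne_zero (hinj (by rw [h0, map_zero]))
  let P : ℕ → Prop := fun m => ∀ i, ∃ a : R, algebraMap R K a = (algebraMap R K π) ^ m * y i
  have hex : ∃ m, P m := by
    obtain ⟨s, hs⟩ := IsLocalization.exist_integer_multiples_of_finset (nonZeroDivisors R)
      (Finset.univ.image y)
    have hs0 : (s : R) ≠ 0 := nonZeroDivisors.ne_zero s.2
    obtain ⟨m, u, hu⟩ := IsDiscreteValuationRing.eq_unit_mul_pow_irreducible hs0 hπ
    refine ⟨m, fun i => ?_⟩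
    obtain ⟨a, ha⟩ := hs (y i) (Finset.mem_image_of_mem y (Finset.mem_univ i))
    refine ⟨↑u⁻¹ * a, ?_⟩
    rw [map_mul, ha, Algebra.smul_def, hu, map_mul, map_pow, ← mul_assoc,
      ← mul_assoc, ← map_mul, Units.inv_mul, map_one, one_mul]
  have hP0 : P (Nat.find hex) := Nat.find_spec hex
  have hzero : Nat.find hex = 0 := by
    by_contra hne
    obtain ⟨m', hm'⟩ := Nat.exists_eq_add_one_of_ne_zero hne
    rw [hm'] at hP0
    choose a ha using hP0
    have hsum : π ^ (p * (m' + 1)) * r = ∑ i : Fin p, π ^ (i : ℕ) * a i ^ p := by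
      apply hinj
      rw [map_mul, map_pow, h, Finset.mul_sum, map_sum]
      refine Finset.sum_congr rfl (fun i _ => ?_)
      rw [map_mul, map_pow, map_pow, ha i, mul_pow, ← pow_mul]
      ring
    have hdvd : π ^ p ∣ ∑ i : Fin p, π ^ (i : ℕ) * a i ^ p := by
      rw [← hsum]
      exact dvd_mul_of_dvd_left (pow_dvd_pow π (by nlinarith)) _
    have hall := key_dvd hπp p a hdvd
    choose c hc using hall
    have : P m' := by
      intro i
      refine ⟨c i, ?_⟩
      have h1 := ha i
      rw [hc i, map_mul, pow_succ, mul_assoc, mul_comm (algebraMap R K π ^ m'), mul_assoc] at h1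
      have h2 := mul_left_cancel₀ hπ0 h1
      rw [h2, mul_comm]
    exact Nat.find_min hex (by omega) this
  intro i
  obtain ⟨a, ha⟩ := hP0 i
  rw [hzero, pow_zero, one_mul] at ha
  exact ⟨a, ha⟩

end B

section C
variable {F K : Type*} [Field F] [Field K] [Algebra F K] (p : ℕ) [hp : Fact p.Prime] [CharP K p]
  (x : K)

lemma aux_pow (n : ℕ) : (n : K) * x ^ (n - 1) * x = n * x ^ n := by
  cases n with
  | zero => simp
  | succ n => rw [Nat.add_sub_cancel, mul_assoc, ← pow_succ]

variable (hx : x ∉ Set.range (algebraMap F K)) (hxp : x ^ p ∈ Set.range (algebraMap F K))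
  (hdeg : Module.finrank F K = p)

include hx hxp hdeg in
theorem exists_basis : ∃ b : Module.Basis (Fin p) F K, ∀ i, b i = x ^ (i : ℕ) := by
  obtain ⟨a₀, ha₀⟩ := hxp
  have ha : ∀ b : F, b ^ p ≠ a₀ := by
    intro b hb
    apply hx
    refine ⟨b, ?_⟩
    apply frobenius_inj K p
    rw [frobenius_def, frobenius_def, ← map_pow, hb, ha₀]
  have hirr : Irreducible (X ^ p - C a₀ : F[X]) := X_pow_sub_C_irreducible_of_prime hp.out ha
  have hmonic : (X ^ p - C a₀ : F[X]).Monic := monic_X_pow_sub_C a₀ hp.out.ne_zero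
  have hroot : aeval x (X ^ p - C a₀ : F[X]) = 0 := by
    rw [map_sub, map_pow, aeval_X, aeval_C, ha₀, sub_self]
  have hmin : X ^ p - C a₀ = minpoly F x := minpoly.eq_of_irreducible_of_monic hirr hroot hmonic
  have hnat : (minpoly F x).natDegree = p := by
    rw [← hmin, natDegree_X_pow_sub_C]
  have hli : LinearIndependent F (fun i : Fin p => x ^ (i : ℕ)) := by
    have := linearIndependent_pow (K := F) x
    rwa [hnat] at this
  refine ⟨basisOfLinearIndependentOfCardEqFinrank hli (by simp [hdeg]), fun i => ?_⟩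
  rw [coe_basisOfLinearIndependentOfCardEqFinrank]


/-- the `F`-linear "derivative with respect to `x`" attached to a power basis -/
theorem exists_deriv (hx0 : x ≠ 0) (hxp : x ^ p ∈ Set.range (algebraMap F K))
    (b : Module.Basis (Fin p) F K) (hb : ∀ i, b i = x ^ (i : ℕ)) :
    ∃ D : K →ₗ[F] K, D x = 1 ∧ ∀ u v : K, D (u * v) = u * D v + v * D u := by
  obtain ⟨a₀, ha₀⟩ := hxp
  let D : K →ₗ[F] K := b.constr ℕ (fun i => ((i : ℕ) : K) * x ^ ((i : ℕ) - 1))
  have hDb : ∀ i : Fin p, D (x ^ (i : ℕ)) = ((i : ℕ) : K) * x ^ ((i : ℕ) - 1) := by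
    intro i
    rw [← hb i]
    exact b.constr_basis ℕ _ i
  have hDpow : ∀ n : ℕ, D (x ^ n) = (n : K) * x ^ (n - 1) := by
    intro n
    have hn : n = p * (n / p) + n % p := (Nat.div_add_mod n p).symm
    have hlt : n % p < p := Nat.mod_lt _ hp.out.pos
    have h1 : x ^ n = (a₀ ^ (n / p)) • x ^ (n % p) := by
      rw [Algebra.smul_def, map_pow, ha₀, ← pow_mul, ← pow_add, ← hn]
    have hcast : (n : K) = ((n % p : ℕ) : K) := by
      conv_lhs => rw [hn]
      rw [Nat.cast_add, Nat.cast_mul, CharP.cast_eq_zero, zero_mul, zero_add]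
    rw [h1, map_smul, hDb ⟨n % p, hlt⟩, Algebra.smul_def, map_pow, ha₀, ← pow_mul]
    apply mul_right_cancel₀ hx0
    have e1 := aux_pow x (n % p)
    have e2 := aux_pow x n
    have e3 : x ^ n = x ^ (p * (n / p)) * x ^ (n % p) := by rw [← pow_add, ← hn]
    linear_combination (x ^ (p * (n / p))) * e1 - e2 - ((n % p : ℕ) : K) * e3 - x ^ n * hcast
  refine ⟨D, ?_, ?_⟩
  · have := hDpow 1
    simpa using this
  · let B₁ : K →ₗ[F] K →ₗ[F] K := (LinearMap.mul F K).compr₂ D
    let B₂ : K →ₗ[F] K →ₗ[F] K :=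
      (LinearMap.mul F K).compl₂ D + ((LinearMap.mul F K).compl₂ D).flip
    have hB : B₁ = B₂ := by
      refine b.ext fun i => b.ext fun j => ?_
      simp only [B₁, B₂, LinearMap.compr₂_apply, LinearMap.add_apply, LinearMap.compl₂_apply,
        LinearMap.flip_apply, LinearMap.mul_apply']
      rw [hb i, hb j, ← pow_add, hDpow, hDpow, hDpow]
      apply mul_right_cancel₀ hx0
      have e1 := aux_pow x (i : ℕ)
      have e2 := aux_pow x (j : ℕ)
      have e3 := aux_pow x ((i : ℕ) + (j : ℕ))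
      have e4 : x ^ ((i : ℕ) + (j : ℕ)) = x ^ (i : ℕ) * x ^ (j : ℕ) := pow_add _ _ _
      rw [Nat.cast_add] at e3
      push_cast
      linear_combination e3 - x ^ (i : ℕ) * e2 - x ^ (j : ℕ) * e1 +
        (((i : ℕ) : K) + ((j : ℕ) : K)) * e4
    intro u v
    have := LinearMap.congr_fun (LinearMap.congr_fun hB u) v
    simpa [B₁, B₂] using this


end C

section D
variable {R : Type u} [CommRing R] [IsDomain R] [IsDiscreteValuationRing R]
  {K : Type*} [Field K] [Algebra R K] [IsFractionRing R K]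
  {F : Type*} [Field F] [Algebra F K]
  (p : ℕ) [hp : Fact p.Prime] [CharP R p]

theorem main (hF : ∀ x : K, x ∈ Set.range (algebraMap F K) ↔ ∃ y : K, y ^ p = x)
    (hdeg : Module.finrank F K = p) (π : R) (hπ : Irreducible π) :
    (∀ r : R, ∃! c : Fin p → R, r = ∑ i : Fin p, π ^ (i : ℕ) * c i ^ p) ∧
      Function.Bijective (fun r : R => r • KaehlerDifferential.D ℤ R π) := by
  classical
  have hinj : Function.Injective (algebraMap R K) := IsFractionRing.injective R K
  haveI : CharP K p := charP_of_injective_algebraMap hinj p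
  have hp0 : 0 < p := hp.out.pos
  set x := algebraMap R K π with hxdef
  have hx0 : x ≠ 0 := fun h0 => hπ.ne_zero (hinj (by rw [← hxdef, h0, map_zero]))
  have hxp : x ^ p ∈ Set.range (algebraMap F K) := (hF _).mpr ⟨x, rfl⟩
  have hx : x ∉ Set.range (algebraMap F K) := by
    intro hmem
    obtain ⟨y, hy⟩ := (hF x).mp hmem
    have h1 := mem_range_of_sum hπ p π (fun i => if (i : ℕ) = 0 then y else 0) (by
      rw [Finset.sum_eq_single (⟨0, hp0⟩ : Fin p)]
      · simp [hy, hxdef]
      · intro i _ hi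
        have : (i : ℕ) ≠ 0 := fun h => hi (Fin.ext h)
        simp [this, hp.out.ne_zero]
      · intro h; exact absurd (Finset.mem_univ _) h)
    obtain ⟨a, ha⟩ := h1 ⟨0, hp0⟩
    simp only [if_true] at ha
    have hap : a ^ p = π := hinj (by rw [map_pow, ha, hy])
    have hirr : Irreducible (a ^ p) := hap ▸ hπ
    exact not_irreducible_pow hp.out.ne_one hirr
  obtain ⟨b, hb⟩ := exists_basis p x hx hxp hdeg
  obtain ⟨D, hD1, hDl⟩ := exists_deriv p x hx0 hxp b hb
  have hdecomp : ∀ r : R, ∃! c : Fin p → R, r = ∑ i : Fin p, π ^ (i : ℕ) * c i ^ p := by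
    intro r
    have hy : ∀ i, ∃ y : K, y ^ p = algebraMap F K (b.repr (algebraMap R K r) i) :=
      fun i => (hF _).mp ⟨_, rfl⟩
    choose y hy using hy
    have hsum : algebraMap R K r = ∑ i : Fin p, x ^ (i : ℕ) * y i ^ p := by
      conv_lhs => rw [← b.sum_repr (algebraMap R K r)]
      refine Finset.sum_congr rfl (fun i _ => ?_)
      rw [hb i, Algebra.smul_def, hy i, mul_comm]
    have hc := mem_range_of_sum hπ p r y hsum
    choose c hc using hc
    have hrc : r = ∑ i : Fin p, π ^ (i : ℕ) * c i ^ p := by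
      apply hinj
      rw [hsum, map_sum]
      refine Finset.sum_congr rfl (fun i _ => ?_)
      rw [map_mul, map_pow, map_pow, hc i]
    have hrepr : ∀ (d : Fin p → R), r = ∑ i : Fin p, π ^ (i : ℕ) * d i ^ p →
        ∀ i, algebraMap F K (b.repr (algebraMap R K r) i) = (algebraMap R K (d i)) ^ p := by
      intro d hd i
      have hf : ∀ i, ∃ f : F, algebraMap F K f = (algebraMap R K (d i)) ^ p :=
        fun i => (hF _).mpr ⟨_, rfl⟩
      choose f hf using hf
      have h2 : algebraMap R K r = ∑ i : Fin p, f i • b i := by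
        rw [hd, map_sum]
        refine Finset.sum_congr rfl (fun i _ => ?_)
        rw [hb i, Algebra.smul_def, hf i, map_mul, map_pow, map_pow, mul_comm]
      rw [h2, b.repr_sum_self, hf i]
    refine ⟨c, hrc, fun d hd => ?_⟩
    funext i
    apply hinj
    apply frobenius_inj K p
    rw [frobenius_def, frobenius_def, ← hrepr d hd i, ← hrepr c hrc i]
  refine ⟨hdecomp, ?_, ?_⟩
  · -- injectivity
    let d₀ : Derivation ℤ R K := Derivation.mk'
      (D.toAddMonoidHom.toIntLinearMap.comp (algebraMap R K).toAddMonoidHom.toIntLinearMap)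
      (by
        intro u v
        simp only [LinearMap.comp_apply, AddMonoidHom.coe_toIntLinearMap, RingHom.toAddMonoidHom_eq_coe,
          AddMonoidHom.coe_coe, LinearMap.toAddMonoidHom_coe, map_mul, hDl, Algebra.smul_def])
    have hd₀ : ∀ a, d₀ a = D (algebraMap R K a) := fun a => rfl
    intro r s h
    have h1 := congrArg d₀.liftKaehlerDifferential h
    simp only [map_smul, Derivation.liftKaehlerDifferential_comp_D, hd₀, ← hxdef, hD1,
      Algebra.smul_def, mul_one] at h1
    exact hinj h1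
  · -- surjectivity
    intro ω
    let φ : R →ₗ[R] Ω[R⁄ℤ] := LinearMap.toSpanSingleton R _ (KaehlerDifferential.D ℤ R π)
    have hφ : ∀ r, φ r = r • KaehlerDifferential.D ℤ R π := fun r => rfl
    have hle : Submodule.span R (Set.range (KaehlerDifferential.D ℤ R)) ≤ LinearMap.range φ := by
      rw [Submodule.span_le]
      rintro _ ⟨a, rfl⟩
      obtain ⟨c, hc, -⟩ := hdecomp a
      rw [hc, map_sum]
      refine Submodule.sum_mem _ (fun i _ => ?_)
      rw [Derivation.leibniz, Derivation.leibniz_pow, Derivation.leibniz_pow]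
      refine Submodule.add_mem _ ?_ ?_
      · have : (p : ℕ) • (c i ^ (p - 1) • KaehlerDifferential.D ℤ R (c i)) = 0 := by
          rw [← Nat.cast_smul_eq_nsmul R, CharP.cast_eq_zero, zero_smul]
        rw [this, smul_zero]
        exact Submodule.zero_mem _
      · refine Submodule.smul_mem _ _ ?_
        refine ⟨(i : ℕ) • π ^ ((i : ℕ) - 1), ?_⟩
        rw [hφ, smul_assoc]
    have hω : ω ∈ Submodule.span R (Set.range (KaehlerDifferential.D ℤ R)) := by
      rw [KaehlerDifferential.span_range_derivation]; trivial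
    obtain ⟨r, hr⟩ := hle hω
    exact ⟨r, hr⟩

end D

end Groth.Agent.Lib.Helper14.PBasisDVR
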