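import Mathlib
import Groth.Agent.Lib.Helper14.PerfectDescent
import Groth.Agent.Lib.Helper14.GeomReduced

/-!
# `K ⊗ k^{perf}` is Artinian iff a finite purely inseparable extension makes the reduction
geometrically reduced (helper14)
-/

set_option autoImplicit false
universe u

open scoped TensorProduct

namespace Groth.Agent.Lib.Helper14.PerfArt

/-- A nontrivial ring which is "radicial" over a field and has finitely generated nilradical is
Artinian. -/
theorem isArtinianRing_of_pRadical_of_nilradical_fg (p : ℕ) (hp : 0 < p) (K T : Type*) [Field K]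
    [CommRing T] [Nontrivial T] (f : K →+* T)
    (hf : ∀ x : T, ∃ (n : ℕ) (y : K), x ^ p ^ n = f y) (hfg : (nilradical T).FG) :
    IsArtinianRing T := by
  have hunit : ∀ x : T, x ∉ nilradical T → IsUnit x := by
    intro x hx
    obtain ⟨n, y, hy⟩ := hf x
    have hy0 : y ≠ 0 := by
      rintro rfl
      apply hx
      rw [mem_nilradical]
      exact ⟨p ^ n, by rw [hy, map_zero]⟩
    have h1 : IsUnit (x ^ p ^ n) := by rw [hy]; exact (IsUnit.mk0 y hy0).map f
    exact (isUnit_pow_iff (pow_pos hp n).ne').mp h1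
  have hprime : ∀ q : Ideal T, q.IsPrime → q = nilradical T := by
    intro q hq
    apply le_antisymm
    · intro x hx
      by_contra hxn
      exact hq.ne_top (Ideal.eq_top_of_isUnit_mem _ hx (hunit x hxn))
    · exact nilradical_le_prime q
  haveI : IsNoetherianRing T :=
    IsNoetherianRing.of_prime (fun q hq => by rw [hprime q hq]; exact hfg)
  rw [isArtinianRing_iff_krullDimLE_zero, Ring.krullDimLE_zero_iff]
  intro q hq
  obtain ⟨m, hm⟩ := Ideal.exists_maximal T
  rw [hprime q hq, ← hprime m hm.isPrime]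
  exact hm

/-- Every element of `K ⊗[k] P` has a `p`-power in `K` when `P` is `p`-radical over `k`. -/
theorem exists_pow_eq_includeLeft (p : ℕ) [Fact p.Prime] (k K P : Type*) [Field k] [CharP k p]
    [Field K] [Algebra k K] [Field P] [Algebra k P] [IsPRadical (algebraMap k P) p]
    (x : K ⊗[k] P) : ∃ (n : ℕ) (y : K), x ^ p ^ n = y ⊗ₜ[k] (1 : P) := by
  haveI : CharP K p := charP_of_injective_algebraMap (algebraMap k K).injective p
  haveI : CharP (K ⊗[k] P) p :=
    charP_of_injective_algebraMap (FaithfulSMul.algebraMap_injective K (K ⊗[k] P)) p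
  induction x using TensorProduct.induction_on with
  | zero => exact ⟨0, 0, by simp⟩
  | tmul a b =>
    obtain ⟨n, c, hc⟩ := IsPRadical.pow_mem (algebraMap k P) p b
    refine ⟨n, c • a ^ p ^ n, ?_⟩
    rw [Algebra.TensorProduct.tmul_pow, ← hc, Algebra.algebraMap_eq_smul_one,
      TensorProduct.smul_tmul]
  | add x y hx hy =>
    obtain ⟨n₁, y₁, h₁⟩ := hx
    obtain ⟨n₂, y₂, h₂⟩ := hy
    refine ⟨n₁ + n₂, y₁ ^ p ^ n₂ + y₂ ^ p ^ n₁, ?_⟩
    rw [add_pow_char_pow, TensorProduct.add_tmul]
    congr 1
    · rw [pow_add, pow_mul, h₁, Algebra.TensorProduct.tmul_pow, one_pow]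
    · rw [add_comm n₁ n₂, pow_add, pow_mul, h₂, Algebra.TensorProduct.tmul_pow, one_pow]

/-- (⇐) -/
theorem isArtinianRing_tensor_of_geomReduced (p : ℕ) [Fact p.Prime] (k K P : Type u) [Field k]
    [CharP k p] [Field K] [Algebra k K] [Field P] [Algebra k P] [PerfectRing P p]
    [IsPRadical (algebraMap k P) p]
    (k' : Type u) [Field k'] [Algebra k k'] [Module.Finite k k'] [IsPurelyInseparable k k']
    (h : Algebra.IsGeometricallyReduced k' ((k' ⊗[k] K) ⧸ nilradical (k' ⊗[k] K))) :
    IsArtinianRing (K ⊗[k] P) := by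
  haveI : CharP k' p := charP_of_injective_algebraMap (algebraMap k k').injective p
  haveI : CharP P p := charP_of_injective_algebraMap (algebraMap k P).injective p
  -- the embedding `k' → P`
  let φ : k' →+* P := PerfectRing.lift (algebraMap k k') (algebraMap k P) p
  have hφ : ∀ x : k, φ (algebraMap k k' x) = algebraMap k P x :=
    PerfectRing.lift_comp_apply (algebraMap k k') (algebraMap k P) p
  letI : Algebra k' P := φ.toAlgebra
  haveI : IsScalarTower k k' P := IsScalarTower.of_algebraMap_eq (fun x => (hφ x).symm)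
  -- `R = k' ⊗ K` is noetherian
  haveI : IsNoetherianRing (K ⊗[k] k') := Algebra.FiniteType.isNoetherianRing K (K ⊗[k] k')
  haveI : IsNoetherianRing (k' ⊗[k] K) :=
    isNoetherianRing_of_ringEquiv _ (Algebra.TensorProduct.comm k K k').toRingEquiv
  set N := nilradical (k' ⊗[k] K) with hN
  have hNfg : N.FG := (isNoetherianRing_iff_ideal_fg _).mp inferInstance N
  -- `P ⊗ (R/N)` is reduced
  haveI : IsReduced (P ⊗[k'] ((k' ⊗[k] K) ⧸ N)) :=
    GeomReduced.isReduced_tensor_of_isGeometricallyReduced k' _ P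
  -- nilradical of `T' = P ⊗[k'] R`
  let g : (k' ⊗[k] K) →ₐ[k'] ((k' ⊗[k] K) ⧸ N) := Ideal.Quotient.mkₐ k' N
  have hg : Function.Surjective g := Ideal.Quotient.mk_surjective
  have hker : RingHom.ker (Algebra.TensorProduct.map (AlgHom.id k' P) g) =
      N.map (Algebra.TensorProduct.includeRight : (k' ⊗[k] K) →ₐ[k'] P ⊗[k'] (k' ⊗[k] K)) := by
    rw [Algebra.TensorProduct.lTensor_ker (A := P) g hg]
    congr 1
    exact Ideal.Quotient.mkₐ_ker k' N
  have hnil : nilradical (P ⊗[k'] (k' ⊗[k] K)) =
      N.map (Algebra.TensorProduct.includeRight : (k' ⊗[k] K) →ₐ[k'] P ⊗[k'] (k' ⊗[k] K)) := by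
    apply le_antisymm
    · rw [← hker]
      intro x hx
      rw [RingHom.mem_ker]
      have hx' : IsNilpotent (Algebra.TensorProduct.map (AlgHom.id k' P) g x) :=
        (mem_nilradical.mp hx).map _
      exact hx'.eq_zero
    · rw [Ideal.map_le_iff_le_comap]
      intro x hx
      rw [Ideal.mem_comap, mem_nilradical]
      exact (mem_nilradical.mp hx).map _
  have hfg : (nilradical (P ⊗[k'] (k' ⊗[k] K))).FG := by
    rw [hnil]; exact hNfg.map _
  -- the ring isomorphism with `K ⊗ P`
  let ε : (P ⊗[k'] (k' ⊗[k] K)) ≃+* (K ⊗[k] P) :=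
    (Algebra.TensorProduct.cancelBaseChange k k' k' P K).toRingEquiv.trans
      (Algebra.TensorProduct.comm k P K).toRingEquiv
  haveI : Nontrivial (P ⊗[k'] (k' ⊗[k] K)) := ε.toEquiv.nontrivial
  let f : K →+* (P ⊗[k'] (k' ⊗[k] K)) :=
    ε.symm.toRingHom.comp (Algebra.TensorProduct.includeLeft : K →ₐ[k] K ⊗[k] P).toRingHom
  haveI : IsArtinianRing (P ⊗[k'] (k' ⊗[k] K)) := by
    refine isArtinianRing_of_pRadical_of_nilradical_fg p (Fact.out : p.Prime).pos K _ f ?_ hfg
    intro x
    obtain ⟨n, y, hy⟩ := exists_pow_eq_includeLeft p k K P (ε x)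
    refine ⟨n, y, ?_⟩
    apply ε.injective
    rw [map_pow, hy]
    simp [f]
  exact Function.Surjective.isArtinianRing (f := ε.toRingHom) ε.surjective

/-- (⇒) -/
theorem exists_of_isArtinianRing (p : ℕ) [Fact p.Prime] (k K P : Type u) [Field k]
    [CharP k p] [Field K] [Algebra k K] [Field P] [Algebra k P] [PerfectRing P p]
    [IsPRadical (algebraMap k P) p] (hA : IsArtinianRing (K ⊗[k] P)) :
    ∃ (k' : Type u) (_ : Field k') (_ : Algebra k k'), Module.Finite k k' ∧
      IsPurelyInseparable k k' ∧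
      Algebra.IsGeometricallyReduced k' ((k' ⊗[k] K) ⧸ nilradical (k' ⊗[k] K)) := by
  haveI : CharP P p := charP_of_injective_algebraMap (algebraMap k P).injective p
  haveI : CharP (PerfectDescent.Om k) p :=
    charP_of_injective_algebraMap (algebraMap k (PerfectDescent.Om k)).injective p
  haveI : PerfectRing (PerfectDescent.Om k) p := inferInstance
  haveI : IsPRadical (algebraMap k (PerfectDescent.Om k)) p := inferInstance
  let e₀ : P ≃+* PerfectDescent.Om k :=
    IsPerfectClosure.equiv (algebraMap k P) (algebraMap k (PerfectDescent.Om k)) p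
  let e : P ≃ₐ[k] PerfectDescent.Om k := AlgEquiv.ofRingEquiv (f := e₀)
    (fun x => IsPerfectClosure.equiv_comp_apply _ _ p x)
  haveI : IsNoetherianRing (K ⊗[k] P) := inferInstance
  have hN : IsNoetherianRing (PerfectDescent.Om k ⊗[k] K) :=
    isNoetherianRing_of_ringEquiv _
      ((Algebra.TensorProduct.congr (AlgEquiv.refl (R := k) (A₁ := K)) e).trans
        (Algebra.TensorProduct.comm k K (PerfectDescent.Om k))).toRingEquiv
  exact PerfectDescent.exists_finite_purelyInseparable k K hN

end Groth.Agent.Lib.Helper14.PerfArt
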