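import Mathlib

/-!
# S5309 (L4): sections killed by `xi` lie in the symbolic power
-/

set_option autoImplicit false
universe u
open CategoryTheory CategoryTheory.Limits AlgebraicGeometry

namespace Groth.Agent.Lib.Helper14.QfFiltL4

set_option backward.isDefEq.respectTransparency false in
/-- (L4) sections killed by `xi` are in the symbolic power -/
theorem exists_mul_mem_pow_of_factor {X Xi : Scheme.{u}} (xi : Xi ⟶ X) {W : X.Opens}
    (hW : IsAffineOpen W) (p : X) (hp : p ∈ W) (n : ℕ)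
    (μ : Spec (CommRingCat.of (X.presheaf.stalk p ⧸
        IsLocalRing.maximalIdeal (X.presheaf.stalk p) ^ (n + 1))) ⟶ Xi)
    (hμ : μ ≫ xi = Spec.map (CommRingCat.ofHom (Ideal.Quotient.mk
        (IsLocalRing.maximalIdeal (X.presheaf.stalk p) ^ (n + 1)))) ≫ X.fromSpecStalk p)
    (b : Γ(X, W)) (hb : xi.app W b = 0) :
    ∃ t : Γ(X, W), t ∉ (hW.primeIdealOf ⟨p, hp⟩).asIdeal ∧
      t * b ∈ (hW.primeIdealOf ⟨p, hp⟩).asIdeal ^ (n + 1) := by
  -- Step 1: the germ of `b` lies in `m^(n+1)`.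
  let R : CommRingCat.{u} := CommRingCat.of (X.presheaf.stalk p ⧸
        IsLocalRing.maximalIdeal (X.presheaf.stalk p) ^ (n + 1))
  let mk : X.presheaf.stalk p ⟶ R := CommRingCat.ofHom (Ideal.Quotient.mk
        (IsLocalRing.maximalIdeal (X.presheaf.stalk p) ^ (n + 1)))
  let σ : Spec R ⟶ X := Spec.map mk ≫ X.fromSpecStalk p
  have hσ : σ = Spec.map mk ≫ X.fromSpecStalk p := rfl
  have hμ' : (μ : Spec R ⟶ Xi) ≫ xi = σ := hμ
  have hσ' : σ = Spec.map (X.presheaf.germ W p hp ≫ mk) ≫ hW.fromSpec := by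
    rw [hσ, ← hW.fromSpecStalk_eq_fromSpecStalk hp, IsAffineOpen.fromSpecStalk,
      Spec.map_comp, Category.assoc]
  have hle : (⊤ : (Spec R).Opens) ≤ σ ⁻¹ᵁ W := by
    rw [hσ', Scheme.Hom.comp_preimage, hW.fromSpec_preimage_self]
    exact le_rfl
  have h1 : σ.appLE W ⊤ hle = (X.presheaf.germ W p hp ≫ mk) ≫ (Scheme.ΓSpecIso R).inv := by
    apply Spec.map_injective
    rw [← cancel_mono hW.fromSpec, IsAffineOpen.SpecMap_appLE_fromSpec σ hW (isAffineOpen_top _) hle,
      IsAffineOpen.fromSpec_top, Scheme.isoSpec_Spec_inv, hσ']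
    simp only [Spec.map_comp, Category.assoc]
  have h2 : σ.appLE W ⊤ hle b = 0 := by
    have e : σ.app W b = 0 := by
      rw [← hμ', Scheme.Hom.comp_app, CommRingCat.comp_apply, hb, map_zero]
    rw [Scheme.Hom.appLE]
    show (Spec R).presheaf.map _ (σ.app W b) = 0
    rw [e, map_zero]
  have h3 : mk (X.presheaf.germ W p hp b) = 0 := by
    have : (Scheme.ΓSpecIso R).inv (mk (X.presheaf.germ W p hp b)) = 0 := by
      rw [h1] at h2; exact h2
    have h4 := congrArg (Scheme.ΓSpecIso R).hom this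
    rw [map_zero] at h4
    rw [← h4]
    exact (congr($((Scheme.ΓSpecIso R).inv_hom_id) (mk (X.presheaf.germ W p hp b)))).symm
  have h5 : X.presheaf.germ W p hp b ∈
      IsLocalRing.maximalIdeal (X.presheaf.stalk p) ^ (n + 1) :=
    Ideal.Quotient.eq_zero_iff_mem.mp h3
  -- Step 2: localization.
  let _ : Algebra Γ(X, W) (X.presheaf.stalk p) :=
    TopCat.Presheaf.algebra_section_stalk X.presheaf ⟨p, hp⟩
  have := hW.isLocalization_stalk ⟨p, hp⟩
  set q := (hW.primeIdealOf ⟨p, hp⟩).asIdeal with hq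
  have hmax : IsLocalRing.maximalIdeal (X.presheaf.stalk p) =
      q.map (algebraMap Γ(X, W) (X.presheaf.stalk p)) :=
    (IsLocalization.AtPrime.map_eq_maximalIdeal q (X.presheaf.stalk p)).symm
  have h6 : algebraMap Γ(X, W) (X.presheaf.stalk p) b ∈
      (q ^ (n + 1)).map (algebraMap Γ(X, W) (X.presheaf.stalk p)) := by
    rw [Ideal.map_pow, ← hmax]
    exact h5
  obtain ⟨⟨x, s⟩, hxs⟩ := (IsLocalization.mem_map_algebraMap_iff q.primeCompl
    (X.presheaf.stalk p)).mp h6
  rw [← map_mul] at hxs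
  obtain ⟨c, hc⟩ := (IsLocalization.eq_iff_exists q.primeCompl (X.presheaf.stalk p)).mp hxs
  refine ⟨c * s, ?_, ?_⟩
  · exact (q.primeCompl.mul_mem c.2 s.2)
  · have : (c : Γ(X, W)) * s * b = c * x := by
      rw [← hc]; ring
    rw [this]
    exact Ideal.mul_mem_left _ _ x.2

end Groth.Agent.Lib.Helper14.QfFiltL4
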