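import Mathlib.AlgebraicGeometry.Morphisms.SchemeTheoreticallyDominant
import Groth.Agent.Lib.Helper3.AffinePoints

/-!
# The kernel of a morphism from a reduced scheme (no quasi-compactness)

* `vanishingIdeal_le_ker`: for `X` reduced and `f : X ⟶ Y`, the vanishing ideal of the closure of
  the range of `f` is contained in `f.ker`.
* `isReduced_of_nilradical_eq_bot`.
* `isReduced_of_ker_eq_bot`, `denseRange_of_ker_eq_bot`: if `X` is reduced and `f.ker = ⊥` then `Y`
  is reduced and `f` is dominant.
-/

set_option autoImplicit false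
universe u
open CategoryTheory AlgebraicGeometry TopologicalSpace

namespace Groth.Agent.Lib.Helper14

theorem vanishingIdeal_le_ker {X Y : Scheme.{u}} [IsReduced X] (f : X ⟶ Y) :
    Scheme.IdealSheafData.vanishingIdeal ⟨closure (Set.range f), isClosed_closure⟩ ≤ f.ker := by
  rw [Scheme.Hom.ker, Scheme.IdealSheafData.le_ofIdeals_iff]
  intro U s hs
  rw [Scheme.IdealSheafData.vanishingIdeal_ideal] at hs
  rw [RingHom.mem_ker]
  apply AlgebraicGeometry.eq_zero_of_basicOpen_eq_bot
  rw [← Scheme.preimage_basicOpen]
  ext x
  constructor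
  · intro hx
    exfalso
    replace hx : f x ∈ Y.basicOpen s := hx
    have hxU : f x ∈ U.1 := Y.basicOpen_le s hx
    rw [Groth.Agent.Lib.Helper3.mem_basicOpen_iff_notMem_primeIdealOf U.2 (f x) hxU] at hx
    apply hx
    refine (PrimeSpectrum.mem_vanishingIdeal _ _).mp hs _ ?_
    show U.2.fromSpec (U.2.primeIdealOf ⟨f x, hxU⟩) ∈ closure (Set.range f)
    rw [U.2.fromSpec_primeIdealOf ⟨f x, hxU⟩]
    exact subset_closure ⟨x, rfl⟩
  · intro hx
    exact absurd hx (by simp)

theorem isReduced_of_nilradical_eq_bot (X : Scheme.{u}) (h : X.nilradical = ⊥) : IsReduced X := by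
  have key : ∀ U : X.affineOpens, IsReduced (U.1 : Scheme.{u}) := by
    intro U
    have : IsAffine (U.1 : Scheme.{u}) := U.2
    have hred : _root_.IsReduced Γ(X, U.1) := by
      have h1 := congr(($h).ideal U)
      rw [Scheme.nilradical, Scheme.IdealSheafData.radical_ideal,
        Scheme.IdealSheafData.ideal_bot] at h1
      rw [← nilradical_eq_bot_iff]
      exact h1
    have : _root_.IsReduced Γ(↑U.1, ⊤) :=
      isReduced_of_injective (U.1.topIso.hom.hom)
        (ConcreteCategory.bijective_of_isIso U.1.topIso.hom).1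
    exact isReduced_of_isAffine_isReduced _
  exact @IsReduced.of_openCover _
    (X.openCoverOfIsOpenCover (fun U : X.affineOpens => U.1) (iSup_affineOpens_eq_top X)) key

theorem ker_eq_bot_consequences {X Y : Scheme.{u}} [IsReduced X] (f : X ⟶ Y) (h : f.ker = ⊥) :
    IsReduced Y ∧ DenseRange f := by
  have h1 := vanishingIdeal_le_ker f
  rw [h, le_bot_iff] at h1
  constructor
  · apply isReduced_of_nilradical_eq_bot
    rw [← le_bot_iff, ← h1, ← Scheme.IdealSheafData.vanishingIdeal_top]
    exact Scheme.IdealSheafData.vanishingIdeal_antimono le_top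
  · rw [DenseRange, dense_iff_closure_eq]
    have := congr(($h1).support)
    rw [Scheme.IdealSheafData.support_bot] at this
    have := congr(($this : Set Y))
    rw [Scheme.IdealSheafData.coe_support_vanishingIdeal] at this
    simpa using this

end Groth.Agent.Lib.Helper14
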