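import Mathlib
import Groth.Prelude.Def_Curv2
import Groth.Agent.Lib.Helper14.StalkTensor
import Groth.Agent.Lib.Helper14.ComplTensor
import Groth.Agent.Lib.Helper26.RegularAscent
import Groth.Agent.Lib.Helper26.RegularRing

/-!
# Regularity and base change to the completion (helper14)
-/

set_option autoImplicit false
universe u

open CategoryTheory CategoryTheory.Limits AlgebraicGeometry TopologicalSpace IsLocalRing
open scoped TensorProduct

namespace Groth.Agent.Lib.Helper14.RegCompletionBC

open Groth.Agent.Lib.Helper14.ComplTensor EGA4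

/-- Ascent of regularity along a flat local homomorphism with `𝔪_R S = 𝔪_S`. -/
theorem isRegularLocalRing_of_flat_of_map_eq (R S : Type u) [CommRing R] [IsRegularLocalRing R]
    [CommRing S] [IsLocalRing S] [IsNoetherianRing S] [Algebra R S] [IsLocalHom (algebraMap R S)]
    [Module.Flat R S] (hmax : (maximalIdeal R).map (algebraMap R S) = maximalIdeal S) :
    IsRegularLocalRing S := by
  haveI : IsRegularLocalRing (S ⧸ (maximalIdeal R).map (algebraMap R S)) := by
    haveI : IsRegularLocalRing (S ⧸ maximalIdeal S) :=
      inferInstanceAs (IsRegularLocalRing (ResidueField S))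
    exact IsRegularLocalRing.of_ringEquiv (Ideal.quotEquivOfEq hmax.symm)
  exact Groth.Agent.Lib.Helper26.RegularAscent.isRegularLocalRing_of_flat_of_fibre R S

section Ring

variable (A B : Type u) [CommRing A] [CommRing B] [IsNoetherianRing A]
    [IsNoetherianRing B] [IsLocalRing A] [IsLocalRing B] [Algebra A B] [IsLocalHom (algebraMap A B)]

/-- A prime of `B ⊗_A Â` over the maximal ideal of `B` is the extension of the maximal ideal. -/
theorem map_maximalIdeal_eq (n' : Ideal (B ⊗[A] Cpl A)) [hn'p : n'.IsPrime]
    (h1 : n'.comap (algebraMap B (B ⊗[A] Cpl A)) = maximalIdeal B) :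
    (maximalIdeal B).map (algebraMap B (B ⊗[A] Cpl A)) = n' := by
  have hJle : (maximalIdeal B).map (algebraMap B (B ⊗[A] Cpl A)) ≤ n' := by
    rw [Ideal.map_le_iff_le_comap, h1]
  have hn'J : n' ≤ (maximalIdeal B).map (algebraMap B (B ⊗[A] Cpl A)) := by
    intro x hx
    obtain ⟨b, hb⟩ := exists_sub_mem_tensor A B x
    have hb' : algebraMap B (B ⊗[A] Cpl A) b ∈ n' := by
      have := n'.sub_mem hx (hJle hb)
      simpa using this
    have hbm : b ∈ maximalIdeal B := by rw [← h1]; exact hb'
    have : x = (x - algebraMap B (B ⊗[A] Cpl A) b) + algebraMap B (B ⊗[A] Cpl A) b := by ring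
    rw [this]
    exact add_mem hb (Ideal.mem_map_of_mem _ hbm)
  exact le_antisymm hJle hn'J

/-- Ascent of regularity to the local rings of `B ⊗_A Â` over the closed point. -/
theorem isRegularLocalRing_localization [IsRegularLocalRing B]
    (n' : Ideal (B ⊗[A] Cpl A)) [hn'p : n'.IsPrime]
    (h1 : n'.comap (algebraMap B (B ⊗[A] Cpl A)) = maximalIdeal B)
    [IsNoetherianRing (Localization.AtPrime n')] :
    IsRegularLocalRing (Localization.AtPrime n') := by
  have hn' := map_maximalIdeal_eq A B n' h1
  have hJle : (maximalIdeal B).map (algebraMap B (B ⊗[A] Cpl A)) ≤ n' := hn'.le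
  haveI : IsLocalHom (algebraMap B (Localization.AtPrime n')) := by
    constructor
    intro b hb
    by_contra hbu
    have hbm : b ∈ maximalIdeal B := (IsLocalRing.mem_maximalIdeal b).mpr hbu
    have h2 : algebraMap B (B ⊗[A] Cpl A) b ∈ n' := hJle (Ideal.mem_map_of_mem _ hbm)
    rw [IsScalarTower.algebraMap_apply B (B ⊗[A] Cpl A) (Localization.AtPrime n')] at hb
    have h3 := (IsLocalization.AtPrime.isUnit_to_map_iff (Localization.AtPrime n') n' _).mp hb
    exact h3 h2
  haveI : Module.Flat A (Cpl A) := inferInstance
  haveI : Module.Flat B (B ⊗[A] Cpl A) := inferInstance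
  haveI : Module.Flat B (Localization.AtPrime n') :=
    Module.Flat.trans B (B ⊗[A] Cpl A) (Localization.AtPrime n')
  have hmax : (maximalIdeal B).map (algebraMap B (Localization.AtPrime n')) =
      maximalIdeal (Localization.AtPrime n') := by
    rw [IsScalarTower.algebraMap_eq B (B ⊗[A] Cpl A) (Localization.AtPrime n'), ← Ideal.map_map,
      hn', Localization.AtPrime.map_eq_maximalIdeal]
  exact isRegularLocalRing_of_flat_of_map_eq B (Localization.AtPrime n') hmax

end Ring

section Scheme

open Groth.Agent.Lib.Helper14.StalkTensor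

variable (A : Type u) [CommRing A] [IsLocalRing A] [IsNoetherianRing A]

instance isLocalHom_algebraMap_cpl : IsLocalHom (algebraMap A (Cpl A)) := by
  refine ((IsLocalRing.local_hom_TFAE (algebraMap A (Cpl A))).out 0 2).mpr ?_
  rw [AdicCompletion.maximalIdeal_eq_map (R := A)]

variable {X : Scheme.{u}} (f : X ⟶ Spec (CommRingCat.of A)) [LocallyOfFiniteType f]

instance flat_SpecMap_cpl : Flat (Spec.map (CommRingCat.ofHom (algebraMap A (Cpl A)))) := by
  rw [HasRingHomProperty.Spec_iff (P := @Flat)]
  show (algebraMap A (Cpl A)).Flat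
  rw [RingHom.flat_algebraMap_iff]
  infer_instance

local notation "qA" => Spec.map (CommRingCat.ofHom (algebraMap A (Cpl A)))

/-- **Regularity and base change to the completion, pointwise.** -/
theorem isRegularLocalRing_stalk_iff
    (y : ↥(pullback f qA))
    (hy : (pullback.snd f qA) y = IsLocalRing.closedPoint (Cpl A)) :
    IsRegularLocalRing ((pullback f qA).presheaf.stalk y) ↔
      IsRegularLocalRing (X.presheaf.stalk ((pullback.fst f qA) y)) := by
  haveI : IsNoetherianRing (Cpl A) := ComplEtale.isNoetherianRing_completion A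
  haveI : IsLocallyNoetherian (Spec (CommRingCat.of A)) := inferInstance
  haveI : IsLocallyNoetherian (Spec (CommRingCat.of (Cpl A))) := inferInstance
  haveI : IsLocallyNoetherian X := LocallyOfFiniteType.isLocallyNoetherian f
  haveI : LocallyOfFiniteType (pullback.snd f qA) :=
    MorphismProperty.pullback_snd (P := @LocallyOfFiniteType) f qA inferInstance
  haveI : IsLocallyNoetherian (pullback f qA) :=
    LocallyOfFiniteType.isLocallyNoetherian (pullback.snd f qA)
  haveI : Flat (pullback.fst f qA) := MorphismProperty.pullback_fst (P := @Flat) f qA inferInstance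
  constructor
  · intro hreg
    have hflat : ((pullback.fst f qA).stalkMap y).hom.Flat := Flat.stalkMap (pullback.fst f qA) y
    letI : Algebra (X.presheaf.stalk ((pullback.fst f qA) y)) ((pullback f qA).presheaf.stalk y) :=
      ((pullback.fst f qA).stalkMap y).hom.toAlgebra
    haveI : Module.Flat (X.presheaf.stalk ((pullback.fst f qA) y))
        ((pullback f qA).presheaf.stalk y) := hflat
    haveI : IsLocalHom (algebraMap (X.presheaf.stalk ((pullback.fst f qA) y))
        ((pullback f qA).presheaf.stalk y)) :=
      inferInstanceAs (IsLocalHom ((pullback.fst f qA).stalkMap y).hom)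
    exact Groth.Agent.Lib.Helper26.RegularRing.isRegularLocalRing_of_flat
      (X.presheaf.stalk ((pullback.fst f qA) y)) ((pullback f qA).presheaf.stalk y)
  · intro hreg
    letI := stalkAlgA f ((pullback.fst f qA) y)
    have hc := stalkAlgA_compat f ((pullback.fst f qA) y)
    obtain ⟨Q, hQp, hQ1, ⟨e⟩⟩ :=
      exists_prime_stalk_equiv f (Cpl A) ((pullback.fst f qA) y) hc y rfl
    -- `A → 𝒪_{X,x}` is local
    haveI : IsLocalHom (algebraMap A (X.presheaf.stalk ((pullback.fst f qA) y))) := by
      rw [IsLocalRing.isLocalHom_iff_comap_closedPoint]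
      have h1 : f ((pullback.fst f qA) y) =
          (IsLocalRing.closedPoint A : ↥(Spec (CommRingCat.of A))) := by
        have h2 : f ((pullback.fst f qA) y) = qA ((pullback.snd f qA) y) := by
          rw [← Scheme.Hom.comp_apply, ← Scheme.Hom.comp_apply, pullback.condition]
        rw [h2, hy]
        exact IsLocalRing.comap_closedPoint (algebraMap A (Cpl A))
      have h3 : (X.fromSpecStalk ((pullback.fst f qA) y) ≫ f) (IsLocalRing.closedPoint _) =
          f ((pullback.fst f qA) y) := by
        rw [Scheme.Hom.comp_apply, Scheme.fromSpecStalk_closedPoint]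
      rw [hc, h1] at h3
      exact h3
    haveI : IsNoetherianRing (Localization.AtPrime Q) :=
      isNoetherianRing_of_ringEquiv _ e
    haveI := isRegularLocalRing_localization A (X.presheaf.stalk ((pullback.fst f qA) y)) Q hQ1
    exact IsRegularLocalRing.of_ringEquiv e.symm

/-- Flat descent half (no condition on `y`). -/
theorem isRegularLocalRing_stalk_fst (y : ↥(pullback f qA))
    (hreg : IsRegularLocalRing ((pullback f qA).presheaf.stalk y)) :
    IsRegularLocalRing (X.presheaf.stalk ((pullback.fst f qA) y)) := by
  haveI : IsLocallyNoetherian (Spec (CommRingCat.of A)) := inferInstance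
  haveI : IsLocallyNoetherian X := LocallyOfFiniteType.isLocallyNoetherian f
  haveI : Flat (pullback.fst f qA) := MorphismProperty.pullback_fst (P := @Flat) f qA inferInstance
  have hflat : ((pullback.fst f qA).stalkMap y).hom.Flat := Flat.stalkMap (pullback.fst f qA) y
  letI : Algebra (X.presheaf.stalk ((pullback.fst f qA) y)) ((pullback f qA).presheaf.stalk y) :=
    ((pullback.fst f qA).stalkMap y).hom.toAlgebra
  haveI : Module.Flat (X.presheaf.stalk ((pullback.fst f qA) y))
      ((pullback f qA).presheaf.stalk y) := hflat
  haveI : IsLocalHom (algebraMap (X.presheaf.stalk ((pullback.fst f qA) y))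
      ((pullback f qA).presheaf.stalk y)) :=
    inferInstanceAs (IsLocalHom ((pullback.fst f qA).stalkMap y).hom)
  exact Groth.Agent.Lib.Helper26.RegularRing.isRegularLocalRing_of_flat
    (X.presheaf.stalk ((pullback.fst f qA) y)) ((pullback f qA).presheaf.stalk y)

omit [IsLocalRing A] [IsNoetherianRing A] in
/-- Regularity of local rings passes to generizations. -/
theorem isRegularLocalRing_stalk_of_specializes {Y : Scheme.{u}} {y y' : Y} (h : y ⤳ y')
    (hy' : IsRegularLocalRing (Y.presheaf.stalk y')) : IsRegularLocalRing (Y.presheaf.stalk y) := by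
  have hmem : y ∈ Set.range (Y.fromSpecStalk y') := by
    rw [Scheme.range_fromSpecStalk]; exact h
  obtain ⟨t, rfl⟩ := hmem
  have hb := Groth.Agent.Lib.Helper14.GeomRedAt.stalkMap_bijective_of_flat_of_surjectiveOnStalks
    (Y.fromSpecStalk y') t
  let e1 := RingEquiv.ofBijective ((Y.fromSpecStalk y').stalkMap t).hom hb
  let e3 := (AlgebraicGeometry.StructureSheaf.stalkIso (Y.presheaf.stalk y') t).toRingEquiv
  haveI : IsRegularRing (Y.presheaf.stalk y') :=
    Groth.Agent.Lib.Helper26.RegularRing.isRegularRing_of_isRegularLocalRing _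
  haveI : IsRegularLocalRing (Localization.AtPrime t.asIdeal) :=
    IsRegularRing.isRegularLocalRing_localization t.asIdeal
  exact IsRegularLocalRing.of_ringEquiv (e3.trans e1.symm)

/-- **Regularity and base change to the completion, proper case.** -/
theorem forall_isRegularLocalRing_iff [IsProper f] :
    (∀ x : X, IsRegularLocalRing (X.presheaf.stalk x)) ↔
      ∀ y : ↥(pullback f qA), IsRegularLocalRing ((pullback f qA).presheaf.stalk y) := by
  constructor
  · intro hX y
    haveI : IsProper (pullback.snd f qA) :=
      MorphismProperty.pullback_snd (P := @IsProper) f qA inferInstance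
    -- a specialization of `y` over the closed point
    have hclosed : IsClosedMap (pullback.snd f qA) := (pullback.snd f qA).isClosedMap
    have h1 : IsClosed ((pullback.snd f qA) '' closure {y}) := hclosed _ isClosed_closure
    have h2 : (pullback.snd f qA) y ∈ (pullback.snd f qA) '' closure {y} :=
      ⟨y, subset_closure rfl, rfl⟩
    have h3 : (IsLocalRing.closedPoint (Cpl A) : ↥(Spec (CommRingCat.of (Cpl A)))) ∈
        (pullback.snd f qA) '' closure {y} :=
      (IsLocalRing.specializes_closedPoint ((pullback.snd f qA) y)).mem_closed h1 h2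
    obtain ⟨y0, hy0, hy0c⟩ := h3
    have hspec : y ⤳ y0 := specializes_iff_mem_closure.mpr hy0
    have hreg0 := (isRegularLocalRing_stalk_iff A f y0 hy0c).mpr (hX _)
    exact isRegularLocalRing_stalk_of_specializes hspec hreg0
  · intro hY x
    haveI : Module.FaithfullyFlat A (Cpl A) := Module.FaithfullyFlat.of_flat_of_isLocalHom
    obtain ⟨z, hz⟩ := PrimeSpectrum.comap_surjective_of_faithfullyFlat (A := A) (B := Cpl A)
      (f x)
    obtain ⟨y, hy1, -⟩ := Scheme.Pullback.exists_preimage_pullback (f := f) (g := qA) x z hz.symm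
    have := isRegularLocalRing_stalk_fst A f y (hY y)
    rwa [hy1] at this

end Scheme

end Groth.Agent.Lib.Helper14.RegCompletionBC
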