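import Mathlib
import Groth.Agent.Lib.Helper14.RegDeriv

set_option autoImplicit false
universe u

namespace Groth.Agent.Lib.Helper14.RegDerivPoly

open Polynomial

/-- coefficientwise extension of a derivation to the polynomial ring. -/
noncomputable def polyDer (R : Type u) [CommRing R] (D : Derivation ℤ R R) :
    Derivation ℤ (Polynomial R) (Polynomial R) :=
  (PolynomialModule.equivPolynomialSelf (R := R)).toLinearMap.compDer D.mapCoeffs

theorem polyDer_C (R : Type u) [CommRing R] (D : Derivation ℤ R R) (f : R) :
    polyDer R D (C f) = C (D f) := by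
  show PolynomialModule.equivPolynomialSelf (D.mapCoeffs (C f)) = _
  rw [Derivation.mapCoeffs_C, PolynomialModule.equivPolynomialSelf_apply_eq,
    PolynomialModule.equivPolynomial_single, monomial_zero_left]

theorem polyDer_map_int (R : Type u) [CommRing R] (D : Derivation ℤ R R) (p : Polynomial ℤ) :
    polyDer R D (Polynomial.map (Int.castRingHom R) p) = 0 := by
  show PolynomialModule.equivPolynomialSelf (D.mapCoeffs (Polynomial.map (Int.castRingHom R) p)) = _
  have : D.mapCoeffs (Polynomial.map (Int.castRingHom R) p) = 0 := by
    ext i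
    rw [Derivation.mapCoeffs_apply, coeff_map]
    have : (Int.castRingHom R) (p.coeff i) = algebraMap ℤ R (p.coeff i) := rfl
    rw [this, Derivation.map_algebraMap]
    rfl
  rw [this, map_zero]

theorem isRegularRing_adjoin_root (R : Type u) [CommRing R]
    [IsRegularRing R] (f : R) (D : Derivation ℤ R R) (hD : IsUnit (D f)) (p : Polynomial ℤ) :
    IsRegularRing (Polynomial R ⧸
      Ideal.span ({Polynomial.map (Int.castRingHom R) p - Polynomial.C f} : Set (Polynomial R))) := by
  apply Groth.Agent.Lib.Helper14.RegDeriv.isRegularRing_quotient_of_derivation' ℤ (Polynomial R) _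
    (polyDer R D)
  rw [map_sub, polyDer_map_int, polyDer_C, zero_sub, map_neg]
  exact ((hD.map C).map _).neg

end Groth.Agent.Lib.Helper14.RegDerivPoly
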