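import Mathlib
import Groth.Prelude.Def_EGA4b
import Groth.Agent.Lib.Helper14.IadicFibresReg

set_option autoImplicit false
universe u

namespace Groth.Agent.Lib.Helper14.RegularHomLocal

open IsLocalRing TensorProduct Groth.Agent.Lib.Helper14.IadicFibresReg
  Groth.Agent.Lib.Helper14.FibreLocal

/-- a regular homomorphism `R → S` factoring through a localization `R'` of `R` gives a regular
homomorphism `R' → S`. -/
theorem isRegularHom_of_localization_base (R : Type u) [CommRing R] (M : Submonoid R)
    (R' : Type u) [CommRing R'] [Algebra R R'] [IsLocalization M R'] (S : Type u) [CommRing S]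
    [Algebra R S] [Algebra R' S] [IsScalarTower R R' S] (h : CAlg.IsRegularHom R S) :
    CAlg.IsRegularHom R' S := by
  haveI : Algebra.QuasiFinite R R' := Algebra.QuasiFinite.of_isLocalization (S := R) M
  have h1 := Groth.Agent.Lib.Helper26.RegularHom.isRegularHom_baseChange_of_quasiFinite R S R' h
  exact Groth.Agent.Lib.Helper26.RegularHom.isRegularHom_of_algEquiv
    (IsLocalization.algebraLid M R' S) h1

/-- regularity can be checked at the maximal ideals of the target. -/
theorem isRegularHom_of_forall_maximal (R Λ : Type u) [CommRing R] [CommRing Λ] [Algebra R Λ]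
    [IsNoetherianRing Λ]
    (h : ∀ (n : Ideal Λ) [n.IsMaximal], CAlg.IsRegularHom R (Localization.AtPrime n)) :
    CAlg.IsRegularHom R Λ := by
  have hflat : Module.Flat R Λ := by
    apply Module.flat_of_isLocalized_maximal Λ Λ (fun P _ => Localization.AtPrime P)
      (fun P _ => Algebra.linearMap Λ (Localization.AtPrime P))
    intro P hP
    exact (h P).1
  refine ⟨hflat, ?_⟩
  intro p hp
  haveI hN : IsNoetherianRing (p.Fiber Λ) :=
    Groth.Agent.Lib.Helper14.GeomReduced.isNoetherianRing_fiber R Λ p
  refine ⟨hN, ?_⟩
  intro K _ _ hfin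
  haveI : IsNoetherianRing (K ⊗[p.ResidueField] p.Fiber Λ) :=
    Groth.Agent.Lib.Helper14.GeomRegularSep.isNoetherianRing_tensor_finite p.ResidueField K _
  have key := fibre_local_to_global R Λ
    (fun X _ => IsRegularLocalRing X)
    (fun X Y _ _ e h => by
      haveI := h
      exact IsRegularLocalRing.of_ringEquiv e) p K
  rw [isRegularRing_iff]
  refine key ?_
  intro n hn
  haveI := ((h n).2 p).2 K hfin
  intro 𝔮 h𝔮
  exact IsRegularRing.isRegularLocalRing_localization 𝔮

theorem isRegularHom_local (R Λ : Type u) [CommRing R] [CommRing Λ] [Algebra R Λ]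
    [IsNoetherianRing Λ] (h : CAlg.IsRegularHom R Λ) (q : Ideal Λ) [q.IsPrime] :
    letI := (Localization.localRingHom (Ideal.comap (algebraMap R Λ) q) q
      (algebraMap R Λ) rfl).toAlgebra
    CAlg.IsRegularHom (Localization.AtPrime (Ideal.comap (algebraMap R Λ) q))
      (Localization.AtPrime q) := by
  haveI : q.LiesOver (Ideal.comap (algebraMap R Λ) q) := ⟨rfl⟩
  letI := Localization.AtPrime.algebraOfLiesOver (Ideal.comap (algebraMap R Λ) q) q
  have h1 : CAlg.IsRegularHom Λ (Localization.AtPrime q) :=
    isRegularHom_of_isLocalization Λ q.primeCompl _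
  have h2 : CAlg.IsRegularHom R (Localization.AtPrime q) :=
    Groth.Agent.S9294.result R Λ (Localization.AtPrime q) h h1
      (fun p _ => Groth.Agent.Lib.Helper14.GeomReduced.isNoetherianRing_fiber R _ p)
  exact isRegularHom_of_localization_base R (Ideal.comap (algebraMap R Λ) q).primeCompl _ _ h2

theorem isRegularHom_of_local_maximal (R Λ : Type u) [CommRing R] [CommRing Λ] [Algebra R Λ]
    [IsNoetherianRing Λ]
    (h : ∀ (n : Ideal Λ) [n.IsMaximal],
        letI := (Localization.localRingHom (Ideal.comap (algebraMap R Λ) n) n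
          (algebraMap R Λ) rfl).toAlgebra
        CAlg.IsRegularHom (Localization.AtPrime (Ideal.comap (algebraMap R Λ) n))
          (Localization.AtPrime n)) : CAlg.IsRegularHom R Λ := by
  apply isRegularHom_of_forall_maximal
  intro n hn
  haveI : n.LiesOver (Ideal.comap (algebraMap R Λ) n) := ⟨rfl⟩
  letI := Localization.AtPrime.algebraOfLiesOver (Ideal.comap (algebraMap R Λ) n) n
  have h1 : CAlg.IsRegularHom R (Localization.AtPrime (Ideal.comap (algebraMap R Λ) n)) :=
    isRegularHom_of_isLocalization R (Ideal.comap (algebraMap R Λ) n).primeCompl _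
  exact Groth.Agent.S9294.result R (Localization.AtPrime (Ideal.comap (algebraMap R Λ) n))
      (Localization.AtPrime n) h1 (h n)
      (fun p _ => Groth.Agent.Lib.Helper14.GeomReduced.isNoetherianRing_fiber R _ p)

end Groth.Agent.Lib.Helper14.RegularHomLocal
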