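import Mathlib
import Groth.Prelude.Def_EGA4b
import Groth.Agent.Lib.Helper14.RegularHomLocal

set_option autoImplicit false
universe u

namespace Groth.Agent.Lib.Helper14.RegHomAdic

open IsLocalRing TensorProduct Groth.Agent.Lib.Helper14.FibreLocal
  Groth.Agent.Lib.Helper14.FiniteDomain

/-- Local-to-global for local properties of the fibre rings, over the primes of `B`
lying over `p`. -/
theorem fibre_local_to_global_primes (A B : Type u) [CommRing A] [CommRing B] [Algebra A B]
    (P : ∀ (X : Type u) [CommRing X], Prop)
    (hP : ∀ (X Y : Type u) [CommRing X] [CommRing Y], (X ≃+* Y) → P X → P Y)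
    (p : Ideal A) [p.IsPrime] (K : Type u) [Field K] [Algebra p.ResidueField K]
    (h : ∀ (n : Ideal B) [n.IsPrime], n.comap (algebraMap A B) = p →
      AllLoc P (K ⊗[p.ResidueField] p.Fiber (Localization.AtPrime n))) :
    AllLoc P (K ⊗[p.ResidueField] p.Fiber B) := by
  letI : Algebra A K := ((algebraMap p.ResidueField K).comp (algebraMap A p.ResidueField)).toAlgebra
  haveI : IsScalarTower A p.ResidueField K := IsScalarTower.of_algebraMap_eq (fun _ => rfl)
  apply allLoc_of_ringEquiv P hP (fibEquiv A B p K).symm
  intro 𝔮 h𝔮
  let n : Ideal B := 𝔮.comap (algebraMap B (B ⊗[A] K))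
  haveI hn : n.IsPrime := Ideal.comap_isPrime _ _
  have hnp : n.comap (algebraMap A B) = p := by
    ext a
    simp only [n, Ideal.mem_comap]
    have e1 : algebraMap B (B ⊗[A] K) (algebraMap A B a) =
        (Algebra.TensorProduct.includeRight : K →ₐ[A] B ⊗[A] K) (algebraMap A K a) := by
      rw [← IsScalarTower.algebraMap_apply, AlgHom.commutes]
    rw [e1]
    constructor
    · intro ha
      by_contra hap
      have hu : IsUnit (algebraMap A K a) := by
        rw [isUnit_iff_ne_zero]
        intro h0
        have : algebraMap A K a = algebraMap p.ResidueField K (algebraMap A p.ResidueField a) := rfl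
        rw [this, map_eq_zero, Ideal.algebraMap_residueField_eq_zero] at h0
        exact hap h0
      exact h𝔮.ne_top (Ideal.eq_top_of_isUnit_mem _ ha (hu.map _))
    · intro ha
      have : algebraMap A K a = 0 := by
        have : algebraMap A K a = algebraMap p.ResidueField K (algebraMap A p.ResidueField a) := rfl
        rw [this, (Ideal.algebraMap_residueField_eq_zero).mpr ha, map_zero]
      rw [this, map_zero]
      exact 𝔮.zero_mem
  have hS : AllLoc P ((B ⊗[A] K) ⊗[B] Localization.AtPrime n) :=
    allLoc_of_ringEquiv P hP (locEquiv A B p K (Localization.AtPrime n)) (h n hnp)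
  have hdisj : Disjoint
      ((Algebra.algebraMapSubmonoid (B ⊗[A] K) n.primeCompl : Submonoid (B ⊗[A] K)) :
        Set (B ⊗[A] K)) (𝔮 : Set (B ⊗[A] K)) := by
    rw [Set.disjoint_left]
    rintro _ ⟨b, hb, rfl⟩ hx
    exact hb hx
  exact (forall_localization_iff (Algebra.algebraMapSubmonoid (B ⊗[A] K) n.primeCompl)
    ((B ⊗[A] K) ⊗[B] Localization.AtPrime n) P hP).mp hS 𝔮 hdisj

theorem isRegularRing_fiber_of_closedFibre (A : Type u) [CommRing A] (p : Ideal A) [p.IsPrime]
    (B' : Type u) [CommRing B'] [Algebra A B'] [Algebra (Localization.AtPrime p) B']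
    [IsScalarTower A (Localization.AtPrime p) B']
    (K : Type u) [Field K] [Algebra p.ResidueField K] [Module.Finite p.ResidueField K]
    (h : CAlg.IsGeometricallyRegular (maximalIdeal (Localization.AtPrime p)).ResidueField
      ((maximalIdeal (Localization.AtPrime p)).Fiber B')) :
    IsRegularRing (K ⊗[p.ResidueField] p.Fiber B') := by
  set A' := Localization.AtPrime p with hA'
  set m := maximalIdeal A' with hm
  have hsurj : Function.Surjective (algebraMap A' m.ResidueField) :=
    Ideal.algebraMap_residueField_surjective m
  have hker : RingHom.ker (algebraMap A' m.ResidueField) = m :=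
    Ideal.ker_algebraMap_residueField m
  let ψ : m.ResidueField →+* p.ResidueField :=
    RingHom.liftOfSurjective (algebraMap A' m.ResidueField) hsurj
      ⟨IsLocalRing.residue A', by rw [hker]; intro x hx; exact (IsLocalRing.residue_eq_zero_iff x).mpr hx⟩
  have hψ : ψ.comp (algebraMap A' m.ResidueField) = IsLocalRing.residue A' :=
    RingHom.liftOfSurjective_comp _ hsurj _
  have hψs : Function.Surjective ψ := by
    intro x
    obtain ⟨a, rfl⟩ := IsLocalRing.residue_surjective x
    exact ⟨algebraMap A' m.ResidueField a, by rw [← RingHom.comp_apply, hψ]⟩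
  letI : Algebra m.ResidueField p.ResidueField := ψ.toAlgebra
  letI : Algebra m.ResidueField K := ((algebraMap p.ResidueField K).comp ψ).toAlgebra
  haveI : IsScalarTower m.ResidueField p.ResidueField K := IsScalarTower.of_algebraMap_eq (fun _ => rfl)
  haveI : Module.Finite m.ResidueField p.ResidueField :=
    Module.Finite.of_surjective (Algebra.linearMap m.ResidueField p.ResidueField) hψs
  haveI : Module.Finite m.ResidueField K := Module.Finite.trans p.ResidueField K
  haveI hreg : IsRegularRing (K ⊗[m.ResidueField] m.Fiber B') := h K inferInstance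
  letI : Algebra A' K := ((algebraMap p.ResidueField K).comp (algebraMap A' p.ResidueField)).toAlgebra
  haveI : IsScalarTower A' p.ResidueField K := IsScalarTower.of_algebraMap_eq (fun _ => rfl)
  haveI : IsScalarTower A' m.ResidueField K := IsScalarTower.of_algebraMap_eq (fun a => by
    change algebraMap p.ResidueField K (algebraMap A' p.ResidueField a) =
      algebraMap p.ResidueField K (ψ (algebraMap A' m.ResidueField a))
    rw [← RingHom.comp_apply ψ, hψ]; rfl)
  letI : Algebra A K := ((algebraMap p.ResidueField K).comp (algebraMap A p.ResidueField)).toAlgebra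
  haveI : IsScalarTower A p.ResidueField K := IsScalarTower.of_algebraMap_eq (fun _ => rfl)
  haveI : IsScalarTower A A' K := IsScalarTower.of_algebraMap_eq (fun a => by
    change algebraMap p.ResidueField K (algebraMap A p.ResidueField a) =
      algebraMap p.ResidueField K (algebraMap A' p.ResidueField (algebraMap A A' a))
    rw [← IsScalarTower.algebraMap_apply A A' p.ResidueField])
  -- chain of ring isomorphisms
  let e1 : K ⊗[m.ResidueField] m.Fiber B' ≃+* K ⊗[A'] B' :=
    (Algebra.TensorProduct.cancelBaseChange A' m.ResidueField m.ResidueField K B').toRingEquiv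
  let e2 : K ⊗[A'] B' ≃+* K ⊗[A] B' :=
    (IsLocalization.algebraTensorEquiv p.primeCompl A' K B').toRingEquiv
  let e3 : K ⊗[p.ResidueField] p.Fiber B' ≃+* K ⊗[A] B' :=
    (Algebra.TensorProduct.cancelBaseChange A p.ResidueField p.ResidueField K B').toRingEquiv
  exact IsRegularRing.of_ringEquiv (R := K ⊗[m.ResidueField] m.Fiber B') ((e1.trans e2).trans e3.symm)

end Groth.Agent.Lib.Helper14.RegHomAdic
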