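import Mathlib
import Groth.Agent.S0611
import Groth.Agent.S5802
import Groth.Agent.Lib.Helper6.QuasiRegBasis

/-!
# Connecting regular sequences generating the same ideal by elementary steps (helper14)
-/

set_option autoImplicit false
universe u
open RingTheory.Sequence

namespace Groth.Agent.Lib.Helper14.RegSeqChain

variable {A : Type u} [CommRing A]

/-- An elementary step between two lists: a permutation or a change of the last element. -/
def Step (w w' : List A) : Prop :=
  w.Perm w' ∨ (w.length = w'.length ∧ w.dropLast = w'.dropLast)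

/-- The relation used for chains: an elementary step ending in a good list. -/
def R (Good : List A → Prop) (l l' : List A) : Prop := Good l' ∧ Step l l'

section Fn

variable {n : ℕ}

lemma span_list_ofFn (w : Fin n → A) :
    Ideal.span {x | x ∈ List.ofFn w} = Ideal.span (Set.range w) := by
  congr 1
  ext x
  simp [List.mem_ofFn]

lemma step_perm (w : Fin n → A) (σ : Equiv.Perm (Fin n)) :
    Step (List.ofFn w) (List.ofFn (w ∘ σ)) :=
  Or.inl (σ.ofFn_comp_perm w).symm

lemma step_last {m : ℕ} (w w' : Fin (m + 1) → A)
    (h : ∀ i : Fin m, w i.castSucc = w' i.castSucc) : Step (List.ofFn w) (List.ofFn w') := by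
  right
  refine ⟨by simp, ?_⟩
  rw [List.ofFn_succ' w, List.ofFn_succ' w', List.concat_eq_append, List.concat_eq_append,
    List.dropLast_concat, List.dropLast_concat]
  congr 1
  funext i
  exact h i

lemma span_range_comp_perm (w : Fin n → A) (σ : Equiv.Perm (Fin n)) :
    Ideal.span (Set.range (w ∘ σ)) = Ideal.span (Set.range w) := by
  rw [σ.surjective.range_comp]

lemma rtg_replace {m : ℕ} {I : Ideal A} (Good : List A → Prop)
    (hG : ∀ w : Fin (m + 1) → A, Ideal.span (Set.range w) = I → Good (List.ofFn w))
    (w : Fin (m + 1) → A) (hw : Ideal.span (Set.range w) = I) (j : Fin (m + 1)) (x : A)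
    (hwx : Ideal.span (Set.range (Function.update w j x)) = I) :
    Relation.ReflTransGen (R Good) (List.ofFn w) (List.ofFn (Function.update w j x)) := by
  classical
  set s : Equiv.Perm (Fin (m + 1)) := Equiv.swap j (Fin.last m) with hs
  set w1 : Fin (m + 1) → A := w ∘ s with hw1
  set w2 : Fin (m + 1) → A := Function.update w1 (Fin.last m) x with hw2
  have h23 : w2 ∘ s = Function.update w j x := by
    funext i
    simp only [Function.comp_apply, hw2, hw1, hs, Function.update_apply]
    by_cases hij : i = j
    · subst hij
      simp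
    · have h1 : Equiv.swap j (Fin.last m) i ≠ Fin.last m := by
        intro h
        apply hij
        have := congrArg (Equiv.swap j (Fin.last m)) h
        simpa using this
      simp [h1, hij]
  have hg1 : Ideal.span (Set.range w1) = I := by
    rw [hw1, span_range_comp_perm w s]; exact hw
  have hg2 : Ideal.span (Set.range w2) = I := by
    rw [← span_range_comp_perm w2 s, h23]; exact hwx
  have r1 : R Good (List.ofFn w) (List.ofFn w1) := ⟨hG w1 hg1, step_perm w s⟩
  have r2 : R Good (List.ofFn w1) (List.ofFn w2) := by
    refine ⟨hG w2 hg2, step_last w1 w2 ?_⟩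
    intro i
    rw [hw2, Function.update_of_ne (Fin.castSucc_lt_last i).ne]
  have r3 : R Good (List.ofFn w2) (List.ofFn (Function.update w j x)) := by
    rw [← h23]
    exact ⟨hG _ (by rw [h23]; exact hwx), step_perm w2 s⟩
  exact ((Relation.ReflTransGen.single r1).tail r2).tail r3

/-- The exchange lemma. -/
lemma exch [IsLocalRing A] {I : Ideal A} (hI : I ≠ ⊤) (w v : Fin n → A)
    (hw : Ideal.span (Set.range w) = I) (hv : Ideal.span (Set.range v) = I)
    (hqv : CAlgX.IsQuasiRegular v) (t : Fin n) (hwt : ∀ i, i < t → w i = v i) :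
    ∃ j, t ≤ j ∧ Ideal.span (Set.range (Function.update w j (v t))) = I := by
  classical
  have hIm : I ≤ IsLocalRing.maximalIdeal A := IsLocalRing.le_maximalIdeal hI
  have hvI : ∀ i, v i ∈ I := fun i => hv ▸ Ideal.subset_span ⟨i, rfl⟩
  have hwI : ∀ i, w i ∈ I := fun i => hw ▸ Ideal.subset_span ⟨i, rfl⟩
  have hvt : v t ∈ Ideal.span (Set.range w) := hw ▸ hvI t
  obtain ⟨c, hc⟩ := Ideal.mem_span_range_iff_exists_fun.mp hvt
  by_cases h : ∃ j, t ≤ j ∧ IsUnit (c j)
  · obtain ⟨j, htj, hunit⟩ := h
    refine ⟨j, htj, le_antisymm ?_ ?_⟩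
    · rw [Ideal.span_le]
      rintro _ ⟨i, rfl⟩
      by_cases hij : i = j
      · subst hij; simpa using hvI t
      · simpa [Function.update_of_ne hij] using hwI i
    · rw [← hw, Ideal.span_le]
      set J := Ideal.span (Set.range (Function.update w j (v t))) with hJ
      have h1 : ∀ i, i ≠ j → w i ∈ J := by
        intro i hij
        have : Function.update w j (v t) i ∈ J := Ideal.subset_span ⟨i, rfl⟩
        rwa [Function.update_of_ne hij] at this
      have h2 : v t ∈ J := by
        have : Function.update w j (v t) j ∈ J := Ideal.subset_span ⟨j, rfl⟩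
        rwa [Function.update_self] at this
      have h3 : c j * w j ∈ J := by
        have hsum := Finset.add_sum_erase Finset.univ (fun i => c i * w i) (Finset.mem_univ j)
        have : c j * w j = v t - ∑ i ∈ Finset.univ.erase j, c i * w i := by
          rw [← hc, ← hsum]; ring
        rw [this]
        exact J.sub_mem h2 (J.sum_mem fun i hi =>
          J.mul_mem_left _ (h1 i (Finset.ne_of_mem_erase hi)))
      rintro _ ⟨i, rfl⟩
      by_cases hij : i = j
      · subst hij
        obtain ⟨uu, huu⟩ := hunit
        have : w i = ↑uu⁻¹ * (c i * w i) := by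
          rw [← huu, ← mul_assoc, Units.inv_mul, one_mul]
        rw [this]
        exact J.mul_mem_left _ h3
      · exact h1 i hij
  · exfalso
    push_neg at h
    have hcm : ∀ j, t ≤ j → c j ∈ IsLocalRing.maximalIdeal A := fun j hj =>
      (IsLocalRing.mem_maximalIdeal _).mpr (h j hj)
    set S1 : A := ∑ k, (if k < t then c k * w k else 0) with hS1
    set S2 : A := ∑ k, (if t ≤ k then c k * w k else 0) with hS2
    have hsplit : v t = S1 + S2 := by
      rw [← hc, hS1, hS2, ← Finset.sum_add_distrib]
      apply Finset.sum_congr rfl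
      intro k _
      by_cases hk : k < t
      · simp [hk, not_le.mpr hk]
      · simp [hk, not_lt.mp hk]
    have hS2mem : S2 ∈ IsLocalRing.maximalIdeal A • Submodule.span A (Set.range v) := by
      rw [hS2]
      refine Submodule.sum_mem _ fun k _ => ?_
      split_ifs with hk
      · have h1 : w k ∈ Submodule.span A (Set.range v) := by
          have := hwI k
          rw [← hv] at this
          exact this
        have := Submodule.smul_mem_smul (hcm k hk) h1
        simpa [smul_eq_mul] using this
      · exact zero_mem _
    obtain ⟨a, ha, hsum⟩ := (Submodule.mem_ideal_smul_span_iff_exists_sum _ v S2).mp hS2mem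
    rw [Finsupp.sum_fintype _ _ (fun i => by simp)] at hsum
    simp only [smul_eq_mul] at hsum
    set b : Fin n → A := fun k => (if k = t then 1 else 0) - (if k < t then c k else 0) - a k
      with hb
    have h0 : ∑ k, b k * v k = 0 := by
      have e1 : ∑ k, (if k = t then (1 : A) else 0) * v k = v t := by
        simp [ite_mul]
      have e2 : ∑ k, (if k < t then c k else 0) * v k = S1 := by
        rw [hS1]
        apply Finset.sum_congr rfl
        intro k _
        split_ifs with hk
        · rw [hwt k hk]
        · simp
      simp only [hb, sub_mul, Finset.sum_sub_distrib]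
      rw [e1, e2, hsum, hsplit]
      ring
    have hbt := Groth.Agent.Lib.Helper6.QuasiRegBasis.coeff_mem_of_sum_mem_sq v hqv b
      (by rw [h0]; exact zero_mem _) t
    rw [hv] at hbt
    have hbt' : b t = 1 - a t := by simp [hb]
    have h1m : (1 : A) ∈ IsLocalRing.maximalIdeal A := by
      have : (1 : A) = b t + a t := by rw [hbt']; ring
      rw [this]
      exact Ideal.add_mem _ (hIm hbt) (ha t)
    exact (Ideal.ne_top_iff_one _).mp (IsLocalRing.maximalIdeal.isMaximal A).ne_top h1m

/-- Any two generating tuples are connected by elementary steps through generating tuples. -/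
theorem rtg_of_gen [IsLocalRing A] {I : Ideal A} (hI : I ≠ ⊤) (Good : List A → Prop)
    (hG : ∀ w : Fin n → A, Ideal.span (Set.range w) = I → Good (List.ofFn w))
    (hQ : ∀ w : Fin n → A, Ideal.span (Set.range w) = I → CAlgX.IsQuasiRegular w)
    (v : Fin n → A) (hv : Ideal.span (Set.range v) = I) :
    ∀ (s t : ℕ), t + s = n → ∀ w : Fin n → A, Ideal.span (Set.range w) = I →
      (∀ i : Fin n, i.val < t → w i = v i) →
      Relation.ReflTransGen (R Good) (List.ofFn w) (List.ofFn v) := by
  classical
  intro s
  induction s with
  | zero =>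
    intro t ht w _ hwv
    have : w = v := by
      funext i
      exact hwv i (by have := i.isLt; omega)
    rw [this]
  | succ s ih =>
    intro t ht w hw hwv
    obtain ⟨m, rfl⟩ : ∃ m, n = m + 1 := ⟨n - 1, by omega⟩
    set t' : Fin (m + 1) := ⟨t, by omega⟩ with ht'
    obtain ⟨j, htj, hj⟩ := exch hI w v hw hv (hQ v hv) t' (fun i hi => hwv i hi)
    set w2 := Function.update w j (v t') with hw2
    have r1 : Relation.ReflTransGen (R Good) (List.ofFn w) (List.ofFn w2) :=
      rtg_replace Good hG w hw j (v t') hj
    set w3 := w2 ∘ Equiv.swap j t' with hw3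
    have hg3 : Ideal.span (Set.range w3) = I := by
      rw [hw3, span_range_comp_perm]; exact hj
    have r2 : R Good (List.ofFn w2) (List.ofFn w3) := ⟨hG w3 hg3, step_perm w2 _⟩
    have r3 := ih (t + 1) (by omega) w3 hg3 (by
      intro i hi
      rcases Nat.lt_succ_iff_lt_or_eq.mp hi with hlt | heq
      · have hij : i ≠ j := by
          intro h
          rw [h] at hlt
          have : t ≤ j.val := htj
          omega
        have hit : i ≠ t' := by
          intro h
          rw [h] at hlt
          simp [ht'] at hlt
        rw [hw3, Function.comp_apply, Equiv.swap_apply_of_ne_of_ne hij hit, hw2,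
          Function.update_of_ne hij]
        exact hwv i hlt
      · have hit : i = t' := Fin.ext heq
        rw [hit, hw3, Function.comp_apply, Equiv.swap_apply_right, hw2, Function.update_self])
    exact (r1.tail r2).trans r3

end Fn

section Main

variable [IsLocalRing A] [IsNoetherianRing A]

lemma ofList_eq (u : List A) : Ideal.ofList u = Ideal.span {x | x ∈ u} := rfl

lemma span_ne_top {u : List A} (hu : IsRegular A u) : Ideal.span {x | x ∈ u} ≠ ⊤ := by
  intro h
  apply hu.top_ne_smul
  rw [ofList_eq, h, smul_eq_mul, Ideal.mul_top]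

lemma span_range_get (u : List A) : Ideal.span (Set.range u.get) = Ideal.span {x | x ∈ u} := by
  rw [← span_list_ofFn, List.ofFn_get]

/-- A basis of the conormal module from a regular sequence. -/
noncomputable def conormalBasis (u : List A) (hu : IsRegular A u) :
    Module.Basis (Fin u.length) (A ⧸ Ideal.span {x | x ∈ u})
      (Ideal.span {x | x ∈ u}).Cotangent := by
  set I := Ideal.span {x | x ∈ u} with hI
  have hmem : ∀ i, u.get i ∈ I := fun i => Ideal.subset_span (List.get_mem u i)
  have hq : CAlgX.IsQuasiRegular (fun i => u.get i) :=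
    Groth.Agent.S5802.result A _ u.get (by rw [List.ofFn_get]; exact hu.toIsWeaklyRegular)
  have h := Groth.Agent.Lib.Helper6.QuasiRegBasis.basis_of_quasiRegular I
    (fun i => (⟨u.get i, hmem i⟩ : I)) hq (span_range_get u)
  exact Module.Basis.mk h.1 h.2.ge

theorem length_eq (u v : List A) (hu : IsRegular A u) (hv : IsRegular A v)
    (huv : Ideal.span {x | x ∈ u} = Ideal.span {x | x ∈ v}) : u.length = v.length := by
  haveI : Nontrivial (A ⧸ Ideal.span {x | x ∈ u}) :=
    Ideal.Quotient.nontrivial_iff.mpr (span_ne_top hu)
  have b1 := conormalBasis u hu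
  have b2 := conormalBasis v hv
  rw [← huv] at b2
  have := Fintype.card_eq.mpr ⟨b1.indexEquiv b2⟩
  simpa using this

theorem main (u v : List A) (hu : IsRegular A u) (hv : IsRegular A v)
    (huv : Ideal.span {x | x ∈ u} = Ideal.span {x | x ∈ v}) :
    ∃ ws : List (List A), ws.head? = some u ∧ ws.getLast? = some v ∧
      (∀ w ∈ ws, IsRegular A w ∧ Ideal.span {x | x ∈ w} = Ideal.span {x | x ∈ u}) ∧
      List.IsChain (fun w w' : List A => w.Perm w' ∨
        (w.length = w'.length ∧ w.dropLast = w'.dropLast)) ws := by
  classical
  set I := Ideal.span {x | x ∈ u} with hIdef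
  have hI : I ≠ ⊤ := span_ne_top hu
  have hn : u.length = v.length := length_eq u v hu hv huv
  set fu : Fin u.length → A := u.get with hfu
  set fv : Fin u.length → A := fun i => v.get (Fin.cast hn i) with hfv
  have hLu : List.ofFn fu = u := List.ofFn_get u
  have hLv : List.ofFn fv = v := by
    rw [hfv, ← List.ofFn_congr hn.symm v.get, List.ofFn_get]
  have hgu : Ideal.span (Set.range fu) = I := span_range_get u
  have hgv : Ideal.span (Set.range fv) = I := by
    rw [← span_list_ofFn, hLv, ← huv]
  let Good : List A → Prop := fun w => IsRegular A w ∧ Ideal.span {x | x ∈ w} = I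
  have hreg : ∀ w : Fin u.length → A, Ideal.span (Set.range w) = I →
      IsRegular A (List.ofFn w) := fun w hw =>
    Groth.Agent.S0611.result fu w (by rw [hLu]; exact hu) (by rw [hgu, hw])
  have hG : ∀ w : Fin u.length → A, Ideal.span (Set.range w) = I → Good (List.ofFn w) :=
    fun w hw => ⟨hreg w hw, by rw [span_list_ofFn, hw]⟩
  have hQ : ∀ w : Fin u.length → A, Ideal.span (Set.range w) = I → CAlgX.IsQuasiRegular w :=
    fun w hw => Groth.Agent.S5802.result A _ w (hreg w hw).toIsWeaklyRegular
  have hrtg := rtg_of_gen hI Good hG hQ fv hgv u.length 0 (by simp) fu hgu (by simp)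
  rw [hLu, hLv] at hrtg
  obtain ⟨l, hchain, hlast⟩ := List.exists_isChain_cons_of_relationReflTransGen hrtg
  refine ⟨u :: l, rfl, ?_, ?_, ?_⟩
  · rw [List.getLast?_eq_some_getLast (List.cons_ne_nil _ _), hlast]
  · exact List.IsChain.induction Good (u :: l) hchain (fun x y h _ => h.1)
      (fun _ => ⟨hu, rfl⟩)
  · exact hchain.imp (fun _ _ h => h.2)

end Main

end Groth.Agent.Lib.Helper14.RegSeqChain
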