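import Mathlib
import Groth.Agent.Lib.Helper4.RegCM

/-!
# Ideals of a regular local ring generated by a regular sequence: the numerical criterion
-/

set_option autoImplicit false
universe u

namespace Groth.Agent.Lib.Helper14.RegSeqCot

open IsLocalRing RingTheory.Sequence

variable {R : Type u} [CommRing R]

/-- The cotangent module of an ideal generated by a list is generated by that many elements. -/
lemma spanFinrank_cotangent_le (rs : List R) :
    (⊤ : Submodule (R ⧸ Ideal.ofList rs) (Ideal.ofList rs).Cotangent).spanFinrank ≤ rs.length := by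
  classical
  set I := Ideal.ofList rs with hI
  have hmem : ∀ i : Fin rs.length, rs.get i ∈ I := fun i =>
    Ideal.subset_span (List.get_mem rs i)
  let g : Fin rs.length → I := fun i => ⟨rs.get i, hmem i⟩
  have hspanI : Submodule.span R (Set.range g) = ⊤ := by
    rw [eq_top_iff]
    rintro ⟨a, ha⟩ -
    have h1 : a ∈ Submodule.map I.subtype (Submodule.span R (Set.range g)) := by
      rw [Submodule.map_span, ← Set.range_comp]
      have h2 : Set.range (I.subtype ∘ g) = {r | r ∈ rs} := by
        ext r
        simp only [Set.mem_range, Function.comp_apply, Set.mem_setOf_eq]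
        constructor
        · rintro ⟨i, rfl⟩; exact List.get_mem rs i
        · intro hr
          obtain ⟨i, hi⟩ := List.get_of_mem hr
          exact ⟨i, hi⟩
      rw [h2]
      exact ha
    obtain ⟨y, hy, hya⟩ := h1
    have : y = ⟨a, ha⟩ := Subtype.ext hya
    rwa [this] at hy
  have hspanC : Submodule.span R (Set.range (I.toCotangent ∘ g)) = ⊤ := by
    rw [Set.range_comp, ← Submodule.map_span, hspanI, Submodule.map_top, Ideal.toCotangent_range]
  have hspanC' : Submodule.span (R ⧸ I) (Set.range (I.toCotangent ∘ g)) = ⊤ := by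
    rw [eq_top_iff]
    intro x _
    have h1 : x ∈ Submodule.span R (Set.range (I.toCotangent ∘ g)) := by rw [hspanC]; trivial
    exact Submodule.span_le_restrictScalars R (R ⧸ I) _ h1
  rw [← hspanC']
  refine (Submodule.spanFinrank_span_le_ncard_of_finite (Set.finite_range _)).trans ?_
  rw [← Set.image_univ]
  exact (Set.ncard_image_le Set.finite_univ).trans (by rw [Set.ncard_univ, Nat.card_fin])

/-- Generators of the cotangent module lift to generators of the ideal. -/
lemma exists_list_of_spanFinrank [IsLocalRing R] [IsNoetherianRing R] (I : Ideal R) (hI : I ≠ ⊤) :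
    ∃ xs : List R, Ideal.ofList xs = I ∧
      xs.length = (⊤ : Submodule (R ⧸ I) I.Cotangent).spanFinrank := by
  classical
  haveI : Module.Finite R I := Module.Finite.iff_fg.2 (IsNoetherian.noetherian I)
  haveI : Module.Finite R I.Cotangent := Module.Finite.of_surjective _ I.toCotangent_surjective
  haveI : Module.Finite (R ⧸ I) I.Cotangent := Module.Finite.of_restrictScalars_finite R _ _
  obtain ⟨s, hscard, hsspan⟩ := Submodule.FG.exists_span_finset_card_eq_spanFinrank
    (Module.finite_def.1 (inferInstance : Module.Finite (R ⧸ I) I.Cotangent))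
  choose lift hlift using fun c : I.Cotangent => I.toCotangent_surjective c
  refine ⟨s.toList.map (fun c => (lift c : R)), ?_, ?_⟩
  · set xs := s.toList.map (fun c => (lift c : R)) with hxs
    have hle : Ideal.ofList xs ≤ I := by
      refine Ideal.span_le.2 ?_
      intro r hr
      obtain ⟨c, _, rfl⟩ := List.mem_map.1 hr
      exact (lift c).2
    refine le_antisymm hle ?_
    have hIm : I ≤ maximalIdeal R := IsLocalRing.le_maximalIdeal hI
    refine Submodule.le_of_le_smul_of_le_jacobson_bot (I := I) (N := Ideal.ofList xs) (N' := I)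
      (IsNoetherian.noetherian I) (hIm.trans (IsLocalRing.maximalIdeal_le_jacobson _)) ?_
    intro a ha
    -- the class of `a` is a combination of the classes of the lifts
    have h1 : I.toCotangent ⟨a, ha⟩ ∈ Submodule.span R (s : Set I.Cotangent) := by
      rw [← Submodule.restrictScalars_span R (R ⧸ I) Ideal.Quotient.mk_surjective, hsspan]
      trivial
    have h2 : (s : Set I.Cotangent) = I.toCotangent '' (lift '' (s : Set I.Cotangent)) := by
      rw [← Set.image_comp]
      ext c
      simp only [Set.mem_image, Function.comp_apply, hlift]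
      simp
    rw [h2, ← Submodule.map_span] at h1
    obtain ⟨n, hn, hna⟩ := h1
    have h3 : ((⟨a, ha⟩ : I) - n : I) ∈ LinearMap.ker I.toCotangent := by
      rw [LinearMap.mem_ker, map_sub, hna, sub_self]
    rw [Ideal.mem_toCotangent_ker] at h3
    have h4 : (n : R) ∈ Ideal.ofList xs := by
      have h5 : Submodule.map I.subtype (Submodule.span R (lift '' (s : Set I.Cotangent))) ≤
          Ideal.ofList xs := by
        rw [Submodule.map_span, ← Set.image_comp]
        refine Submodule.span_le.2 ?_
        rintro _ ⟨c, hc, rfl⟩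
        refine Ideal.subset_span ?_
        exact List.mem_map.2 ⟨c, Finset.mem_toList.2 hc, rfl⟩
      exact h5 ⟨n, hn, rfl⟩
    have h6 : a = (n : R) + (a - n) := by ring
    rw [h6]
    refine Submodule.add_mem_sup h4 ?_
    have h7 : (a - (n : R)) ∈ I ^ 2 := h3
    rw [pow_two] at h7
    exact h7
  · rw [List.length_map, Finset.length_toList, hscard]


lemma exists_nat_of_le_of_nonneg {x : WithBot ℕ∞} {d : ℕ} (h1 : x ≤ d) (h0 : 0 ≤ x) :
    ∃ e : ℕ, x = e := by
  induction x using WithBot.recBotCoe with
  | bot => exact absurd h0 (by simp)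
  | coe a =>
    have h1' : a ≤ (d : ℕ∞) := by exact_mod_cast h1
    obtain ⟨n, rfl⟩ := ENat.ne_top_iff_exists.mp (ne_top_of_le_ne_top (ENat.natCast_ne_top d) h1')
    exact ⟨n, rfl⟩

theorem main [IsRegularLocalRing R] (I : Ideal R) (hI : I ≠ ⊤) :
    (∃ rs : List R, Ideal.ofList rs = I ∧ IsRegular R rs) ↔
      (((⊤ : Submodule (R ⧸ I) I.Cotangent).spanFinrank : WithBot ℕ∞) + ringKrullDim (R ⧸ I)
        ≤ ringKrullDim R) := by
  constructor
  · rintro ⟨rs, rfl, hreg⟩
    have h1 := ringKrullDim_add_length_eq_ringKrullDim_of_isRegular rs hreg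
    rw [← h1, add_comm]
    have h2 := spanFinrank_cotangent_le rs
    gcongr
  · intro h
    obtain ⟨xs, hxs, hlen⟩ := exists_list_of_spanFinrank I hI
    refine ⟨xs, hxs, ?_⟩
    haveI : Nontrivial (R ⧸ I) := Ideal.Quotient.nontrivial_iff.2 hI
    have hIm : I ≤ maximalIdeal R := IsLocalRing.le_maximalIdeal hI
    have hmem : ∀ x ∈ xs, x ∈ maximalIdeal R := by
      intro x hx
      apply hIm
      rw [← hxs]
      exact Ideal.subset_span hx
    obtain ⟨d, hd⟩ := Groth.Agent.Lib.Helper4.RegCM.exists_nat_ringKrullDim R
    obtain ⟨e, he⟩ := exists_nat_of_le_of_nonneg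
      (by rw [← hd]; exact ringKrullDim_quotient_le I) (ringKrullDim_nonneg_of_nontrivial (R := R ⧸ I))
    have eq : Ideal.ofList xs = Ideal.ofList xs • (⊤ : Ideal R) := by simp
    have hconv : Module.supportDim R (R ⧸ Ideal.ofList xs • (⊤ : Submodule R R)) =
        ringKrullDim (R ⧸ I) := by
      rw [Module.supportDim_quotient_eq_ringKrullDim,
        ← ringKrullDim_eq_of_ringEquiv (Ideal.quotientEquivAlgOfEq R eq).toRingEquiv, hxs]
    have hkrull := Groth.Agent.Lib.Helper4.supportDim_le_supportDim_quot_ofList_add_length
      (R := R) (M := R) xs hmem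
    rw [hconv, Module.supportDim_self_eq_ringKrullDim, hd, he] at hkrull
    rw [hd, he, ← hlen] at h
    have h1 : xs.length + e ≤ d := by exact_mod_cast h
    have h2 : d ≤ e + xs.length := by exact_mod_cast hkrull
    have hdim : Module.supportDim R (R ⧸ Ideal.ofList xs • (⊤ : Submodule R R)) + xs.length =
        Module.supportDim R R := by
      rw [hconv, Module.supportDim_self_eq_ringKrullDim, hd, he]
      have : e + xs.length = d := by omega
      exact_mod_cast this
    have hw := Groth.Agent.Lib.Helper4.cm_isWeaklyRegular_of_supportDim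
      (Groth.Agent.Lib.Helper4.RegCM.isCohenMacaulayModule_self R) xs hmem hdim
    exact IsRegular.of_isWeaklyRegular_of_mem_maximalIdeal R hmem hw

end Groth.Agent.Lib.Helper14.RegSeqCot
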