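import Mathlib

/-!
# (A) for S19496: the scheme-theoretic fibre over `V(m)` is proper over `A/m`
-/

set_option autoImplicit false
set_option linter.style.haveILetI false
universe u
open CategoryTheory CategoryTheory.Limits AlgebraicGeometry

namespace Groth.Agent.Lib.Helper14.RelNefA

/-- the ideal sheaf of the scheme-theoretic fibre of `f` over the closed subscheme `V(m)`
(same body as helper23's `fibIdeal`). -/
noncomputable def fibIdeal {A : Type u} [CommRing A] {X : Scheme.{u}}
    (f : X ⟶ Spec (CommRingCat.of A)) (m : Ideal A) : X.IdealSheafData :=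
  (Spec.map (CommRingCat.ofHom (Ideal.Quotient.mk m))).ker.comap f

/-- (A), with the body of `fibIdeal` unfolded. -/
theorem A_exists_structure' {A : Type u} [CommRing A] {X : Scheme.{u}}
    (f : X ⟶ Spec (CommRingCat.of A)) [IsProper f] (m : Ideal A) :
    ∃ t : ((Spec.map (CommRingCat.ofHom (Ideal.Quotient.mk m))).ker.comap f).subscheme ⟶
        Spec (CommRingCat.of (A ⧸ m)),
      t ≫ Spec.map (CommRingCat.ofHom (Ideal.Quotient.mk m)) =
        ((Spec.map (CommRingCat.ofHom (Ideal.Quotient.mk m))).ker.comap f).subschemeι ≫ f ∧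
        IsProper t := by
  set π := Spec.map (CommRingCat.ofHom (Ideal.Quotient.mk m)) with hπ
  haveI : IsClosedImmersion π :=
    IsClosedImmersion.spec_of_surjective _ Ideal.Quotient.mk_surjective
  set J := π.ker.comap f with hJ
  have H : π.ker ≤ (J.subschemeι ≫ f).ker := by
    rw [← Scheme.IdealSheafData.map_ker, Scheme.IdealSheafData.ker_subschemeι]
    exact Scheme.IdealSheafData.le_map_comap _ _
  refine ⟨IsClosedImmersion.lift π (J.subschemeι ≫ f) H, IsClosedImmersion.lift_fac _ _ _, ?_⟩
  have hcomp : IsProper (IsClosedImmersion.lift π (J.subschemeι ≫ f) H ≫ π) := by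
    rw [IsClosedImmersion.lift_fac]
    infer_instance
  exact MorphismProperty.of_postcomp (W := @IsProper) (W' := @IsSeparated) _ π
    inferInstance hcomp

/-- (A) the fibre is a proper scheme over `A/m`. -/
theorem A_exists_structure {A : Type u} [CommRing A] {X : Scheme.{u}}
    (f : X ⟶ Spec (CommRingCat.of A)) [IsProper f] (m : Ideal A) :
    ∃ t : (fibIdeal f m).subscheme ⟶ Spec (CommRingCat.of (A ⧸ m)),
      t ≫ Spec.map (CommRingCat.ofHom (Ideal.Quotient.mk m)) = (fibIdeal f m).subschemeι ≫ f ∧
        IsProper t :=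
  A_exists_structure' f m

end Groth.Agent.Lib.Helper14.RelNefA
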