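import Mathlib

/-!
# Residue fields of a cofiltered limit of schemes with affine transition maps
(helper14)
-/

set_option autoImplicit false
universe u

open CategoryTheory Limits AlgebraicGeometry

namespace Groth.Agent.Lib.Helper14

/-- Evaluation at a point is compatible with restriction. -/
lemma evaluation_map {X : Scheme.{u}} {U V : X.Opens} (h : U ≤ V) (x : X) (hx : x ∈ U)
    (f : Γ(X, V)) :
    X.evaluation U x hx (X.presheaf.map (homOfLE h).op f) = X.evaluation V x (h hx) f := by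
  simp only [Scheme.evaluation, CommRingCat.comp_apply]
  rw [TopCat.Presheaf.germ_res_apply]

/-- Evaluation at a point is compatible with `appLE`. -/
lemma evaluation_appLE {X Y : Scheme.{u}} (f : X ⟶ Y) {U : Y.Opens} {V : X.Opens}
    (e : V ≤ f ⁻¹ᵁ U) (x : X) (hx : x ∈ V) (t : Γ(Y, U)) :
    X.evaluation V x hx (f.appLE U V e t) =
      f.residueFieldMap x (Y.evaluation U (f x) (e hx) t) := by
  rw [Scheme.evaluation_naturality_apply, Scheme.Hom.appLE, CommRingCat.comp_apply,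
    evaluation_map]

/-- Elements of the residue field at a point of an affine open are fractions of sections. -/
lemma exists_evaluation_mul_eq {X : Scheme.{u}} {U : X.Opens} (hU : IsAffineOpen U) (x : X)
    (hx : x ∈ U) (a : X.residueField x) :
    ∃ f g : Γ(X, U), X.evaluation U x hx g ≠ 0 ∧
      a * X.evaluation U x hx g = X.evaluation U x hx f := by
  obtain ⟨y, rfl⟩ := X.residue_surjective x a
  let _ := X.presheaf.algebra_section_stalk ⟨x, hx⟩
  have := hU.isLocalization_stalk ⟨x, hx⟩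
  obtain ⟨⟨f, g⟩, h⟩ := IsLocalization.surj (hU.primeIdealOf ⟨x, hx⟩).asIdeal.primeCompl y
  have hunit : IsUnit (X.presheaf.germ U x hx g.1) :=
    IsLocalization.map_units (M := (hU.primeIdealOf ⟨x, hx⟩).asIdeal.primeCompl)
      (X.presheaf.stalk x) g
  refine ⟨f, g.1, ?_, ?_⟩
  · exact (hunit.map (X.residue x).hom).ne_zero
  · have h' : y * X.presheaf.germ U x hx g.1 = X.presheaf.germ U x hx f := h
    simp only [Scheme.evaluation, CommRingCat.comp_apply, ← map_mul, h']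


section Lim

variable {I : Type u} [SmallCategory I] [IsCofiltered I] (D : I ⥤ Scheme.{u}) (c : Cone D)
  (hc : IsLimit c)

set_option backward.isDefEq.respectTransparency false in
include hc in
/-- Sections of the limit over the preimage of an affine open of a stage come from a later stage
(version for two sections at once). -/
lemma exists_appLE_π_eq_pair [∀ {i j} (f : i ⟶ j), IsAffineHom (D.map f)] (i₀ : I)
    (U₀ : (D.obj i₀).Opens) (hU₀ : IsAffineOpen U₀) (f g : Γ(c.pt, c.π.app i₀ ⁻¹ᵁ U₀)) :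
    ∃ (j : I) (φ : j ⟶ i₀) (fj gj : Γ(D.obj j, D.map φ ⁻¹ᵁ U₀)),
      (c.π.app j).appLE (D.map φ ⁻¹ᵁ U₀) (c.π.app i₀ ⁻¹ᵁ U₀)
        (by rw [← Scheme.Hom.comp_preimage, c.w]) fj = f ∧
      (c.π.app j).appLE (D.map φ ⁻¹ᵁ U₀) (c.π.app i₀ ⁻¹ᵁ U₀)
        (by rw [← Scheme.Hom.comp_preimage, c.w]) gj = g := by
  have (j : Over i₀) : IsAffine ((opensDiagram D i₀ U₀).obj j) := hU₀.preimage (D.map _)
  obtain ⟨j₁, t₁, h₁⟩ := exists_appTop_π_eq_of_isAffine_of_isLimit _ _
      (isLimitOpensCone D c hc i₀ U₀) ((c.π.app i₀ ⁻¹ᵁ U₀).topIso.inv f)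
  obtain ⟨j₂, t₂, h₂⟩ := exists_appTop_π_eq_of_isAffine_of_isLimit _ _
      (isLimitOpensCone D c hc i₀ U₀) ((c.π.app i₀ ⁻¹ᵁ U₀).topIso.inv g)
  obtain ⟨j, α, β, -⟩ := IsCofilteredOrEmpty.cone_objs j₁ j₂
  have key : ∀ (j' : Over i₀) (γ : j ⟶ j') (t : Γ((opensDiagram D i₀ U₀).obj j', ⊤))
      (f : Γ(c.pt, c.π.app i₀ ⁻¹ᵁ U₀)),
      ((opensCone D c i₀ U₀).π.app j').appTop t = (c.π.app i₀ ⁻¹ᵁ U₀).topIso.inv f →
      (c.π.app j.left).appLE (D.map j.hom ⁻¹ᵁ U₀) (c.π.app i₀ ⁻¹ᵁ U₀)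
        (by rw [← Scheme.Hom.comp_preimage, c.w])
        ((D.map j.hom ⁻¹ᵁ U₀).topIso.hom (((opensDiagram D i₀ U₀).map γ).appTop t)) = f := by
    intro j' γ t f h
    have hw := (opensCone D c i₀ U₀).w γ
    rw [← hw] at h
    have h2 : ((opensCone D c i₀ U₀).π.app j).appTop (((opensDiagram D i₀ U₀).map γ).appTop t) =
        (c.π.app i₀ ⁻¹ᵁ U₀).topIso.inv f := by
      rw [← h]
      simp [Scheme.Hom.appTop]
    have h3 : ((opensCone D c i₀ U₀).π.app j).appTop =
        (D.map j.hom ⁻¹ᵁ U₀).topIso.hom ≫ (c.π.app j.left).appLE (D.map j.hom ⁻¹ᵁ U₀)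
          (c.π.app i₀ ⁻¹ᵁ U₀) (by rw [← Scheme.Hom.comp_preimage, c.w]) ≫
          (c.π.app i₀ ⁻¹ᵁ U₀).topIso.inv :=
      Scheme.Hom.resLE_app_top _ _
    rw [h3] at h2
    simp only [CommRingCat.comp_apply] at h2
    have hinj : Function.Injective (c.π.app i₀ ⁻¹ᵁ U₀).topIso.inv :=
      ((c.π.app i₀ ⁻¹ᵁ U₀).topIso.symm.commRingCatIsoToRingEquiv).injective
    exact hinj h2
  exact ⟨j.left, j.hom, _, _, key j₁ α t₁ f h₁, key j₂ β t₂ g h₂⟩

set_option backward.isDefEq.respectTransparency false in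
include hc in
/-- The residue field of a point of a cofiltered limit (affine transition maps) is the union of the
residue fields of its images. -/
theorem exists_residueFieldMap_eq_of_isLimit [∀ {i j} (f : i ⟶ j), IsAffineHom (D.map f)]
    (s : c.pt) (a : c.pt.residueField s) :
    ∃ (i : I) (b : (D.obj i).residueField ((c.π.app i).base s)),
      ((c.π.app i).residueFieldMap s).hom b = a := by
  have i₀ := IsCofiltered.nonempty (C := I).some
  obtain ⟨_, ⟨U₀, hU₀ : IsAffineOpen U₀, rfl⟩, hsU, -⟩ :=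
      (D.obj i₀).isBasis_affineOpens.exists_subset_of_mem_open
        (Set.mem_univ ((c.π.app i₀).base s)) isOpen_univ
  have hU : IsAffineOpen (c.π.app i₀ ⁻¹ᵁ U₀) := by
    have := isAffineHom_π_app D c hc i₀
    exact hU₀.preimage _
  have hsU' : s ∈ c.π.app i₀ ⁻¹ᵁ U₀ := hsU
  obtain ⟨f, g, hg, hfg⟩ := exists_evaluation_mul_eq (X := c.pt) hU s hsU' a
  obtain ⟨j, φ, fj, gj, hf, hg'⟩ := exists_appLE_π_eq_pair D c hc i₀ U₀ hU₀ f g
  have hle : c.π.app i₀ ⁻¹ᵁ U₀ ≤ c.π.app j ⁻¹ᵁ (D.map φ ⁻¹ᵁ U₀) := by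
    rw [← Scheme.Hom.comp_preimage, c.w]
  have hsj : (c.π.app j) s ∈ D.map φ ⁻¹ᵁ U₀ := hle hsU'
  have e1 : c.pt.evaluation _ s hsU' f = (c.π.app j).residueFieldMap s
      ((D.obj j).evaluation _ _ hsj fj) := by
    rw [← hf]; exact evaluation_appLE (X := c.pt) (c.π.app j) hle s hsU' fj
  have e2 : c.pt.evaluation _ s hsU' g = (c.π.app j).residueFieldMap s
      ((D.obj j).evaluation _ _ hsj gj) := by
    rw [← hg']; exact evaluation_appLE (X := c.pt) (c.π.app j) hle s hsU' gj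
  refine ⟨j, (D.obj j).evaluation _ _ hsj fj / (D.obj j).evaluation _ _ hsj gj, ?_⟩
  change (c.π.app j).residueFieldMap s _ = a
  rw [map_div₀, ← e1, ← e2, ← hfg, mul_div_assoc, div_self hg, mul_one]

end Lim

end Groth.Agent.Lib.Helper14
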