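import Groth.Prelude.Def_HTop
import Groth.Prelude.Def_MoreMor

set_option autoImplicit false
universe w u

open CategoryTheory CategoryTheory.Limits AlgebraicGeometry Opposite

namespace Groth.Agent.Lib.Helper14

/-- If the sieve generated by a monomorphism `f` covers, then a sheaf of types takes the same
values on source and target of `f`. -/
theorem bijective_map_of_generate_singleton_mem {C : Type*} [Category C] (J : GrothendieckTopology C)
    (P : Cᵒᵖ ⥤ Type w) (hP : Presieve.IsSheaf J P) {X Y : C} (f : X ⟶ Y) [Mono f]
    (hf : Sieve.generate (Presieve.singleton f) ∈ J Y) : Function.Bijective (P.map f.op) := by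
  have h1 : Presieve.IsSheafFor P (Sieve.generate (Presieve.singleton f)).arrows := hP _ hf
  rw [← Presieve.isSheafFor_iff_generate] at h1
  rw [Presieve.isSheafFor_singleton] at h1
  have h2 : ∀ x : P.obj (op X), ∃! y, P.map f.op y = x := by
    intro x
    apply h1
    intro Z p₁ p₂ h
    rw [(cancel_mono f).mp h]
  constructor
  · intro a b hab
    obtain ⟨y, -, hy⟩ := h2 (P.map f.op b)
    rw [hy a hab, hy b rfl]
  · intro x
    obtain ⟨y, hy, -⟩ := h2 x
    exact ⟨y, hy⟩

/-- Membership in an over topology of the sieve generated by one arrow, from the underlying arrow. -/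
theorem generate_singleton_mem_over {C : Type*} [Category C] (J : GrothendieckTopology C) {S : C}
    {X Y : Over S} (f : X ⟶ Y) (hf : Sieve.generate (Presieve.singleton f.left) ∈ J Y.left) :
    Sieve.generate (Presieve.singleton f) ∈ (J.over S) Y := by
  rw [GrothendieckTopology.mem_over_iff]
  refine J.superset_covering ?_ hf
  rw [Sieve.generate_le_iff]
  rintro Z g ⟨⟩
  exact Sieve.image_mem_functorPushforward (Over.forget S) _
    (Sieve.le_generate _ _ _ (Presieve.singleton_self f))

/-- An affine proper surjective morphism, as a one-member family, is a ph covering. -/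
theorem isPhCover_singleton_of_affine_proper_surjective {X T : Scheme.{u}} (f : X ⟶ T) [IsProper f]
    [IsAffineHom f] [Surjective f] : HTop.IsPhCover (PreZeroHypercover.singleton.{w} f) := by
  refine ⟨fun i => ?_, fun U => ?_⟩
  · show LocallyOfFiniteType f
    infer_instance
  · have hU : IsAffineOpen (U : T.Opens) := U.2
    refine ⟨PreZeroHypercover.singleton.{0} (f ∣_ (U : T.Opens)), ?_, ?_⟩
    · refine ⟨hU, inferInstanceAs (Finite PUnit), fun j => ?_, ?_⟩
      · show IsAffine ((f ⁻¹ᵁ (U : T.Opens) : X.Opens) : Scheme)
        exact hU.preimage f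
      · refine ⟨((f ⁻¹ᵁ (U : T.Opens) : X.Opens) : Scheme), f ∣_ (U : T.Opens), fun _ => 𝟙 _,
          inferInstance, IsZariskiLocalAtTarget.restrict (P := @Surjective) inferInstance _,
          fun _ => ?_, fun _ => ?_, fun x => ?_⟩
        · show IsOpenImmersion (𝟙 ((f ⁻¹ᵁ (U : T.Opens) : X.Opens) : Scheme))
          infer_instance
        · exact Category.id_comp _
        · exact ⟨PUnit.unit, x, rfl⟩
    · intro j
      refine ⟨PUnit.unit, (f ⁻¹ᵁ (U : T.Opens)).ι, ?_⟩
      exact (morphismRestrict_ι f (U : T.Opens)).symm

/-- A thickening, as a one-member family, generates a covering sieve of the ph topology. -/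
theorem generate_singleton_mem_phTopology_of_isThickening {X T : Scheme.{u}} (f : X ⟶ T)
    (hf : MoreMor.IsThickening f) :
    Sieve.generate (Presieve.singleton f) ∈ HTop.phTopology T := by
  obtain ⟨h1, h2⟩ := hf
  apply Precoverage.generate_mem_toGrothendieck
  have := (HTop.presieve₀_mem_phPrecoverage_iff (PreZeroHypercover.singleton.{0} f)).mpr
    (isPhCover_singleton_of_affine_proper_surjective f)
  rwa [PreZeroHypercover.presieve₀_singleton] at this

end Groth.Agent.Lib.Helper14

namespace Groth.Agent.Lib.Helper14

/-- A morphism from a reduced scheme lifts through a surjective closed immersion. -/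
theorem exists_lift_of_isReduced_of_isThickening {Z T Y : Scheme.{u}} (i : Z ⟶ T) [IsClosedImmersion i]
    [Surjective i] (g : Y ⟶ T) [IsReduced Y] : ∃ g' : Y ⟶ Z, g' ≫ i = g := by
  have : IsIso (pullback.fst g i) := isIso_of_isClosedImmersion_of_surjective _
  refine ⟨inv (pullback.fst g i) ≫ pullback.snd g i, ?_⟩
  rw [Category.assoc, ← pullback.condition, IsIso.inv_hom_id_assoc]

/-- An affine surjective closed immersion, as a one-member family, is a V covering. -/
theorem isVCover_singleton_of_isThickening {X T : Scheme.{u}} (f : X ⟶ T) [IsClosedImmersion f]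
    [Surjective f] : HTop.IsVCover (PreZeroHypercover.singleton.{w} f) := by
  intro U
  have hU : IsAffineOpen (U : T.Opens) := U.2
  refine ⟨PreZeroHypercover.singleton.{0} (f ∣_ (U : T.Opens)), ?_, ?_⟩
  · refine ⟨hU, inferInstanceAs (Finite PUnit), fun j => ?_, ?_⟩
    · show IsAffine ((f ⁻¹ᵁ (U : T.Opens) : X.Opens) : Scheme)
      exact hU.preimage f
    · intro V _ _ g
      refine ⟨V, inferInstance, inferInstance, 𝟙 V, ⟨Function.injective_id, ?_⟩, PUnit.unit, ?_⟩
      · show IsLocalHom (RingHom.id V)
        infer_instance
      · have : Surjective (f ∣_ (U : T.Opens)) :=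
          IsZariskiLocalAtTarget.restrict (P := @Surjective) inferInstance _
        obtain ⟨g', hg'⟩ := exists_lift_of_isReduced_of_isThickening (f ∣_ (U : T.Opens)) g
        refine ⟨g', ?_⟩
        show g' ≫ (f ∣_ (U : T.Opens)) = Spec.map (𝟙 V) ≫ g
        rw [hg', Spec.map_id, Category.id_comp]
  · intro j
    refine ⟨PUnit.unit, (f ⁻¹ᵁ (U : T.Opens)).ι, ?_⟩
    exact (morphismRestrict_ι f (U : T.Opens)).symm

/-- A finitely presented thickening, as a one-member family, generates a covering sieve of the
h topology. -/
theorem generate_singleton_mem_hTopology_of_isThickening {X T : Scheme.{u}} (f : X ⟶ T)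
    (hf : MoreMor.IsThickening f) [LocallyOfFinitePresentation f] :
    Sieve.generate (Presieve.singleton f) ∈ HTop.hTopology T := by
  obtain ⟨h1, h2⟩ := hf
  apply Precoverage.generate_mem_toGrothendieck
  have := (HTop.presieve₀_mem_hPrecoverage_iff (PreZeroHypercover.singleton.{0} f)).mpr
    ⟨fun _ => ‹LocallyOfFinitePresentation f›, isVCover_singleton_of_isThickening f⟩
  rwa [PreZeroHypercover.presieve₀_singleton] at this

end Groth.Agent.Lib.Helper14
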