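import Mathlib

/-!
# Smoothness in a tower via injectivity of differentials on the fibre (local version)

For `A → B → T` with `T` local and formally smooth over `A`, `T` is formally smooth over `B` iff
`k ⊗ (T ⊗_B Ω_{B/A}) → k ⊗ Ω_{T/A}` is injective (`k` the residue field of `T`).
-/

set_option autoImplicit false

universe u

open TensorProduct KaehlerDifferential IsLocalRing

namespace Groth.Agent.Lib.Helper14.SmoothTower

variable (A B T : Type u) [CommRing A] [CommRing B] [CommRing T]
  [Algebra A B] [Algebra B T] [Algebra A T] [IsScalarTower A B T]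

/-- `T` formally smooth over `A`: `T/B` formally smooth iff `T ⊗ Ω_{B/A} → Ω_{T/A}` is split
injective. -/
theorem formallySmooth_iff_split [Algebra.FormallySmooth A T] :
    Algebra.FormallySmooth B T ↔ ∃ l, l ∘ₗ (mapBaseChange A B T) = LinearMap.id := by
  have hex := KaehlerDifferential.exact_mapBaseChange_map A B T
  have hsurj : Function.Surjective (KaehlerDifferential.map A B T T) :=
    KaehlerDifferential.map_surjective A B T
  have hA := (Algebra.formallySmooth_iff A T).mp inferInstance
  haveI : Module.Projective T Ω[T⁄A] := hA.1
  haveI : Subsingleton (Algebra.H1Cotangent A T) := hA.2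
  have h01 : (Function.Injective (mapBaseChange A B T) ∧
      ∃ l, (KaehlerDifferential.map A B T T) ∘ₗ l = LinearMap.id) ↔
      (Function.Surjective (KaehlerDifferential.map A B T T) ∧
        ∃ l, l ∘ₗ (mapBaseChange A B T) = LinearMap.id) := hex.split_tfae'.out 0 1
  constructor
  · intro h
    obtain ⟨hproj, hsub⟩ := (Algebra.formallySmooth_iff B T).mp h
    have hinj : Function.Injective (mapBaseChange A B T) := by
      rw [injective_iff_map_eq_zero]
      intro x hx
      obtain ⟨y, rfl⟩ := (Algebra.H1Cotangent.exact_δ_mapBaseChange A B T x).mp hx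
      rw [Subsingleton.elim y 0, map_zero]
    obtain ⟨s, hs⟩ := Module.projective_lifting_property (KaehlerDifferential.map A B T T)
      (LinearMap.id) hsurj
    exact (h01.mp ⟨hinj, s, hs⟩).2
  · rintro ⟨l, hl⟩
    obtain ⟨hinj, s, hs⟩ := h01.mpr ⟨hsurj, l, hl⟩
    rw [Algebra.formallySmooth_iff]
    refine ⟨Module.Projective.of_split s (KaehlerDifferential.map A B T T) hs, ?_⟩
    refine ⟨fun x y => ?_⟩
    have key : ∀ z : Algebra.H1Cotangent B T, z = 0 := by
      intro z
      have h1 : Algebra.H1Cotangent.δ A B T z = 0 := by
        apply hinj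
        rw [map_zero]
        exact (Algebra.H1Cotangent.exact_δ_mapBaseChange A B T _).mpr ⟨z, rfl⟩
      obtain ⟨w, rfl⟩ := (Algebra.H1Cotangent.exact_map_δ A B T z).mp h1
      rw [Subsingleton.elim w 0, map_zero]
    rw [key x, key y]

/-- The local criterion: `T` local, formally smooth over `A`, with finiteness of differentials. -/
theorem formallySmooth_iff_injective_lTensor [IsLocalRing T] [Algebra.FormallySmooth A T]
    [Module.Finite B Ω[B⁄A]] [Module.Finite T Ω[T⁄A]] :
    Algebra.FormallySmooth B T ↔
      Function.Injective ((mapBaseChange A B T).lTensor (ResidueField T)) := by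
  have hA := (Algebra.formallySmooth_iff A T).mp inferInstance
  haveI : Module.Projective T Ω[T⁄A] := hA.1
  haveI : Module.Free T Ω[T⁄A] := Module.free_of_flat_of_isLocalRing
  rw [formallySmooth_iff_split A B T,
    IsLocalRing.split_injective_iff_lTensor_residueField_injective]

end Groth.Agent.Lib.Helper14.SmoothTower
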