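import Groth.Agent.Lib.Helper14.SmoothTower

/-!
# Comparison of the fibre map of differentials over `C` and over its localization at a prime
-/

set_option autoImplicit false

universe u

open TensorProduct KaehlerDifferential IsLocalRing

namespace Groth.Agent.Lib.Helper14.SmoothTower

variable (A B C : Type u) [CommRing A] [CommRing B] [CommRing C]
  [Algebra A B] [Algebra B C] [Algebra A C] [IsScalarTower A B C] (q : Ideal C) [q.IsPrime]

/-- composition of the canonical maps of differentials -/
theorem map_map (ω : Ω[B⁄A]) :
    KaehlerDifferential.map A A C (Localization.AtPrime q) (KaehlerDifferential.map A A B C ω) =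
      KaehlerDifferential.map A A B (Localization.AtPrime q) ω := by
  have hω : ω ∈ Submodule.span B (Set.range (D A B)) := by
    rw [KaehlerDifferential.span_range_derivation]; trivial
  induction hω using Submodule.span_induction with
  | mem x hx =>
    obtain ⟨b, rfl⟩ := hx
    rw [KaehlerDifferential.map_D, KaehlerDifferential.map_D, KaehlerDifferential.map_D,
      ← IsScalarTower.algebraMap_apply]
  | zero => simp
  | add x y _ _ hx hy => rw [map_add, map_add, map_add, hx, hy]
  | smul b x _ hx =>
    rw [map_smul (KaehlerDifferential.map A A B C),
      map_smul (KaehlerDifferential.map A A B (Localization.AtPrime q)),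
      ← algebraMap_smul C b ((KaehlerDifferential.map A A B C) x), map_smul, algebraMap_smul, hx]

/-- The source comparison. -/
noncomputable def srcEquiv :
    q.ResidueField ⊗[C] (C ⊗[B] Ω[B⁄A]) ≃ₗ[q.ResidueField]
      q.ResidueField ⊗[Localization.AtPrime q] (Localization.AtPrime q ⊗[B] Ω[B⁄A]) :=
  (AlgebraTensorModule.cancelBaseChange B C q.ResidueField q.ResidueField Ω[B⁄A]) ≪≫ₗ
    (AlgebraTensorModule.cancelBaseChange B (Localization.AtPrime q) q.ResidueField
      q.ResidueField Ω[B⁄A]).symm

/-- The target comparison. -/
noncomputable def tgtEquiv :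
    q.ResidueField ⊗[C] Ω[C⁄A] ≃ₗ[q.ResidueField]
      q.ResidueField ⊗[Localization.AtPrime q] Ω[Localization.AtPrime q⁄A] :=
  haveI : Algebra.FormallyEtale C (Localization.AtPrime q) :=
    Algebra.FormallyEtale.of_isLocalization (Rₘ := Localization.AtPrime q) q.primeCompl
  (AlgebraTensorModule.cancelBaseChange C (Localization.AtPrime q) q.ResidueField
      q.ResidueField Ω[C⁄A]).symm ≪≫ₗ
    AlgebraTensorModule.congr (LinearEquiv.refl q.ResidueField q.ResidueField)
      (tensorKaehlerEquivOfFormallyEtale A C (Localization.AtPrime q))

theorem comm_sq (z : q.ResidueField ⊗[C] (C ⊗[B] Ω[B⁄A])) :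
    tgtEquiv A C q ((mapBaseChange A B C).lTensor q.ResidueField z) =
      (mapBaseChange A B (Localization.AtPrime q)).lTensor q.ResidueField (srcEquiv A B C q z) := by
  induction z using TensorProduct.induction_on with
  | zero => simp
  | add x y hx hy => simp only [map_add, hx, hy]
  | tmul x w =>
    induction w using TensorProduct.induction_on with
    | zero => simp
    | add a b ha hb => simp only [tmul_add, map_add, ha, hb]
    | tmul c ω =>
      simp only [tgtEquiv, srcEquiv, LinearMap.lTensor_tmul, mapBaseChange_tmul,
        LinearEquiv.trans_apply, AlgebraTensorModule.cancelBaseChange_tmul,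
        AlgebraTensorModule.cancelBaseChange_symm_tmul, AlgebraTensorModule.congr_tmul,
        LinearEquiv.refl_apply, tensorKaehlerEquivOfFormallyEtale_apply, one_smul, map_smul]
      rw [map_map, TensorProduct.tmul_smul, TensorProduct.smul_tmul']

theorem injective_lTensor_iff :
    Function.Injective ((mapBaseChange A B C).lTensor q.ResidueField) ↔
      Function.Injective ((mapBaseChange A B (Localization.AtPrime q)).lTensor
        (ResidueField (Localization.AtPrime q))) := by
  constructor
  · intro h
    rw [injective_iff_map_eq_zero]
    intro z hz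
    obtain ⟨z', rfl⟩ := (srcEquiv A B C q).surjective z
    have h1 := comm_sq A B C q z'
    rw [hz] at h1
    have h2 : (mapBaseChange A B C).lTensor q.ResidueField z' = 0 :=
      (tgtEquiv A C q).injective (by rw [h1, map_zero])
    rw [(injective_iff_map_eq_zero _).mp h z' h2, map_zero]
  · intro h
    rw [injective_iff_map_eq_zero]
    intro z hz
    have h1 := comm_sq A B C q z
    rw [hz, map_zero] at h1
    have h2 := (injective_iff_map_eq_zero _).mp h _ h1.symm
    exact (srcEquiv A B C q).injective (by rw [h2, map_zero])

end Groth.Agent.Lib.Helper14.SmoothTower
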