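import Groth.Agent.Lib.Helper14.McCoy

/-!
# Rings in which proper finitely generated ideals have nonzero annihilators:
injective maps between finite projective modules split
(helper14)
-/

set_option autoImplicit false
universe u

open CAlgX Matrix

namespace Groth.Agent.Lib.Helper14

variable {R : Type u} [CommRing R]

section Mat

variable {m n : ℕ} (M : Matrix (Fin n) (Fin m) R)

/-- The ideal of scalars `a` such that `a • 1 = V * M` for some `V`. -/
def leftFactorIdeal : Ideal R where
  carrier := {a | ∃ V : Matrix (Fin m) (Fin n) R, V * M = a • (1 : Matrix (Fin m) (Fin m) R)}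
  add_mem' := by
    rintro a b ⟨V, hV⟩ ⟨W, hW⟩
    exact ⟨V + W, by rw [Matrix.add_mul, hV, hW, add_smul]⟩
  zero_mem' := ⟨0, by simp⟩
  smul_mem' := by
    rintro c a ⟨V, hV⟩
    exact ⟨c • V, by rw [Matrix.smul_mul, hV, smul_smul, smul_eq_mul]⟩

lemma minorIdeal_le_leftFactorIdeal : minorIdeal M m ≤ leftFactorIdeal M := by
  classical
  rw [minorIdeal, Ideal.span_le]
  rintro _ ⟨⟨σ, τ⟩, rfl⟩
  refine ⟨det ((1 : Matrix (Fin m) (Fin m) R).submatrix id τ) •
    (adjugate (M.submatrix σ id) * (1 : Matrix (Fin n) (Fin n) R).submatrix σ id), ?_⟩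
  have h1 : (1 : Matrix (Fin n) (Fin n) R).submatrix σ id * M = M.submatrix σ id := by
    have := Matrix.one_submatrix_mul σ (Equiv.refl (Fin n)) M
    simpa using this
  have hfac : M.submatrix σ τ =
      M.submatrix σ id * (1 : Matrix (Fin m) (Fin m) R).submatrix id τ := by
    have := Matrix.mul_submatrix_one (Equiv.refl (Fin m)) τ (M.submatrix σ id)
    simp only [Equiv.coe_refl, Equiv.refl_symm, Function.id_comp] at this
    rw [this]
    rfl
  rw [Matrix.smul_mul, Matrix.mul_assoc, h1, Matrix.adjugate_mul, smul_smul]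
  congr 1
  change _ = det (M.submatrix σ τ)
  rw [hfac, Matrix.det_mul, mul_comm]

theorem exists_leftInverse_of_minorIdeal_eq_top (h : minorIdeal M m = ⊤) :
    ∃ V : Matrix (Fin m) (Fin n) R, V * M = 1 := by
  have h1 : (1 : R) ∈ leftFactorIdeal M :=
    minorIdeal_le_leftFactorIdeal M (h ▸ Submodule.mem_top)
  obtain ⟨V, hV⟩ := h1
  exact ⟨V, by rw [hV, one_smul]⟩

end Mat

/-- If proper f.g. ideals have nonzero annihilators, injective matrices have left inverses. -/
theorem exists_leftInverse_of_injective
    (hP : ∀ I : Ideal R, I.FG → I ≠ ⊤ → I.annihilator ≠ ⊥) {m n : ℕ}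
    (M : Matrix (Fin n) (Fin m) R) (hinj : Function.Injective (Matrix.mulVecLin M)) :
    ∃ V : Matrix (Fin m) (Fin n) R, V * M = 1 := by
  apply exists_leftInverse_of_minorIdeal_eq_top
  by_contra hne
  exact hP _ (Submodule.fg_span (Set.finite_range _)) hne
    (annihilator_minorIdeal_of_injective M hinj m le_rfl)

/-- Injective maps between finite free modules split. -/
theorem exists_retraction_of_finite_free
    (hP : ∀ I : Ideal R, I.FG → I ≠ ⊤ → I.annihilator ≠ ⊥)
    {F G : Type*} [AddCommGroup F] [Module R F] [Module.Free R F] [Module.Finite R F]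
    [AddCommGroup G] [Module R G] [Module.Free R G] [Module.Finite R G]
    (u : F →ₗ[R] G) (hu : Function.Injective u) :
    ∃ v : G →ₗ[R] F, v ∘ₗ u = LinearMap.id := by
  classical
  rcases subsingleton_or_nontrivial R with hR | hR
  · have : Subsingleton F := Module.subsingleton R F
    exact ⟨0, LinearMap.ext fun x => Subsingleton.elim _ _⟩
  let bF := Module.finBasis R F
  let bG := Module.finBasis R G
  let Mx := LinearMap.toMatrix bF bG u
  have hinj : Function.Injective (Matrix.mulVecLin Mx) := by
    rw [← LinearMap.ker_eq_bot, LinearMap.ker_eq_bot']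
    intro w hw
    have hw' : Mx *ᵥ w = 0 := hw
    set x := bF.equivFun.symm w with hx
    have hwx : w = ⇑(bF.repr x) := by
      have : bF.equivFun x = w := by rw [hx, LinearEquiv.apply_symm_apply]
      rw [← this]
      rfl
    have h1 := LinearMap.toMatrix_mulVec_repr bF bG u x
    rw [← hwx] at h1
    have h2 : bG.repr (u x) = 0 := by
      apply DFunLike.coe_injective
      rw [← h1]
      exact hw'
    have h3 : u x = 0 := by
      have := congrArg bG.repr.symm h2
      simpa using this
    have h4 : x = 0 := hu (by rw [h3, map_zero])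
    rw [hwx, h4, map_zero]
    rfl
  obtain ⟨V, hV⟩ := exists_leftInverse_of_injective hP Mx hinj
  refine ⟨Matrix.toLin bG bF V, ?_⟩
  have : u = Matrix.toLin bF bG Mx := (Matrix.toLin_toMatrix bF bG u).symm
  rw [this, ← Matrix.toLin_mul, hV, Matrix.toLin_one]

/-- Injective maps between finite projective modules split. -/
theorem exists_retraction_of_finite_projective
    (hP : ∀ I : Ideal R, I.FG → I ≠ ⊤ → I.annihilator ≠ ⊥)
    {N M : Type u} [AddCommGroup N] [Module R N] [Module.Finite R N] [Module.Projective R N]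
    [AddCommGroup M] [Module R M] [Module.Finite R M] [Module.Projective R M]
    (u : N →ₗ[R] M) (hu : Function.Injective u) :
    ∃ ρ : M →ₗ[R] N, ρ ∘ₗ u = LinearMap.id := by
  obtain ⟨a, f, hf⟩ := Module.Finite.exists_fin' R N
  obtain ⟨b, f', hf'⟩ := Module.Finite.exists_fin' R M
  obtain ⟨s, hs⟩ := Module.projective_lifting_property f LinearMap.id hf
  obtain ⟨s', hs'⟩ := Module.projective_lifting_property f' LinearMap.id hf'
  have hsf : ∀ x, f (s x) = x := fun x => LinearMap.congr_fun hs x
  have hsf' : ∀ y, f' (s' y) = y := fun y => LinearMap.congr_fun hs' y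
  let uu : (Fin a → R) →ₗ[R] (Fin b → R) × (Fin a → R) :=
    LinearMap.prod (s' ∘ₗ u ∘ₗ f) (LinearMap.id - s ∘ₗ f)
  have huuinj : Function.Injective uu := by
    rw [← LinearMap.ker_eq_bot, LinearMap.ker_eq_bot']
    intro z hz
    have h1 : s' (u (f z)) = 0 := congrArg Prod.fst hz
    have h2 : z - s (f z) = 0 := congrArg Prod.snd hz
    have h3 : u (f z) = 0 := by
      have := congrArg f' h1
      rwa [hsf', map_zero] at this
    have h4 : f z = 0 := hu (by rw [h3, map_zero])
    rw [h4, map_zero, sub_zero] at h2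
    exact h2
  obtain ⟨rr, hrr⟩ := exists_retraction_of_finite_free hP uu huuinj
  refine ⟨f ∘ₗ rr ∘ₗ LinearMap.inl R (Fin b → R) (Fin a → R) ∘ₗ s', ?_⟩
  ext x
  simp only [LinearMap.coe_comp, Function.comp_apply, LinearMap.inl_apply, LinearMap.id_coe, id_eq]
  have h1 : uu (s x) = (s' (u x), 0) := by
    apply Prod.ext
    · change s' (u (f (s x))) = s' (u x)
      rw [hsf]
    · change s x - s (f (s x)) = 0
      rw [hsf, sub_self]
  have h2 : rr (uu (s x)) = s x := LinearMap.congr_fun hrr (s x)
  rw [h1] at h2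
  rw [h2, hsf]

/-- The cokernel of an injective map between finite projective modules is projective. -/
theorem projective_coker_of_injective
    (hP : ∀ I : Ideal R, I.FG → I ≠ ⊤ → I.annihilator ≠ ⊥)
    {N M : Type u} [AddCommGroup N] [Module R N] [Module.Finite R N] [Module.Projective R N]
    [AddCommGroup M] [Module R M] [Module.Finite R M] [Module.Projective R M]
    (u : N →ₗ[R] M) (hu : Function.Injective u) :
    Module.Projective R (M ⧸ LinearMap.range u) := by
  obtain ⟨ρ, hρ⟩ := exists_retraction_of_finite_projective hP u hu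
  have hρu : ∀ x, ρ (u x) = x := fun x => LinearMap.congr_fun hρ x
  let i : (M ⧸ LinearMap.range u) →ₗ[R] M :=
    (LinearMap.range u).liftQ (LinearMap.id - u ∘ₗ ρ) (by
      rintro _ ⟨x, rfl⟩
      simp [hρu])
  refine Module.Projective.of_split i (LinearMap.range u).mkQ ?_
  apply Submodule.linearMap_qext
  ext y
  simp only [LinearMap.coe_comp, Function.comp_apply, Submodule.mkQ_apply, LinearMap.id_comp, i,
    Submodule.liftQ_apply, LinearMap.sub_apply, LinearMap.id_coe, id_eq]
  rw [Submodule.Quotient.mk_sub]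
  have : Submodule.Quotient.mk (p := LinearMap.range u) (u (ρ y)) = 0 :=
    (Submodule.Quotient.mk_eq_zero _).mpr ⟨ρ y, rfl⟩
  rw [this, sub_zero]

end Groth.Agent.Lib.Helper14
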