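import Groth.Prelude.Def_ModSite2

set_option autoImplicit false
universe u

open CategoryTheory CategoryTheory.Limits Opposite

namespace Groth.Agent.Lib.Helper14

variable {C : Type u} [SmallCategory C] {J : GrothendieckTopology C}

/-- A section whose germ at a point is a unit is a unit on some neighbourhood of the point. -/
theorem exists_isUnit_of_isUnit_germ (O : Sheaf J CommRingCat.{u})
    (p : GrothendieckTopology.Point.{u} J) (X : C) (x : p.fiber.obj X) (r : O.obj.obj (op X))
    (hr : IsUnit ((p.toPresheafFiber X x O.obj).hom r)) :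
    ∃ (Y : C) (g : Y ⟶ X) (y : p.fiber.obj Y), p.fiber.map g y = x ∧
      IsUnit ((O.obj.map g.op).hom r) := by
  obtain ⟨b, hb⟩ := hr.exists_right_inv
  obtain ⟨V, v, s, rfl⟩ := p.toPresheafFiber_jointly_surjective (P := O.obj) b
  let W := IsCofiltered.min (Functor.elementsMk p.fiber X x) (Functor.elementsMk p.fiber V v)
  let gX := IsCofiltered.minToLeft (Functor.elementsMk p.fiber X x) (Functor.elementsMk p.fiber V v)
  let gV := IsCofiltered.minToRight (Functor.elementsMk p.fiber X x) (Functor.elementsMk p.fiber V v)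
  have hX : (p.toPresheafFiber X x O.obj).hom r =
      (p.toPresheafFiber W.1 W.2 O.obj).hom ((O.obj.map gX.1.op).hom r) :=
    ((congrArg (fun t => (p.toPresheafFiber X t O.obj).hom r) gX.2).symm).trans
      (p.toPresheafFiber_w_apply gX.1 W.2 O.obj r).symm
  have hV : (p.toPresheafFiber V v O.obj).hom s =
      (p.toPresheafFiber W.1 W.2 O.obj).hom ((O.obj.map gV.1.op).hom s) :=
    ((congrArg (fun t => (p.toPresheafFiber V t O.obj).hom s) gV.2).symm).trans
      (p.toPresheafFiber_w_apply gV.1 W.2 O.obj s).symm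
  have h1 : (p.toPresheafFiber W.1 W.2 O.obj)
      ((O.obj.map gX.1.op).hom r * (O.obj.map gV.1.op).hom s) =
      (p.toPresheafFiber W.1 W.2 O.obj) 1 := by
    have e1 : (p.toPresheafFiber W.1 W.2 O.obj).hom
        ((O.obj.map gX.1.op).hom r * (O.obj.map gV.1.op).hom s) =
        (p.toPresheafFiber W.1 W.2 O.obj).hom ((O.obj.map gX.1.op).hom r) *
          (p.toPresheafFiber W.1 W.2 O.obj).hom ((O.obj.map gV.1.op).hom s) := map_mul _ _ _
    have e2 : (p.toPresheafFiber W.1 W.2 O.obj).hom 1 = 1 := map_one _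
    change (p.toPresheafFiber W.1 W.2 O.obj).hom _ = (p.toPresheafFiber W.1 W.2 O.obj).hom 1
    rw [e1, e2, ← hX, ← hV]
    exact hb
  rw [p.toPresheafFiber_eq_iff'] at h1
  obtain ⟨Y, k, y, hy, hk⟩ := h1
  refine ⟨Y, k ≫ gX.1, y, ?_, ?_⟩
  · rw [Functor.map_comp]
    change p.fiber.map gX.1 (p.fiber.map k y) = x
    rw [hy]
    exact gX.2
  · have hk' : (O.obj.map k.op).hom ((O.obj.map gX.1.op).hom r * (O.obj.map gV.1.op).hom s) =
        (O.obj.map k.op).hom 1 := hk
    rw [map_mul, map_one] at hk'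
    have : (O.obj.map (k ≫ gX.1).op).hom r = (O.obj.map k.op).hom ((O.obj.map gX.1.op).hom r) := by
      rw [op_comp, Functor.map_comp, CommRingCat.hom_comp, RingHom.comp_apply]
    rw [this]
    exact IsUnit.of_mul_eq_one _ hk'

end Groth.Agent.Lib.Helper14
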