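import Mathlib

/-!
# Standard étale algebras are open in `Spec (R[t]/(p))[1/p']`
-/

open CategoryTheory AlgebraicGeometry Polynomial

namespace Groth.Agent.Lib.Helper14

universe u

theorem exists_monic_away_derivative_isOpenImmersion (R C : Type u) [CommRing R] [CommRing C]
    [Algebra R C] [Algebra.IsStandardEtale R C] :
    ∃ (p : R[X]) (_ : p.Monic)
      (χ : Localization.Away (AdjoinRoot.mk p (derivative p)) →ₐ[R] C),
      IsOpenImmersion (Spec.map (CommRingCat.ofHom χ.toRingHom)) := by
  obtain ⟨P⟩ := Algebra.IsStandardEtale.nonempty_standardEtalePresentation (R := R) (S := C)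
  let f := P.P.f
  let S := AdjoinRoot f
  let a : S := AdjoinRoot.mk f (derivative f)
  let b : S := AdjoinRoot.mk f P.P.g
  let Sa := Localization.Away a
  let Sb := Localization.Away b
  obtain ⟨p₁, p₂, n, hcond⟩ := P.P.cond
  have hab : a * AdjoinRoot.mk f p₁ = b ^ n := by
    have := congrArg (AdjoinRoot.mk f) hcond
    rw [map_add, map_mul, map_mul, map_pow, AdjoinRoot.mk_self, zero_mul, add_zero] at this
    exact this
  have hunit : IsUnit (algebraMap S Sb a) := by
    refine isUnit_of_dvd_unit (y := algebraMap S Sb (b ^ n)) ⟨algebraMap S Sb (AdjoinRoot.mk f p₁), ?_⟩ ?_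
    · rw [← map_mul, hab]
    · rw [map_pow]
      exact (IsLocalization.Away.algebraMap_isUnit b).pow n
  let T := Localization.Away (algebraMap S Sa b)
  have h1 : IsLocalization.Away (a * b) T := inferInstance
  have h2 : IsLocalization.Away (a * b) Sb := IsLocalization.Away.mul_of_isUnit' a b hunit
  let e₂ : T ≃ₐ[S] Sb := IsLocalization.algEquiv (.powers (a * b)) T Sb
  let E : T ≃ₐ[R] C :=
    (e₂.restrictScalars R).trans (P.P.equivAwayAdjoinRoot.symm.trans P.equivRing.symm)
  let χ : Sa →ₐ[R] C := E.toAlgHom.comp (IsScalarTower.toAlgHom R Sa T)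
  refine ⟨f, P.P.monic_f, χ, ?_⟩
  have hχ : CommRingCat.ofHom χ.toRingHom =
      CommRingCat.ofHom (algebraMap Sa T) ≫ E.toRingEquiv.toCommRingCatIso.hom := rfl
  rw [hχ, Spec.map_comp]
  infer_instance


set_option backward.defeqAttrib.useBackward true in
set_option backward.isDefEq.respectTransparency false in
theorem mem_basicOpen_of_notMem_primeIdealOf {X : Scheme.{u}} {U : X.Opens} (hU : IsAffineOpen U)
    (x : X) (hx : x ∈ U) (r : Γ(X, U)) (hr : r ∉ (hU.primeIdealOf ⟨x, hx⟩).asIdeal) :
    x ∈ X.basicOpen r := by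
  rwa [← PrimeSpectrum.mem_basicOpen, IsAffineOpen.primeIdealOf,
    ← hU.fromSpec_preimage_basicOpen, Scheme.Hom.mem_preimage, ← Scheme.Hom.comp_apply,
    IsAffineOpen.isoSpec_hom, IsAffineOpen.toSpecΓ_fromSpec] at hr

end Groth.Agent.Lib.Helper14
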