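import Groth.Prelude.Def_RegImm
import Mathlib

/-!
# Syntomic ring maps: locality on the target

Helper lemmas (helper14).
-/

set_option autoImplicit false
universe u

namespace Groth.Agent.Lib.Helper14

open Synt TensorProduct

/-- Being a global complete intersection is invariant under algebra isomorphisms. -/
theorem isGlobalCI_of_algEquiv {k S S' : Type u} [Field k] [CommRing S] [CommRing S'] [Algebra k S]
    [Algebra k S'] (e : S ≃ₐ[k] S') (h : IsGlobalCI k S) : IsGlobalCI k S' := by
  rcases h with h | ⟨n, c, hcn, φ, r, hsurj, hker, hdim⟩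
  · exact Or.inl (e.symm.injective.subsingleton)
  · refine Or.inr ⟨n, c, hcn, (e : S →ₐ[k] S').comp φ, r, e.surjective.comp hsurj, ?_, ?_⟩
    · rw [← hker]
      ext x
      simp only [RingHom.mem_ker]
      change e (φ x) = 0 ↔ φ x = 0
      exact EmbeddingLike.map_eq_zero_iff
    · rw [← hdim]
      exact (ringKrullDim_eq_of_ringEquiv e.toRingEquiv).symm

/-- If a localization `F_h` is a local complete intersection and `P` is a prime of `F` not
containing `h`, some basic open neighbourhood of `P` in `Spec F` is a global complete intersection. -/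
theorem exists_isGlobalCI_away_of_isLCIOver_away {k F L : Type u} [Field k] [CommRing F] [CommRing L]
    [Algebra k F] [Algebra k L] [Algebra F L] [IsScalarTower k F L] (h : F)
    [IsLocalization.Away h L] (hL : IsLCIOver k L) (P : Ideal F) [P.IsPrime] (hP : h ∉ P) :
    ∃ γ : F, γ ∉ P ∧ IsGlobalCI k (Localization.Away γ) := by
  have hdisj : Disjoint (Submonoid.powers h : Set F) (P : Set F) := by
    rw [Set.disjoint_left]
    rintro _ ⟨n, rfl⟩ hn
    exact hP (Ideal.IsPrime.mem_of_pow_mem inferInstance n hn)
  have hprime : (P.map (algebraMap F L)).IsPrime :=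
    IsLocalization.isPrime_of_isPrime_disjoint (Submonoid.powers h) L P inferInstance hdisj
  have hcomap : (P.map (algebraMap F L)).comap (algebraMap F L) = P :=
    IsLocalization.comap_map_of_isPrime_disjoint (Submonoid.powers h) L inferInstance hdisj
  obtain ⟨γ', hγ', hCI⟩ := hL.2 ⟨P.map (algebraMap F L), hprime⟩
  obtain ⟨n, γ₀, hγ₀⟩ := IsLocalization.Away.surj h γ'
  have hunit : IsUnit (algebraMap F L h ^ n) := (IsLocalization.Away.algebraMap_isUnit h).pow n
  have hγ₀P : γ₀ ∉ P := by
    intro hmem
    have : algebraMap F L γ₀ ∈ P.map (algebraMap F L) := Ideal.mem_map_of_mem _ hmem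
    rw [← hγ₀] at this
    exact hγ' ((Ideal.mul_unit_mem_iff_mem _ hunit).mp this)
  refine ⟨h * γ₀, fun hmem => ?_, ?_⟩
  · rcases Ideal.IsPrime.mem_or_mem inferInstance hmem with h1 | h1
    · exact hP h1
    · exact hγ₀P h1
  · have hassoc : Associated (algebraMap F L γ₀) γ' := by
      refine Associated.symm ⟨hunit.unit, ?_⟩
      rw [IsUnit.unit_spec, hγ₀]
    haveI : IsLocalization.Away (h * γ₀) (Localization.Away γ') :=
      IsLocalization.Away.mul_of_associated (S := L) h γ₀ γ' hassoc
    let e : Localization.Away γ' ≃ₐ[F] Localization.Away (h * γ₀) :=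
      IsLocalization.algEquiv (Submonoid.powers (h * γ₀)) _ _
    exact isGlobalCI_of_algEquiv (e.restrictScalars k) hCI

/-- The fibre `κ ⊗ S` is a local complete intersection if the fibres `κ ⊗ S_g` are, for `g` ranging
over a finite set generating the unit ideal. -/
theorem isLCIOver_tensor_of_span_eq_top (R S κ : Type u) [CommRing R] [CommRing S] [Algebra R S]
    [Field κ] [Algebra R κ] [Algebra.FiniteType R S] (s : Finset S)
    (hs : Ideal.span (s : Set S) = ⊤)
    (h : ∀ g ∈ s, IsLCIOver κ (κ ⊗[R] Localization.Away g)) : IsLCIOver κ (κ ⊗[R] S) := by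
  refine ⟨inferInstance, fun P => ?_⟩
  -- some `1 ⊗ g` is not in `P`
  have hex : ∃ g ∈ s, ((1 : κ) ⊗ₜ[R] g) ∉ P.asIdeal := by
    by_contra hcon
    push_neg at hcon
    have h1 : Ideal.span (s : Set S) ≤
        P.asIdeal.comap (Algebra.TensorProduct.includeRight : S →ₐ[R] κ ⊗[R] S) := by
      rw [Ideal.span_le]
      intro g hg
      exact hcon g hg
    rw [hs] at h1
    have h2 : (1 : S) ∈ P.asIdeal.comap (Algebra.TensorProduct.includeRight : S →ₐ[R] κ ⊗[R] S) :=
      h1 Submodule.mem_top
    rw [Ideal.mem_comap, map_one] at h2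
    exact P.isPrime.ne_top ((Ideal.eq_top_iff_one _).mpr h2)
  obtain ⟨g, hg, hgP⟩ := hex
  letI : Algebra (κ ⊗[R] S) (κ ⊗[R] Localization.Away g) :=
    (Algebra.TensorProduct.map (AlgHom.id R κ)
      (IsScalarTower.toAlgHom R S (Localization.Away g))).toAlgebra
  haveI : IsScalarTower κ (κ ⊗[R] S) (κ ⊗[R] Localization.Away g) :=
    .of_algebraMap_eq <| by intro; simp [RingHom.algebraMap_toAlgebra]
  haveI hloc := IsLocalization.tensorProduct_tensorProduct_right R κ (.powers g)
    (Localization.Away g) (by ext; simp [RingHom.algebraMap_toAlgebra])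
  haveI : IsLocalization.Away ((1 : κ) ⊗ₜ[R] g) (κ ⊗[R] Localization.Away g) := by
    simpa only [IsLocalization.Away, Submonoid.map_powers,
      Algebra.TensorProduct.includeRight_apply] using hloc
  haveI := P.isPrime
  exact exists_isGlobalCI_away_of_isLCIOver_away ((1 : κ) ⊗ₜ[R] g) (h g hg) P.asIdeal hgP

/-- Being syntomic is local on the target ring. -/
theorem isSyntomic_of_localization_span_eq_top (R S : Type u) [CommRing R] [CommRing S]
    [Algebra R S] (s : Finset S) (hs : Ideal.span (s : Set S) = ⊤)
    (h : ∀ g ∈ s, IsSyntomic R (Localization.Away g)) : IsSyntomic R S := by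
  have hflat : Module.Flat R S := by
    rw [← RingHom.flat_algebraMap_iff]
    refine RingHom.Flat.ofLocalizationSpanTarget (algebraMap R S) (s : Set S) hs ?_
    rintro ⟨g, hg⟩
    rw [← IsScalarTower.algebraMap_eq, RingHom.flat_algebraMap_iff]
    exact (h g hg).1
  have hfp : Algebra.FinitePresentation R S := by
    rw [← RingHom.finitePresentation_algebraMap]
    refine RingHom.finitePresentation_ofLocalizationSpanTarget (algebraMap R S) (s : Set S) hs ?_
    rintro ⟨g, hg⟩
    rw [← IsScalarTower.algebraMap_eq, RingHom.finitePresentation_algebraMap]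
    exact (h g hg).2.1
  refine ⟨hflat, hfp, fun p => ?_⟩
  exact isLCIOver_tensor_of_span_eq_top R S p.asIdeal.ResidueField s hs
    (fun g hg => (h g hg).2.2 p)

end Groth.Agent.Lib.Helper14
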