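import Mathlib

/-!
# Finiteness of integral closure in a radical extension via a derivation (Tate's trick)
-/

namespace Groth.Agent.Lib.Helper14.TateDeriv

open Polynomial

universe u

section
variable {R : Type u} [CommRing R] [IsDomain R] [IsIntegrallyClosed R]
  {K : Type u} [Field K] [Algebra R K] [IsFractionRing R K] {p : ℕ} [hp : Fact p.Prime] [CharP K p]
  (D : Derivation ℤ K K)
  {L : Type u} [Field L] [Algebra K L] [Algebra R L] [IsScalarTower R K L]

lemma D_pow_p (c : K) : D (c ^ p) = 0 := by
  rw [Derivation.leibniz_pow]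
  have : (p : K) = 0 := CharP.cast_eq_zero K p
  rw [nsmul_eq_mul, this, zero_mul]

lemma natCast_pow_p (n : ℕ) : ((n : K)) ^ p = n := by
  have := map_natCast (frobenius K p) n
  rwa [frobenius_def] at this

lemma D_sum (a : K) (c : ℕ → K) (i : ℕ) :
    D (∑ j ∈ Finset.range (i + 2), c j ^ p * a ^ j) =
      D a * ∑ j ∈ Finset.range (i + 1), ((j + 1 : ℕ) : K) * c (j + 1) ^ p * a ^ j := by
  rw [map_sum, Finset.sum_range_succ', Finset.mul_sum]
  have h0 : D (c 0 ^ p * a ^ 0) = 0 := by
    rw [pow_zero, mul_one, D_pow_p (p := p) D (c 0)]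
  rw [h0, add_zero]
  apply Finset.sum_congr rfl
  intro j _
  rw [Derivation.leibniz, D_pow_p (p := p) D (c (j + 1)), Derivation.leibniz_pow]
  simp only [smul_eq_mul, Nat.add_sub_cancel, nsmul_eq_mul, mul_zero, add_zero]
  ring


lemma exists_natCast_inv (n : ℕ) (hn0 : 0 < n) (hn : n < p) :
    ∃ m : ℕ, (m : K) * (n : K) = 1 := by
  have hne : ((n : ℕ) : ZMod p) ≠ 0 := by
    intro h0
    rw [ZMod.natCast_eq_zero_iff] at h0
    exact absurd (Nat.le_of_dvd hn0 h0) (not_le.mpr hn)
  refine ⟨((n : ZMod p)⁻¹).val, ?_⟩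
  have h1 : ((n : ZMod p)⁻¹) * (n : ZMod p) = 1 := inv_mul_cancel₀ hne
  have h2 := congrArg (ZMod.castHom (dvd_refl p) K) h1
  rw [map_mul, map_one, map_natCast] at h2
  rw [← h2]
  congr 1
  rw [ZMod.castHom_apply, ZMod.natCast_val]

lemma pow_p_sum [CharP L p] (a : K) (x : L) (hx : x ^ p = algebraMap K L a) (c : ℕ → K) (n : ℕ) :
    (∑ j ∈ Finset.range n, algebraMap K L (c j) * x ^ j) ^ p =
      algebraMap K L (∑ j ∈ Finset.range n, c j ^ p * a ^ j) := by
  rw [sum_pow_char, map_sum]
  apply Finset.sum_congr rfl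
  intro j _
  rw [mul_pow, ← pow_mul, mul_comm j p, pow_mul, hx, map_mul, map_pow, map_pow]

omit [IsDomain R] in
lemma mem_of_isIntegral_map (w : K) (h : IsIntegral R (algebraMap K L w)) :
    ∃ r : R, algebraMap R K r = w := by
  have h1 : IsIntegral R w := (isIntegral_algebraMap_iff (algebraMap K L).injective).mp h
  exact IsIntegrallyClosed.isIntegral_iff.mp h1

theorem key [CharP L p] (hD : ∀ r : R, ∃ s : R, D (algebraMap R K r) = algebraMap R K s)
    (a₀ : R) (x : L) (hx : x ^ p = algebraMap K L (algebraMap R K a₀)) :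
    ∀ i, i < p → ∀ c : ℕ → K,
      IsIntegral R (∑ j ∈ Finset.range (i + 1), algebraMap K L (c j) * x ^ j) →
      ∀ j ∈ Finset.range (i + 1), ∃ r : R, D (algebraMap R K a₀) ^ i * c j = algebraMap R K r := by
  set a := algebraMap R K a₀ with ha
  set b := D a with hb
  obtain ⟨b₀, hb₀⟩ := hD a₀
  have hxint : IsIntegral R x := by
    apply IsIntegral.of_pow hp.out.pos
    rw [hx, ← IsScalarTower.algebraMap_apply]
    exact isIntegral_algebraMap
  have hbint : IsIntegral R (algebraMap K L b) := by
    rw [hb, hb₀, ← IsScalarTower.algebraMap_apply]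
    exact isIntegral_algebraMap
  intro i
  induction i with
  | zero =>
    intro _ c hc j hj
    simp only [zero_add, Finset.range_one, Finset.sum_singleton, pow_zero, mul_one] at hc
    simp only [zero_add, Finset.range_one, Finset.mem_singleton] at hj
    subst hj
    obtain ⟨r, hr⟩ := mem_of_isIntegral_map (L := L) (c 0) hc
    exact ⟨r, by rw [pow_zero, one_mul, hr]⟩
  | succ i ih =>
    intro hi c hc
    have hi' : i < p := Nat.lt_of_succ_lt hi
    -- y^p ∈ R
    have hyp := pow_p_sum (p := p) a x hx c (i + 1 + 1)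
    set S := ∑ j ∈ Finset.range (i + 1 + 1), c j ^ p * a ^ j with hS
    have hSint : IsIntegral R (algebraMap K L S) := by
      rw [← hyp]; exact hc.pow p
    obtain ⟨r₀, hr₀⟩ := mem_of_isIntegral_map (L := L) S hSint
    obtain ⟨s₀, hs₀⟩ := hD r₀
    rw [hr₀] at hs₀
    have hDS := D_sum (p := p) D a c i
    rw [← hS] at hDS
    set T := ∑ j ∈ Finset.range (i + 1), ((j + 1 : ℕ) : K) * c (j + 1) ^ p * a ^ j with hT
    -- the derived element
    let c' : ℕ → K := fun j => ((j + 1 : ℕ) : K) * b * c (j + 1)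
    have hzp := pow_p_sum (p := p) a x hx c' (i + 1)
    have hsum : ∑ j ∈ Finset.range (i + 1), c' j ^ p * a ^ j = b ^ (p - 1) * (b * T) := by
      rw [hT, Finset.mul_sum, Finset.mul_sum]
      apply Finset.sum_congr rfl
      intro j _
      simp only [c']
      rw [mul_pow, mul_pow, natCast_pow_p]
      have : b ^ p = b ^ (p - 1) * b := by
        rw [← pow_succ, Nat.sub_add_cancel hp.out.one_le]
      rw [this]
      ring
    have hzint : IsIntegral R (∑ j ∈ Finset.range (i + 1), algebraMap K L (c' j) * x ^ j) := by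
      apply IsIntegral.of_pow hp.out.pos
      rw [hzp, hsum, ← hDS, hs₀, hb, hb₀, ← map_pow, ← map_mul, ← IsScalarTower.algebraMap_apply]
      exact isIntegral_algebraMap
    have ih' := ih hi' c' hzint
    -- coefficients j+1
    have hpos : ∀ j ∈ Finset.range (i + 1), ∃ r : R, b ^ (i + 1) * c (j + 1) = algebraMap R K r := by
      intro j hj
      obtain ⟨r, hr⟩ := ih' j hj
      have hj' : j + 1 < p := by
        rw [Finset.mem_range] at hj
        omega
      obtain ⟨m, hm⟩ := exists_natCast_inv (K := K) (p := p) (j + 1) (Nat.succ_pos j) hj'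
      refine ⟨m * r, ?_⟩
      rw [map_mul, map_natCast, ← hr]
      simp only [c']
      calc b ^ (i + 1) * c (j + 1) = ((m : K) * ((j + 1 : ℕ) : K)) * (b ^ (i + 1) * c (j + 1)) := by
            rw [hm, one_mul]
        _ = (m : K) * (b ^ i * (((j + 1 : ℕ) : K) * b * c (j + 1))) := by ring
    intro j hj
    rcases Nat.eq_zero_or_pos j with rfl | hjpos
    · -- j = 0
      have hsplit : ∑ j ∈ Finset.range (i + 1 + 1), algebraMap K L (c j) * x ^ j =
          (∑ j ∈ Finset.range (i + 1), algebraMap K L (c (j + 1)) * x ^ (j + 1)) +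
            algebraMap K L (c 0) := by
        rw [Finset.sum_range_succ' _ (i + 1), pow_zero, mul_one]
      have h0 : algebraMap K L (b ^ (i + 1) * c 0) =
          algebraMap K L b ^ (i + 1) * (∑ j ∈ Finset.range (i + 1 + 1), algebraMap K L (c j) * x ^ j)
            - ∑ j ∈ Finset.range (i + 1), algebraMap K L (b ^ (i + 1) * c (j + 1)) * x ^ (j + 1) := by
        rw [hsplit, mul_add, Finset.mul_sum, map_mul, map_pow]
        have : ∑ j ∈ Finset.range (i + 1), algebraMap K L b ^ (i + 1) *
            (algebraMap K L (c (j + 1)) * x ^ (j + 1)) =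
            ∑ j ∈ Finset.range (i + 1), algebraMap K L (b ^ (i + 1) * c (j + 1)) * x ^ (j + 1) := by
          apply Finset.sum_congr rfl
          intro j _
          rw [map_mul, map_pow]; ring
        rw [this]; ring
      have hint : IsIntegral R (algebraMap K L (b ^ (i + 1) * c 0)) := by
        rw [h0]
        refine IsIntegral.sub ((hbint.pow _).mul hc) ?_
        refine IsIntegral.sum _ (fun j hj => ?_)
        obtain ⟨r, hr⟩ := hpos j hj
        rw [hr, ← IsScalarTower.algebraMap_apply]
        exact isIntegral_algebraMap.mul (hxint.pow _)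
      obtain ⟨r, hr⟩ := mem_of_isIntegral_map (L := L) _ hint
      exact ⟨r, hr.symm⟩
    · obtain ⟨j', rfl⟩ : ∃ j', j = j' + 1 := ⟨j - 1, by omega⟩
      apply hpos
      rw [Finset.mem_range] at hj ⊢
      omega

omit [IsDomain R] [IsIntegrallyClosed R] [IsFractionRing R K] hp [CharP K p] in
lemma exists_coeffs (a : K) (x : L) (hx : x ^ p = algebraMap K L a) (hp0 : 0 < p)
    (hgen : IntermediateField.adjoin K {x} = ⊤) (y : L) :
    ∃ c : ℕ → K, y = ∑ j ∈ Finset.range p, algebraMap K L (c j) * x ^ j := by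
  have hxalg : IsAlgebraic K x := by
    refine ⟨X ^ p - C a, ?_, ?_⟩
    · exact (monic_X_pow_sub_C a hp0.ne').ne_zero
    · simp [hx]
  have h1 : (IntermediateField.adjoin K {x}).toSubalgebra = Algebra.adjoin K {x} :=
    IntermediateField.adjoin_simple_toSubalgebra_of_isAlgebraic hxalg
  have hy : y ∈ Algebra.adjoin K {x} := by
    rw [← h1, hgen]; trivial
  rw [Algebra.adjoin_singleton_eq_range_aeval] at hy
  obtain ⟨f, rfl⟩ := hy
  set g : K[X] := X ^ p - C a with hg
  have hgmon : g.Monic := monic_X_pow_sub_C a hp0.ne'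
  have hgroot : aeval x g = 0 := by simp [hg, hx]
  have hdeg : (f %ₘ g).natDegree < p := by
    have h2 : g.natDegree = p := natDegree_X_pow_sub_C
    have hg1 : g ≠ 1 := by
      intro h; rw [h, natDegree_one] at h2; omega
    have := natDegree_modByMonic_lt f hgmon hg1
    omega
  refine ⟨fun j => (f %ₘ g).coeff j, ?_⟩
  have h3 : aeval x f = aeval x (f %ₘ g) := (aeval_modByMonic_eq_self_of_root hgroot).symm
  change (aeval x) f = _
  rw [h3, aeval_eq_sum_range' hdeg]
  apply Finset.sum_congr rfl
  intro j _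
  rw [Algebra.smul_def]

theorem finite_of_mem [IsNoetherianRing R] [CharP L p]
    (hD : ∀ r : R, ∃ s : R, D (algebraMap R K r) = algebraMap R K s)
    (a₀ : R) (ha : D (algebraMap R K a₀) ≠ 0) (x : L)
    (hx : x ^ p = algebraMap K L (algebraMap R K a₀))
    (hgen : IntermediateField.adjoin K {x} = ⊤) :
    Module.Finite R (integralClosure R L) := by
  set b := D (algebraMap R K a₀) with hb
  let v : Fin p → L := fun j => (algebraMap K L (b ^ (p - 1)))⁻¹ * x ^ (j : ℕ)
  let N : Submodule R L := Submodule.span R (Set.range v)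
  have hle : Subalgebra.toSubmodule (integralClosure R L) ≤ N := by
    intro y hy
    have hyint : IsIntegral R y := hy
    obtain ⟨c, hc⟩ := exists_coeffs (algebraMap R K a₀) x hx hp.out.pos hgen y
    have hp1 : p - 1 + 1 = p := Nat.sub_add_cancel hp.out.one_le
    have hkey := key D hD a₀ x hx (p - 1) (by have := hp.out.pos; omega) c (by
      rw [hp1, ← hc]; exact hyint)
    rw [hp1] at hkey
    rw [hc]
    refine Submodule.sum_mem _ (fun j hj => ?_)
    obtain ⟨r, hr⟩ := hkey j hj
    have hbne : algebraMap K L (b ^ (p - 1)) ≠ 0 := by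
      rw [Ne, map_eq_zero]
      exact pow_ne_zero _ ha
    have : algebraMap K L (c j) * x ^ j = r • v ⟨j, Finset.mem_range.mp hj⟩ := by
      simp only [v]
      rw [Algebra.smul_def, IsScalarTower.algebraMap_apply R K L, ← hr, ← hb, map_mul]
      field_simp
    rw [this]
    exact Submodule.smul_mem _ _ (Submodule.subset_span ⟨_, rfl⟩)
  haveI : Module.Finite R N := Module.Finite.span_of_finite R (Set.finite_range v)
  haveI : IsNoetherian R N := isNoetherian_of_isNoetherianRing_of_finite R N
  exact Module.Finite.of_injective (Submodule.inclusion hle) (Submodule.inclusion_injective hle)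


theorem finite_integralClosure [IsNoetherianRing R]
    (hD : ∀ r : R, ∃ s : R, D (algebraMap R K r) = algebraMap R K s)
    (a : K) (ha : D a ≠ 0) (x : L) (hx : x ^ p = algebraMap K L a)
    (hgen : IntermediateField.adjoin K {x} = ⊤) :
    Module.Finite R (integralClosure R L) := by
  haveI : CharP L p := charP_of_injective_algebraMap (algebraMap K L).injective p
  obtain ⟨r, s, hs, rfl⟩ := IsFractionRing.div_surjective (A := R) a
  have hs0 : algebraMap R K s ≠ 0 := by
    intro h0
    exact (nonZeroDivisors.ne_zero hs) (IsFractionRing.injective R K (by rw [h0, map_zero]))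
  set σ := algebraMap R K s with hσ
  set ρ := algebraMap R K r with hρ
  have hprod : algebraMap R K (s ^ (p - 1) * r) = σ ^ p * (ρ / σ) := by
    rw [map_mul, map_pow, ← hσ, ← hρ]
    have : σ ^ p = σ ^ (p - 1) * σ := by
      rw [← pow_succ, Nat.sub_add_cancel hp.out.one_le]
    rw [this]
    field_simp
  refine finite_of_mem D hD (s ^ (p - 1) * r) ?_ (algebraMap K L σ * x) ?_ ?_
  · rw [hprod, Derivation.leibniz, D_pow_p (p := p) D σ, smul_zero, add_zero, smul_eq_mul]
    exact mul_ne_zero (pow_ne_zero _ hs0) ha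
  · rw [mul_pow, hx, hprod, ← map_pow, ← map_mul]
  · rw [eq_top_iff, ← hgen, IntermediateField.adjoin_le_iff]
    intro z hz
    rw [Set.mem_singleton_iff] at hz
    subst hz
    have h1 : algebraMap K L σ * z ∈ IntermediateField.adjoin K {algebraMap K L σ * z} :=
      IntermediateField.subset_adjoin K _ (Set.mem_singleton _)
    have h2 : algebraMap K L σ⁻¹ ∈ IntermediateField.adjoin K {algebraMap K L σ * z} :=
      IntermediateField.algebraMap_mem _ _
    have h3 := (IntermediateField.adjoin K {algebraMap K L σ * z}).mul_mem h2 h1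
    have h4 : algebraMap K L σ⁻¹ * (algebraMap K L σ * z) = z := by
      rw [← mul_assoc, ← map_mul, inv_mul_cancel₀ hs0, map_one, one_mul]
    rw [h4] at h3
    exact h3

end

end Groth.Agent.Lib.Helper14.TateDeriv
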