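import Mathlib
import Groth.Prelude.Def_CAlgX
import Groth.Agent.Lib.Helper9.GeomLib3

/-!
# Rings with a unique minimal prime; tensor products over separably closed fields
-/

namespace Groth.Agent.Lib.Helper14.UniqueMinPrime

open TensorProduct

universe u

theorem hasUniqueMinimalPrime_iff (A : Type u) [CommRing A] :
    CAlgX.HasUniqueMinimalPrime A ↔ (nilradical A).IsPrime := by
  constructor
  · rintro ⟨p, hp, huniq⟩
    have h1 : minimalPrimes A = {p} := by
      ext q
      simp only [Set.mem_singleton_iff]
      exact ⟨fun hq => huniq q hq, fun hq => hq ▸ hp⟩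
    have h2 : nilradical A = p := by
      rw [nilradical, ← Ideal.sInf_minimalPrimes]
      change sInf (minimalPrimes A) = p
      rw [h1, sInf_singleton]
    rw [h2]
    exact hp.1.1
  · intro h
    refine ⟨nilradical A, ?_, ?_⟩
    · refine ⟨⟨h, bot_le⟩, ?_⟩
      intro q hq _
      haveI := hq.1
      exact nilradical_le_prime q
    · intro q hq
      have h1 : nilradical A ≤ q := by
        haveI := hq.1.1
        exact nilradical_le_prime q
      exact le_antisymm (hq.2 ⟨h, bot_le⟩ h1) h1

/-- If `f : A → B` has kernel consisting of nilpotents and the nilradical of `B` is prime, then so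
is the nilradical of `A`. -/
theorem nilradical_isPrime_of_ker_le {A B : Type*} [CommRing A] [CommRing B] (f : A →+* B)
    (hf : RingHom.ker f ≤ nilradical A) (h : (nilradical B).IsPrime) :
    (nilradical A).IsPrime := by
  have : nilradical A = Ideal.comap f (nilradical B) := by
    ext x
    rw [Ideal.mem_comap, mem_nilradical, mem_nilradical]
    constructor
    · exact fun hx => hx.map f
    · rintro ⟨n, hn⟩
      have h1 : x ^ n ∈ nilradical A := hf (by rw [RingHom.mem_ker, map_pow, hn])
      obtain ⟨m, hm⟩ := mem_nilradical.mp h1
      exact ⟨n * m, by rw [pow_mul, hm]⟩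
  rw [this]
  haveI := h
  exact Ideal.comap_isPrime f _

theorem nilradical_isPrime_tensor_of_isSepClosed {k R S : Type u} [Field k] [IsSepClosed k]
    [CommRing R] [CommRing S] [Algebra k R] [Algebra k S]
    (hR : (nilradical R).IsPrime) (hS : (nilradical S).IsPrime) :
    (nilradical (R ⊗[k] S)).IsPrime := by
  haveI := hR
  haveI := hS
  let R' := R ⧸ nilradical R
  let S' := S ⧸ nilradical S
  let K := FractionRing R'
  let L := FractionRing S'
  -- step 1: K ⊗ L has prime nilradical
  have hKL : (nilradical (K ⊗[k] L)).IsPrime :=
    Groth.Agent.Lib.Helper9.GeomLib.nilradical_isPrime_tensor_of_isSepClosed K L (by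
      have h0 : nilradical L = ⊥ := nilradical_eq_zero L
      rw [h0]
      exact Ideal.isPrime_bot)
  -- step 2: R' ⊗ S' embeds into K ⊗ L
  let jR : R' →ₐ[k] K := IsScalarTower.toAlgHom k R' K
  let jS : S' →ₐ[k] L := IsScalarTower.toAlgHom k S' L
  have hjR : Function.Injective jR := IsFractionRing.injective R' K
  have hjS : Function.Injective jS := IsFractionRing.injective S' L
  have h1 : Function.Injective (Algebra.TensorProduct.map jR (AlgHom.id k S')) :=
    Groth.Agent.Lib.Helper9.GeomLib.map_injective (R := S') jR hjR
  have h2 : Function.Injective (Algebra.TensorProduct.map (AlgHom.id k K) jS) := by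
    have h := Groth.Agent.Lib.Helper9.GeomLib.map_injective (R := K) jS hjS
    have hcomm : (Algebra.TensorProduct.map (AlgHom.id k K) jS) =
        ((Algebra.TensorProduct.comm k L K).toAlgHom.comp
          (Algebra.TensorProduct.map jS (AlgHom.id k K))).comp
            (Algebra.TensorProduct.comm k K S').toAlgHom := by
      apply Algebra.TensorProduct.ext'
      intro a b
      simp
    rw [hcomm]
    exact ((Algebra.TensorProduct.comm k L K).injective.comp h).comp
      (Algebra.TensorProduct.comm k K S').injective
  have h3 : (nilradical (R' ⊗[k] S')).IsPrime := by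
    have hcomp : Function.Injective ((Algebra.TensorProduct.map (AlgHom.id k K) jS).comp
        (Algebra.TensorProduct.map jR (AlgHom.id k S'))) := h2.comp h1
    exact Groth.Agent.Lib.Helper9.GeomLib.nilradical_isPrime_of_injective
      ((Algebra.TensorProduct.map (AlgHom.id k K) jS).comp
        (Algebra.TensorProduct.map jR (AlgHom.id k S'))).toRingHom hcomp hKL
  -- step 3: kernel of R ⊗ S → R' ⊗ S' is nil
  let pR : R →ₐ[k] R' := Ideal.Quotient.mkₐ k (nilradical R)
  let pS : S →ₐ[k] S' := Ideal.Quotient.mkₐ k (nilradical S)
  have hpR : Function.Surjective pR := Ideal.Quotient.mkₐ_surjective k _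
  have hpS : Function.Surjective pS := Ideal.Quotient.mkₐ_surjective k _
  have hker := Algebra.TensorProduct.map_ker pR pS hpR hpS
  refine nilradical_isPrime_of_ker_le (Algebra.TensorProduct.map pR pS).toRingHom ?_ h3
  change RingHom.ker (Algebra.TensorProduct.map pR pS) ≤ _
  rw [hker]
  refine sup_le ?_ ?_
  · rw [Ideal.map_le_iff_le_comap]
    intro x hx
    have hx' : x ∈ nilradical R := by
      have : pR x = 0 := hx
      exact Ideal.Quotient.eq_zero_iff_mem.mp this
    rw [Ideal.mem_comap, mem_nilradical]
    exact (mem_nilradical.mp hx').map _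
  · rw [Ideal.map_le_iff_le_comap]
    intro x hx
    have hx' : x ∈ nilradical S := by
      have : pS x = 0 := hx
      exact Ideal.Quotient.eq_zero_iff_mem.mp this
    rw [Ideal.mem_comap, mem_nilradical]
    exact (mem_nilradical.mp hx').map _

end Groth.Agent.Lib.Helper14.UniqueMinPrime
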