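import Groth.Agent.Lib.Helper14.SplitInj

/-!
# Injective maps between projective modules are universally injective over rings in which
proper f.g. ideals have nonzero annihilators (helper14)
-/

set_option autoImplicit false
universe u

open TensorProduct

namespace Groth.Agent.Lib.Helper14

variable {R : Type u} [CommRing R]

/-- Key lemma: injective maps between free modules of the form `I →₀ R` are universally
injective. -/
theorem rTensor_injective_of_injective_finsupp
    (hP : ∀ I : Ideal R, I.FG → I ≠ ⊤ → I.annihilator ≠ ⊥)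
    {I J : Type u} (ũ : (I →₀ R) →ₗ[R] (J →₀ R)) (hũ : Function.Injective ũ)
    (Q : Type u) [AddCommGroup Q] [Module R Q] : Function.Injective (ũ.rTensor Q) := by
  classical
  rw [injective_iff_map_eq_zero]
  intro t ht
  -- the support of `t`
  set q : I →₀ Q := finsuppScalarLeft R Q I t with hq
  let I₀ : Finset I := q.support
  let J₀ : Finset J := I₀.biUnion fun i => (ũ (Finsupp.single i 1)).support
  let ιF : (I₀ →₀ R) →ₗ[R] (I →₀ R) := Finsupp.lmapDomain R R (Subtype.val : I₀ → I)
  let πG : (J →₀ R) →ₗ[R] (J₀ →₀ R) := Finsupp.lsubtypeDomain (↑J₀ : Set J)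
  let u₀ : (I₀ →₀ R) →ₗ[R] (J₀ →₀ R) := πG ∘ₗ ũ ∘ₗ ιF
  -- `t` comes from the finite part
  let t₀ : (I₀ →₀ R) ⊗[R] Q := ∑ i : I₀, (Finsupp.single i (1 : R)) ⊗ₜ[R] q i
  have ht₀ : ιF.rTensor Q t₀ = t := by
    apply (finsuppScalarLeft R Q I).injective
    rw [← hq]
    simp only [t₀, map_sum, LinearMap.rTensor_tmul, ιF, Finsupp.lmapDomain_apply,
      Finsupp.mapDomain_single, finsuppScalarLeft_apply_tmul, Finsupp.sum_single_index, one_smul,
      zero_smul, Finsupp.single_zero]
    rw [Finset.sum_coe_sort I₀ (fun i => Finsupp.single i (q i))]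
    exact Finsupp.sum_single q
  -- supports
  have hsupp : ∀ z : I₀ →₀ R, ũ (ιF z) ∈ Finsupp.supported R R (↑J₀ : Set J) := by
    intro z
    induction z using Finsupp.induction_linear with
    | zero => simp
    | add z₁ z₂ h₁ h₂ =>
      rw [map_add, map_add]
      exact Submodule.add_mem _ h₁ h₂
    | single i r =>
      have : ιF (Finsupp.single i r) = r • Finsupp.single (i : I) (1 : R) := by
        simp [ιF, Finsupp.mapDomain_single]
      rw [this, map_smul]
      apply Submodule.smul_mem
      rw [Finsupp.mem_supported]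
      intro j hj
      simp only [J₀, Finset.coe_biUnion, Set.mem_iUnion]
      exact ⟨i, i.2, hj⟩
  have hu₀ : Function.Injective u₀ := by
    rw [← LinearMap.ker_eq_bot, LinearMap.ker_eq_bot']
    intro z hz
    have h1 : ũ (ιF z) = 0 := by
      ext j
      by_cases hj : j ∈ J₀
      · have := DFunLike.congr_fun hz ⟨j, hj⟩
        exact this
      · have := hsupp z
        rw [Finsupp.mem_supported'] at this
        exact this j hj
    have h2 : ιF z = 0 := hũ (by rw [h1, map_zero])
    have hinj : Function.Injective ιF :=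
      Finsupp.mapDomain_injective Subtype.val_injective
    exact hinj (by rw [h2, map_zero])
  obtain ⟨v₀, hv₀⟩ := exists_retraction_of_finite_free hP u₀ hu₀
  have h3 : u₀.rTensor Q t₀ = 0 := by
    simp only [u₀, LinearMap.rTensor_comp, LinearMap.coe_comp, Function.comp_apply]
    rw [ht₀, ht, map_zero]
  have h4 : t₀ = 0 := by
    have : (v₀ ∘ₗ u₀).rTensor Q t₀ = t₀ := by rw [hv₀, LinearMap.rTensor_id]; rfl
    rw [← this, LinearMap.rTensor_comp, LinearMap.coe_comp, Function.comp_apply, h3, map_zero]
  rw [← ht₀, h4, map_zero]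

/-- Injective maps between projective modules are universally injective. -/
theorem rTensor_injective_of_injective_projective
    (hP : ∀ I : Ideal R, I.FG → I ≠ ⊤ → I.annihilator ≠ ⊥)
    {N M : Type u} [AddCommGroup N] [Module R N] [Module.Projective R N]
    [AddCommGroup M] [Module R M] [Module.Projective R M]
    (u : N →ₗ[R] M) (hu : Function.Injective u)
    (Q : Type u) [AddCommGroup Q] [Module R Q] : Function.Injective (u.rTensor Q) := by
  obtain ⟨s, hs⟩ := (Module.projective_def' (R := R) (P := N)).mp inferInstance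
  obtain ⟨s', hs'⟩ := (Module.projective_def' (R := R) (P := M)).mp inferInstance
  set f : (N →₀ R) →ₗ[R] N := Finsupp.linearCombination R id with hf
  set f' : (M →₀ R) →ₗ[R] M := Finsupp.linearCombination R id with hf'
  have hsf : ∀ x, f (s x) = x := fun x => LinearMap.congr_fun hs x
  have hsf' : ∀ y, f' (s' y) = y := fun y => LinearMap.congr_fun hs' y
  let uu : (N →₀ R) →ₗ[R] (M →₀ R) × (N →₀ R) :=
    LinearMap.prod (s' ∘ₗ u ∘ₗ f) (LinearMap.id - s ∘ₗ f)
  have huuinj : Function.Injective uu := by
    rw [← LinearMap.ker_eq_bot, LinearMap.ker_eq_bot']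
    intro z hz
    have h1 : s' (u (f z)) = 0 := congrArg Prod.fst hz
    have h2 : z - s (f z) = 0 := congrArg Prod.snd hz
    have h3 : u (f z) = 0 := by
      have := congrArg f' h1
      rwa [hsf', map_zero] at this
    have h4 : f z = 0 := hu (by rw [h3, map_zero])
    rw [h4, map_zero, sub_zero] at h2
    exact h2
  let e := Finsupp.sumFinsuppLEquivProdFinsupp (M := R) R (α := M) (β := N)
  let ũ : (N →₀ R) →ₗ[R] (M ⊕ N →₀ R) := e.symm.toLinearMap ∘ₗ uu
  have hũ : Function.Injective ũ := e.symm.injective.comp huuinj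
  have hkey := rTensor_injective_of_injective_finsupp hP ũ hũ Q
  have hcomp : ũ ∘ₗ s = (e.symm.toLinearMap ∘ₗ LinearMap.inl R (M →₀ R) (N →₀ R) ∘ₗ s') ∘ₗ u := by
    refine LinearMap.ext fun x => ?_
    simp only [LinearMap.coe_comp, LinearEquiv.coe_coe, Function.comp_apply, ũ]
    congr 1
    apply Prod.ext
    · change s' (u (f (s x))) = s' (u x)
      rw [hsf]
    · change s x - s (f (s x)) = 0
      rw [hsf, sub_self]
  rw [injective_iff_map_eq_zero]
  intro t ht
  have h1 : (ũ ∘ₗ s).rTensor Q t = 0 := by
    rw [hcomp, LinearMap.rTensor_comp, LinearMap.coe_comp, Function.comp_apply, ht, map_zero]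
  rw [LinearMap.rTensor_comp, LinearMap.coe_comp, Function.comp_apply] at h1
  have h2 : s.rTensor Q t = 0 := hkey (by rw [h1, map_zero])
  have h3 : (f ∘ₗ s).rTensor Q t = t := by rw [hs, LinearMap.rTensor_id]; rfl
  rw [← h3, LinearMap.rTensor_comp, LinearMap.coe_comp, Function.comp_apply, h2, map_zero]

end Groth.Agent.Lib.Helper14
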