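import Groth.Prelude.Def_FlatCA
import Mathlib

/-!
# Weakly associated primes and localization (Stacks 0566)

`mem_weakAss_iff_isAssociatedPrime_localization`: `p` is weakly associated to `M` iff the maximal
ideal of `R_p` is (Mathlib-)associated to `M_p`, i.e. the radical of the annihilator of an element.
-/

set_option autoImplicit false
universe u v

namespace Groth.Agent.Lib.Helper14

variable {R : Type u} [CommRing R] {M : Type v} [AddCommGroup M] [Module R M]

theorem localizedModule_mk_eq_zero_iff (S : Submonoid R) (m : M) (s : S) :
    LocalizedModule.mk m s = 0 ↔ ∃ t : S, (t : R) • m = 0 := by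
  rw [← LocalizedModule.zero_mk (1 : S), LocalizedModule.mk_eq]
  constructor
  · rintro ⟨u, hu⟩
    refine ⟨u, ?_⟩
    simpa [Submonoid.smul_def] using hu
  · rintro ⟨t, ht⟩
    refine ⟨t, ?_⟩
    simpa [Submonoid.smul_def] using ht

theorem mem_annihilator_span_singleton' (m : M) (a : R) :
    a ∈ (Submodule.span R {m}).annihilator ↔ a • m = 0 :=
  Submodule.mem_annihilator_span_singleton m a

/-- The annihilator of `m/1` in `R_p` is the extension of the annihilator of `m`. -/
theorem colon_bot_mk_eq_map (p : Ideal R) [p.IsPrime] (m : M) :
    (⊥ : Submodule (Localization.AtPrime p) (LocalizedModule p.primeCompl M)).colon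
        {LocalizedModule.mk m 1} =
      ((Submodule.span R {m}).annihilator).map (algebraMap R (Localization.AtPrime p)) := by
  apply le_antisymm
  · intro z hz
    rw [Submodule.mem_colon_singleton, Submodule.mem_bot] at hz
    obtain ⟨a, s, rfl⟩ := IsLocalization.exists_mk'_eq p.primeCompl z
    rw [← Localization.mk_eq_mk'_apply, LocalizedModule.mk_smul_mk,
      localizedModule_mk_eq_zero_iff] at hz
    obtain ⟨t, ht⟩ := hz
    rw [← Localization.mk_eq_mk'_apply]
    rw [IsLocalization.mem_map_algebraMap_iff (M := p.primeCompl)]
    refine ⟨⟨⟨(t : R) * a, ?_⟩, t * s⟩, ?_⟩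
    · rw [mem_annihilator_span_singleton', mul_smul]; exact ht
    · simp only [Submonoid.coe_mul, map_mul]
      rw [Localization.mk_eq_mk'_apply,
        mul_comm (algebraMap R (Localization.AtPrime p) (t : R)), ← mul_assoc,
        IsLocalization.mk'_spec, mul_comm]
  · rw [Ideal.map_le_iff_le_comap]
    intro a ha
    rw [mem_annihilator_span_singleton'] at ha
    rw [Ideal.mem_comap, Submodule.mem_colon_singleton, Submodule.mem_bot,
      algebraMap_smul, LocalizedModule.smul'_mk, ha, LocalizedModule.zero_mk]

theorem mem_weakAss_iff_isAssociatedPrime_localization (p : Ideal R) [p.IsPrime] :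
    p ∈ FlatCA.weakAss R M ↔
      IsAssociatedPrime (IsLocalRing.maximalIdeal (Localization.AtPrime p))
        (LocalizedModule p.primeCompl M) := by
  constructor
  · rintro ⟨m, hp⟩
    refine ⟨inferInstance, LocalizedModule.mk m 1, ?_⟩
    rw [colon_bot_mk_eq_map,
      IsLocalization.AtPrime.radical_map_of_mem_minimalPrimes (A := Localization.AtPrime p) p _ hp,
      IsLocalization.AtPrime.map_eq_maximalIdeal]
  · rintro ⟨-, x, hx⟩
    induction x using LocalizedModule.induction_on with
    | h m s =>
      have hcolon : ∀ z : Localization.AtPrime p,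
          z ∈ (⊥ : Submodule (Localization.AtPrime p) (LocalizedModule p.primeCompl M)).colon
            {LocalizedModule.mk m s} ↔ z • LocalizedModule.mk m s = 0 := fun z => by
        rw [Submodule.mem_colon_singleton, Submodule.mem_bot]
      refine ⟨m, ⟨‹p.IsPrime›, ?_⟩, ?_⟩
      · intro a ha
        rw [mem_annihilator_span_singleton'] at ha
        have h1 : algebraMap R (Localization.AtPrime p) a ∈
            IsLocalRing.maximalIdeal (Localization.AtPrime p) := by
          rw [hx]
          apply Ideal.le_radical
          rw [hcolon, algebraMap_smul, LocalizedModule.smul'_mk, ha, LocalizedModule.zero_mk]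
        exact (IsLocalization.AtPrime.to_map_mem_maximal_iff _ p a).mp h1
      · rintro q ⟨hq, hIq⟩ hqp y hy
        have h1 : algebraMap R (Localization.AtPrime p) y ∈
            IsLocalRing.maximalIdeal (Localization.AtPrime p) :=
          (IsLocalization.AtPrime.to_map_mem_maximal_iff _ p y).mpr hy
        rw [hx] at h1
        obtain ⟨n, hn⟩ := h1
        rw [hcolon, ← map_pow, algebraMap_smul, LocalizedModule.smul'_mk,
          localizedModule_mk_eq_zero_iff] at hn
        obtain ⟨t, ht⟩ := hn
        have h2 : (t : R) * y ^ n ∈ (Submodule.span R {m}).annihilator := by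
          rw [mem_annihilator_span_singleton', mul_smul]; exact ht
        rcases hq.mem_or_mem (hIq h2) with h3 | h3
        · exact absurd (hqp h3) t.2
        · exact hq.mem_of_pow_mem n h3

end Groth.Agent.Lib.Helper14
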